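import Cfsg.Agent.Lib.GW.CaseCFour
import Mathlib.Combinatorics.Enumerative.DoubleCounting

/-!
# Case C over `S4`: the count

`F` is a normal subgroup of `M` in `K`, containing its centraliser there; for every outer involution it is the set of
elements of `K` it inverts.  With `δ = |F| ≥ 5` every involution fixes `2 δ` points besides the base point; a point
fixed by an inner involution is fixed by at most two outer ones, another point by at most three, and the stabiliser
of the latter in a group of order `4 δ` has order dividing three.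
-/

set_option autoImplicit false
set_option linter.style.haveILetI false
set_option linter.unusedSectionVars false

namespace CfsgLib.GW

open CfsgLib.Invol

universe u

variable {G : Type u} [Group G] [Finite G]

namespace FourData

variable {M : Subgroup G} {K : Subgroup M} [K.Normal] {e : (M ⧸ K) ≃* Equiv.Perm (Fin 4)} (d : FourData M K e)
include d

theorem mem_of_move {x z : M} {h : G} (hx : x ∈ K)
    (hz : Subgroup.centralizer ({(z : G)} : Set G) ≤ M) (hxz : h * (x : G) * h⁻¹ = (z : G)) : h ∈ M := by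
  obtain ⟨a, b, ha, hb, hai, hbi, hab, -⟩ := d.exists_inner_pair
  refine d.mem_of_four_conj ha hb hai hbi hab ?_ ?_ <;>
    refine hz (Subgroup.mem_centralizer_singleton_iff.2 ?_) <;> rw [← hxz]
  · exact (((d.inner_cent a ha hai x hx).map M.subtype).map (MulAut.conj h).toMonoidHom).eq
  · exact (((d.inner_cent b hb hbi x hx).map M.subtype).map (MulAut.conj h).toMonoidHom).eq

/-- two inner involutions fix no point besides the base point -/
theorem inner_fix_unique {x : G ⧸ M} (hx : x ≠ ((1 : G) : G ⧸ M)) {a b : M} (ha : orderOf a = 2)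
    (hb : orderOf b = 2) (hai : InnS4 (toS4 K e a)) (hbi : InnS4 (toS4 K e b)) (hfa : (a : G) • x = x)
    (hfb : (b : G) • x = x) : a = b := by
  induction x using QuotientGroup.induction_on with
  | H g =>
    by_contra hab
    refine hx ?_
    have hg : g⁻¹ ∈ M := d.mem_of_four_conj ha hb hai hbi hab
      (by rw [inv_inv]; exact smul_coset_eq_iff.1 hfa) (by rw [inv_inv]; exact smul_coset_eq_iff.1 hfb)
    rw [QuotientGroup.eq, mul_one]
    exact hg

theorem fix_moved {x : G ⧸ M} {w v : M} (hw : (w : G) • x = x) (hv : (v : G) • x = x) :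
    ((w * v * w⁻¹ : M) : G) • x = x := by
  have hwi : (w : G)⁻¹ • x = x := by rw [inv_smul_eq_iff, hw]
  rw [Subgroup.coe_mul, Subgroup.coe_mul, Subgroup.coe_inv, mul_smul, mul_smul, hwi, hv, hw]

variable {F : Subgroup M} (hFK : F ≤ K)
  (hinv : ∀ w : M, orderOf w = 2 → OutS4 (toS4 K e w) → ∀ k ∈ K, w * k * w⁻¹ = k⁻¹ ↔ k ∈ F)
  (hkc : ∀ k ∈ F, k ≠ 1 → Subgroup.centralizer ({(k : G)} : Set G) ≤ M)
include hFK hinv hkc

theorem inverted_comm {k l : M} (hk : k ∈ F) (hl : l ∈ F) : Commute k l := by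
  obtain ⟨w, hw, hwo⟩ := d.exists_outer
  have h := fun x (hx : x ∈ F) => (hinv w hw hwo x (hFK hx)).2 hx
  have h1 := h _ (F.mul_mem (F.inv_mem hk) (F.inv_mem hl))
  rw [← conj_mul, h _ (F.inv_mem hk), h _ (F.inv_mem hl), inv_inv, inv_inv, mul_inv_rev, inv_inv, inv_inv] at h1
  exact h1

/-- **an element of `F` fixing a point with an involution inverting it is trivial** -/
theorem eq_one_of_inverted_fix (h5 : 5 ≤ Nat.card F) {x : G ⧸ M} (hx : x ≠ ((1 : G) : G ⧸ M)) {w k : M}
    (hw : orderOf w = 2) (hk : k ∈ F) (hwk : w * k * w⁻¹ = k⁻¹) (hfw : (w : G) • x = x) (hfk : (k : G) • x = x) :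
    k = 1 := by
  induction x using QuotientGroup.induction_on with
  | H g =>
    have hg : g ∉ M := fun hg => hx (by rw [QuotientGroup.eq, mul_one]; exact M.inv_mem hg)
    by_contra hk1
    have hgk := smul_coset_eq_iff.1 hfk
    have hgw := smul_coset_eq_iff.1 hfw
    set y : M := ⟨_, hgk⟩ with hy
    set w' : M := ⟨_, hgw⟩ with hw'
    have hconj : ∀ z : G, orderOf (g⁻¹ * z * g) = orderOf z := fun z => by
      rw [show g⁻¹ * z * g = MulAut.conj g⁻¹ z by simp [MulAut.conj_apply], MulEquiv.orderOf_eq]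
    have hyo : Odd (orderOf y) := by
      rw [hy, Subgroup.orderOf_mk, hconj, Subgroup.orderOf_coe]
      exact d.odd_orderOf (hFK hk)
    have hw'o : orderOf w' = 2 := by rw [hw', Subgroup.orderOf_mk, hconj, Subgroup.orderOf_coe, hw]
    have hyK : y ∉ K := fun h => hg (d.mem_of_move h (hkc k hk hk1) (by rw [hy]; group))
    have hinvy : w' * y * w'⁻¹ = y⁻¹ := by
      refine Subtype.ext ?_
      show g⁻¹ * (w : G) * g * (g⁻¹ * (k : G) * g) * (g⁻¹ * (w : G) * g)⁻¹ = (g⁻¹ * (k : G) * g)⁻¹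
      have h : (w : G) * k * (w : G)⁻¹ = (k : G)⁻¹ := congrArg Subtype.val hwk
      calc g⁻¹ * (w : G) * g * (g⁻¹ * (k : G) * g) * (g⁻¹ * (w : G) * g)⁻¹
          = g⁻¹ * ((w : G) * k * (w : G)⁻¹) * g := by group
        _ = _ := by rw [h]; group
    have hw'i := d.invol_self_inv hw'o
    rw [hw'i] at hinvy
    set Y := toS4 K e y
    have hY3 : Y * Y * Y = 1 := d.cube_of_odd hyo
    have hWY : toS4 K e w' * Y * toS4 K e w' = Y⁻¹ := by rw [← map_mul, ← map_mul, hinvy, map_inv]
    have hw'out : OutS4 (toS4 K e w') := (d.inner_or_outer hw'o).resolve_left fun hi =>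
      hyK (d.mem_ker_iff.1 (s4_inn_not_invert _ hi _ hY3 hWY))
    have hvout : OutS4 (toS4 K e (w' * y)) := by rw [map_mul]; exact s4_out_mul _ hw'out _ hY3 hWY
    have hvo : orderOf (w' * y) = 2 := invol_iff.2 ⟨by
      rw [show w' * y * (w' * y) = w' * y * w' * y by group, hinvy, inv_mul_cancel],
      fun h => d.out_ne_one hvout (by rw [h, map_one])⟩
    -- `y` centralises `F`, so `g` moves `F` into `M`
    have hyc : ∀ z ∈ F, Commute y z := fun z hz => by
      refine mul_inv_eq_iff_eq_mul.1 ?_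
      have h1 := (hinv _ hvo hvout z (hFK hz)).2 hz
      have h2 := (hinv _ hw'o hw'out z⁻¹ (K.inv_mem (hFK hz))).2 (F.inv_mem hz)
      calc y * z * y⁻¹ = (w' * w') * y * z * y⁻¹ * (w' * w')⁻¹ := by rw [invol_mul_self hw'o]; group
        _ = w' * (w' * y * z * (w' * y)⁻¹) * w'⁻¹ := by group
        _ = z := by rw [h1, h2, inv_inv]
    have hup : ∀ {z : M}, z ∈ F → g * (z : G) * g⁻¹ ∈ M := fun {z} hz => by
      refine hkc k hk hk1 (Subgroup.mem_centralizer_singleton_iff.2 ?_)
      have h := ((hyc z hz).symm.map M.subtype).map (MulAut.conj g).toMonoidHom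
      simpa [hy, MulAut.conj_apply, mul_assoc] using h.eq
    let ψ : F →* Equiv.Perm (Fin 4) := (toS4 K e).comp
      (MonoidHom.mk' (fun z : F => (⟨_, hup z.2⟩ : M)) fun z v => Subtype.ext (by
        show g * (((z : M) : G) * ((v : M) : G)) * g⁻¹ = g * ((z : M) : G) * g⁻¹ * (g * ((v : M) : G) * g⁻¹)
        group))
    have hψ : Function.Injective ψ := (injective_iff_map_eq_one ψ).2 fun z hz => by
      by_contra hz1
      refine hg (inv_mem_iff.1 (d.mem_of_move (x := ⟨_, hup z.2⟩) (z := (z : M)) (d.mem_ker_iff.1 hz)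
        (hkc _ z.2 fun h => hz1 (Subtype.ext h)) ?_))
      group
    have hdvd := Subgroup.card_dvd_of_injective ψ hψ
    rw [Nat.card_perm, Nat.card_eq_fintype_card (α := Fin 4), Fintype.card_fin,
      show Nat.factorial 4 = 2 ^ 3 * 3 from rfl] at hdvd
    have h3 := (Nat.Coprime.dvd_of_dvd_mul_left (Nat.Coprime.pow_right 3
      (Nat.coprime_two_right.2 (d.odd.of_dvd_nat (Subgroup.card_dvd_of_le hFK)))) hdvd)
    have := Nat.le_of_dvd (by norm_num) h3
    omega

/-- the involutions number `3 + 6 δ`; the outer ones `6 δ` -/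
theorem card_outer [DecidableEq M] [Fintype M] :
    (Finset.univ.filter fun u : M => orderOf u = 2 ∧ OutS4 (toS4 K e u)).card = 6 * Nat.card F ∧
    (Finset.univ.filter fun u : M => orderOf u = 2 ∧ InnS4 (toS4 K e u)).card = 3 := by
  classical
  constructor
  · rw [Finset.card_eq_sum_card_fiberwise (f := toS4 K e) (t := Finset.univ.filter fun p => OutS4 p)
      (fun u hu => Finset.mem_filter.2 ⟨Finset.mem_univ _, (Finset.mem_filter.1 hu).2.2⟩)]
    rw [Finset.sum_eq_card_nsmul (b := Nat.card F) fun p hp => ?_, s4_card_out, smul_eq_mul]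
    obtain ⟨-, hp⟩ := Finset.mem_filter.1 hp
    obtain ⟨w, hw, hwp⟩ := d.exists_lift hp.1 (d.out_ne_one hp)
    have hwi := d.invol_self_inv hw
    rw [Nat.card_eq_fintype_card, ← Finset.card_univ]
    refine (Finset.card_bij (fun (k : F) _ => w * (k : M)) (fun k _ => ?_) (fun a _ b _ h => Subtype.ext (mul_left_cancel h))
      fun u hu => ?_).symm
    · have hwk : toS4 K e (w * (k : M)) = p := by rw [map_mul, hwp, d.mem_ker_iff.2 (hFK k.2), mul_one]
      refine Finset.mem_filter.2 ⟨Finset.mem_filter.2 ⟨Finset.mem_univ _, invol_iff.2 ⟨?_, fun h => ?_⟩, hwk.symm ▸ hp⟩, hwk⟩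
      · calc w * (k : M) * (w * k) = (w * k * w⁻¹) * k := by rw [hwi]; group
          _ = 1 := by rw [(hinv w hw (hwp ▸ hp) k (hFK k.2)).2 k.2, inv_mul_cancel]
      · exact d.out_ne_one hp (by rw [← hwk, h, map_one])
    · obtain ⟨hu1, hup⟩ := Finset.mem_filter.1 hu
      have hu2 := (Finset.mem_filter.1 hu1).2.1
      have hwu : w⁻¹ * u ∈ K := d.mem_ker_iff.1 (by rw [map_mul, map_inv, hup, hwp, inv_mul_cancel])
      refine ⟨⟨w⁻¹ * u, (hinv w hw (hwp ▸ hp) _ hwu).1 ?_⟩, Finset.mem_univ _, mul_inv_cancel_left w u⟩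
      rw [mul_inv_rev, inv_inv, d.invol_self_inv hu2, mul_inv_cancel_left, hwi]
  · rw [← s4_invol_card]
    refine Finset.card_bij (fun u _ => toS4 K e u) (fun u hu => ?_) (fun a ha b hb h => ?_) fun p hp => ?_
    · obtain ⟨-, hu, hi⟩ := Finset.mem_filter.1 hu
      exact Finset.mem_filter.2 ⟨Finset.mem_univ _, hi, (d.toS4_invol hu).2⟩
    · obtain ⟨-, hao, hai⟩ := Finset.mem_filter.1 ha
      exact d.inner_unique hao (Finset.mem_filter.1 hb).2.1 hai h
    · obtain ⟨-, hpi, hp1⟩ := Finset.mem_filter.1 hp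
      obtain ⟨u, hu, hup⟩ := d.exists_lift hpi.1 hp1
      exact ⟨u, Finset.mem_filter.2 ⟨Finset.mem_univ _, hu, hup.symm ▸ hpi⟩, hup⟩

/-- every involution fixes `2 δ` points besides the base point -/
theorem card_fix {u : M} (hu : orderOf u = 2) :
    Nat.card {x : G ⧸ M // (u : G) • x = x} = 1 + 2 * Nat.card F := by
  classical
  haveI := Fintype.ofFinite M
  have huo : orderOf (u : G) = 2 := by rw [Subgroup.orderOf_coe, hu]
  obtain ⟨hJc, hIc⟩ := d.card_outer hFK hinv hkc
  have h := fix_mul M (u : G)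
  have hcard : Nat.card {v : M // IsConj (u : G) (v : G)} = 3 + 6 * Nat.card F := by
    rw [Nat.card_eq_fintype_card, Fintype.card_subtype, ← hJc, ← hIc, ← Finset.card_union_of_disjoint]
    · congr 1
      ext v
      simp only [Finset.mem_filter, Finset.mem_univ, true_and, Finset.mem_union]
      constructor
      · intro hv
        obtain ⟨c, hc⟩ := isConj_iff.1 hv
        have hvo : orderOf v = 2 := by
          rw [← Subgroup.orderOf_coe, ← hc, show c * (u : G) * c⁻¹ = MulAut.conj c (u : G) from rfl,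
            MulEquiv.orderOf_eq, huo]
        exact (d.inner_or_outer hvo).imp (fun h => ⟨hvo, h⟩) fun h => ⟨hvo, h⟩
      · rintro (⟨hvo, -⟩ | ⟨hvo, -⟩) <;> exact isConj_iff.2 (d.one_class huo (by rw [Subgroup.orderOf_coe, hvo]))
    · rw [Finset.disjoint_filter]
      rintro v - ⟨-, hi⟩ ⟨-, ho⟩
      exact absurd (hi.2.symm.trans ho.2) (by decide)
  have hcu : Nat.card (Subgroup.centralizer ({(u : G)} : Set G)) = 8 * Nat.card K := by
    obtain ⟨a, -, ha, -, hai, -, -, -⟩ := d.exists_inner_pair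
    obtain ⟨c, hc⟩ := d.one_class (s := (a : G)) (t := (u : G)) (by rw [Subgroup.orderOf_coe, ha]) huo
    rw [← hc, ← map_conj_centralizer, ← Nat.card_congr (Subgroup.equivMapOfInjective _ _ (MulAut.conj c).injective).toEquiv,
      d.card_cent_inner ha hai]
  rw [hcard, hcu, d.card_M] at h
  refine Nat.eq_of_mul_eq_mul_right (show 0 < 24 * Nat.card K by have := Nat.card_pos (α := K); omega) (h.trans ?_)
  ring

/-- **the numerical conditions for `δ ≥ 5`** -/
theorem point_bounds [F.Normal] (hcF : ∀ k ∈ K, (∀ f ∈ F, Commute k f) → k ∈ F) (h5 : 5 ≤ Nat.card F) :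
    (4 * Nat.card F : ℤ) ∣ 3 * ((M.index : ℤ) - 1 - 6 * Nat.card F) ∧
      4 * (Nat.card F : ℤ) ^ 2 + 2 * Nat.card F ≤ (M.index : ℤ) - 1 := by
  classical
  haveI : Fact (Nat.Prime 2) := ⟨Nat.prime_two⟩
  haveI := Fintype.ofFinite G
  haveI := Fintype.ofFinite M
  haveI := Fintype.ofFinite (G ⧸ M)
  set base : G ⧸ M := ((1 : G) : G ⧸ M) with hbase
  set P : Finset (G ⧸ M) := Finset.univ.erase base with hP
  have hPcard : P.card = M.index - 1 := by
    rw [hP, Finset.card_erase_of_mem (Finset.mem_univ _), Finset.card_univ, Subgroup.index, Nat.card_eq_fintype_card]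
  set I : Finset M := Finset.univ.filter fun u : M => orderOf u = 2 ∧ InnS4 (toS4 K e u) with hI
  set J : Finset M := Finset.univ.filter fun u : M => orderOf u = 2 ∧ OutS4 (toS4 K e u) with hJ
  obtain ⟨hJc, hIc⟩ := d.card_outer hFK hinv hkc
  have hfix : ∀ u : M, orderOf u = 2 →
      (P.bipartiteAbove (fun (u : M) (x : G ⧸ M) => (u : G) • x = x) u).card = 2 * Nat.card F := fun u hu => by
    have h := d.card_fix hFK hinv hkc hu
    rw [Nat.card_eq_fintype_card, Fintype.card_subtype] at h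
    have e : P.bipartiteAbove (fun (u : M) (x : G ⧸ M) => (u : G) • x = x) u =
        (Finset.univ.filter fun x => (u : G) • x = x).erase base := by
      ext x
      simp [Finset.bipartiteAbove, hP]
    rw [e, Finset.card_erase_of_mem]
    · omega
    · rw [Finset.mem_filter, hbase, smul_coset_eq_iff]
      exact ⟨Finset.mem_univ _, by simp⟩
  have hne : ∀ {x : G ⧸ M}, x ∈ P → x ≠ base := fun hx => Finset.ne_of_mem_erase hx
  set P₁ := P.filter fun x => ∃ v ∈ I, (v : G) • x = x with hP₁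
  set P₂ := P.filter fun x => ¬ ∃ v ∈ I, (v : G) • x = x with hP₂
  have hsplit : P₁.card + P₂.card = P.card := Finset.card_filter_add_card_filter_not (s := P) _
  -- the points fixed by an inner involution
  have hP₁card : P₁.card = 6 * Nat.card F := by
    have key := Finset.sum_card_bipartiteAbove_eq_sum_card_bipartiteBelow (fun (u : M) (x : G ⧸ M) => (u : G) • x = x)
      (s := I) (t := P)
    rw [Finset.sum_eq_card_nsmul (b := 2 * Nat.card F) fun u hu => hfix u (Finset.mem_filter.1 hu).2.1, hIc,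
      smul_eq_mul, ← Finset.sum_filter_add_sum_filter_not P (fun x => ∃ v ∈ I, (v : G) • x = x), ← hP₁, ← hP₂,
      Finset.sum_eq_zero (s := P₂) fun x hx => ?_, add_zero, Finset.sum_eq_card_nsmul (b := 1) fun x hx => ?_,
      smul_eq_mul, mul_one] at key
    · omega
    · obtain ⟨hxP, v, hv, hvx⟩ := Finset.mem_filter.1 hx
      rw [Finset.card_eq_one]
      refine ⟨v, Finset.eq_singleton_iff_unique_mem.2 ⟨Finset.mem_filter.2 ⟨hv, hvx⟩, fun a ha => ?_⟩⟩
      obtain ⟨haI, hax⟩ := Finset.mem_filter.1 ha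
      exact d.inner_fix_unique (hne hxP) (Finset.mem_filter.1 haI).2.1 (Finset.mem_filter.1 hv).2.1
        (Finset.mem_filter.1 haI).2.2 (Finset.mem_filter.1 hv).2.2 hax hvx
    · obtain ⟨-, hno⟩ := Finset.mem_filter.1 hx
      rw [Finset.card_eq_zero, Finset.eq_empty_iff_forall_notMem]
      exact fun v hv => hno ⟨v, (Finset.mem_filter.1 hv).1, (Finset.mem_filter.1 hv).2⟩
  -- outer involutions at a point: distinct images
  have hinj : ∀ x ∈ P, ∀ w₁ ∈ J, ∀ w₂ ∈ J, ((w₁ : M) : G) • x = x → ((w₂ : M) : G) • x = x →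
      toS4 K e w₁ = toS4 K e w₂ → w₁ = w₂ := fun x hx w₁ _ w₂ _ h1 h2 h => by
    have hK : w₁⁻¹ * w₂ ∈ K := d.mem_ker_iff.1 (by rw [map_mul, map_inv, h, inv_mul_cancel])
    obtain ⟨-, hw₁o, hw₁u⟩ := Finset.mem_filter.1 (show w₁ ∈ J by assumption)
    have hw₂o := (Finset.mem_filter.1 (show w₂ ∈ J by assumption)).2.1
    have hi : w₁ * (w₁⁻¹ * w₂) * w₁⁻¹ = (w₁⁻¹ * w₂)⁻¹ := by
      rw [mul_inv_rev, inv_inv, d.invol_self_inv hw₂o, mul_inv_cancel_left, d.invol_self_inv hw₁o]
    refine inv_mul_eq_one.1 (d.eq_one_of_inverted_fix hFK hinv hkc h5 (hne hx) hw₁o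
      ((hinv w₁ hw₁o hw₁u _ hK).1 hi) hi h1 ?_)
    rw [Subgroup.coe_mul, Subgroup.coe_inv, mul_smul, h2, inv_smul_eq_iff, h1]
  have hb₁ : ∀ x ∈ P₁, (J.bipartiteBelow (fun (u : M) (x : G ⧸ M) => (u : G) • x = x) x).card ≤ 2 := by
    intro x hx
    obtain ⟨hxP, v, hv, hvx⟩ := Finset.mem_filter.1 hx
    obtain ⟨-, hvo, hvi⟩ := Finset.mem_filter.1 hv
    rw [← s4_comm_out _ hvi (d.toS4_invol hvo).2]
    refine Finset.card_le_card_of_injOn (toS4 K e) (fun w hw => ?_) fun w₁ hw₁ w₂ hw₂ h => ?_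
    · obtain ⟨hwJ, hwx⟩ := Finset.mem_filter.1 hw
      obtain ⟨-, hwo, hwout⟩ := Finset.mem_filter.1 hwJ
      have hconj : orderOf (w * v * w⁻¹) = 2 := by
        rw [show w * v * w⁻¹ = MulAut.conj w v from rfl, MulEquiv.orderOf_eq, hvo]
      have hinn : InnS4 (toS4 K e (w * v * w⁻¹)) := by
        refine ⟨(d.toS4_invol hconj).1, ?_⟩
        rw [map_mul, map_mul, map_inv, map_mul, map_mul, map_inv, hvi.2]
        group
      have h := d.inner_fix_unique (hne hxP) hconj hvo hinn hvi (d.fix_moved hwx hvx) hvx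
      refine Finset.mem_filter.2 ⟨Finset.mem_univ _, hwout, ?_⟩
      rw [← map_mul, ← map_mul, show v * w = w * v from ?_]
      exact (mul_inv_eq_iff_eq_mul.1 h).symm
    · obtain ⟨h1, h1x⟩ := Finset.mem_filter.1 hw₁
      obtain ⟨h2, h2x⟩ := Finset.mem_filter.1 hw₂
      exact hinj x hxP w₁ h1 w₂ h2 h1x h2x h
  have hb₂ : ∀ x ∈ P₂, (J.bipartiteBelow (fun (u : M) (x : G ⧸ M) => (u : G) • x = x) x).card ≤ 3 := by
    intro x hx
    obtain ⟨hxP, hno⟩ := Finset.mem_filter.1 hx
    choose! f hf using fun w (hw : OutS4 w) => s4_out_comm w hw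
    rw [← s4_invol_card]
    refine Finset.card_le_card_of_injOn (fun w => f (toS4 K e w)) (fun w hw => ?_) fun w₁ hw₁ w₂ hw₂ h => ?_
    · obtain ⟨hwJ, -⟩ := Finset.mem_filter.1 hw
      have h := hf _ (Finset.mem_filter.1 hwJ).2.2
      exact Finset.mem_filter.2 ⟨Finset.mem_univ _, h.1, h.2.1⟩
    · obtain ⟨h1, h1x⟩ := Finset.mem_filter.1 hw₁
      obtain ⟨h2, h2x⟩ := Finset.mem_filter.1 hw₂
      have ho1 := (Finset.mem_filter.1 h1).2.2
      have ho2 := (Finset.mem_filter.1 h2).2.2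
      obtain ⟨ha, ha1, hc1⟩ := hf _ ho1
      have hc2 := (hf _ ho2).2.2
      simp only at h
      rw [← h] at hc2
      refine hinj x hxP w₁ h1 w₂ h2 h1x h2x (by_contra fun hne' => hno ?_)
      have hprod := s4_out_pair _ ha ha1 _ ho1 hc1 _ ho2 hc2 hne'
      obtain ⟨-, ho1', -⟩ := Finset.mem_filter.1 h1
      obtain ⟨-, ho2', -⟩ := Finset.mem_filter.1 h2
      have hfix12 : ((w₁ * w₂ : M) : G) • x = x := by rw [Subgroup.coe_mul, mul_smul, h2x, h1x]
      have hi : w₁ * (w₁ * w₂ * (w₁ * w₂)) * w₁⁻¹ = (w₁ * w₂ * (w₁ * w₂))⁻¹ := by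
        simp only [mul_inv_rev, d.invol_self_inv ho1', d.invol_self_inv ho2', ← mul_assoc, invol_mul_self ho1',
          one_mul]
      have hK : w₁ * w₂ * (w₁ * w₂) ∈ K := d.mem_ker_iff.1 (by rw [map_mul, map_mul, hprod, ha.1])
      have hone := d.eq_one_of_inverted_fix hFK hinv hkc h5 (hne hxP) ho1' ((hinv w₁ ho1' ho1 _ hK).1 hi) hi h1x
        (by rw [Subgroup.coe_mul, mul_smul, hfix12, hfix12])
      exact ⟨w₁ * w₂, Finset.mem_filter.2 ⟨Finset.mem_univ _, invol_iff.2 ⟨hone, fun h => ha1 (by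
        rw [← hprod, ← map_mul, h, map_one])⟩, by rw [map_mul, hprod]; exact ha⟩, hfix12⟩
  have hlow : 12 * Nat.card F ^ 2 ≤ 2 * P₁.card + 3 * P₂.card := by
    have key := Finset.sum_card_bipartiteAbove_eq_sum_card_bipartiteBelow (fun (u : M) (x : G ⧸ M) => (u : G) • x = x)
      (s := J) (t := P)
    rw [Finset.sum_eq_card_nsmul (b := 2 * Nat.card F) fun u hu => hfix u (Finset.mem_filter.1 hu).2.1, hJc,
      smul_eq_mul, ← Finset.sum_filter_add_sum_filter_not P (fun x => ∃ v ∈ I, (v : G) • x = x), ← hP₁, ← hP₂] at key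
    have e1 := Finset.sum_le_card_nsmul P₁ _ 2 hb₁
    have e2 := Finset.sum_le_card_nsmul P₂ _ 3 hb₂
    rw [smul_eq_mul] at e1 e2
    nlinarith
  -- the action of a group of order `4 δ`
  set U : Subgroup M := innSubgroup.comap (toS4 K e) ⊓ Subgroup.centralizer (F : Set M) with hU
  have hVF : ∀ v : M, orderOf v = 2 → InnS4 (toS4 K e v) → v ∈ U := fun v hv hvi =>
    ⟨hvi, Subgroup.mem_centralizer_iff.2 fun f hf => (d.inner_cent v hv hvi f (hFK hf)).eq.symm⟩
  have hUcard : Nat.card U = 4 * Nat.card F := by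
    let f := (toS4 K e).comp U.subtype
    have hrange : f.range = innSubgroup := by
      refine le_antisymm ?_ fun p hp => ?_
      · rintro _ ⟨n, rfl⟩
        exact n.2.1
      · by_cases hp1 : p = 1
        · exact hp1 ▸ one_mem _
        obtain ⟨v, hv, hvp⟩ := d.exists_lift hp.1 hp1
        exact ⟨⟨v, hVF v hv (hvp ▸ hp)⟩, hvp⟩
    rw [← f.ker.card_mul_index, Subgroup.index_ker, hrange, card_innSubgroup, mul_comm]
    congr 1
    refine Nat.card_congr
      { toFun := fun n => ⟨((n : U) : M), hcF _ (d.mem_ker_iff.1 (MonoidHom.mem_ker.1 n.2)) fun f hf =>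
          (Subgroup.mem_centralizer_iff.1 (n : U).2.2 f hf).symm⟩
        invFun := fun z => ⟨⟨(z : M), ⟨by
            show InnS4 (toS4 K e (z : M))
            rw [d.mem_ker_iff.2 (hFK z.2)]
            exact innSubgroup.one_mem,
          Subgroup.mem_centralizer_iff.2 fun f hf => (d.inverted_comm hFK hinv hkc hf z.2).eq⟩⟩,
          MonoidHom.mem_ker.2 (d.mem_ker_iff.2 (hFK z.2))⟩
        left_inv := fun _ => rfl
        right_inv := fun _ => rfl }
  have hmove : ∀ (n : U) (x : G ⧸ M), x ∈ P₂ → ((n : M) : G) • x ∈ P₂ := by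
    intro n x hx
    obtain ⟨hxP, hno⟩ := Finset.mem_filter.1 hx
    refine Finset.mem_filter.2 ⟨Finset.mem_erase.2 ⟨fun h => hne hxP ?_, Finset.mem_univ _⟩, ?_⟩
    · rw [smul_eq_iff_eq_inv_smul] at h
      rw [h, hbase, MulAction.Quotient.smul_coe, smul_eq_mul, mul_one, QuotientGroup.eq, mul_one, inv_inv]
      exact (n : M).2
    · rintro ⟨v, hv, hvx⟩
      obtain ⟨-, hvo, hvi⟩ := Finset.mem_filter.1 hv
      refine hno ⟨(n : M)⁻¹ * v * (n : M), Finset.mem_filter.2 ⟨Finset.mem_univ _, ?_, ?_⟩, ?_⟩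
      · rw [show (n : M)⁻¹ * v * (n : M) = MulAut.conj (n : M)⁻¹ v by simp, MulEquiv.orderOf_eq, hvo]
      · rw [map_mul, map_mul, map_inv, s4_inn_inn _ (show InnS4 (toS4 K e (n : M))⁻¹ from innSubgroup.inv_mem n.2.1) _ hvi,
          mul_assoc, inv_mul_cancel, mul_one]
        exact hvi
      · rw [Subgroup.coe_mul, Subgroup.coe_mul, Subgroup.coe_inv, mul_smul, mul_smul, hvx, inv_smul_smul]
  letI : MulAction U {x // x ∈ P₂} :=
    { smul := fun n x => ⟨((n : M) : G) • x.1, hmove n x.1 x.2⟩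
      one_smul := fun x => Subtype.ext (one_smul G x.1)
      mul_smul := fun n m x => Subtype.ext (mul_smul ((n : M) : G) ((m : M) : G) x.1) }
  have hstab : ∀ x : {x // x ∈ P₂}, Nat.card (MulAction.stabilizer U x) ∣ 3 := fun x => by
    obtain ⟨hxP, hno⟩ := Finset.mem_filter.1 x.2
    obtain ⟨g, hgx⟩ := QuotientGroup.mk_surjective x.1
    have hg : g ∉ M := fun hg => hne hxP (by
      rw [← hgx, hbase, QuotientGroup.eq, mul_one]; exact M.inv_mem hg)
    set S := MulAction.stabilizer U x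
    have hfx : ∀ n : S, (((n : U) : M) : G) • x.1 = x.1 := fun n =>
      congrArg Subtype.val (MulAction.mem_stabilizer_iff.1 n.2)
    -- the stabiliser lies in `F`
    have hSF : ∀ n : S, ((n : U) : M) ∈ F := by
      intro n
      set y : M := ((n : U) : M)
      have hyi : InnS4 (toS4 K e y) := (n : U).2.1
      by_cases h1 : toS4 K e y = 1
      · exact hcF _ (d.mem_ker_iff.1 h1) fun f hf =>
          (Subgroup.mem_centralizer_iff.1 (n : U).2.2 f hf).symm
      exfalso
      have hy2 : y ^ 2 ∈ K := d.mem_ker_iff.1 (by rw [map_pow, sq]; exact hyi.1)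
      set o := orderOf (y ^ 2)
      obtain ⟨j, hj⟩ := d.odd_orderOf hy2
      have himg : toS4 K e (y ^ o) = toS4 K e y := by
        rw [map_pow, show o = 2 * j + 1 from hj, pow_succ, pow_mul, sq, hyi.1, one_pow, one_mul]
      refine hno ⟨y ^ o, Finset.mem_filter.2 ⟨Finset.mem_univ _, orderOf_eq_prime ?_ fun h => h1 (by
        rw [← himg, h, map_one]), himg.symm ▸ hyi⟩, ?_⟩
      · rw [← pow_mul, mul_comm, pow_mul]
        exact pow_orderOf_eq_one _
      · rw [SubgroupClass.coe_pow]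
        exact MulAction.mem_stabilizer_iff.1 (pow_mem (show (y : G) ∈ MulAction.stabilizer G x.1 from hfx n) _)
    have hdown : ∀ n : S, g⁻¹ * (((n : U) : M) : G) * g ∈ M := fun n =>
      smul_coset_eq_iff.1 (by rw [hgx]; exact hfx n)
    let χ : S →* Equiv.Perm (Fin 4) := (toS4 K e).comp
      (MonoidHom.mk' (fun n : S => (⟨_, hdown n⟩ : M)) fun n m => Subtype.ext (by
        show g⁻¹ * ((((n : U) : M) : G) * (((m : U) : M) : G)) * g =
          g⁻¹ * (((n : U) : M) : G) * g * (g⁻¹ * (((m : U) : M) : G) * g)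
        group))
    have hχ : Function.Injective χ := (injective_iff_map_eq_one χ).2 fun n hn => by
      by_contra hn1
      refine hg (d.mem_of_move (x := ⟨_, hdown n⟩) (z := ((n : U) : M)) (d.mem_ker_iff.1 hn)
        (hkc _ (hSF n) fun h => hn1 (Subtype.ext (Subtype.ext h))) ?_)
      group
    have hdvd := Subgroup.card_dvd_of_injective χ hχ
    rw [Nat.card_perm, Nat.card_eq_fintype_card (α := Fin 4), Fintype.card_fin,
      show Nat.factorial 4 = 2 ^ 3 * 3 from rfl] at hdvd
    refine (Nat.Coprime.dvd_of_dvd_mul_left (Nat.Coprime.pow_right 3 (Nat.coprime_two_right.2 ?_)) hdvd)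
    let j : S →* F := MonoidHom.mk' (fun n => (⟨((n : U) : M), hSF n⟩ : F)) fun n m => Subtype.ext rfl
    have hj : Function.Injective j := fun n m h => Subtype.ext (Subtype.ext (congrArg (fun z : F => (z : M)) h))
    exact (d.odd.of_dvd_nat (Subgroup.card_dvd_of_le hFK)).of_dvd_nat (Subgroup.card_dvd_of_injective j hj)
  have hdvd : 4 * Nat.card F ∣ 3 * P₂.card := by
    haveI := Fintype.ofFinite (MulAction.orbitRel.Quotient U {x // x ∈ P₂})
    rw [← Fintype.card_coe P₂, ← Nat.card_eq_fintype_card,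
      Nat.card_congr (MulAction.selfEquivSigmaOrbits U {x // x ∈ P₂}), Nat.card_sigma, Finset.mul_sum]
    refine Finset.dvd_sum fun q _ => ?_
    have h := Nat.card_congr (MulAction.orbitProdStabilizerEquivGroup U q.out)
    rw [Nat.card_prod, hUcard] at h
    rw [← h, mul_comm 3]
    exact Nat.mul_dvd_mul_left _ (hstab _)
  have hn : 0 < M.index := Nat.pos_of_ne_zero Subgroup.FiniteIndex.index_ne_zero
  have hcast : (M.index : ℤ) - 1 = 6 * Nat.card F + P₂.card := by omega
  constructor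
  · rw [hcast, add_sub_cancel_left]
    exact_mod_cast hdvd
  · rw [hcast]
    have : 4 * Nat.card F ^ 2 ≤ P₂.card + 4 * Nat.card F := by omega
    have h' : (4 * (Nat.card F : ℤ) ^ 2) ≤ P₂.card + 4 * Nat.card F := by exact_mod_cast this
    linarith

end FourData

end CfsgLib.GW
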