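import Cfsg.Agent.Lib.GW.CaseCFourAbelian
import Cfsg.Agent.Lib.GW.CaseCFourCount

/-!
# Case C over `S4`: the odd core has order one or three

An abelian normal subgroup of order above three gives a normal subgroup inverted by the outer involutions, against
the count.  So all have order at most three and a minimal normal subgroup above one of them would be extraspecial of
order 27, which has an abelian normal subgroup of order nine.
-/

set_option autoImplicit false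
set_option linter.style.haveILetI false
set_option linter.unusedSectionVars false

namespace CfsgLib.GW

open CfsgLib.Invol
open scoped commutatorElement

universe u

section

variable {X : Type*} [Group X] [Finite X]

/-- five subgroups of order nine through a subgroup of order three do not fit into a group of order 27 -/
theorem five_subgroups_false {Z B : Subgroup X} (hZ : Nat.card Z = 3) (hB : Nat.card B = 27)
    (S : Fin 5 → Subgroup X) (hS : ∀ i, Nat.card (S i) = 9) (hZS : ∀ i, Z ≤ S i) (hle : ∀ i, S i ≤ B)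
    (hne : ∀ i j, i ≠ j → S i ≠ S j) : False := by
  classical
  haveI := Fintype.ofFinite X
  let U : Subgroup X → Finset X := fun T => Finset.univ.filter fun y => y ∈ T
  have hU : ∀ T : Subgroup X, (U T).card = Nat.card T := fun T => by
    rw [← Fintype.card_subtype, ← Nat.card_eq_fintype_card]
  have hsub : ∀ {T T' : Subgroup X}, T ≤ T' → U T ⊆ U T' := fun h y hy =>
    Finset.mem_filter.2 ⟨Finset.mem_univ _, h (Finset.mem_filter.1 hy).2⟩
  have hT : ∀ i, (U (S i) \ U Z).card = 6 := fun i => by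
    rw [Finset.card_sdiff_of_subset (hsub (hZS i)), hU, hU, hS, hZ]
  have hd : ((Finset.univ : Finset (Fin 5)) : Set (Fin 5)).PairwiseDisjoint fun i => U (S i) \ U Z :=
    fun i _ j _ hij => by
      refine Finset.disjoint_left.2 fun y hy hy' => ?_
      obtain ⟨hyi, hyZ⟩ := Finset.mem_sdiff.1 hy
      have hinf : S i ⊓ S j = Z := by
        refine (Subgroup.eq_of_le_of_card_ge (le_inf (hZS i) (hZS j)) ?_).symm
        have hd := Subgroup.card_dvd_of_le (inf_le_left : S i ⊓ S j ≤ S i)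
        rw [hS, show (9 : ℕ) = 3 ^ 2 by norm_num] at hd
        obtain ⟨l, hl2, hl⟩ := (Nat.dvd_prime_pow Nat.prime_three).1 hd
        have hne9 : l ≠ 2 := fun h => hne i j hij (by
          subst h
          have h1 : S i ⊓ S j = S i := Subgroup.eq_of_le_of_card_ge inf_le_left (by rw [hl, hS]; norm_num)
          exact Subgroup.eq_of_le_of_card_ge (h1 ▸ inf_le_right) (by rw [hS, hS]))
        rw [hl, hZ]
        interval_cases l <;> first | omega | norm_num
      have hy2 : y ∈ S i ⊓ S j :=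
        ⟨(Finset.mem_filter.1 hyi).2, (Finset.mem_filter.1 (Finset.mem_sdiff.1 hy').1).2⟩
      rw [hinf] at hy2
      exact hyZ (Finset.mem_filter.2 ⟨Finset.mem_univ _, hy2⟩)
  have hle' : (Finset.univ.biUnion fun i => U (S i) \ U Z) ⊆ U B \ U Z := fun y hy => by
    obtain ⟨i, -, hyi⟩ := Finset.mem_biUnion.1 hy
    exact Finset.mem_sdiff.2 ⟨hsub (hle i) (Finset.mem_sdiff.1 hyi).1, (Finset.mem_sdiff.1 hyi).2⟩
  have h := Finset.card_le_card hle'
  rw [Finset.card_biUnion hd, Finset.card_sdiff_of_subset (hsub ((hZS 0).trans (hle 0))), hU, hU, hB, hZ,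
    Finset.sum_congr rfl fun i _ => hT i] at h
  simp at h

theorem card_mul_le {P Q R : Subgroup X} (hP : P ≤ R) (hQ : Q ≤ R) (h : P ⊓ Q = ⊥) :
    Nat.card P * Nat.card Q ≤ Nat.card R := by
  rw [← Nat.card_prod]
  refine Nat.card_le_card_of_injective (fun p : P × Q => (⟨(p.1 : X) * p.2, R.mul_mem (hP p.1.2) (hQ p.2.2)⟩ : R))
    fun p q hpq => ?_
  have h1 : (p.1 : X) * p.2 = q.1 * q.2 := congrArg Subtype.val hpq
  have h2 : (q.1 : X)⁻¹ * p.1 ∈ P ⊓ Q := Subgroup.mem_inf.2 ⟨P.mul_mem (P.inv_mem q.1.2) p.1.2, by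
    rw [show (q.1 : X)⁻¹ * p.1 = q.2 * (p.2 : X)⁻¹ by
      rw [eq_mul_inv_iff_mul_eq, mul_assoc, h1, inv_mul_cancel_left]]
    exact Q.mul_mem q.2.2 (Q.inv_mem p.2.2)⟩
  rw [h, Subgroup.mem_bot] at h2
  have h3 : (p.1 : X) = q.1 := (inv_mul_eq_one.1 h2).symm
  rw [h3] at h1
  exact Prod.ext (Subtype.ext h3) (Subtype.ext (mul_left_cancel h1))

/-- a non-trivial soluble normal subgroup contains a non-trivial abelian normal one -/
theorem exists_abelian_normal {K : Subgroup X} [K.Normal] (hK : K ≠ ⊥) [Group.IsSolvable K] :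
    ∃ A : Subgroup X, A.Normal ∧ A ≤ K ∧ A ≠ ⊥ ∧ ∀ {x y : X}, x ∈ A → y ∈ A → Commute x y := by
  obtain ⟨A, hA, hmin⟩ := Set.Finite.exists_minimal (Set.toFinite {A : Subgroup X | A.Normal ∧ A ≤ K ∧ A ≠ ⊥})
    ⟨K, inferInstance, le_rfl, hK⟩
  obtain ⟨hAn, hAK, hAne⟩ := hA
  haveI := hAn
  haveI : Group.IsSolvable A := Group.isSolvable_of_isSolvable_injective (Subgroup.inclusion_injective hAK)
  refine ⟨A, hAn, hAK, hAne, fun {x y} hx hy => commutatorElement_eq_one_iff_mul_comm.1 ?_⟩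
  by_contra hne
  have h1 : ⁅A, A⁆ ≠ ⊥ := fun h => hne (Subgroup.mem_bot.1 (h ▸ Subgroup.commutator_mem_commutator hx hy))
  have h2 : A ≤ ⁅A, A⁆ := hmin ⟨inferInstance, (Subgroup.commutator_le_right A A).trans hAK, h1⟩
    (Subgroup.commutator_le_right A A)
  haveI : Nontrivial A := (Subgroup.nontrivial_iff_ne_bot A).2 hAne
  haveI : Group.IsPerfect A := (Subgroup.isPerfect_iff (H := A)).2 (le_antisymm (Subgroup.commutator_le_right A A) h2)
  exact Group.IsPerfect.not_isSolvable A inferInstance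

end

variable {G : Type u} [Group G] [Finite G]

namespace FourData

variable {M : Subgroup G} {K : Subgroup M} [K.Normal] {e : (M ⧸ K) ≃* Equiv.Perm (Fin 4)} (d : FourData M K e)
include d

/-- few elements with centralisers in `M` in a centraliser outside `M` -/
theorem card_le_three_of_good {k : M} (hk : k ∈ K) (hk1 : k ≠ 1)
    (hH : ¬ Subgroup.centralizer ({(k : G)} : Set G) ≤ M) {Q : Subgroup M} (hQ : Q ≤ centK K k)
    (hgood : ∀ q ∈ Q, q ≠ 1 → Subgroup.centralizer ({(q : G)} : Set G) ≤ M) : Nat.card Q ≤ 3 := by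
  have hinf : Q ⊓ coreIn k = ⊥ := (Subgroup.eq_bot_iff_forall _).2 fun q hq => by
    by_contra hq1
    exact d.core_bad hk hH hq.2 (hgood q hq.1 hq1)
  rcases d.cent_cases hk hk1 with h | ⟨-, h⟩
  · rw [inf_eq_left.2 (hQ.trans h)] at hinf
    rw [hinf, Subgroup.card_bot]
    norm_num
  · exact Nat.le_of_mul_le_mul_right ((card_mul_le hQ (d.coreIn_le_centK hk) hinf).trans h) Nat.card_pos

/-- **abelian normal subgroups in `K` have order at most three** -/
theorem abelian_small {A : Subgroup M} [A.Normal] (hAK : A ≤ K) (hAc : ∀ {x y : M}, x ∈ A → y ∈ A → Commute x y) :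
    Nat.card A ≤ 3 := by
  classical
  by_contra hA3
  have hA : A ≠ ⊥ := fun h => by rw [h, Subgroup.card_bot] at hA3; omega
  set F := K ⊓ Subgroup.centralizer (A : Set M)
  have hFK : F ≤ K := inf_le_left
  have hAF : A ≤ F := fun a ha => ⟨hAK ha, Subgroup.mem_centralizer_iff.2 fun b hb => (hAc hb ha).eq⟩
  have hgoodA : ∀ a ∈ A, a ≠ 1 → Subgroup.centralizer ({(a : G)} : Set G) ≤ M := fun a ha ha1 => by
    obtain ⟨w, hw, hwo⟩ := d.exists_outer
    exact d.good_of_inverted hAK hAc hw ha ha1 (d.abelian_inverted hAK hAc hw hwo ha)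
  have hcA : ∀ f ∈ F, ∀ a ∈ A, Commute a f := fun f hf a ha => Subgroup.mem_centralizer_iff.1 hf.2 a ha
  have hinv : ∀ w : M, orderOf w = 2 → OutS4 (toS4 K e w) → ∀ k ∈ K, w * k * w⁻¹ = k⁻¹ ↔ k ∈ F := by
    intro w hw hwo
    have hww := invol_mul_self hw
    have hFodd : Odd (Nat.card F) := d.odd.of_dvd_nat (Subgroup.card_dvd_of_le hFK)
    have hfix : fixIn F w = ⊥ := (Subgroup.eq_bot_iff_forall _).2 fun f hf => by
      by_contra hf1
      refine hA3 (d.card_le_three_of_good (hFK hf.1) hf1 (d.fixed_cent_not_le hw hwo (hFK hf.1)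
        (Subgroup.mem_centralizer_singleton_iff.1 hf.2)) (fun a ha => ⟨hAK ha,
          Subgroup.mem_centralizer_singleton_iff.2 (hcA f hf.1 a ha).eq⟩) hgoodA)
    intro k hk
    constructor
    · intro hwk
      refine ⟨hk, Subgroup.mem_centralizer_iff.2 fun a ha => ?_⟩
      have h1 := d.abelian_inverted hAK hAc hw hwo (‹A.Normal›.conj_mem a ha k)
      rw [← conj_mul, ← conj_mul, ← conj_inv, hwk, d.abelian_inverted hAK hAc hw hwo ha, inv_inv] at h1
      have h2 : Commute (k ^ 2) a := by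
        refine mul_inv_eq_iff_eq_mul.1 ?_
        calc k ^ 2 * a * (k ^ 2)⁻¹ = k * (k * a⁻¹ * k⁻¹)⁻¹ * k⁻¹ := by rw [sq]; group
          _ = k * (k⁻¹ * a⁻¹ * k)⁻¹ * k⁻¹ := by rw [h1]; group
          _ = a := by group
      obtain ⟨j, hj⟩ := d.odd_orderOf hk
      have h3 : k = (k ^ 2) ^ (j + 1) := by
        rw [← pow_mul, show 2 * (j + 1) = (2 * j + 1) + 1 by ring, pow_succ, ← hj, pow_orderOf_eq_one, one_mul]
      exact ((h3 ▸ h2.pow_left _ : Commute k a)).eq.symm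
    · intro hkF
      have h := card_fix_mul_inv hFodd hww (fun x hx => (inferInstance : F.Normal).conj_mem x hx w)
      rw [hfix, Subgroup.card_bot, one_mul] at h
      have hset : invSet F w = (F : Set M) := Set.eq_of_subset_of_ncard_le (fun x hx => hx.1)
        (by rw [← Nat.card_coe_set_eq, ← Nat.card_coe_set_eq]; exact h.le) (Set.toFinite _)
      exact (show k ∈ invSet F w by rw [hset]; exact hkF).2
  obtain ⟨w, hw, hwo⟩ := d.exists_outer
  have hkc : ∀ k ∈ F, k ≠ 1 → Subgroup.centralizer ({(k : G)} : Set G) ≤ M := fun k hk hk1 =>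
    d.cent_inverted_le hw hk.1 hk1 ((hinv w hw hwo k hk.1).2 hk) hA hAK (hcA k hk)
  have hFodd : Odd (Nat.card F) := d.odd.of_dvd_nat (Subgroup.card_dvd_of_le hFK)
  have h5 : 5 ≤ Nat.card F := by
    have h1 := Subgroup.card_le_of_le hAF
    obtain ⟨j, hj⟩ := hFodd
    omega
  have hset : invSet K w = (F : Set M) := Set.ext fun k =>
    ⟨fun h => (hinv w hw hwo k h.1).1 h.2, fun h => ⟨hFK h, (hinv w hw hwo k (hFK h)).2 h⟩⟩
  have hδ : Nat.card F * Nat.card (fixIn K w) = Nat.card K := by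
    rw [card_fix_mul_inv d.odd (invol_mul_self hw) (fun x hx => ‹K.Normal›.conj_mem x hx w), hset, mul_comm]
    rfl
  obtain ⟨r, hr1, hr8, hn⟩ := d.index_formula hw hwo hδ
  rcases two_class_four hr1 hr8 hFodd d.odd_index hn
    (fun h5 => d.point_bounds hFK hinv hkc (fun k hk h => ⟨hk, Subgroup.mem_centralizer_iff.2 fun a ha =>
      (h a (hAF ha)).eq.symm⟩) h5) with ⟨h1, -⟩ | ⟨h1, -⟩ <;> omega

/-- **`K` is trivial or of order three** -/
theorem card_cases : Nat.card K = 1 ∨ Nat.card K = 3 := by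
  classical
  by_cases hK : K = ⊥
  · exact Or.inl (hK ▸ Subgroup.card_bot)
  right
  haveI : Group.IsSolvable K := CfsgLib.FT.isSolvable_of_odd K d.odd
  obtain ⟨Z, hZn, hZK, hZne, hZc⟩ := exists_abelian_normal hK
  haveI := hZn
  have h3 : ∀ S : Subgroup M, S ≤ K → S ≠ ⊥ → Nat.card S ≤ 3 → Nat.card S = 3 := fun S hS hne hle => by
    obtain ⟨j, hj⟩ := d.odd.of_dvd_nat (Subgroup.card_dvd_of_le hS)
    have : Nat.card S ≠ 1 := fun h => hne (Subgroup.eq_bot_of_card_eq S h)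
    omega
  have hZ3 := h3 Z hZK hZne (d.abelian_small hZK hZc)
  have hZcent : ∀ z ∈ Z, ∀ k ∈ K, Commute z k := fun z hz k hk => by
    by_cases hz1 : z = 1
    · rw [hz1]; exact Commute.one_left k
    rcases mem_three hZ3 hz hz1 (hZn.conj_mem z hz k) with h | h | h
    · exact absurd (conj_eq_one_iff.1 h) hz1
    · exact (mul_inv_eq_iff_eq_mul.1 h : Commute k z).symm
    · exact absurd (commute_of_conj_inv (d.odd_orderOf hk) (d.odd_orderOf (hZK hz)) h) hz1
  by_cases hKZ : K ≤ Z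
  · rw [show K = Z from le_antisymm hKZ hZK, hZ3]
  exfalso
  obtain ⟨B, hB, hmin⟩ := Set.Finite.exists_minimal
    (Set.toFinite {S : Subgroup M | S.Normal ∧ Z ≤ S ∧ S ≤ K ∧ ¬ S ≤ Z}) ⟨K, inferInstance, hZK, le_rfl, hKZ⟩
  obtain ⟨hBn, hZB, hBK, hBZ⟩ := hB
  haveI := hBn
  have hBne : B ≠ ⊥ := fun h => hBZ (h ▸ bot_le)
  -- the commutators are central
  have hcZ : ⁅B, B⁆ ≤ Z := by
    by_contra hcon
    have hle : ⁅B, B⁆ ⊔ Z ≤ B := sup_le (Subgroup.commutator_le_right B B) hZB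
    have hBsup : B ≤ ⁅B, B⁆ ⊔ Z := hmin
      ⟨inferInstance, le_sup_right, hle.trans hBK, fun h => hcon (le_sup_left.trans h)⟩ hle
    set B₁ := ⁅B, B⁆ with hB₁
    have hB₁K : B₁ ≤ K := (Subgroup.commutator_le_right B B).trans hBK
    have hperf : B₁ ≤ ⁅B₁, B₁⁆ := Subgroup.commutator_le.2 fun x hx y hy => by
      obtain ⟨x₁, hx₁, z₁, hz₁, rfl⟩ := Subgroup.mem_sup_of_normal_right.1 (hBsup hx)
      obtain ⟨y₁, hy₁, z₂, hz₂, rfl⟩ := Subgroup.mem_sup_of_normal_right.1 (hBsup hy)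
      have hz1y := hZcent z₁ hz₁ _ (K.mul_mem (hB₁K hy₁) (hZK hz₂))
      have hz2x := hZcent z₂ hz₂ _ (hB₁K hx₁)
      have : ⁅x₁ * z₁, y₁ * z₂⁆ = ⁅x₁, y₁⁆ := by
        calc ⁅x₁ * z₁, y₁ * z₂⁆ = x₁ * (z₁ * (y₁ * z₂) * z₁⁻¹) * x₁⁻¹ * (y₁ * z₂)⁻¹ := by
              rw [commutatorElement_def]; group
          _ = x₁ * y₁ * (z₂ * x₁⁻¹) * z₂⁻¹ * y₁⁻¹ := by rw [hz1y.eq, mul_inv_cancel_right]; group
          _ = ⁅x₁, y₁⁆ := by rw [hz2x.inv_right.eq, commutatorElement_def]; group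
      rw [this]
      exact Subgroup.commutator_mem_commutator hx₁ hy₁
    haveI : Group.IsSolvable B₁ := Group.isSolvable_of_isSolvable_injective (Subgroup.inclusion_injective hB₁K)
    haveI : Nontrivial B₁ := (Subgroup.nontrivial_iff_ne_bot B₁).2 fun h => hcon (by rw [h]; exact bot_le)
    haveI : Group.IsPerfect B₁ := (Subgroup.isPerfect_iff (H := B₁)).2
      (le_antisymm (Subgroup.commutator_le_right B₁ B₁) hperf)
    exact Group.IsPerfect.not_isSolvable B₁ inferInstance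
  have hBnc : ¬ ∀ {x y : M}, x ∈ B → y ∈ B → Commute x y := fun h => by
    have h1 := d.abelian_small hBK h
    exact hBZ (Subgroup.eq_of_le_of_card_ge hZB (hZ3 ▸ h1)).ge
  obtain ⟨w, hw, hwo⟩ := d.exists_outer
  have hww := invol_mul_self hw
  have hZinv : ∀ z ∈ Z, w * z * w⁻¹ = z⁻¹ := fun z hz => d.abelian_inverted hZK hZc hw hwo hz
  have hZone : ∀ z ∈ Z, w * z * w⁻¹ = z → z = 1 := fun z hz h => by
    rw [hZinv z hz] at h
    exact eq_one_of_mem_of_sq d.odd (hZK hz) (mul_eq_one_iff_eq_inv.2 h.symm)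
  have hgood : ∀ x ∈ invSet B w, x ≠ 1 → Subgroup.centralizer ({(x : G)} : Set G) ≤ M := fun x hx hx1 =>
    d.cent_inverted_le hw (hBK hx.1) hx1 hx.2 hZne hZK fun z hz => hZcent z hz x (hBK hx.1)
  -- the inverted elements form an abelian subgroup
  have hYc : ∀ {x y : M}, x ∈ invSet B w → y ∈ invSet B w → Commute x y := fun {x y} hx hy => by
    refine commutatorElement_eq_one_iff_mul_comm.1 (hZone _ (hcZ (Subgroup.commutator_mem_commutator hx.1 hy.1)) ?_)
    show w * ⁅x, y⁆ * w⁻¹ = ⁅x, y⁆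
    rw [show w * ⁅x, y⁆ * w⁻¹ = ⁅w * x * w⁻¹, w * y * w⁻¹⁆ by rw [commutatorElement_def, commutatorElement_def]; group,
      hx.2, hy.2]
    have hz := hZcent _ (hcZ (Subgroup.commutator_mem_commutator hx.1 hy.1)) _
      (K.mul_mem (hBK hy.1) (hBK hx.1))
    calc ⁅x⁻¹, y⁻¹⁆ = (y * x)⁻¹ * ⁅x, y⁆ * (y * x) := by rw [commutatorElement_def, commutatorElement_def]; group
      _ = ⁅x, y⁆ := by rw [mul_assoc, hz.eq, inv_mul_cancel_left]
  let Y : Subgroup M :=
    { carrier := invSet B w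
      mul_mem' := fun {x y} hx hy => ⟨B.mul_mem hx.1 hy.1, by
        rw [← conj_mul, hx.2, hy.2, mul_inv_rev, ((hYc hy hx).inv_inv).eq]⟩
      one_mem' := ⟨B.one_mem, by simp⟩
      inv_mem' := fun {x} hx => ⟨B.inv_mem hx.1, by rw [← conj_inv, hx.2]⟩ }
  set E := fixIn B w
  have hYB : Y ≤ B := fun x hx => hx.1
  have hEB : E ≤ B := inf_le_left
  have hZY : Z ≤ Y := fun z hz => ⟨hZB hz, hZinv z hz⟩
  have hBodd : Odd (Nat.card B) := d.odd.of_dvd_nat (Subgroup.card_dvd_of_le hBK)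
  have hprod : Nat.card B = Nat.card E * Nat.card Y :=
    card_fix_mul_inv hBodd hww (fun x hx => hBn.conj_mem x hx w)
  have hEfix : ∀ {x : M}, x ∈ E → w * x * w⁻¹ = x := fun hx => (mem_fixIn.1 hx).2
  have hEc : ∀ {x y : M}, x ∈ E → y ∈ E → Commute x y := fun {x y} hx hy => by
    refine commutatorElement_eq_one_iff_mul_comm.1 (hZone _ (hcZ (Subgroup.commutator_mem_commutator hx.1 hy.1)) ?_)
    rw [show w * ⁅x, y⁆ * w⁻¹ = ⁅w * x * w⁻¹, w * y * w⁻¹⁆ by rw [commutatorElement_def, commutatorElement_def]; group,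
      hEfix hx, hEfix hy]
  have hne : E ≠ ⊥ := fun h => hBnc fun {x y} hx hy => by
    rw [h, Subgroup.card_bot, one_mul] at hprod
    have hYeq : Y = B := Subgroup.eq_of_le_of_card_ge hYB hprod.le
    exact hYc (hYeq.symm ▸ hx : x ∈ Y) (hYeq.symm ▸ hy : y ∈ Y)
  have hbad : ∀ {u x : M}, orderOf u = 2 → OutS4 (toS4 K e u) → x ∈ K → Commute x u →
      ¬ Subgroup.centralizer ({(x : G)} : Set G) ≤ M := fun hu huo hx hxu => d.fixed_cent_not_le hu huo hx hxu
  -- few inverted elements commute with a fixed one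
  have hCY : ∀ {x : M}, x ∈ E → x ≠ 1 → ∀ y ∈ Y, Commute y x → y ∈ Z := by
    intro x hx hx1 y hy hyx
    set Q := Y ⊓ Subgroup.centralizer ({x} : Set M)
    have hxw : Commute x w := Subgroup.mem_centralizer_singleton_iff.1 hx.2
    have hQ3 : Nat.card Q ≤ 3 := d.card_le_three_of_good (hBK hx.1) hx1 (hbad hw hwo (hBK hx.1) hxw)
      (fun q hq => ⟨hBK (hYB hq.1), hq.2⟩) fun q hq hq1 => hgood q hq.1 hq1
    have hZQ : Z ≤ Q := fun z hz => ⟨hZY hz, Subgroup.mem_centralizer_singleton_iff.2 (hZcent z hz x (hBK hx.1)).eq⟩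
    rw [Subgroup.eq_of_le_of_card_ge hZQ (hZ3 ▸ hQ3)]
    exact ⟨hy, Subgroup.mem_centralizer_singleton_iff.2 hyx.eq⟩
  have hcomm : ∀ {x y : M}, x ∈ B → y ∈ B → ⁅x, y⁆ ∈ Z := fun hx hy => hcZ (Subgroup.commutator_mem_commutator hx hy)
  obtain ⟨⟨c, hc⟩, hc1'⟩ := Subgroup.ne_bot_iff_exists_ne_one.1 hne
  have hc1 : c ≠ 1 := fun h => hc1' (Subtype.ext h)
  -- orders
  let θ : Y →* Z := MonoidHom.mk' (fun y => (⟨⁅c, (y : M)⁆, hcomm hc.1 (hYB y.2)⟩ : Z)) fun y v => Subtype.ext (by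
    show ⁅c, (y : M) * v⁆ = ⁅c, (y : M)⁆ * ⁅c, (v : M)⁆
    have hz := hZcent _ (hcomm hc.1 (hYB v.2)) _ (hBK (hYB y.2))
    calc ⁅c, (y : M) * v⁆ = ⁅c, (y : M)⁆ * ((y : M) * ⁅c, (v : M)⁆ * (y : M)⁻¹) := by
          simp only [commutatorElement_def]; group
      _ = ⁅c, (y : M)⁆ * ⁅c, (v : M)⁆ := by rw [← hz.eq, mul_inv_cancel_right])
  have hY9 : Nat.card Y ≤ 9 := by
    rw [← θ.ker.card_mul_index, Subgroup.index_ker, show (9 : ℕ) = 3 * 3 from rfl]
    refine Nat.mul_le_mul ?_ ((Subgroup.card_le_card_group _).trans hZ3.le)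
    rw [← hZ3]
    refine Nat.card_le_card_of_injective (fun y : θ.ker => (⟨((y : Y) : M), hCY hc hc1 _ (y : Y).2
      ((commutatorElement_eq_one_iff_mul_comm.1 (congrArg Subtype.val (MonoidHom.mem_ker.1 y.2))).symm)⟩ : Z))
      fun y v h => Subtype.ext (Subtype.ext (congrArg (fun z : Z => (z : M)) h))
  have hYZ : ¬ Y ≤ Z := fun h => hBnc fun {x y} hx hy => by
    have hEZ : ∀ {x : M}, x ∈ B → ∃ a ∈ E, ∃ z ∈ Z, x = a * z := by
      intro x hx
      have hdisj : E ⊓ Z = ⊥ := (Subgroup.eq_bot_iff_forall _).2 fun z hz => hZone z hz.2 (hEfix hz.1)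
      have hinjcard : Nat.card B ≤ Nat.card (E ⊔ Z : Subgroup M) := by
        rw [hprod]
        exact (Nat.mul_le_mul_left _ (Subgroup.card_le_of_le h)).trans (card_mul_le le_sup_left le_sup_right hdisj)
      have hsup : E ⊔ Z = B := Subgroup.eq_of_le_of_card_ge (sup_le hEB hZB) hinjcard
      obtain ⟨a, ha, z, hz, rfl⟩ := Subgroup.mem_sup_of_normal_right.1 (hsup.symm ▸ hx : x ∈ E ⊔ Z)
      exact ⟨a, ha, z, hz, rfl⟩
    obtain ⟨a, ha, z, hz, rfl⟩ := hEZ hx
    obtain ⟨b, hb, v, hv, rfl⟩ := hEZ hy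
    exact ((hEc ha hb).mul_right (hZcent v hv a (hBK (hEB ha))).symm).mul_left
      (hZcent z hz _ (K.mul_mem (hBK (hEB hb)) (hZK hv)))
  have hY : Nat.card Y = 9 := by
    obtain ⟨j, hj⟩ := hBodd.of_dvd_nat (Subgroup.card_dvd_of_le hYB)
    obtain ⟨i, hi⟩ := Subgroup.card_dvd_of_le hZY
    rw [hZ3] at hi
    have : Nat.card Y ≠ 3 := fun h => hYZ (Subgroup.eq_of_le_of_card_ge hZY (by rw [h, hZ3])).ge
    omega
  obtain ⟨y₀, hy₀, hy₀Z⟩ := SetLike.not_le_iff_exists.1 hYZ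
  have hE3 : Nat.card E = 3 := by
    refine h3 E (hEB.trans hBK) hne ?_
    rw [← hZ3]
    refine Nat.card_le_card_of_injective (fun x : E => (⟨⁅(x : M), y₀⁆, hcomm (hEB x.2) (hYB hy₀)⟩ : Z)) fun x v h => ?_
    have h1 : ⁅(x : M), y₀⁆ = ⁅(v : M), y₀⁆ := congrArg Subtype.val h
    by_contra hxv
    refine hy₀Z (hCY (x := (v : M)⁻¹ * x) (E.mul_mem (E.inv_mem v.2) x.2)
      (fun h => hxv (Subtype.ext (inv_mul_eq_one.1 h).symm)) y₀ hy₀ ?_)
    simp only [commutatorElement_def] at h1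
    have h2 : (x : M) * y₀ * (x : M)⁻¹ = (v : M) * y₀ * (v : M)⁻¹ := mul_right_cancel h1
    calc y₀ * ((v : M)⁻¹ * x) = (v : M)⁻¹ * ((v : M) * y₀ * (v : M)⁻¹) * x := by group
      _ = (v : M)⁻¹ * x * y₀ := by rw [← h2]; group
  have hB27 : Nat.card B = 27 := by rw [hprod, hE3, hY]
  -- the subgroup `E Z`
  set L := E ⊔ Z with hLdef
  have hEZ : E ⊓ Z = ⊥ := (Subgroup.eq_bot_iff_forall _).2 fun z hz => hZone z hz.2 (hEfix hz.1)
  have hLB : L ≤ B := sup_le hEB hZB
  have hLc : ∀ {x y : M}, x ∈ L → y ∈ L → Commute x y := fun {x y} hx hy => by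
    obtain ⟨a, ha, z, hz, rfl⟩ := Subgroup.mem_sup_of_normal_right.1 hx
    obtain ⟨b, hb, v, hv, rfl⟩ := Subgroup.mem_sup_of_normal_right.1 hy
    exact ((hEc ha hb).mul_right (hZcent v hv a (hBK (hEB ha))).symm).mul_left
      (hZcent z hz _ (K.mul_mem (hBK (hEB hb)) (hZK hv)))
  have hL : Nat.card L = 9 := by
    have h1 := card_mul_le (le_sup_left : E ≤ L) le_sup_right hEZ
    rw [hE3, hZ3] at h1
    have hd := Subgroup.card_dvd_of_le hLB
    rw [hB27, show (27 : ℕ) = 3 ^ 3 by norm_num] at hd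
    obtain ⟨l, hl3, hl⟩ := (Nat.dvd_prime_pow Nat.prime_three).1 hd
    have hl' : l ≠ 3 := fun h => hBnc fun {x y} hx hy => by
      subst h
      have hLB' : L = B := Subgroup.eq_of_le_of_card_ge hLB (by rw [hl, hB27]; norm_num)
      exact hLc (hLB'.symm ▸ hx) (hLB'.symm ▸ hy)
    rw [hl] at h1 ⊢
    interval_cases l <;> first | omega | (norm_num at h1; done) | norm_num
  let cm : M → Subgroup M → Subgroup M := fun m S => S.map (MulAut.conj m).toMonoidHom
  have hcmB : ∀ m {S : Subgroup M}, S ≤ B → cm m S ≤ B := fun m S hS => by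
    rintro _ ⟨x, hx, rfl⟩
    exact hBn.conj_mem x (hS hx) m
  have hcmZ : ∀ m {S : Subgroup M}, Z ≤ S → Z ≤ cm m S := fun m S hS z hz =>
    ⟨m⁻¹ * z * m, hS (hZn.conj_mem' z hz m), by simp [mul_assoc]⟩
  have hcm9 : ∀ m (S : Subgroup M), Nat.card (cm m S) = Nat.card S := fun m S =>
    Subgroup.card_map_of_injective (MulAut.conj m).injective
  -- `Y` and `L` are not normal
  have hnormal : ∀ (S : Subgroup M), (∀ m, cm m S = S) → S.Normal := fun S h =>
    ⟨fun x hx m => (h m) ▸ (⟨x, hx, rfl⟩ : m * x * m⁻¹ ∈ cm m S)⟩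
  obtain ⟨m₁, hm₁⟩ : ∃ m, cm m L ≠ L := by
    by_contra! hcon
    haveI := hnormal L hcon
    have := d.abelian_small (hLB.trans hBK) hLc
    omega
  obtain ⟨m₂, hm₂⟩ : ∃ m, cm m Y ≠ Y := by
    by_contra! hcon
    haveI := hnormal Y hcon
    have := d.abelian_small (hYB.trans hBK) fun {x y} hx hy => hYc hx hy
    omega
  -- every non-trivial element of a conjugate of `Y` has its centraliser in `M`, not so for `E`
  have hYgood : ∀ m, ∀ x ∈ cm m Y, x ≠ 1 → Subgroup.centralizer ({(x : G)} : Set G) ≤ M := by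
    rintro m _ ⟨y, hy, rfl⟩ h1
    exact d.cent_conj_le (hgood y hy fun h => h1 (by rw [h, map_one])) m
  have hcw : Commute c w := Subgroup.mem_centralizer_singleton_iff.1 hc.2
  have hcK := hBK (hEB hc)
  have hbadc : ∀ m : M, ¬ Subgroup.centralizer ({((m * c * m⁻¹ : M) : G)} : Set G) ≤ M := fun m =>
    hbad (d.outer_conj_mem hw hwo m).1 (d.outer_conj_mem hw hwo m).2 (‹K.Normal›.conj_mem c hcK m) (d.commute_conj hcw m)
  have hLne : ∀ m m', cm m L ≠ cm m' Y := fun m m' h => by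
    have hx : m * c * m⁻¹ ∈ cm m' Y := h ▸ ⟨c, Subgroup.mem_sup_left hc, rfl⟩
    exact hbadc m (hYgood m' _ hx fun h => hc1 (conj_eq_one_iff.1 h))
  have hone : ∀ S : Subgroup M, cm 1 S = S := fun S => by
    simp only [cm, map_one]
    exact Subgroup.map_id S
  have hcmcm : ∀ (a b : M) (S : Subgroup M), cm a (cm b S) = cm (a * b) S := fun a b S => by
    simp only [cm, Subgroup.map_map, map_mul]
    rfl
  have hwY : cm w Y = Y := Subgroup.eq_of_le_of_card_ge (by
    rintro _ ⟨y, hy, rfl⟩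
    show w * y * w⁻¹ ∈ Y
    rw [hy.2]
    exact Y.inv_mem hy) (hcm9 w Y).ge
  have hY'ne : cm w (cm m₂ Y) ≠ Y := fun h => hm₂ (by
    have h2 := congrArg (cm w) h
    rwa [hcmcm w w, hww, hone, hwY] at h2)
  have hY'' : cm w (cm m₂ Y) ≠ cm m₂ Y := fun h => hm₂ (by
    refine Subgroup.eq_of_le_of_card_ge (fun x hx => ?_) (hcm9 m₂ Y).ge
    have hxB : x ∈ B := hcmB m₂ hYB hx
    have hwx : w * x * w⁻¹ ∈ cm m₂ Y := h ▸ ⟨x, hx, rfl⟩
    have hcx : Commute x (w * x * w⁻¹) := by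
      obtain ⟨a, ha, rfl⟩ := hx
      obtain ⟨b, hb, hb'⟩ := hwx
      rw [← hb']
      exact (hYc ha hb).map (MulAut.conj m₂).toMonoidHom
    set p := x * (w * x * w⁻¹)
    have hpw : w * p * w⁻¹ = p := by
      rw [← conj_mul, conj_conj_self hww]
      exact hcx.eq.symm
    have hp1 : p = 1 := by
      by_contra hp1
      exact hbad hw hwo (hBK (B.mul_mem hxB (hBn.conj_mem x hxB w))) (mul_inv_eq_iff_eq_mul.1 hpw).symm
        (hYgood m₂ p ((cm m₂ Y).mul_mem hx hwx) hp1)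
    exact ⟨hxB, eq_inv_of_mul_eq_one_right hp1⟩)
  let S : Fin 5 → Subgroup M := ![L, cm m₁ L, Y, cm m₂ Y, cm w (cm m₂ Y)]
  refine five_subgroups_false hZ3 hB27 S (fun i => ?_) (fun i => ?_) (fun i => ?_) fun i j hij => ?_
  · fin_cases i
    exacts [hL, (hcm9 _ _).trans hL, hY, (hcm9 _ _).trans hY, ((hcm9 _ _).trans (hcm9 _ _)).trans hY]
  · fin_cases i
    exacts [le_sup_right, hcmZ _ le_sup_right, hZY, hcmZ _ hZY, hcmZ _ (hcmZ _ hZY)]
  · fin_cases i
    exacts [hLB, hcmB _ hLB, hYB, hcmB _ hYB, hcmB _ (hcmB _ hYB)]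
  · have h01 : L ≠ cm m₁ L := hm₁.symm
    have h02 : L ≠ Y := by simpa [hone] using hLne 1 1
    have h03 : L ≠ cm m₂ Y := by simpa [hone] using hLne 1 m₂
    have h04 : L ≠ cm w (cm m₂ Y) := by rw [hcmcm]; simpa [hone] using hLne 1 (w * m₂)
    have h12 : cm m₁ L ≠ Y := by simpa [hone] using hLne m₁ 1
    have h13 : cm m₁ L ≠ cm m₂ Y := hLne m₁ m₂
    have h14 : cm m₁ L ≠ cm w (cm m₂ Y) := by rw [hcmcm]; exact hLne m₁ (w * m₂)
    fin_cases i <;> fin_cases j <;> first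
      | exact absurd rfl hij
      | assumption
      | exact hm₂.symm
      | exact hm₂
      | exact hY'ne.symm
      | exact hY'ne
      | exact hY''.symm
      | exact hY''
      | exact h01.symm
      | exact h02.symm
      | exact h03.symm
      | exact h04.symm
      | exact h12.symm
      | exact h13.symm
      | exact h14.symm

end FourData

end CfsgLib.GW
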