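import Cfsg.Agent.Lib.GW.Reduction
import Cfsg.Agent.Lib.AutPSL.Coset

/-!
# Perfect groups with dihedral Sylow 2-subgroups modulo their odd core
-/

set_option autoImplicit false
set_option linter.style.haveILetI false
set_option linter.unusedSectionVars false

namespace CfsgLib.GW

open CfsgLib.Invol
open scoped commutatorElement

universe u

/-- conjugation on a normal subgroup, transported along an isomorphism -/
noncomputable def conjVia {X T : Type*} [Group X] [Group T] (M : Subgroup X) [M.Normal] (e : M ≃* T) :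
    X →* MulAut T :=
  (MulAut.congr e).toMonoidHom.comp MulAut.conjNormal

theorem conjVia_apply {X T : Type*} [Group X] [Group T] (M : Subgroup X) [M.Normal] (e : M ≃* T) (x : X) (t : T) :
    conjVia M e x t = e (MulAut.conjNormal x (e.symm t)) := rfl

theorem conjVia_mem {X T : Type*} [Group X] [Group T] (M : Subgroup X) [M.Normal] (e : M ≃* T) (m : M) :
    conjVia M e (m : X) = MulAut.conj (e m) := by
  refine MulEquiv.ext fun t => ?_
  rw [conjVia_apply, MulAut.conj_apply]
  have h : (MulAut.conjNormal (m : X) (e.symm t) : M) = m * e.symm t * m⁻¹ := Subtype.ext (by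
    rw [MulAut.conjNormal_apply]; rfl)
  rw [h, map_mul, map_mul, map_inv, MulEquiv.apply_symm_apply]

theorem conjVia_injective {X T : Type*} [Group X] [Group T] (M : Subgroup X) [M.Normal] (e : M ≃* T)
    (hC : Subgroup.centralizer (M : Set X) = ⊥) : Function.Injective (conjVia M e) := by
  refine (injective_iff_map_eq_one _).2 fun x hx => ?_
  have h : x ∈ Subgroup.centralizer (M : Set X) := by
    refine Subgroup.mem_centralizer_iff.2 fun v hv => ?_
    have h1 := DFunLike.congr_fun hx (e ⟨v, hv⟩)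
    rw [conjVia_apply, MulEquiv.symm_apply_apply, MulAut.one_apply, EmbeddingLike.apply_eq_iff_eq] at h1
    have h2 : x * v * x⁻¹ = v := by
      have := congrArg Subtype.val h1
      rwa [MulAut.conjNormal_apply] at this
    exact (mul_inv_eq_iff_eq_mul.1 h2).symm
  rwa [hC, Subgroup.mem_bot] at h

/-- if all the induced automorphisms are inner then the subgroup is everything -/
theorem eq_top_of_inner {X T : Type*} [Group X] [Group T] (M : Subgroup X) [M.Normal] (e : M ≃* T)
    (hC : Subgroup.centralizer (M : Set X) = ⊥) (h : ∀ x, ∃ t : T, conjVia M e x = MulAut.conj t) : M = ⊤ := by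
  refine eq_top_iff.2 fun x _ => ?_
  obtain ⟨t, ht⟩ := h x
  have h1 : conjVia M e x = conjVia M e ((e.symm t : M) : X) := by
    rw [conjVia_mem, MulEquiv.apply_symm_apply, ht]
  exact conjVia_injective M e hC h1 ▸ (e.symm t).2

/-- the automorphism group of `PSL(2, F)` is solvable over the inner automorphisms -/
theorem conj_of_perfect_psl {X : Type*} [Group X] [Group.IsPerfect X] {F : Type*} [Field F] [Finite F]
    (f : X →* MulAut (Matrix.ProjectiveSpecialLinearGroup (Fin 2) F)) (x : X) :
    ∃ t, f x = MulAut.conj t := by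
  classical
  have step1 : commutator X ≤ (CfsgLib.AutPSL.indHom (n := 2) (F := F)).range.comap f := by
    refine Subgroup.commutator_le.2 fun a _ b _ => ?_
    obtain ⟨g, σ, hg | ⟨h3, -⟩⟩ := CfsgLib.AutPSL.aut_classify le_rfl (f a)
    swap
    · omega
    obtain ⟨h, τ, hh | ⟨h3, -⟩⟩ := CfsgLib.AutPSL.aut_classify le_rfl (f b)
    swap
    · omega
    obtain ⟨g', hg'⟩ := CfsgLib.AutPSL.ind_inv g σ
    obtain ⟨h', hh'⟩ := CfsgLib.AutPSL.ind_inv h τ
    rw [Subgroup.mem_comap, commutatorElement_def, map_mul, map_mul, map_mul, map_inv, map_inv, hg, hh, hg', hh',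
      CfsgLib.AutPSL.ind_mul, CfsgLib.AutPSL.ind_mul, CfsgLib.AutPSL.ind_mul]
    rw [show σ * τ * σ⁻¹ * τ⁻¹ = (1 : RingAut F) by
      rw [CfsgLib.AutPSL.ringAut_comm σ τ]; group]
    exact ⟨_, rfl⟩
  rw [Group.IsPerfect.commutator_eq_top] at step1
  have step2 : commutator X ≤ (Cfsg.Inn (Matrix.ProjectiveSpecialLinearGroup (Fin 2) F)).comap f := by
    refine Subgroup.commutator_le.2 fun a _ b _ => ?_
    obtain ⟨g, hg⟩ := step1 (Subgroup.mem_top a)
    obtain ⟨h, hh⟩ := step1 (Subgroup.mem_top b)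
    rw [Subgroup.mem_comap, map_commutatorElement, ← hg, ← hh, ← map_commutatorElement, CfsgLib.AutPSL.mem_inn_iff]
    have hdet : (⁅g, h⁆).1.det = 1 := by
      show Matrix.GeneralLinearGroup.det ⁅g, h⁆ = ((1 : Fˣ) : F)
      rw [map_commutatorElement, commutatorElement_eq_one_iff_mul_comm.2 (mul_comm _ _)]
    exact ⟨⟨_, hdet⟩, congrArg (fun y => CfsgLib.AutPSL.ind y 1) (Units.ext rfl)⟩
  rw [Group.IsPerfect.commutator_eq_top] at step2
  obtain ⟨t, ht⟩ := step2 (Subgroup.mem_top x)
  exact ⟨t, ht.symm⟩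

/-- automorphisms of the alternating group of degree seven coming from a perfect group are inner -/
theorem conj_of_perfect_alt {X : Type*} [Group X] [Group.IsPerfect X]
    (f : X →* MulAut (alternatingGroup (Fin 7))) (x : X) : ∃ t, f x = MulAut.conj t := by
  classical
  obtain ⟨hi, hs⟩ := CfsgLib.Perm.Groups.AltAut.conjNormal_bijective (Ω := Fin 7) (by decide) (by decide)
  let e := MulEquiv.ofBijective _ ⟨hi, hs⟩
  let χ : X →* ℤˣ := Equiv.Perm.sign.comp (e.symm.toMonoidHom.comp f)
  have hker : commutator X ≤ χ.ker := Abelianization.commutator_subset_ker χ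
  rw [Group.IsPerfect.commutator_eq_top] at hker
  have hx : χ x = 1 := hker (Subgroup.mem_top x)
  refine ⟨⟨e.symm (f x), Equiv.Perm.mem_alternatingGroup.2 hx⟩, ?_⟩
  conv_lhs => rw [← e.apply_symm_apply (f x)]
  refine MulEquiv.ext fun t => Subtype.ext ?_
  show ((MulAut.conjNormal (e.symm (f x)) : MulAut (alternatingGroup (Fin 7))) t : Equiv.Perm (Fin 7)) = _
  rw [MulAut.conjNormal_apply]
  rfl

/-- a normal subgroup of known type in a perfect group is everything -/
theorem eq_top_of_perfect {X : Type*} [Group X] [Group.IsPerfect X] (M : Subgroup X) [M.Normal]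
    (hC : Subgroup.centralizer (M : Set X) = ⊥) (hM : IsPSLTwoOrA7 M) : M = ⊤ := by
  rcases hM with ⟨F, i, j, -, -, ⟨e⟩⟩ | ⟨⟨e⟩⟩
  · exact eq_top_of_inner M e hC (conj_of_perfect_psl (conjVia M e))
  · exact eq_top_of_inner M e hC (conj_of_perfect_alt (conjVia M e))

theorem dihTwo_quotient {X : Type u} [Group X] [Finite X] (hX : DihTwo X) (N : Subgroup X) [N.Normal]
    (hN : ¬ 2 ∣ Nat.card N) : DihTwo (X ⧸ N) := by
  obtain ⟨S⟩ : Nonempty (Sylow 2 X) := inferInstance
  obtain ⟨n, hn, ⟨e⟩⟩ := hX S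
  obtain ⟨T, ⟨f⟩⟩ := exists_sylow_quotient_equiv N ((Nat.prime_two.coprime_iff_not_dvd.2 hN).symm) S
  exact dihTwo_of_sylow T hn (f.symm.trans e)

/-- **the structure modulo the odd core** -/
theorem structure_quotient {X : Type u} [Group X] [Finite X] (hX : DihTwo X) (hgw : GWBelow.{u} (Nat.card X)) :
    IsPGroup 2 (X ⧸ Cfsg.oddCore X) ∨ IsFourType (X ⧸ Cfsg.oddCore X) ∨
      ∃ M : Subgroup (X ⧸ Cfsg.oddCore X), M.Normal ∧ IsSimpleGroup M ∧ ¬ IsMulCommutative M ∧ DihTwo M ∧
        Subgroup.centralizer (M : Set (X ⧸ Cfsg.oddCore X)) = ⊥ ∧ IsPSLTwoOrA7 M := by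
  haveI : (Cfsg.oddCore X).Normal := inferInstance
  exact structure_core (dihTwo_quotient hX _ (CfsgLib.Coprime.pPrimeCore_not_dvd Nat.prime_two))
    (CfsgLib.Coprime.pPrimeCore_quotient_eq_bot Nat.prime_two)
    (hgw.mono (Nat.card_le_card_of_surjective _ (QuotientGroup.mk'_surjective _)))

/-- **perfect groups with dihedral Sylow 2-subgroups**, given the simple case -/
theorem perfect_quotient {X : Type u} [Group X] [Finite X] [Group.IsPerfect X] (hX : DihTwo X)
    (hgw : GWBelow.{u} (Nat.card X)) : IsPSLTwoOrA7 (X ⧸ Cfsg.oddCore X) := by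
  classical
  haveI : Fact (Nat.Prime 2) := ⟨Nat.prime_two⟩
  set Q := X ⧸ Cfsg.oddCore X
  have hQ : DihTwo Q := dihTwo_quotient hX _ (CfsgLib.Coprime.pPrimeCore_not_dvd Nat.prime_two)
  have h4 : 4 ∣ Nat.card Q := by
    obtain ⟨S⟩ : Nonempty (Sylow 2 Q) := inferInstance
    obtain ⟨n, hn, ⟨e⟩⟩ := hQ S
    obtain ⟨k, hk⟩ := S.2.exists_card_eq
    have h := Subgroup.card_subgroup_dvd_card (S : Subgroup Q)
    rw [hk] at h
    refine (Dvd.dvd.trans ?_ h)
    have hk' : 2 * n = 2 ^ k := by rw [← hk, Nat.card_congr e.toEquiv, DihedralGroup.nat_card]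
    calc 4 = 2 ^ 2 := by norm_num
      _ ∣ 2 ^ k := pow_dvd_pow 2 (by
          by_contra hlt
          interval_cases k <;> omega)
  haveI : Nontrivial Q := by
    refine Finite.one_lt_card_iff_nontrivial.1 ?_
    have := Nat.le_of_dvd Nat.card_pos h4
    omega
  rcases structure_quotient hX hgw with h | ⟨V, hVn, hV, hVC, hcard⟩ | ⟨M, hMn, -, -, -, hC, hM⟩
  · exact absurd h.isNilpotent (Group.IsPerfect.not_isNilpotent Q)
  · haveI := hVn
    have h1 := V.card_mul_index
    rw [hV.card_four] at h1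
    haveI : Nontrivial (Q ⧸ V) := by
      refine Finite.one_lt_card_iff_nontrivial.1 ?_
      rw [← Subgroup.index_eq_card]
      omega
    refine absurd ?_ (Group.IsPerfect.not_isSolvable (Q ⧸ V))
    haveI : IsZGroup (Q ⧸ V) := IsZGroup.of_squarefree (by
      rw [← Subgroup.index_eq_card]
      rcases hcard with hc | hc <;> rw [hc] at h1
      · rw [show V.index = 3 by omega]; exact Nat.prime_three.squarefree
      · rw [show V.index = 6 by omega, show (6 : ℕ) = 2 * 3 from rfl, Nat.squarefree_mul (by norm_num)]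
        exact ⟨Nat.prime_two.squarefree, Nat.prime_three.squarefree⟩)
    infer_instance
  · haveI := hMn
    have hMtop := eq_top_of_perfect M hC hM
    exact hM.congr ((Subgroup.topEquiv (G := Q)).symm.trans (MulEquiv.subgroupCongr hMtop.symm))

end CfsgLib.GW
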