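import Cfsg.Agent.Lib.GW.Dih
import Cfsg.Agent.Lib.GW.Perfect
import Cfsg.Agent.S0107
import Cfsg.Agent.S0118
import Cfsg.Agent.Lib.Invol.KleinSylow

/-!
# The setting of the Gorenstein-Walter induction

`Min G`: a simple group with dihedral Sylow 2-subgroups such that all smaller ones are known.
-/

set_option autoImplicit false
set_option linter.unusedSectionVars false

open Subgroup DihedralGroup
open scoped commutatorElement

namespace CfsgLib.GW

universe u

/-- The types of `H/O(H)` other than 2-groups: `A4`, `S4`, or a self-centralising normal subgroup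
that is `PSL(2, q)` or `A7`. -/
def TypeC (X : Type u) [Group X] [Finite X] : Prop :=
  IsFourType X ∨ ∃ M : Subgroup X, M.Normal ∧ IsSimpleGroup M ∧ ¬ IsMulCommutative M ∧ DihTwo M ∧
    centralizer (M : Set X) = ⊥ ∧ IsPSLTwoOrA7 M

variable {G : Type u} [Group G] [Finite G]

/-- `H` is an extension of a group of odd order by a 2-group. -/
def IsTypeTwo (H : Subgroup G) : Prop := ∃ k : ℕ, (Cfsg.oddCore H).index = 2 ^ k

/-- `H` modulo its odd core is of type c. -/
def IsTypeC (H : Subgroup G) : Prop := TypeC (H ⧸ Cfsg.oddCore H)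

theorem odd_oddCore (X : Type u) [Group X] [Finite X] : Odd (Nat.card (Cfsg.oddCore X)) :=
  Nat.coprime_two_right.1 (Coprime.pPrimeCore_coprime Nat.prime_two)

theorem le_oddCore {N : Subgroup G} [N.Normal] (h : Odd (Nat.card N)) : N ≤ Cfsg.oddCore G :=
  Coprime.le_pPrimeCore (Nat.coprime_two_right.2 h)

theorem isPGroup_of_normalPComplement (hO : Cfsg.oddCore G = ⊥)
    (h : Cfsg.HasNormalPComplement 2 G) : IsPGroup 2 G := by
  haveI : Fact (Nat.Prime 2) := ⟨Nat.prime_two⟩
  obtain ⟨P, N, hN, hc⟩ := h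
  have hodd : Odd (Nat.card N) := by
    rw [← hc.index_eq_card, ← Nat.not_even_iff_odd, even_iff_two_dvd]
    exact P.not_dvd_index
  have hbot : N = ⊥ := le_bot_iff.1 (hO ▸ le_oddCore hodd)
  have hP : (P : Subgroup G) = ⊤ := isComplement'_bot_left.1 (hbot ▸ hc)
  intro x
  obtain ⟨k, hk⟩ := P.2 ⟨x, hP ▸ mem_top x⟩
  exact ⟨k, congrArg Subtype.val hk⟩

theorem isPGroup_of_cyclic_sylow (hO : Cfsg.oddCore G = ⊥) (S : Sylow 2 G)
    (hc : IsCyclic (S : Subgroup G)) : IsPGroup 2 G := by
  haveI : Fact (Nat.Prime 2) := ⟨Nat.prime_two⟩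
  by_cases h2 : 2 ∣ Nat.card G
  · exact isPGroup_of_normalPComplement hO (CfsgLib.Fusion.hasNormalPComplement_of_normalizer_le_centralizer S
      (IsCyclic.normalizer_le_centralizer ((Nat.minFac_eq_two_iff _).2 h2) hc))
  · have h : (⊤ : Subgroup G) ≤ Cfsg.oddCore G := le_oddCore (by
      rw [card_top, ← Nat.not_even_iff_odd, even_iff_two_dvd]; exact h2)
    rw [hO] at h
    exact fun x => ⟨0, by rw [pow_zero, pow_one]; exact mem_bot.1 (h (mem_top x))⟩

/-- The trichotomy modulo the odd core, given the theorem for the simple sections. -/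
theorem typeTwo_or_typeC {X : Type u} [Group X] [Finite X] (hX : DihLE X)
    (hgw : GWBelow.{u} (Nat.card X)) :
    (∃ k : ℕ, (Cfsg.oddCore X).index = 2 ^ k) ∨ TypeC (X ⧸ Cfsg.oddCore X) := by
  haveI : Fact (Nat.Prime 2) := ⟨Nat.prime_two⟩
  rcases hX.cyclic_or_dihTwo with ⟨S, hc⟩ | hD
  · have hT := isPGroup_of_cyclic_sylow (G := X ⧸ Cfsg.oddCore X)
      (Coprime.pPrimeCore_quotient_eq_bot Nat.prime_two)
      (Sylow.mapSurjective (QuotientGroup.mk'_surjective (Cfsg.oddCore X)) S)
      (isCyclic_of_surjective ((QuotientGroup.mk' (Cfsg.oddCore X)).subgroupMap S)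
        ((QuotientGroup.mk' (Cfsg.oddCore X)).subgroupMap_surjective _))
    obtain ⟨k, hk⟩ := hT.exists_card_eq
    exact Or.inl ⟨k, by rw [index_eq_card, hk]⟩
  · rcases structure_quotient hD hgw with h | h
    · obtain ⟨k, hk⟩ := h.exists_card_eq
      exact Or.inl ⟨k, by rw [index_eq_card, hk]⟩
    · exact Or.inr h

/-- A simple group with dihedral Sylow 2-subgroups for which all smaller ones are known. -/
structure Min (G : Type u) [Group G] [Finite G] : Prop where
  simple : IsSimpleGroup G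
  dih : DihTwo G
  ih : ∀ (H : Type u) [Group H] [Finite H], Nat.card H < Nat.card G → IsSimpleGroup H → DihTwo H →
    IsPSLTwoOrA7 H

/-- Reduction of the theorem to the minimal situation. -/
theorem gwBelow_of_min (main : ∀ (G : Type u) [Group G] [Finite G], Min G → IsPSLTwoOrA7 G) :
    ∀ N : ℕ, GWBelow.{u} N := by
  intro N
  induction N using Nat.strong_induction_on with
  | _ N IH =>
    intro L _ _ hle hs hd
    exact main L ⟨hs, hd, fun H _ _ hlt h1 h2 => IH (Nat.card H) (hlt.trans_le hle) H le_rfl h1 h2⟩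

namespace Min

variable (hG : Min G)
include hG

theorem dihLE : DihLE G := DihTwo.dihLE hG.dih

theorem not_solvable : ¬ Group.IsSolvable G := by
  intro hs
  haveI := hG.simple
  haveI : Fact (Nat.Prime 2) := ⟨Nat.prime_two⟩
  have hlt : commutator G < ⊤ := Group.IsSolvable.commutator_lt_top_of_nontrivial G
  have hbot : commutator G = ⊥ := (hG.simple.eq_bot_or_eq_top_of_normal _ inferInstance).resolve_right hlt.ne
  have hab : ∀ a b : G, a * b = b * a := fun a b => by
    have : ⁅a, b⁆ ∈ commutator G := commutator_mem_commutator (mem_top a) (mem_top b)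
    rw [hbot, mem_bot] at this
    exact commutatorElement_eq_one_iff_mul_comm.1 this
  letI : CommGroup G := { (inferInstance : Group G) with mul_comm := hab }
  have hp := IsSimpleGroup.prime_card (α := G)
  obtain ⟨S⟩ : Nonempty (Sylow 2 G) := inferInstance
  obtain ⟨n, hn, ⟨e⟩⟩ := hG.dih S
  have hd := card_subgroup_dvd_card (S : Subgroup G)
  rw [Nat.card_congr e.toEquiv, DihedralGroup.nat_card] at hd
  rcases (Nat.dvd_prime hp).1 hd with h | h
  · omega
  · rw [← h] at hp
    exact Nat.not_prime_mul (by omega) (by omega) hp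

theorem eq_bot_or_top {N : Subgroup G} (hN : N.Normal) : N = ⊥ ∨ N = ⊤ :=
  hG.simple.eq_bot_or_eq_top_of_normal N hN

theorem nontrivial : Nontrivial G := by
  haveI := hG.simple
  infer_instance

theorem isPerfect : Group.IsPerfect G := by
  rw [Group.isPerfect_def]
  refine (hG.eq_bot_or_top inferInstance).resolve_left fun h => hG.not_solvable ?_
  exact (Group.isSolvable_def G).2 ⟨1, by rw [derivedSeries_one]; exact h⟩

theorem pResidual_eq_top : Cfsg.pResidual 2 G = ⊤ := by
  haveI : Fact (Nat.Prime 2) := ⟨Nat.prime_two⟩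
  haveI := hG.isPerfect
  exact Coprime.pResidual_eq_top_of_isPerfect

theorem oddCore_eq_bot : Cfsg.oddCore G = ⊥ := by
  refine (hG.eq_bot_or_top inferInstance).resolve_right fun h => hG.not_solvable ?_
  have := odd_oddCore G
  rw [h, card_top] at this
  exact CfsgLib.FT.isSolvable_of_odd G this

theorem center_eq_bot : center G = ⊥ := by
  refine (hG.eq_bot_or_top inferInstance).resolve_right fun h => hG.not_solvable ?_
  exact Group.isSolvable_of_comm fun a b => mem_center_iff.1 (h ▸ mem_top b) a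

/-- Subgroups of odd order are soluble. -/
theorem isSolvable_of_odd {H : Subgroup G} (h : Odd (Nat.card H)) : Group.IsSolvable H :=
  CfsgLib.FT.isSolvable_of_odd H h

/-- One class of involutions. -/
theorem isConj_invol {s t : G} (hs : orderOf s = 2) (ht : orderOf t = 2) :
    ∃ g : G, g * s * g⁻¹ = t := by
  haveI : Fact (Nat.Prime 2) := ⟨Nat.prime_two⟩
  obtain ⟨T⟩ : Nonempty (Sylow 2 G) := inferInstance
  obtain ⟨n, hn, ⟨e⟩⟩ := hG.dih T
  obtain ⟨j, hj⟩ := T.2.exists_card_eq
  rw [Nat.card_congr e.toEquiv, DihedralGroup.nat_card] at hj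
  obtain ⟨k, -, rfl⟩ := (Nat.dvd_prime_pow Nat.prime_two).1 ⟨2, show 2 ^ j = n * 2 by omega⟩
  have hk : 1 ≤ k := Nat.one_le_iff_ne_zero.2 fun h0 => by subst h0; simp at hn
  rcases hk.eq_or_lt with rfl | hk2
  · haveI : NeZero (2 : ℕ) := ⟨two_ne_zero⟩
    have hK : IsKleinFour (T : Subgroup G) := by
      refine ⟨by rw [Nat.card_congr e.toEquiv, DihedralGroup.nat_card]; rfl, ?_⟩
      rw [Monoid.exponent_eq_of_mulEquiv e, DihedralGroup.exponent]
      rfl
    rcases Invol.klein_dichotomy T hK with hfix | hall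
    · exfalso
      have h2 := isPGroup_of_normalPComplement hG.oddCore_eq_bot
        (CfsgLib.Fusion.hasNormalPComplement_of_normalizer_le_centralizer T fun g hg =>
          mem_centralizer_iff.2 fun u hu => (mul_inv_eq_iff_eq_mul.1 (hfix u hu g hg)).symm)
      haveI := h2.isNilpotent
      exact hG.not_solvable inferInstance
    · obtain ⟨g, hg⟩ := Invol.exists_conj_le_sylow (IsPGroup.of_card (n := 1)
        (show Nat.card (zpowers s) = 2 ^ 1 by rw [Nat.card_zpowers, hs]; rfl)) T
      obtain ⟨g', hg'⟩ := Invol.exists_conj_le_sylow (IsPGroup.of_card (n := 1)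
        (show Nat.card (zpowers t) = 2 ^ 1 by rw [Nat.card_zpowers, ht]; rfl)) T
      obtain ⟨c, hc⟩ := isConj_iff.1 (hall _ (hg s (mem_zpowers s)) _ (hg' t (mem_zpowers t))
        (fun h => Invol.invol_ne_one hs (conj_eq_one_iff.1 h))
        (fun h => Invol.invol_ne_one ht (conj_eq_one_iff.1 h)))
      refine ⟨g'⁻¹ * c * g, ?_⟩
      calc g'⁻¹ * c * g * s * (g'⁻¹ * c * g)⁻¹ = g'⁻¹ * (c * (g * s * g⁻¹) * c⁻¹) * g' := by group
        _ = t := by rw [hc]; group
  · exact Cfsg.Agent.S0107.result T k hk2 ⟨e⟩ hG.pResidual_eq_top s t hs ht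

/-- Every proper subgroup is of type 2 or of type c. -/
theorem proper_cases {H : Subgroup G} (hH : H ≠ ⊤) : IsTypeTwo H ∨ IsTypeC H :=
  typeTwo_or_typeC (hG.dihLE.subgroup H) fun L _ _ h4 h1 h2 => hG.ih L
    (h4.trans_lt (lt_of_le_of_ne (card_le_card_group H) fun h => hH (eq_top_of_card_eq H h))) h1 h2

theorem centralizer_ne_top {t : G} (ht : orderOf t = 2) : centralizer ({t} : Set G) ≠ ⊤ := by
  intro h
  have hmem : t ∈ center G :=
    mem_center_iff.2 fun g => mem_centralizer_singleton_iff.1 (h ▸ mem_top g)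
  rw [hG.center_eq_bot, mem_bot] at hmem
  exact Invol.invol_ne_one ht hmem

end Min

/-- `O(C(t))` as a subgroup of `G`. -/
def Ocore (t : G) : Subgroup G :=
  (Cfsg.oddCore (centralizer ({t} : Set G))).map (centralizer ({t} : Set G)).subtype

theorem ocore_le (t : G) : Ocore t ≤ centralizer ({t} : Set G) := map_subtype_le _

theorem odd_ocore (t : G) : Odd (Nat.card (Ocore t)) := by
  rw [Ocore, ← Nat.card_congr (equivMapOfInjective _ _ (subtype_injective _)).toEquiv]
  exact odd_oddCore _

theorem centralizer_le_normalizer_ocore (t : G) :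
    centralizer ({t} : Set G) ≤ normalizer (Ocore t : Set G) := by
  intro g hg
  refine mem_normalizer_iff.2 fun x => ⟨?_, ?_⟩
  · rintro ⟨y, hy, rfl⟩
    exact ⟨⟨g, hg⟩ * y * (⟨g, hg⟩ : centralizer ({t} : Set G))⁻¹,
      Normal.conj_mem inferInstance y hy _, rfl⟩
  · rintro ⟨y, hy, e⟩
    refine ⟨(⟨g, hg⟩ : centralizer ({t} : Set G))⁻¹ * y * ⟨g, hg⟩,
      Normal.conj_mem' inferInstance y hy _, ?_⟩
    calc ((centralizer ({t} : Set G)).subtype ((⟨g, hg⟩ : centralizer ({t} : Set G))⁻¹ * y * ⟨g, hg⟩))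
        = g⁻¹ * (centralizer ({t} : Set G)).subtype y * g := rfl
      _ = x := by rw [e]; group

/-- An odd subgroup normalised by `C(t)` and inside it lies in `O(C(t))`. -/
theorem le_ocore {t : G} {A : Subgroup G} (hA : A ≤ centralizer ({t} : Set G))
    (hn : centralizer ({t} : Set G) ≤ normalizer (A : Set G)) (hodd : Odd (Nat.card A)) :
    A ≤ Ocore t := by
  haveI : (A.subgroupOf (centralizer ({t} : Set G))).Normal :=
    (normal_subgroupOf_iff_le_normalizer hA).2 hn
  refine le_trans (map_subgroupOf_eq_of_le hA).ge (map_mono (le_oddCore ?_))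
  rwa [Nat.card_congr (subgroupOfEquivOfLe hA).toEquiv]

/-- `O(C(gtg⁻¹))` is the conjugate of `O(C(t))`. -/
theorem map_conj_centralizer (g t : G) :
    (centralizer ({t} : Set G)).map (MulAut.conj g).toMonoidHom =
      centralizer ({g * t * g⁻¹} : Set G) := by
  ext x
  simp only [mem_map, mem_centralizer_singleton_iff, MulEquiv.coe_toMonoidHom, MulAut.conj_apply]
  constructor
  · rintro ⟨y, hy, rfl⟩
    calc g * y * g⁻¹ * (g * t * g⁻¹) = g * (y * t) * g⁻¹ := by group
      _ = g * (t * y) * g⁻¹ := by rw [hy]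
      _ = g * t * g⁻¹ * (g * y * g⁻¹) := by group
  · intro hx
    refine ⟨g⁻¹ * x * g, ?_, by group⟩
    calc g⁻¹ * x * g * t = g⁻¹ * (x * (g * t * g⁻¹)) * g := by group
      _ = g⁻¹ * (g * t * g⁻¹ * x) * g := by rw [hx]
      _ = t * (g⁻¹ * x * g) := by group

theorem ocore_conj (g t : G) :
    (Ocore t).map (MulAut.conj g).toMonoidHom = Ocore (g * t * g⁻¹) := by
  have key : ∀ (g t : G), (Ocore t).map (MulAut.conj g).toMonoidHom ≤ Ocore (g * t * g⁻¹) := by
    intro g t
    refine le_ocore ?_ ?_ ?_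
    · rw [← map_conj_centralizer]
      exact map_mono (ocore_le t)
    · rw [← map_conj_centralizer]
      exact (map_mono (centralizer_le_normalizer_ocore t)).trans (le_normalizer_map _)
    · rw [← Nat.card_congr (equivMapOfInjective _ _ (MulAut.conj g).injective).toEquiv]
      exact odd_ocore t
  refine le_antisymm (key g t) fun x hx => ⟨g⁻¹ * x * g, ?_, by simp [mul_assoc]⟩
  have := key g⁻¹ (g * t * g⁻¹) ⟨x, hx, rfl⟩
  simpa [mul_assoc] using this

namespace Min

variable (hG : Min G)
include hG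

theorem ocore_index {t : G} (ht : orderOf t = 2) :
    ∃ k : ℕ, (Ocore t).relIndex (centralizer ({t} : Set G)) = 2 ^ k := by
  obtain ⟨S⟩ : Nonempty (Sylow 2 G) := inferInstance
  obtain ⟨n, hn, hS⟩ := hG.dih S
  obtain ⟨N, hN, hodd, j, hj⟩ := Cfsg.Agent.S0514.result S n hn hS t ht
  haveI := hN
  refine ⟨j, ?_⟩
  rw [relIndex, Ocore, subgroupOf, comap_map_eq_self_of_injective (subtype_injective _),
    show Cfsg.oddCore (centralizer ({t} : Set G)) = N from ?_, hj]
  refine le_antisymm (fun x hx => ?_) (le_oddCore hodd)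
  -- the image of an odd order element in a 2-group is trivial
  rw [← QuotientGroup.eq_one_iff (N := N), ← orderOf_eq_one_iff]
  refine Nat.eq_one_of_dvd_coprimes (Nat.Coprime.pow_left j (Nat.coprime_two_left.2
    (odd_oddCore (centralizer ({t} : Set G))))) ?_ ?_
  · exact (_root_.orderOf_dvd_natCard _).trans (by rw [← index_eq_card, hj])
  · exact (orderOf_map_dvd (QuotientGroup.mk' N) x).trans (Subgroup.orderOf_dvd_natCard _ hx)

/-- `C(t) = O(C(t)) S` for every Sylow 2-subgroup `S` of `C(t)`. -/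
theorem ocore_sup_sylow {t : G} (ht : orderOf t = 2) (S : Sylow 2 (centralizer ({t} : Set G))) :
    Ocore t ⊔ (S : Subgroup (centralizer ({t} : Set G))).map (centralizer ({t} : Set G)).subtype =
      centralizer ({t} : Set G) := by
  haveI : Fact (Nat.Prime 2) := ⟨Nat.prime_two⟩
  obtain ⟨k, hk⟩ := hG.ocore_index ht
  rw [relIndex, Ocore, subgroupOf, comap_map_eq_self_of_injective (subtype_injective _)] at hk
  rw [Ocore, ← Subgroup.map_sup]
  have htop : Cfsg.oddCore (centralizer ({t} : Set G)) ⊔ (S : Subgroup (centralizer ({t} : Set G))) = ⊤ := by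
    refine eq_top_of_card_eq _ ?_
    have h1 : Nat.card (centralizer ({t} : Set G)) ∣ Nat.card (Cfsg.oddCore (centralizer ({t} : Set G)) ⊔ (S : Subgroup (centralizer ({t} : Set G))) : Subgroup (centralizer ({t} : Set G))) := by
      rw [← (Cfsg.oddCore (centralizer ({t} : Set G))).card_mul_index]
      refine Nat.Coprime.mul_dvd_of_dvd_of_dvd ?_ (card_dvd_of_le le_sup_left) ?_
      · rw [hk]
        exact Nat.Coprime.pow_right k (Nat.coprime_two_right.2 (odd_oddCore (centralizer ({t} : Set G))))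
      · refine Dvd.dvd.trans ?_ (card_dvd_of_le le_sup_right)
        rw [hk]
        exact S.pow_dvd_card_of_pow_dvd_card
          (hk ▸ Subgroup.index_dvd_card (Cfsg.oddCore (centralizer ({t} : Set G))))
    exact Nat.dvd_antisymm (card_subgroup_dvd_card _) h1
  rw [htop, ← MonoidHom.range_eq_map, range_subtype]

/-- The homomorphic images of 2-subgroups of `G` that have a single involution are commutative; so
`SL(2, p)` is not a section of `G`. -/
theorem not_involves_slTwo {p : ℕ} [Fact p.Prime] (hp : p ≠ 2) :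
    ¬ ∃ (H K : Subgroup G) (_ : (K.subgroupOf H).Normal),
      Nonempty ((H ⧸ K.subgroupOf H) ≃* Matrix.SpecialLinearGroup (Fin 2) (ZMod p)) := by
  rintro ⟨H, K, hK, ⟨e⟩⟩
  haveI : Fact (Nat.Prime 2) := ⟨Nat.prime_two⟩
  let φ : H →* Matrix.SpecialLinearGroup (Fin 2) (ZMod p) :=
    e.toMonoidHom.comp (QuotientGroup.mk' (K.subgroupOf H))
  have hφ : Function.Surjective φ := e.surjective.comp (QuotientGroup.mk'_surjective _)
  have hp2 : (2 : ZMod p) ≠ 0 := by
    intro h
    have h' : ((2 : ℕ) : ZMod p) = 0 := by exact_mod_cast h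
    rw [ZMod.natCast_eq_zero_iff] at h'
    exact hp ((Nat.prime_dvd_prime_iff_eq (Fact.out) Nat.prime_two).1 h')
  -- a square root of one is central
  have hone : ∀ m : Matrix.SpecialLinearGroup (Fin 2) (ZMod p), m * m = 1 →
      ∀ n : Matrix.SpecialLinearGroup (Fin 2) (ZMod p), m * n = n * m := by
    intro m hm n
    have hd : m.1 0 0 * m.1 1 1 - m.1 0 1 * m.1 1 0 = 1 := by
      rw [← Matrix.det_fin_two]; exact m.2
    have h00 := congrFun (congrFun (congrArg Subtype.val hm) 0) 0
    have h01 := congrFun (congrFun (congrArg Subtype.val hm) 0) 1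
    have h10 := congrFun (congrFun (congrArg Subtype.val hm) 1) 0
    have h11 := congrFun (congrFun (congrArg Subtype.val hm) 1) 1
    simp [Matrix.mul_apply, Fin.sum_univ_two] at h00 h01 h10 h11
    have h2s : (2 : ZMod p) * (m.1 0 0 - m.1 1 1) = 0 ∨ m.1 0 0 + m.1 1 1 = 0 := by
      by_cases h : m.1 0 0 + m.1 1 1 = 0
      · exact Or.inr h
      · left
        have : (m.1 0 0 - m.1 1 1) * (m.1 0 0 + m.1 1 1) = 0 := by linear_combination h00 - h11
        rw [(mul_eq_zero.1 this).resolve_right h, mul_zero]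
    have hsum : m.1 0 0 + m.1 1 1 ≠ 0 := by
      intro h
      have : (2 : ZMod p) = 0 := by linear_combination -h00 - hd + m.1 0 0 * h
      exact hp2 this
    have e01 : m.1 0 1 = 0 := (mul_eq_zero.1 (show (m.1 0 0 + m.1 1 1) * m.1 0 1 = 0 by
      linear_combination h01)).resolve_left hsum
    have e10 : m.1 1 0 = 0 := (mul_eq_zero.1 (show (m.1 0 0 + m.1 1 1) * m.1 1 0 = 0 by
      linear_combination h10)).resolve_left hsum
    have e11 : m.1 0 0 = m.1 1 1 := sub_eq_zero.1
      ((mul_eq_zero.1 (h2s.resolve_right hsum)).resolve_left hp2)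
    refine Matrix.SpecialLinearGroup.ext _ _ fun i j => ?_
    fin_cases i <;> fin_cases j <;>
      simp [Matrix.mul_apply, Fin.sum_univ_two, e01, e10, e11, mul_comm]
  -- images of 2-subgroups are commutative
  have hcomm : ∀ (P : Subgroup H), IsPGroup 2 P →
      ∀ x ∈ P.map φ, ∀ y ∈ P.map φ, x * y = y * x := by
    intro P hP
    obtain ⟨T, hT⟩ := hP.exists_le_sylow
    suffices h : ∀ a ∈ T, ∀ b ∈ T, φ a * φ b = φ b * φ a by
      rintro _ ⟨a, ha, rfl⟩ _ ⟨b, hb, rfl⟩
      exact h a (hT ha) b (hT hb)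
    rcases (hG.dihLE.subgroup H).sylow_cases T with hc | ⟨k, -, ⟨d⟩⟩
    · intro a ha b hb
      obtain ⟨g, hg⟩ := hc.exists_generator
      obtain ⟨i, hi⟩ := hg ⟨a, ha⟩
      obtain ⟨j, hj⟩ := hg ⟨b, hb⟩
      have hi' : (g : H) ^ i = a := congrArg Subtype.val hi
      have hj' : (g : H) ^ j = b := congrArg Subtype.val hj
      rw [← map_mul, ← map_mul, ← hi', ← hj', ← zpow_add, ← zpow_add, add_comm]
    · intro a ha b hb
      haveI : NeZero (2 ^ k) := ⟨pow_ne_zero k two_ne_zero⟩
      let ψ : DihedralGroup (2 ^ k) →* Matrix.SpecialLinearGroup (Fin 2) (ZMod p) :=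
        φ.comp ((T : Subgroup H).subtype.comp d.symm.toMonoidHom)
      have hsr : ∀ i n, ψ (sr i) * n = n * ψ (sr i) := fun i => hone _ (by
        rw [← map_mul, sr_mul_sr, sub_self, r_zero, map_one])
      have hall : ∀ x n, ψ x * n = n * ψ x := by
        rintro (i | i) n
        · rw [show r i = sr 0 * sr i by rw [sr_mul_sr, sub_zero], map_mul, mul_assoc, hsr i n,
            ← mul_assoc, hsr 0 n, mul_assoc]
        · exact hsr i n
      have := hall (d ⟨a, ha⟩) (φ b)
      simpa [ψ] using this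
  -- a quaternion subgroup
  obtain ⟨a, b, hab⟩ := ZMod.sq_add_sq p (-1)
  let i : Matrix.SpecialLinearGroup (Fin 2) (ZMod p) :=
    ⟨!![0, 1; -1, 0], by simp [Matrix.det_fin_two]⟩
  let j : Matrix.SpecialLinearGroup (Fin 2) (ZMod p) :=
    ⟨!![a, b; b, -a], by simp [Matrix.det_fin_two]; linear_combination -hab⟩
  have hij : i * j = -(j * i) := by
    refine Subtype.ext ?_
    show (!![0, 1; -1, 0] * !![a, b; b, -a] : Matrix (Fin 2) (Fin 2) (ZMod p)) =
      -(!![a, b; b, -a] * !![0, 1; -1, 0])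
    simp [Matrix.mul_fin_two]
  have hi2 : i * i = -1 := by
    refine Subtype.ext ?_
    show (!![0, 1; -1, 0] * !![0, 1; -1, 0] : Matrix (Fin 2) (Fin 2) (ZMod p)) = -1
    simp [Matrix.mul_fin_two, Matrix.one_fin_two]
  have hj2 : j * j = -1 := by
    refine Subtype.ext ?_
    show (!![a, b; b, -a] * !![a, b; b, -a] : Matrix (Fin 2) (Fin 2) (ZMod p)) = -1
    have e1 : a * a + b * b = -1 := by linear_combination hab
    have e2 : b * b + a * a = -1 := by linear_combination hab
    simp [Matrix.mul_fin_two, Matrix.one_fin_two, e1, e2, mul_comm b a]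
  set Q := Subgroup.closure ({i, j} : Set (Matrix.SpecialLinearGroup (Fin 2) (ZMod p))) with hQ
  have hQ2 : IsPGroup 2 Q := by
    have hi4 : ∀ x : Matrix.SpecialLinearGroup (Fin 2) (ZMod p), x * x = -1 →
        IsPGroup 2 (zpowers x) := by
      intro x hx
      have : x ^ 4 = 1 := by
        rw [show x ^ 4 = (x * x) * (x * x) by rw [pow_succ, pow_succ, pow_two]; group, hx,
          neg_mul_neg, one_mul]
      have hd : orderOf x ∣ 2 ^ 2 := orderOf_dvd_of_pow_eq_one this
      obtain ⟨m, -, hm⟩ := (Nat.dvd_prime_pow Nat.prime_two).1 hd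
      exact IsPGroup.of_card (n := m) (by rw [Nat.card_zpowers, hm])
    have hnorm : zpowers j ≤ normalizer (zpowers i : Set (Matrix.SpecialLinearGroup (Fin 2) (ZMod p))) := by
      have h1 : j * i * j⁻¹ = i⁻¹ := by
        have h0 : i⁻¹ = -i := inv_eq_of_mul_eq_one_right (by rw [mul_neg, hi2, neg_neg])
        rw [h0, mul_inv_eq_iff_eq_mul, neg_mul, hij, neg_neg]
      have h2 : j⁻¹ * i * j = i⁻¹ := by
        have h0 : j * i⁻¹ * j⁻¹ = i := by rw [← conj_inv, h1, inv_inv]
        calc j⁻¹ * i * j = j⁻¹ * (j * i⁻¹ * j⁻¹) * j := by rw [h0]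
          _ = i⁻¹ := by group
      rw [zpowers_le, mem_normalizer_iff]
      refine fun x => ⟨?_, ?_⟩
      · rintro ⟨m, rfl⟩
        exact ⟨-m, by simp only; rw [← conj_zpow, h1, inv_zpow']⟩
      · rintro ⟨m, hm⟩
        refine ⟨-m, ?_⟩
        simp only at hm ⊢
        calc i ^ (-m) = (j⁻¹ * i * j) ^ m := by rw [h2, inv_zpow']
          _ = j⁻¹ * i ^ m * j := by
            have := conj_zpow (a := j⁻¹) (b := i) (i := m)
            rwa [inv_inv] at this
          _ = x := by rw [hm]; group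
    have h := (hi4 i hi2).to_sup_of_normal_left' (hi4 j hj2) hnorm
    refine h.to_le ?_
    rw [hQ, closure_le]
    rintro x (rfl | rfl)
    · exact mem_sup_left (mem_zpowers _)
    · exact mem_sup_right (mem_zpowers _)
  obtain ⟨S, hS⟩ := hQ2.exists_le_sylow
  obtain ⟨T, hT⟩ := Sylow.mapSurjective_surjective hφ 2 S
  have hcc := hcomm T T.2 i (by
      have := hS (subset_closure (show i ∈ ({i, j} : Set _) by simp))
      rwa [← hT] at this) j (by
      have := hS (subset_closure (show j ∈ ({i, j} : Set _) by simp))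
      rwa [← hT] at this)
  rw [hij] at hcc
  have hM : -(!![a, b; b, -a] * !![0, 1; -1, 0] : Matrix (Fin 2) (Fin 2) (ZMod p)) =
      !![a, b; b, -a] * !![0, 1; -1, 0] := congrArg Subtype.val hcc
  have h2 := congrFun (congrFun hM 0) 0
  have h2' := congrFun (congrFun hM 0) 1
  simp at h2 h2'
  have ha : a = 0 := by
    have : (2 : ZMod p) * a = 0 := by
      first | linear_combination h2' | linear_combination -h2'
    exact (mul_eq_zero.1 this).resolve_left hp2
  have hb : b = 0 := by
    have : (2 : ZMod p) * b = 0 := by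
      first | linear_combination h2 | linear_combination -h2
    exact (mul_eq_zero.1 this).resolve_left hp2
  rw [ha, hb] at hab
  simp at hab

/-- `N(Z(J(P)))` controls strong fusion in a Sylow `p`-subgroup of every subgroup, `p` odd. -/
theorem zj_control {p : ℕ} [Fact p.Prime] (hp : p ≠ 2) (P : Sylow p G) (A : Set G)
    (hA : A ⊆ (P : Set G)) (g : G) (hAg : (fun a => g⁻¹ * a * g) '' A ⊆ (P : Set G)) :
    ∃ n ∈ normalizer (Cfsg.centerThompsonOf p (P : Subgroup G) : Set G),
      ∀ a ∈ A, n⁻¹ * a * n = g⁻¹ * a * g :=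
  Cfsg.Agent.S0118.result hp (hG.not_involves_slTwo hp) P A hA g hAg

end Min

end CfsgLib.GW
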