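import Cfsg.Agent.Lib.GW.CaseB.Critical

/-!
# Gorenstein-Walter, case B

A maximal subgroup `M ⊇ C(t)` that does not fuse `t` with a commuting involution `a` or with `ta` has
`O(M) ≤ C(t)`.  In particular a maximal overgroup of type 2 of `C(t)` is `C(t)`.
-/

set_option autoImplicit false
set_option linter.style.haveILetI false
set_option linter.unusedSectionVars false

open Subgroup
open CfsgLib.Coprime.BenderPair CfsgLib.Coprime.BenderUniqueness

namespace CfsgLib.GW

universe u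

variable {G : Type u} [Group G] [Finite G]

namespace CaseB

/-- The final contradiction. -/
theorem Good.false_of_moved (hG : Min G) {t a : G} {M : Subgroup G} {p : ℕ} (hg : Good t a M p)
    (hY1 : cmt (opc p M ⊓ centralizer ({a} : Set G)) t ≠ ⊥) : False := by
  haveI := hG.simple
  haveI := Fact.mk hg.prime
  have hA := hg.adm
  obtain ⟨e, he⟩ := hG.exists_cyc hA.ht hA.ha hA.hne hA.hc
  have hCY := hg.centralizer_cmt_le hG he hY1
  set A : Subgroup G := opc p M ⊓ centralizer ({a} : Set G) with hAdef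
  set Y := cmt A t with hY
  have hYA : Y ≤ A := cmt_le_self (CfsgLib.Coprime.inf_le_normalizer (A := zpowers t)
    (zpowers_le.2 (le_normalizer_opc p M hA.t_mem))
    (zpowers_le.2 (le_normalizer (mem_centralizer_singleton_iff.2 hA.hc.eq))) (mem_zpowers t))
  have haY : a ∈ normalizer (Y : Set G) := centralizer_le_normalizer _
    (mem_centralizer_iff.2 fun y hy => mem_centralizer_singleton_iff.1 (hYA hy).2)
  have htY : t ∈ normalizer (Y : Set G) := mem_normalizer_cmt
    (CfsgLib.Coprime.inf_le_normalizer (A := zpowers t)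
      (zpowers_le.2 (le_normalizer_opc p M hA.t_mem))
      (zpowers_le.2 (le_normalizer (mem_centralizer_singleton_iff.2 hA.hc.eq))) (mem_zpowers t))
    (Commute.refl t)
  set f := (MulAut.conj (e * e)).toMonoidHom with hf
  have hft : f a = t := by
    show e * e * a * (e * e)⁻¹ = t
    calc e * e * a * (e * e)⁻¹ = e * (e * a * e⁻¹) * e⁻¹ := by group
      _ = t := by rw [he.2, he.third hA.ha hA.hc]
  have hfta : f (t * a) = a := by
    show e * e * (t * a) * (e * e)⁻¹ = a
    calc e * e * (t * a) * (e * e)⁻¹ = e * (e * (t * a) * e⁻¹) * e⁻¹ := by group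
      _ = a := by rw [he.third hA.ha hA.hc, he.1]
  set Y' := Y.map f with hY'
  have hY'M : Y' ≤ M := by
    rintro _ ⟨y, hy, rfl⟩
    refine hA.mem_of_commute ?_
    rw [← hft]
    exact (show Commute y a from mem_centralizer_singleton_iff.1 (hYA hy).2).map f
  have htY' : t ∈ normalizer (Y' : Set G) := hft ▸ le_normalizer_map f ⟨a, haY, rfl⟩
  have haY' : a ∈ normalizer (Y' : Set G) := by
    rw [← hfta]
    exact le_normalizer_map f ⟨t * a, mul_mem htY haY, rfl⟩
  set Mb := M.map f with hMb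
  have hCY' : centralizer (Y' : Set G) ≤ Mb := by
    intro x hx
    refine mem_conj.2 (hCY (mem_centralizer_iff.2 fun y hy => ?_))
    have h : e * e * y * (e * e)⁻¹ * x = x * (e * e * y * (e * e)⁻¹) :=
      mem_centralizer_iff.1 hx _ ⟨y, hy, rfl⟩
    calc y * ((e * e)⁻¹ * x * (e * e)) = (e * e)⁻¹ * (e * e * y * (e * e)⁻¹ * x) * (e * e) := by group
      _ = (e * e)⁻¹ * x * (e * e) * y := by rw [h]; group
  set Z := ctr p M ⊓ centralizer (Y' : Set G) with hZ
  have hYp : IsPGroup p Y' := ((isPGroup_opc p M).to_le (hYA.trans inf_le_left)).map f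
  have hZ1 : Z ≠ ⊥ := inf_centralizer_ne_bot hYp ((isPGroup_opc p M).to_le inf_le_left)
    (ctr_ne_bot hg.opc_ne_bot) (hY'M.trans (le_normalizer_ctr p M))
  have hnZ : ∀ u ∈ M, u ∈ normalizer (Y' : Set G) → u ∈ normalizer (Z : Set G) := fun u huM hu =>
    CfsgLib.Coprime.inf_le_normalizer (A := zpowers u) (zpowers_le.2 (le_normalizer_ctr p M huM))
      (zpowers_le.2 (CfsgLib.Coprime.normalizer_le_normalizer_centralizer _ hu)) (mem_zpowers u)
  refine hg.false_of_conj hG (hA.cyc_sq_not_mem he) inf_le_left hZ1 (hnZ t hA.t_mem htY')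
    (hnZ a hA.a_mem haY') (inf_le_right.trans hCY') fun r hr hrp x hx => ?_
  haveI := Fact.mk hr
  refine mem_conj.2 ?_
  have he3 := hA.cyc_cube_mem he
  set w := (e * (e * e))⁻¹ * x * (e * (e * e)) with hw
  have hwM : w ∈ opc r M := (mem_normalizer_iff''.1 (le_normalizer_opc r M he3) x).1 hx
  have hmem : (e * e)⁻¹ * x * (e * e) ∈ opc r (M.map (MulAut.conj e).toMonoidHom) := by
    rw [opc_map]
    refine ⟨w, hwM, ?_⟩
    show e * w * e⁻¹ = _
    rw [hw]
    group
  -- `O_r` of the conjugate over `C(a)` centralises `Y`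
  have hA' : Adm a (t * a) (M.map (MulAut.conj e).toMonoidHom) := by
    have h := hA.conj e
    rwa [he.1, he.2] at h
  refine hCY ((?_ : opc r (M.map (MulAut.conj e).toMonoidHom) ≤ centralizer (Y : Set G)) hmem)
  rcases eq_or_ne r 2 with rfl | hr2
  · rw [hA'.opc_two hG]
    exact bot_le
  rw [le_centralizer_iff]
  refine cmt_le fun y hy => mem_centralizer_iff.2 fun z hz => ?_
  exact (trick hA.ht hA.le hg.ne_two hr2 hrp (hA'.mem_of_commute hA.hc)
    ((hYA.trans inf_le_left) (mem_cmt hy))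
    (hA'.mem_of_commute (mem_centralizer_singleton_iff.1 (hYA (mem_cmt hy)).2))
    (cmt_inverted hA.ht) z hz).eq

end CaseB

open CaseB

/-- **Case B**: an overgroup of `C(t)` not fusing `t` with a commuting involution has its odd core in `C(t)`. -/
theorem Min.ocore_le_centralizer_of_apart (hG : Min G) {t a : G} (ht : orderOf t = 2)
    (ha : orderOf a = 2) (hta : t ≠ a) (hc : Commute t a) {M : Subgroup G} (hM : IsCoatom M)
    (hle : centralizer ({t} : Set G) ≤ M)
    (hap : ∀ m ∈ M, m * t * m⁻¹ ≠ a ∧ m * t * m⁻¹ ≠ t * a) :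
    (Cfsg.oddCore M).map M.subtype ≤ centralizer ({t} : Set G) := by
  by_contra hnc
  obtain ⟨M', p, hg⟩ := Adm.exists_good hG (⟨ht, ha, hta, hc, hM, hle, hap, hnc⟩ : Adm t a M)
  haveI := Fact.mk hg.prime
  have hA := hg.adm
  refine hg.moved (cmt_eq_bot.2 fun x hx => mem_centralizer_singleton_iff.1 (le_of_four ht ha hta hc
    (odd_card_of_pGroup hg.ne_two (isPGroup_opc p M')) (le_normalizer_opc p M' hA.t_mem)
    (le_normalizer_opc p M' hA.a_mem) (fun y _ hy => mem_centralizer_singleton_iff.2 hy.eq)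
    (fun y hy hya => mem_centralizer_singleton_iff.2 (Commute.eq ?_))
    (fun y hy hya => mem_centralizer_singleton_iff.2 (Commute.eq ?_)) hx))
  · refine cmt_eq_bot.1 ?_ y (mem_inf.2 ⟨hy, mem_centralizer_singleton_iff.2 hya.eq⟩)
    by_contra h
    exact hg.false_of_moved hG h
  · refine cmt_eq_bot.1 ?_ y (mem_inf.2 ⟨hy, mem_centralizer_singleton_iff.2 hya.eq⟩)
    by_contra h
    exact hg.symm.false_of_moved hG h

/-- **Case B, type 2**: a maximal overgroup of type 2 of `C(t)` equals `C(t)`. -/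
theorem Min.caseB (hG : Min G) {t : G} (ht : orderOf t = 2) {M : Subgroup G} (hM : IsCoatom M)
    (hle : centralizer ({t} : Set G) ≤ M) (htwo : IsTypeTwo M) : M = centralizer ({t} : Set G) := by
  haveI : Fact (Nat.Prime 2) := ⟨Nat.prime_two⟩
  obtain ⟨P, htP, hPC⟩ := hG.exists_sylow_central ht
    (IsPGroup.of_card (n := 1) (by rw [Nat.card_zpowers, ht, pow_one]) : IsPGroup 2 (zpowers t))
    (zpowers_le.2 (mem_centralizer_singleton_iff.2 rfl))
  have hPM : (P : Subgroup G) ≤ M := hPC.trans hle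
  -- `M = O(M) P`
  obtain ⟨k, hk⟩ := htwo
  have hQ : IsPGroup 2 (M ⧸ Cfsg.oddCore M) := IsPGroup.of_card (n := k) (by rw [← index_eq_card, hk])
  have hmap : ((P.subtype hPM : Subgroup M)).map (QuotientGroup.mk' (Cfsg.oddCore M)) = ⊤ := by
    have h := ((P.subtype hPM).mapSurjective (QuotientGroup.mk'_surjective (Cfsg.oddCore M))).3
      (hQ.to_subgroup ⊤) le_top
    rw [Sylow.coe_mapSurjective] at h
    exact h.symm
  have hdec : ∀ m ∈ M, ∃ o ∈ ocN M, ∃ s ∈ (P : Subgroup G), m = o * s := fun m hm => by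
    obtain ⟨s, hs, hsm⟩ := hmap.ge (mem_top (QuotientGroup.mk' (Cfsg.oddCore M) ⟨m, hm⟩))
    refine ⟨m * (s : G)⁻¹, ⟨⟨m, hm⟩ * s⁻¹, (QuotientGroup.eq_one_iff _).1 ?_, rfl⟩, s, hs, by group⟩
    show QuotientGroup.mk' _ _ = 1
    rw [map_mul, map_inv, hsm, mul_inv_cancel]
  have hmod : ∀ m ∈ M, m * t * m⁻¹ * t⁻¹ ∈ ocN M := fun m hm => by
    obtain ⟨o, ho, s, hs, rfl⟩ := hdec m hm
    have hst : Commute s t := mem_centralizer_singleton_iff.1 (hPC hs)
    have e : o * s * t * (o * s)⁻¹ * t⁻¹ = o * (t * o⁻¹ * t⁻¹) := by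
      calc o * s * t * (o * s)⁻¹ * t⁻¹ = o * (s * t * s⁻¹) * o⁻¹ * t⁻¹ := by group
        _ = o * (t * o⁻¹ * t⁻¹) := by rw [hst.eq, mul_inv_cancel_right]; group
    rw [e]
    exact mul_mem ho ((mem_normalizer_iff.1 (le_normalizer_ocN M
      (hle (mem_centralizer_singleton_iff.2 rfl))) _).1 (inv_mem ho))
  -- a commuting involution
  obtain ⟨a, ha, hta, hc⟩ : ∃ a : G, orderOf a = 2 ∧ t ≠ a ∧ Commute t a := by
    obtain ⟨n, hn, ⟨eP⟩⟩ := hG.dih P
    haveI : NeZero n := ⟨by omega⟩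
    have hnc : ¬ IsCyclic (P : Subgroup G) := fun h => DihedralGroup.not_isCyclic (by omega)
      (eP.isCyclic.1 h)
    obtain ⟨-, b, c, hb, hc', hb2, hc2, hbc, -⟩ := hG.dih.noncyclic P.2 hnc
    by_cases h : t = b
    · exact ⟨c, hc2, h ▸ hbc, (mem_centralizer_singleton_iff.1 (hPC hc')).symm⟩
    · exact ⟨b, hb2, h, (mem_centralizer_singleton_iff.1 (hPC hb)).symm⟩
  have htt := Invol.invol_mul_self ht
  have hap : ∀ m ∈ M, m * t * m⁻¹ ≠ a ∧ m * t * m⁻¹ ≠ t * a := fun m hm => by
    refine ⟨fun h => ?_, fun h => ?_⟩ <;> have h1 := orderOf_odd_of_mem (odd_ocN M) (h ▸ hmod m hm)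
    · rw [Invol.invol_inv ht, invol_mul ha ht (Ne.symm hta) hc.symm] at h1
      exact absurd h1 (by decide)
    · rw [hc.eq, mul_assoc, mul_inv_cancel, mul_one, ha] at h1
      exact absurd h1 (by decide)
  refine le_antisymm (fun m hm => ?_) hle
  obtain ⟨o, ho, s, hs, rfl⟩ := hdec m hm
  exact mul_mem (hG.ocore_le_centralizer_of_apart ht ha hta hc hM hle hap ho) (hPC hs)

end CfsgLib.GW
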