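import Cfsg.Agent.Lib.GW.AltSeven
import Cfsg.Agent.Lib.Invol.Basic
import Mathlib.GroupTheory.GroupAction.Jordan
import Mathlib.GroupTheory.Perm.Cycle.Type

/-!
# Subgroups of `A7` over an involution centraliser
-/

set_option autoImplicit false
set_option linter.style.haveILetI false
set_option linter.unusedSectionVars false

namespace CfsgLib.GW

/-- the standard involution of `A7` -/
def altInvol : alternatingGroup (Fin 7) :=
  ⟨Equiv.swap 0 1 * Equiv.swap 2 3, by
    rw [Equiv.Perm.mem_alternatingGroup, map_mul, Equiv.Perm.sign_swap (by decide), Equiv.Perm.sign_swap (by decide)]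
    rfl⟩

theorem commute_altInvol_four : ∀ y : Equiv.Perm {i : Fin 7 // i.val < 4},
    Equiv.Perm.ofSubtype y * Equiv.Perm.ofSubtype y = 1 → Equiv.Perm.sign (Equiv.Perm.ofSubtype y) = 1 →
    Equiv.Perm.ofSubtype y * (Equiv.swap 0 1 * Equiv.swap 2 3) =
      (Equiv.swap 0 1 * Equiv.swap 2 3) * Equiv.Perm.ofSubtype y := by decide +kernel

/-- a subgroup over the centraliser is everything or preserves the four moved points -/
theorem alt_seven_cent_cases (U : Subgroup (alternatingGroup (Fin 7)))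
    (hU : Subgroup.centralizer {altInvol} ≤ U) :
    U = ⊤ ∨ ∀ g ∈ U, ∀ i : Fin 7, i.val < 4 → ((g : Equiv.Perm (Fin 7)) i).val < 4 := by
  classical
  by_contra! hcon
  obtain ⟨hne, g, hg, i, hi, hgi⟩ := hcon
  set U' := U.map (alternatingGroup (Fin 7)).subtype
  have hC : ∀ s : Equiv.Perm (Fin 7), Equiv.Perm.sign s = 1 →
      s * (Equiv.swap 0 1 * Equiv.swap 2 3) = (Equiv.swap 0 1 * Equiv.swap 2 3) * s → s ∈ U' := fun s hs hst =>
    ⟨⟨s, Equiv.Perm.mem_alternatingGroup.2 hs⟩, hU (Subgroup.mem_centralizer_singleton_iff.2 (Subtype.ext hst)), rfl⟩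
  set c : Equiv.Perm (Fin 7) := Equiv.swap 4 5 * Equiv.swap 5 6
  set u : Equiv.Perm (Fin 7) := Equiv.swap 0 1 * Equiv.swap 2 3
  set v : Equiv.Perm (Fin 7) := Equiv.swap 0 2 * Equiv.swap 1 3
  have hc : c ∈ U' := hC c (by decide +kernel) (by decide +kernel)
  have hu : u ∈ U' := hC u (by decide +kernel) rfl
  have hv : v ∈ U' := hC v (by decide +kernel) (by decide +kernel)
  have horb : ∀ k : Fin 7, k.val < 4 → (0 : Fin 7) ∈ MulAction.orbit U' k := by
    intro k hk
    have : k = 0 ∨ u k = 0 ∨ v k = 0 ∨ (u * v) k = 0 := by revert k; decide +kernel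
    rcases this with rfl | h | h | h
    · exact MulAction.mem_orbit_self _
    · exact ⟨⟨u, hu⟩, h⟩
    · exact ⟨⟨v, hv⟩, h⟩
    · exact ⟨⟨u * v, mul_mem hu hv⟩, h⟩
  have horb' : ∀ k : Fin 7, 4 ≤ k.val → (4 : Fin 7) ∈ MulAction.orbit U' k := by
    intro k hk
    have : k = 4 ∨ c k = 4 ∨ (c * c) k = 4 := by revert k; decide +kernel
    rcases this with rfl | h | h
    · exact MulAction.mem_orbit_self _
    · exact ⟨⟨c, hc⟩, h⟩
    · exact ⟨⟨c * c, mul_mem hc hc⟩, h⟩
  have h04 : (4 : Fin 7) ∈ MulAction.orbit U' (0 : Fin 7) := by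
    have h1 := horb i hi
    have h2 := horb' ((g : Equiv.Perm (Fin 7)) i) hgi
    have h3 : ((g : Equiv.Perm (Fin 7)) i) ∈ MulAction.orbit U' i := ⟨⟨(g : Equiv.Perm (Fin 7)), g, hg, rfl⟩, rfl⟩
    rw [← MulAction.orbit_eq_iff] at h1 h2 h3 ⊢
    rw [h2, h3, ← h1]
  haveI : MulAction.IsPretransitive U' (Fin 7) := by
    have hall : ∀ k : Fin 7, MulAction.orbit U' k = MulAction.orbit U' (0 : Fin 7) := fun k => by
      by_cases hk : k.val < 4
      · exact (MulAction.orbit_eq_iff.2 (horb k hk)).symm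
      · rw [← MulAction.orbit_eq_iff.2 (horb' k (by omega)), MulAction.orbit_eq_iff.2 h04]
    exact ⟨fun a b => by
      have hb : b ∈ MulAction.orbit U' a := by rw [hall a, ← hall b]; exact MulAction.mem_orbit_self b
      exact hb⟩
  have hprim : MulAction.IsPreprimitive U' (Fin 7) :=
    MulAction.IsPreprimitive.of_prime_card (by rw [Nat.card_eq_fintype_card, Fintype.card_fin]; decide)
  have hle := Equiv.Perm.alternatingGroup_le_of_isPreprimitive_of_isThreeCycle_mem hprim
    (Equiv.Perm.isThreeCycle_swap_mul_swap_same (a := (5 : Fin 7)) (b := 4) (c := 6) (by decide) (by decide) (by decide))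
    (by rw [Equiv.swap_comm (5 : Fin 7) 4]; exact hc)
  refine hne (eq_top_iff.2 fun x _ => ?_)
  obtain ⟨y, hy, hyx⟩ := hle x.2
  exact (Subtype.ext hyx : y = x) ▸ hy

/-- involutions of `A7` are conjugate to the standard one under an automorphism -/
theorem exists_aut_altInvol {t : alternatingGroup (Fin 7)} (ht : orderOf t = 2) :
    ∃ φ : MulAut (alternatingGroup (Fin 7)), φ t = altInvol := by
  classical
  have ht' : orderOf (t : Equiv.Perm (Fin 7)) = 2 := by rw [Subgroup.orderOf_coe, ht]
  obtain ⟨n, hn⟩ := Equiv.Perm.cycleType_prime_order (σ := (t : Equiv.Perm (Fin 7))) (by rw [ht']; exact Nat.prime_two)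
  rw [ht'] at hn
  have hle := Equiv.Perm.sum_cycleType (t : Equiv.Perm (Fin 7))
  rw [hn, Multiset.sum_replicate, smul_eq_mul] at hle
  have h7 := (t : Equiv.Perm (Fin 7)).support.card_le_univ
  rw [Fintype.card_fin] at h7
  have hsign := Equiv.Perm.mem_alternatingGroup.1 t.2
  rw [Equiv.Perm.sign_of_cycleType, hn, Multiset.sum_replicate, smul_eq_mul, Multiset.card_replicate] at hsign
  have hn1 : n = 1 := by
    have hn2 : n ≤ 2 := by omega
    interval_cases n
    · exact absurd hsign (by decide)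
    · rfl
    · exact absurd hsign (by decide)
  subst hn1
  have hs : (altInvol : Equiv.Perm (Fin 7)).cycleType = Multiset.replicate (1 + 1) 2 := by
    have d : Equiv.Perm.Disjoint (Equiv.swap (0 : Fin 7) 1) (Equiv.swap 2 3) := fun i => by revert i; decide
    rw [show (altInvol : Equiv.Perm (Fin 7)) = Equiv.swap 0 1 * Equiv.swap 2 3 from rfl, d.cycleType_mul,
      (Equiv.Perm.isCycle_swap (by decide)).cycleType, (Equiv.Perm.isCycle_swap (by decide)).cycleType,
      Equiv.Perm.card_support_swap (by decide), Equiv.Perm.card_support_swap (by decide)]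
    rfl
  obtain ⟨c, hc⟩ := isConj_iff.1 (Equiv.Perm.isConj_iff_cycleType_eq.2 (hn.trans hs.symm))
  exact ⟨MulAut.conjNormal c, Subtype.ext (by rw [MulAut.conjNormal_apply]; exact hc)⟩

/-- an odd `p`-subgroup of `A7` normalised by an involution centraliser centralises the involution -/
theorem alt_seven_commute {p : ℕ} [Fact p.Prime] (hp : p ≠ 2) {R : Subgroup (alternatingGroup (Fin 7))}
    (hR : IsPGroup p R) {t : alternatingGroup (Fin 7)} (ht : orderOf t = 2)
    (hn : Subgroup.centralizer {t} ≤ Subgroup.normalizer (R : Set (alternatingGroup (Fin 7)))) :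
    ∀ r ∈ R, Commute r t := by
  classical
  obtain ⟨φ, hφ⟩ := exists_aut_altInvol ht
  -- transport
  suffices key : ∀ R : Subgroup (alternatingGroup (Fin 7)), IsPGroup p R →
      Subgroup.centralizer {altInvol} ≤ Subgroup.normalizer (R : Set (alternatingGroup (Fin 7))) →
      ∀ r ∈ R, Commute r altInvol by
    intro r hr
    have h := key (R.map φ.toMonoidHom) (hR.map _) (fun x hx => by
      obtain ⟨y, rfl⟩ := φ.surjective x
      refine Subgroup.le_normalizer_map φ.toMonoidHom ⟨y, hn ?_, rfl⟩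
      rw [← hφ] at hx
      refine Subgroup.mem_centralizer_singleton_iff.2 (φ.injective ?_)
      rw [map_mul, map_mul]
      exact Subgroup.mem_centralizer_singleton_iff.1 hx) (φ r) ⟨r, hr, rfl⟩
    rw [← hφ] at h
    exact φ.injective (by rw [map_mul, map_mul]; exact h.eq)
  clear hn hR R hφ φ ht t
  intro R hR hn r hr
  haveI := alternatingGroup.isSimpleGroup (α := Fin 7) (by simp)
  rcases alt_seven_cent_cases _ hn with h | h
  · haveI : R.Normal := Subgroup.normalizer_eq_top_iff.1 h
    rcases IsSimpleGroup.eq_bot_or_eq_top_of_normal R inferInstance with e | e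
    · rw [e, Subgroup.mem_bot] at hr
      rw [hr]; exact Commute.one_left _
    · exfalso
      obtain ⟨k, hk⟩ := hR.exists_card_eq
      rw [e, Nat.card_congr Subgroup.topEquiv.toEquiv] at hk
      have h2 : 2 ∣ p ^ k := hk ▸ (dvd_of_eq
        (CfsgLib.Invol.invol_iff.2 ⟨by decide +kernel, by decide +kernel⟩ : orderOf altInvol = 2).symm).trans
          (orderOf_dvd_natCard altInvol)
      exact hp ((Nat.prime_dvd_prime_iff_eq Nat.prime_two (Fact.out : p.Prime)).1
        (Nat.prime_two.dvd_of_dvd_pow h2)).symm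
  -- the conjugate `x` of the involution
  have hrU : r ∈ Subgroup.normalizer (R : Set (alternatingGroup (Fin 7))) := Subgroup.le_normalizer hr
  have hpres : ∀ i : Fin 7, ((r : Equiv.Perm (Fin 7)) i).val < 4 ↔ i.val < 4 := by
    have h1 : ∀ i : Fin 7, i.val < 4 → ((r : Equiv.Perm (Fin 7)) i).val < 4 := h r hrU
    have h2 : ∀ i : Fin 7, i.val < 4 → (((r⁻¹ : alternatingGroup (Fin 7)) : Equiv.Perm (Fin 7)) i).val < 4 :=
      h _ (inv_mem hrU)
    intro i
    refine ⟨fun hi => ?_, h1 i⟩
    have := h2 _ hi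
    rwa [Subgroup.coe_inv, Equiv.Perm.inv_def, Equiv.symm_apply_apply] at this
  set x := r * altInvol * r⁻¹
  have hfix : ∀ i : Fin 7, (x : Equiv.Perm (Fin 7)) i ≠ i → i.val < 4 := by
    intro i hne
    by_contra hi
    apply hne
    have hj : ¬ (((r⁻¹ : alternatingGroup (Fin 7)) : Equiv.Perm (Fin 7)) i).val < 4 := by
      rw [← hpres, Subgroup.coe_inv, Equiv.Perm.inv_def, Equiv.apply_symm_apply]
      exact hi
    have htfix : ∀ k : Fin 7, ¬ k.val < 4 → (altInvol : Equiv.Perm (Fin 7)) k = k := by decide +kernel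
    show (r : Equiv.Perm (Fin 7)) ((altInvol : Equiv.Perm (Fin 7)) (((r⁻¹ : alternatingGroup (Fin 7)) :
      Equiv.Perm (Fin 7)) i)) = i
    rw [htfix _ hj, Subgroup.coe_inv, Equiv.Perm.inv_def, Equiv.apply_symm_apply]
  have hxi : ∀ i : Fin 7, ((x : Equiv.Perm (Fin 7)) i).val < 4 ↔ i.val < 4 := by
    intro i
    by_cases he : (x : Equiv.Perm (Fin 7)) i = i
    · rw [he]
    · exact ⟨fun _ => hfix i he, fun _ => hfix _ fun h2 => he ((x : Equiv.Perm (Fin 7)).injective h2)⟩
  have hxo : x * x = 1 := by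
    have : altInvol * altInvol = 1 := by decide +kernel
    calc x * x = r * (altInvol * altInvol) * r⁻¹ := by simp only [x]; group
      _ = 1 := by rw [this, mul_one, mul_inv_cancel]
  have hcomm : Commute x altInvol := by
    have h1 := commute_altInvol_four ((x : Equiv.Perm (Fin 7)).subtypePerm hxi)
    rw [Equiv.Perm.ofSubtype_subtypePerm hxi hfix] at h1
    exact Subtype.ext (h1 (congrArg Subtype.val hxo) (Equiv.Perm.mem_alternatingGroup.1 x.2))
  -- the commutator has order two and lies in `R`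
  have hd : x * altInvol ∈ R := by
    rw [show x * altInvol = r * (altInvol * r⁻¹ * altInvol⁻¹) by
      simp only [x, show altInvol⁻¹ = altInvol by decide +kernel]; group]
    exact mul_mem hr ((Subgroup.mem_normalizer_iff.1
      (hn (Subgroup.mem_centralizer_singleton_iff.2 rfl)) r⁻¹).1 (inv_mem hr))
  have hd2 : (x * altInvol) ^ 2 = 1 := by
    rw [hcomm.mul_pow, sq, sq, hxo, one_mul]; decide +kernel
  have h1 : x * altInvol = 1 := by
    obtain ⟨k, hk⟩ := hR ⟨_, hd⟩
    refine orderOf_eq_one_iff.1 (Nat.eq_one_of_dvd_coprimes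
      (Nat.Coprime.pow_right k ((Nat.coprime_primes Nat.prime_two (Fact.out : p.Prime)).2 (Ne.symm hp)))
      (orderOf_dvd_of_pow_eq_one hd2) (orderOf_dvd_of_pow_eq_one (congrArg Subtype.val hk)))
  have hx : x = altInvol := by
    rw [eq_inv_of_mul_eq_one_left h1]; decide +kernel
  exact mul_inv_eq_iff_eq_mul.1 hx

end CfsgLib.GW
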