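import Cfsg.Agent.Lib.GW.CoprimeFour
import Cfsg.Agent.Lib.Invol.KleinSylow

/-!
# Involutions modulo a normal subgroup of odd order
-/

set_option autoImplicit false
set_option linter.unusedSectionVars false

namespace CfsgLib.GW

universe u

variable {H : Type u} [Group H] [Finite H] {K : Subgroup H} [K.Normal] (hK : Odd (Nat.card K))
include hK

theorem eq_one_of_mem_of_sq {x : H} (hx : x ∈ K) (h : x * x = 1) : x = 1 :=
  sq_inj_of_odd hK hx (one_mem K) (by rw [h, one_mul])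

theorem orderOf_mk_invol {u : H} (hu : orderOf u = 2) : orderOf (QuotientGroup.mk' K u) = 2 := by
  haveI : Fact (Nat.Prime 2) := ⟨Nat.prime_two⟩
  refine orderOf_eq_prime (by rw [← map_pow, ← hu, pow_orderOf_eq_one, map_one]) fun h => ?_
  exact CfsgLib.Invol.invol_ne_one hu (eq_one_of_mem_of_sq hK ((QuotientGroup.eq_one_iff u).1 h)
    (by rw [← sq, ← hu, pow_orderOf_eq_one]))

/-- involutions lift to powers of any lift -/
theorem exists_invol_pow {g : H} (hx : orderOf (QuotientGroup.mk' K g) = 2) :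
    ∃ m : ℕ, orderOf (g ^ m) = 2 ∧ QuotientGroup.mk' K (g ^ m) = QuotientGroup.mk' K g := by
  haveI : Fact (Nat.Prime 2) := ⟨Nat.prime_two⟩
  obtain ⟨k, m, hm, hkm⟩ := Nat.exists_eq_two_pow_mul_odd (orderOf_pos g).ne'
  have himg : QuotientGroup.mk' K (g ^ m) = QuotientGroup.mk' K g := by
    obtain ⟨j, hj⟩ := hm
    rw [map_pow, hj, pow_succ, pow_mul, ← hx, pow_orderOf_eq_one, one_pow, one_mul]
  refine ⟨m, orderOf_eq_prime ?_ fun h => ?_, himg⟩
  · have hmem : (g ^ m) ^ 2 ∈ K := by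
      refine (QuotientGroup.eq_one_iff _).1 ?_
      show QuotientGroup.mk' K ((g ^ m) ^ 2) = 1
      rw [map_pow, himg, ← hx, pow_orderOf_eq_one]
    refine orderOf_eq_one_iff.1 (Nat.eq_one_of_dvd_coprimes (Nat.Coprime.pow_left k (Nat.coprime_two_left.2 hK))
      ?_ (Subgroup.orderOf_dvd_natCard K hmem))
    exact orderOf_dvd_of_pow_eq_one (by
      rw [← pow_mul, ← pow_mul, show m * (2 * 2 ^ k) = orderOf g * 2 by rw [hkm]; ring, pow_mul, pow_orderOf_eq_one,
        one_pow])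
  · rw [h, map_one] at himg
    rw [← himg, orderOf_one] at hx
    omega

/-- involutions lift -/
theorem exists_invol_lift {x : H ⧸ K} (hx : orderOf x = 2) : ∃ u : H, orderOf u = 2 ∧ QuotientGroup.mk' K u = x := by
  obtain ⟨g, rfl⟩ := QuotientGroup.mk'_surjective K x
  obtain ⟨m, hm, he⟩ := exists_invol_pow hK hx
  exact ⟨g ^ m, hm, he⟩

/-- conjugacy of involutions lifts -/
theorem exists_conj_lift {u v : H} (hu : orderOf u = 2) (hv : orderOf v = 2) {x : H ⧸ K}
    (hx : x * QuotientGroup.mk' K u * x⁻¹ = QuotientGroup.mk' K v) :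
    ∃ m : H, QuotientGroup.mk' K m = x ∧ m * u * m⁻¹ = v := by
  have hus : u * u = 1 := by rw [← sq, ← hu, pow_orderOf_eq_one]
  have hvs : v * v = 1 := by rw [← sq, ← hv, pow_orderOf_eq_one]
  obtain ⟨g, rfl⟩ := QuotientGroup.mk'_surjective K x
  obtain ⟨u', hu'⟩ : ∃ u', u' = g * u * g⁻¹ := ⟨_, rfl⟩
  have hu's : u' * u' = 1 := by rw [hu', conj_mul, hus]; group
  have hz : v * u' ∈ K := by
    refine (QuotientGroup.eq_one_iff _).1 ?_
    show QuotientGroup.mk' K (v * u') = 1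
    rw [hu', map_mul, map_mul, map_mul, map_inv, hx, ← map_mul, hvs, map_one]
  obtain ⟨y, hy, hyy⟩ := exists_sqrt hK (K.inv_mem hz)
  have hvi : v⁻¹ = v := inv_eq_of_mul_eq_one_right hvs
  have hui : u'⁻¹ = u' := inv_eq_of_mul_eq_one_right hu's
  have hvy : v * y * v⁻¹ = y⁻¹ := sq_inj_of_odd hK (‹K.Normal›.conj_mem y hy v) (K.inv_mem hy) (by
    rw [conj_mul, hyy, ← mul_inv_rev y y, hyy, inv_inv, mul_inv_rev, hui, hvi]
    simp [mul_assoc, hvs])
  refine ⟨y⁻¹ * g, ?_, ?_⟩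
  · rw [map_mul, show QuotientGroup.mk' K y⁻¹ = 1 from (QuotientGroup.eq_one_iff _).2 (K.inv_mem hy), one_mul]
  · calc y⁻¹ * g * u * (y⁻¹ * g)⁻¹ = y⁻¹ * u' * y := by rw [hu']; group
      _ = y⁻¹ * (v * (y * y)⁻¹) * y := by
          rw [hyy, inv_inv, ← mul_assoc v v, hvs, one_mul]
      _ = y⁻¹ * (v * y⁻¹ * v⁻¹) * v := by group
      _ = v := by rw [← conj_inv, hvy]; group

/-- elements centralising an involution lift -/
theorem exists_comm_lift {u : H} (hu : orderOf u = 2) {x : H ⧸ K} (hx : Commute x (QuotientGroup.mk' K u)) :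
    ∃ m : H, QuotientGroup.mk' K m = x ∧ Commute m u := by
  obtain ⟨m, hm, hm'⟩ := exists_conj_lift hK hu hu (x := x) (by rw [hx.eq, mul_inv_cancel_right])
  exact ⟨m, hm, mul_inv_eq_iff_eq_mul.1 hm'⟩

/-- lifts of an involution are unique when it centralises the kernel -/
theorem invol_lift_unique {u v : H} (hu : orderOf u = 2) (hv : orderOf v = 2) (hc : ∀ k ∈ K, Commute u k)
    (h : QuotientGroup.mk' K u = QuotientGroup.mk' K v) : u = v := by
  have hus : u * u = 1 := by rw [← sq, ← hu, pow_orderOf_eq_one]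
  have hvs : v * v = 1 := by rw [← sq, ← hv, pow_orderOf_eq_one]
  have hk : u⁻¹ * v ∈ K := QuotientGroup.eq.1 h
  have hc' := hc _ hk
  have hui : u⁻¹ = u := inv_eq_of_mul_eq_one_right hus
  have hone := eq_one_of_mem_of_sq hK hk (by
    calc u⁻¹ * v * (u⁻¹ * v) = u⁻¹ * (v * u⁻¹ * v) := by group
      _ = u⁻¹ * ((u * (u⁻¹ * v)) * u⁻¹ * v) := by rw [mul_inv_cancel_left]
      _ = u⁻¹ * ((u⁻¹ * v * u) * u⁻¹ * v) := by rw [hc'.eq]
      _ = u⁻¹ * (u⁻¹ * (v * v)) := by group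
      _ = 1 := by rw [hvs, hui, mul_one, hus])
  exact (inv_mul_eq_one.1 hone)

end CfsgLib.GW
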