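import Cfsg.Agent.Lib.GW.InvolPSL
import Cfsg.Agent.Lib.Perm.Dickson.Borel
import Cfsg.Agent.Lib.Perm.Dickson.PGLMax
import Cfsg.Agent.Lib.Perm.Dickson.Icosa

/-!
# Counting involutions in subgroups of `PGL(2, q)`, odd `q`
-/

set_option autoImplicit false
set_option linter.style.haveILetI false
set_option linter.unusedSectionVars false

namespace CfsgLib.GW

open Matrix CfsgLib.Perm.Dickson

/-- the order of the centraliser in `PSL(2, q)` of an outer involution -/
def outerCard (q : ℕ) : ℕ := if q % 4 = 1 then q + 1 else q - 1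

variable {F : Type*} [Field F] [Finite F]

theorem trace_of_invol {A : GL (Fin 2) F} (h : orderOf (ProjGenLinGroup.mk A) = 2) : A.1 1 1 = -A.1 0 0 := by
  by_contra hne
  have htr : A.1 0 0 + A.1 1 1 ≠ 0 := fun e => hne (eq_neg_of_add_eq_zero_right e)
  have h1 : ProjGenLinGroup.mk (A * A) = ProjGenLinGroup.mk (1 : GL (Fin 2) F) := by
    rw [map_mul, CfsgLib.Invol.invol_mul_self h, map_one]
  obtain ⟨c, hc, hc'⟩ := exists_smul_of_mk_eq h1
  rw [Units.val_mul, mat_sq A.1, Units.val_one] at hc'
  have h00 := congrFun (congrFun hc' 0) 0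
  have h01 := congrFun (congrFun hc' 0) 1
  have h10 := congrFun (congrFun hc' 1) 0
  have h11 := congrFun (congrFun hc' 1) 1
  simp only [Matrix.smul_apply, Matrix.sub_apply, Matrix.one_apply_eq, smul_eq_mul, ne_eq, Fin.isValue,
    not_false_eq_true, Matrix.one_apply_ne, zero_ne_one, one_ne_zero, mul_zero, sub_zero, mul_one] at h00 h01 h10 h11
  have e01 : A.1 0 1 = 0 := by simpa [hc, htr] using h01
  have e10 : A.1 1 0 = 0 := by simpa [hc, htr] using h10
  have e : A.1 0 0 = A.1 1 1 := mul_left_cancel₀ (mul_ne_zero hc htr) (by linear_combination h00 - h11)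
  exact CfsgLib.Invol.invol_ne_one h (mk_eq_one_of_scalar A (A.1 0 0) (by
    ext i j
    fin_cases i <;> fin_cases j <;> simp [e01, e10, e]))

/-- normalised traceless matrices -/
noncomputable def invMat (z : F × F) : GL (Fin 2) F :=
  haveI : Decidable (1 + z.1 * z.2 = 0) := Classical.propDecidable _
  if h : 1 + z.1 * z.2 = 0 then
    GeneralLinearGroup.mkOfDetNeZero !![0, 1; z.1, 0] (by
      rw [Matrix.det_fin_two_of]
      intro e
      have : z.1 = 0 := by linear_combination -e
      rw [this, zero_mul, add_zero] at h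
      exact one_ne_zero h)
  else GeneralLinearGroup.mkOfDetNeZero !![1, z.1; z.2, -1] (by
      rw [Matrix.det_fin_two_of]
      intro e
      exact h (by linear_combination -e))

theorem invMat_pos {z : F × F} (h : 1 + z.1 * z.2 = 0) : (invMat z).1 = !![0, 1; z.1, 0] := by
  rw [invMat, dif_pos h]; rfl

theorem invMat_neg {z : F × F} (h : 1 + z.1 * z.2 ≠ 0) : (invMat z).1 = !![1, z.1; z.2, -1] := by
  rw [invMat, dif_neg h]; rfl

/-- **`PGL(2, q)` has `q ^ 2` involutions** -/
theorem ncard_invol (ho : Odd (Nat.card F)) : {g : G2 F | orderOf g = 2}.ncard = Nat.card F ^ 2 := by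
  classical
  have h2 : (2 : F) ≠ 0 := two_ne_zero_of_odd ho
  have hrange : {g : G2 F | orderOf g = 2} = Set.range (fun z : F × F => ProjGenLinGroup.mk (invMat z)) := by
    ext g
    constructor
    · intro hg
      induction g using ProjGenLinGroup.induction_on with
      | mk A =>
        have htr := trace_of_invol hg
        have hd := ((Matrix.isUnit_iff_isUnit_det _).1 A.isUnit).ne_zero
        rw [Matrix.det_fin_two, htr] at hd
        by_cases ha : A.1 0 0 = 0
        · have hb : A.1 0 1 ≠ 0 := fun e => hd (by rw [ha, e]; ring)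
          have hc : A.1 1 0 ≠ 0 := fun e => hd (by rw [ha, e]; ring)
          refine ⟨(A.1 1 0 / A.1 0 1, -(A.1 0 1) / A.1 1 0), mk_eq_of_smul (A.1 0 1) hb ?_⟩
          rw [invMat_pos (by field_simp; ring)]
          ext i j
          fin_cases i <;> fin_cases j <;> simp [ha, htr, mul_div_cancel₀, hb]
        · refine ⟨(A.1 0 1 / A.1 0 0, A.1 1 0 / A.1 0 0), mk_eq_of_smul (A.1 0 0) ha ?_⟩
          rw [invMat_neg (by
            intro e
            field_simp at e
            exact hd (by linear_combination -e))]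
          ext i j
          fin_cases i <;> fin_cases j <;> simp [htr, mul_div_cancel₀, ha]
    · rintro ⟨z, rfl⟩
      refine CfsgLib.Invol.invol_iff.2 ⟨?_, fun h => ?_⟩
      · rw [← map_mul]
        by_cases h : 1 + z.1 * z.2 = 0
        · refine mk_eq_one_of_scalar _ z.1 ?_
          rw [Units.val_mul, invMat_pos h]
          ext i j
          fin_cases i <;> fin_cases j <;> simp [Matrix.mul_apply, Fin.sum_univ_two]
        · refine mk_eq_one_of_scalar _ (1 + z.1 * z.2) ?_
          rw [Units.val_mul, invMat_neg h]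
          ext i j
          fin_cases i <;> fin_cases j <;> simp [Matrix.mul_apply, Fin.sum_univ_two] <;> ring
      · rw [← map_one ProjGenLinGroup.mk] at h
        obtain ⟨c, hc, hc'⟩ := exists_smul_of_mk_eq h
        have e00 := congrFun (congrFun hc' 0) 0
        have e01 := congrFun (congrFun hc' 0) 1
        have e11 := congrFun (congrFun hc' 1) 1
        by_cases hz : 1 + z.1 * z.2 = 0
        · rw [invMat_pos hz] at e00
          simp at e00
        · rw [invMat_neg hz] at e00 e11
          simp at e00 e11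
          exact h2 (by linear_combination -e00 - e11)
  rw [hrange, ← Nat.card_coe_set_eq, sq, ← Nat.card_prod, Nat.card_range_of_injective]
  intro z w hzw
  obtain ⟨c, hc, hc'⟩ := exists_smul_of_mk_eq hzw
  have e00 := congrFun (congrFun hc' 0) 0
  have e01 := congrFun (congrFun hc' 0) 1
  have e10 := congrFun (congrFun hc' 1) 0
  by_cases hz : 1 + z.1 * z.2 = 0
  · by_cases hw : 1 + w.1 * w.2 = 0
    · rw [invMat_pos hz, invMat_pos hw] at e01 e10
      simp at e01 e10
      subst e01
      have e1 : z.1 = w.1 := by simpa using e10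
      refine Prod.ext e1 ?_
      have hz1 : z.1 ≠ 0 := fun e => by rw [e, zero_mul, add_zero] at hz; exact one_ne_zero hz
      exact mul_left_cancel₀ hz1 (by rw [← e1] at hw; linear_combination hz - hw)
    · rw [invMat_pos hz, invMat_neg hw] at e00
      simp at e00
  · by_cases hw : 1 + w.1 * w.2 = 0
    · rw [invMat_neg hz, invMat_pos hw] at e00
      simp at e00
      exact absurd e00 hc
    · rw [invMat_neg hz, invMat_neg hw] at e00 e01 e10
      simp at e00 e01 e10
      subst e00
      exact Prod.ext (by simpa using e01) (by simpa using e10)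

/-- the inner involutions -/
theorem ncard_invol_psl (ho : Odd (Nat.card F)) :
    {g : G2 F | g ∈ psl F ∧ orderOf g = 2}.ncard * invCard (Nat.card F) * 2 =
      Nat.card F * ((Nat.card F - 1) * (Nat.card F + 1)) := by
  classical
  haveI := Fintype.ofFinite F
  haveI := finite_G2 (F := F)
  have ho' : Odd (Fintype.card F) := by rwa [← Nat.card_eq_fintype_card]
  have hpsl := card_psl F
  rw [Nat.gcd_eq_left (show 2 ∣ Nat.card F - 1 by obtain ⟨j, hj⟩ := ho; omega)] at hpsl
  obtain ⟨t, ht⟩ : ∃ t : S2P F, orderOf t = 2 := by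
    haveI : Fact (Nat.Prime 2) := ⟨Nat.prime_two⟩
    refine exists_prime_orderOf_dvd_card' 2 ?_
    rw [card_S2P]
    obtain ⟨j, hj⟩ := ho
    rw [hj, show 2 * j + 1 - 1 = 2 * j by omega] at hpsl
    rw [show Nat.card (psl F) = (2 * j + 1) * (j * (2 * j + 2)) by linarith]
    exact ⟨(2 * j + 1) * (j * (j + 1)), by ring⟩
  have hset : incl '' MulAction.orbit (ConjAct (S2P F)) t = {g : G2 F | g ∈ psl F ∧ orderOf g = 2} := by
    ext g
    constructor
    · rintro ⟨s, ⟨c, rfl⟩, rfl⟩
      refine ⟨incl_mem _, ?_⟩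
      rw [orderOf_injective _ incl_injective]
      show orderOf (c • t) = 2
      rw [ConjAct.smul_def, ← MulAut.conj_apply, MulEquiv.orderOf_eq, ht]
    · rintro ⟨hg, hgo⟩
      rw [← incl_range] at hg
      obtain ⟨s, rfl⟩ := hg
      rw [orderOf_injective _ incl_injective] at hgo
      obtain ⟨c, hc⟩ := isConj_iff.1 (CfsgLib.OddProdPSL.isConj_of_invol (x := t) (y := s) ht hgo)
      exact ⟨s, ⟨ConjAct.toConjAct c, by show ConjAct.toConjAct c • t = s; rw [ConjAct.toConjAct_smul, hc]⟩, rfl⟩
  have hC : Nat.card (MulAction.stabilizer (ConjAct (S2P F)) t) = invCard (Nat.card F) := by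
    rw [Nat.card_eq_fintype_card (α := F), ← card_cent_psl ho' t ht, ConjAct.stabilizer_eq_centralizer]
    rfl
  have h := (MulAction.stabilizer (ConjAct (S2P F)) t).card_mul_index
  rw [MulAction.index_stabilizer, hC, Nat.card_congr ConjAct.ofConjAct.toEquiv, card_S2P] at h
  rw [← hset, Set.ncard_image_of_injective _ incl_injective]
  linarith

/-- **the outer involutions** -/
theorem ncard_outer (ho : Odd (Nat.card F)) :
    2 * {g : G2 F | orderOf g = 2 ∧ g ∉ psl F}.ncard = Nat.card F * invCard (Nat.card F) := by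
  classical
  haveI := finite_G2 (F := F)
  have h1 := ncard_invol ho
  have h3 := ncard_invol_psl ho
  have hsplit := Set.ncard_inter_add_ncard_diff_eq_ncard {g : G2 F | orderOf g = 2} (psl F : Set (G2 F))
  rw [show ({g : G2 F | orderOf g = 2} ∩ (psl F : Set (G2 F))) = {g : G2 F | g ∈ psl F ∧ orderOf g = 2} from
    Set.ext fun g => and_comm, show ({g : G2 F | orderOf g = 2} \ (psl F : Set (G2 F))) =
    {g : G2 F | orderOf g = 2 ∧ g ∉ psl F} from rfl, h1] at hsplit
  generalize {g : G2 F | g ∈ psl F ∧ orderOf g = 2}.ncard = n at h3 hsplit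
  generalize {g : G2 F | orderOf g = 2 ∧ g ∉ psl F}.ncard = m at hsplit
  obtain ⟨j, hj⟩ := ho
  rw [hj] at h3 hsplit ⊢
  rw [show 2 * j + 1 - 1 = 2 * j by omega] at h3
  unfold invCard at h3 ⊢
  split_ifs at h3 ⊢ with h4
  · rw [show 2 * j + 1 - 1 = 2 * j by omega] at h3 ⊢
    rcases Nat.eq_zero_or_pos j with rfl | hj0
    · simp at hj
      exact absurd hj (by have := (Finite.one_lt_card : 1 < Nat.card F); omega)
    have : 2 * n = (2 * j + 1) * (2 * j + 1 + 1) :=
      Nat.eq_of_mul_eq_mul_right (show 0 < 2 * j by omega) (by linarith)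
    linarith
  · have : 2 * n = (2 * j + 1) * (2 * j) :=
      Nat.eq_of_mul_eq_mul_right (show 0 < 2 * j + 1 + 1 by omega) (by linarith)
    linarith

theorem pairFix_subsingleton {a b : P2 (Kc F)} (hab : a ≠ b) :
    {g : G2 F | g ∈ pairFix a b ∧ orderOf g = 2}.Subsingleton := by
  classical
  rintro g ⟨hg, hgo⟩ h ⟨hh, hho⟩
  haveI := finite_G2 (F := F)
  haveI := isCyclic_pairFix (F := F) hab
  haveI := Fintype.ofFinite (pairFix a b)
  have hd : 2 ∣ Fintype.card (pairFix a b) := by
    rw [← Nat.card_eq_fintype_card]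
    exact (dvd_of_eq hgo.symm).trans (Subgroup.orderOf_dvd_natCard _ hg)
  have hc := IsCyclic.card_orderOf_eq_totient (α := pairFix a b) hd
  rw [Nat.totient_two] at hc
  exact congrArg Subtype.val (Finset.card_le_one.1 hc.le (⟨g, hg⟩ : pairFix a b)
    (Finset.mem_filter.2 ⟨Finset.mem_univ _, by rw [Subgroup.orderOf_mk, hgo]⟩) ⟨h, hh⟩
    (Finset.mem_filter.2 ⟨Finset.mem_univ _, by rw [Subgroup.orderOf_mk, hho]⟩))

theorem pairFix_le {a b : P2 (Kc F)} (hab : GoodPair a b) : Nat.card (pairFix a b) ≤ Nat.card F + 1 := by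
  rcases card_pairFix hab with ⟨-, h⟩ | ⟨-, h⟩ <;> omega

/-- involutions outside `PSL` in a torus normaliser -/
theorem ncard_outer_pairSet (ho : Odd (Nat.card F)) {a b : P2 (Kc F)} (hg : GoodPair a b) :
    {g : G2 F | g ∈ pairSet a b ∧ orderOf g = 2 ∧ g ∉ psl F}.ncard ≤ Nat.card F + 1 := by
  classical
  haveI := finite_G2 (F := F)
  set A := {g : G2 F | g ∈ pairFix a b ∧ orderOf g = 2}
  set B := {g : G2 F | g ∈ pairSet a b ∧ g ∉ pairFix a b ∧ g ∉ psl F}
  have hsub : {g : G2 F | g ∈ pairSet a b ∧ orderOf g = 2 ∧ g ∉ psl F} ⊆ A ∪ B := fun g ⟨h1, h2, h3⟩ => by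
    by_cases h : g ∈ pairFix a b
    · exact Or.inl ⟨h, h2⟩
    · exact Or.inr ⟨h1, h, h3⟩
  have hA : A.ncard ≤ 1 := (Set.ncard_le_one_iff_subsingleton).2 (pairFix_subsingleton hg.1)
  have hB : 2 * B.ncard ≤ Nat.card F + 1 := by
    rcases B.eq_empty_or_nonempty with h | ⟨h0, h01, h02, h03⟩
    · rw [h, Set.ncard_empty]; omega
    have hle : B.ncard ≤ ((pairFix a b ⊓ psl F : Subgroup (G2 F)) : Set (G2 F)).ncard :=
      Set.ncard_le_ncard_of_injOn (fun g => h0 * g) (fun g ⟨g1, g2, g3⟩ =>
        ⟨mul_mem_of_swap h01 h02 g1 g2, (mul_mem_psl_iff ho).2 ⟨fun h => absurd h h03, fun h => absurd h g3⟩⟩)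
        (fun g _ k _ h => mul_left_cancel h)
    rw [← Nat.card_coe_set_eq ((pairFix a b ⊓ psl F : Subgroup (G2 F)) : Set (G2 F))] at hle
    change B.ncard ≤ Nat.card (pairFix a b ⊓ psl F : Subgroup (G2 F)) at hle
    have hc := card_pairFix_psl hg
    rw [CfsgLib.Perm.Dickson.gcd_odd ho] at hc
    have := pairFix_le hg
    omega
  have := (Set.ncard_le_ncard hsub).trans (Set.ncard_union_le A B)
  have := (Finite.one_lt_card : 1 < Nat.card F)
  omega

/-- involutions fixing a rational point -/
theorem ncard_invol_bor (ho : Odd (Nat.card F)) (x : P2 F) :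
    {g : G2 F | g • x = x ∧ orderOf g = 2}.ncard ≤ Nat.card F := by
  classical
  haveI := finite_G2 (F := F)
  obtain ⟨σ, hσ⟩ := exists_move_ip x
  have h : {g : G2 F | g • x = x ∧ orderOf g = 2} ⊆
      Set.range (fun t : F => σ⁻¹ * (tr t * di (-1)) * σ) := by
    rintro g ⟨hg, hgo⟩
    have hk : (σ * g * σ⁻¹) • (ip : P2 F) = ip := by rw [← hσ, conj_smul_eq rfl, hg]
    obtain ⟨t, u, htu⟩ := exists_of_fix_ip hk
    have hko : orderOf (tr t * di u) = 2 := by rw [← htu, ← MulAut.conj_apply, MulEquiv.orderOf_eq, hgo]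
    have hact : ∀ z : F, fp ((u : F) * ((u : F) * z + t) + t) = fp z := fun z => by
      rw [← trdi_fp, ← trdi_fp, ← mul_smul, CfsgLib.Invol.invol_mul_self hko, one_smul]
    have e0 := fp_inj (hact 0)
    have e1 := fp_inj (hact 1)
    have hu : (u : F) * u = 1 := by linear_combination e1 - e0
    rcases mul_self_eq_one_iff.1 hu with hu1 | hu1
    · exfalso
      have ht : t = 0 := by
        rw [hu1] at e0
        exact (mul_eq_zero.1 (show (2 : F) * t = 0 by linear_combination e0)).resolve_left (two_ne_zero_of_odd ho)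
      refine CfsgLib.Invol.invol_ne_one hko ?_
      rw [ht, tr_zero, show u = 1 from Units.ext hu1, di_one, one_mul]
    · refine ⟨t, ?_⟩
      show σ⁻¹ * (tr t * di (-1)) * σ = g
      rw [show (-1 : Fˣ) = u from Units.ext (by rw [hu1]; simp), ← htu]
      group
  refine (Set.ncard_le_ncard h).trans ?_
  rw [← Nat.card_coe_set_eq]
  exact Finite.card_range_le _

theorem psl_le_of_conjG {H : Subgroup (G2 F)} {σ : G2 F} (h : psl F ≤ conjG σ H) : psl F ≤ H := by
  intro g hg
  have h1 : σ * g * σ⁻¹ ∈ conjG σ H := h ((inferInstance : (psl F).Normal).conj_mem g hg σ)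
  obtain ⟨k, hk, hk'⟩ := h1
  rwa [show g = k from ((MulAut.conj σ).injective hk').symm]

theorem alt_five_invol : ∀ v : alternatingGroup (Fin 5), v * v = 1 →
    ∃ w : alternatingGroup (Fin 5), w * w * w = 1 ∧ v * w * (v * w) * (v * w) = 1 := by decide +kernel

theorem alt_four_invol : (Finset.univ.filter fun v : alternatingGroup (Fin 4) => v * v = 1 ∧ v ≠ 1).card = 3 := by
  decide +kernel

theorem perm_four_invol :
    (Finset.univ.filter fun v : Equiv.Perm (Fin 4) => v * v = 1 ∧ Equiv.Perm.sign v ≠ 1).card = 6 := by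
  decide +kernel

/-- **a subgroup not containing `PSL(2, q)` has at most `q + 1` outer involutions** -/
theorem ncard_outer_le (ho : Odd (Nat.card F)) (h5 : 5 ≤ Nat.card F) (H : Subgroup (G2 F)) (hH : ¬ psl F ≤ H) :
    {g : G2 F | g ∈ H ∧ orderOf g = 2 ∧ g ∉ psl F}.ncard ≤ Nat.card F + 1 := by
  classical
  haveI := finite_G2 (F := F)
  obtain ⟨p, hchar⟩ := CharP.exists F
  haveI := hchar
  haveI : Fact p.Prime := ⟨CharP.char_is_prime F p⟩
  set S := {g : G2 F | g ∈ H ∧ orderOf g = 2 ∧ g ∉ psl F}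
  have key : ∀ {Y : Type} [Group Y] [Fintype Y] [DecidableEq Y] (e : H ≃* Y) (P : Y → Prop) [DecidablePred P],
      (∀ g : H, orderOf g = 2 → (g : G2 F) ∉ psl F → P (e g)) → S.ncard ≤ (Finset.univ.filter P).card := by
    intro Y _ _ _ e P _ hP
    rw [← Set.ncard_coe_finset]
    refine Set.ncard_le_ncard_of_injOn (fun g => if hg : g ∈ H then e ⟨g, hg⟩ else 1) (fun g ⟨g1, g2, g3⟩ => ?_)
      (fun g ⟨g1, _⟩ k ⟨k1, _⟩ h => ?_)
    · simp only [dif_pos g1, Finset.coe_filter, Finset.mem_univ, true_and, Set.mem_setOf_eq]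
      exact hP _ (by rw [Subgroup.orderOf_mk, g2]) g3
    · simp only [dif_pos g1, dif_pos k1, EmbeddingLike.apply_eq_iff_eq, Subtype.mk.injEq] at h
      exact h
  cases classify_finite p H with
  | borel x h =>
    refine le_trans (Set.ncard_le_ncard (fun g hg => ?_)) ((ncard_invol_bor ho x).trans (Nat.le_succ _))
    exact ⟨h g hg.1, hg.2.1⟩
  | cyclic a b hg h hne =>
    refine le_trans (Set.ncard_le_ncard (fun g hg => ?_)) (ncard_outer_pairSet ho hg)
    exact ⟨pairFix_le_pairSet a b (h hg.1), hg.2⟩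
  | dihedral a b hg h hn hC =>
    exact le_trans (Set.ncard_le_ncard (show S ⊆ {g : G2 F | g ∈ pairSet a b ∧ orderOf g = 2 ∧ g ∉ psl F} from fun g hg => ⟨h hg.1, hg.2⟩)) (ncard_outer_pairSet ho hg)
  | a4 hN h2 h3 h =>
    obtain ⟨e⟩ := h
    have := key e (fun v => v * v = 1 ∧ v ≠ 1) (fun g hg _ => CfsgLib.Invol.invol_iff.1 (by
      rw [MulEquiv.orderOf_eq, hg]))
    rw [alt_four_invol] at this
    omega
  | s4 hN h2 h3 h =>
    obtain ⟨e⟩ := h
    have := key e (fun v => v * v = 1 ∧ Equiv.Perm.sign v ≠ 1) (fun g hg hgn => by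
      have hsq := CfsgLib.Invol.invol_mul_self (show orderOf (e g) = 2 by rw [MulEquiv.orderOf_eq, hg])
      refine ⟨hsq, fun hs => hgn ?_⟩
      obtain ⟨w, hw⟩ := ((vS4_squares (e g)).resolve_left (by simp [hsq, hs]))
      have : g = e.symm w * e.symm w := by rw [← map_mul, hw, e.symm_apply_apply]
      rw [this]
      exact sq_mem_psl ho _)
    rw [perm_four_invol] at this
    omega
  | a5 hN h2 h5' h =>
    obtain ⟨e⟩ := h
    refine le_trans (le_of_eq ?_) (Nat.zero_le _)
    rw [Set.ncard_eq_zero]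
    refine Set.eq_empty_of_forall_notMem fun g ⟨g1, g2, g3⟩ => g3 ?_
    have hsq3 : ∀ y : H, y * y * y = 1 → (y : G2 F) ∈ psl F := fun y hy => by
      have : y = (y * y) * (y * y) := by rw [← mul_assoc, hy, one_mul]
      rw [this]
      exact sq_mem_psl ho _
    obtain ⟨w, hw1, hw2⟩ := alt_five_invol (e ⟨g, g1⟩) (CfsgLib.Invol.invol_mul_self (by
      rw [MulEquiv.orderOf_eq, Subgroup.orderOf_mk, g2]))
    have h1 := hsq3 (e.symm w) (by rw [← map_mul, ← map_mul, hw1, map_one])
    have h2 := hsq3 (⟨g, g1⟩ * e.symm w) (e.injective (by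
      simp only [map_mul, map_one, MulEquiv.apply_symm_apply]; exact hw2))
    exact (Subgroup.mul_mem_cancel_right _ h1).1 h2
  | subfield σ F1 h3 h =>
    by_cases hc : Nat.card F1 = Nat.card F
    · refine absurd (psl_le_of_conjG (σ := σ) ?_) hH
      have hbij : Function.Bijective F1.subtype :=
        (Nat.bijective_iff_injective_and_card _).2 ⟨F1.subtype.injective, hc⟩
      have he : ((RingEquiv.ofBijective F1.subtype hbij : F1 ≃+* F) : F1 →+* F) = F1.subtype := RingHom.ext fun _ => rfl
      have hp := psl_map_equiv (RingEquiv.ofBijective F1.subtype hbij)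
      rw [he] at hp
      rcases h with h | ⟨-, h⟩
      · rw [h]
        exact hp ▸ Subgroup.map_le_range _ _
      · rw [h, hp]
    · have hsq := subfield_card_sq_le hc
      have hrange : conjG σ H ≤ (mapG F1.subtype).range := by
        rcases h with h | ⟨-, h⟩
        · rw [h]
        · rw [h]; exact Subgroup.map_le_range _ _
      have ho1 := odd_subfield ho F1
      have : S.ncard ≤ (mapG F1.subtype '' {g : G2 F1 | orderOf g = 2}).ncard := by
        refine Set.ncard_le_ncard_of_injOn (fun g => σ * g * σ⁻¹) (fun g ⟨g1, g2, _⟩ => ?_)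
          (fun g _ k _ hgk => (MulAut.conj σ).injective hgk)
        obtain ⟨k, hk⟩ := hrange ⟨g, g1, rfl⟩
        refine ⟨k, ?_, hk⟩
        show orderOf k = 2
        rw [← orderOf_injective _ (mapG_injective F1.subtype) k, hk]
        show orderOf (MulAut.conj σ g) = 2
        rw [MulEquiv.orderOf_eq, g2]
      rw [Set.ncard_image_of_injective _ (mapG_injective _), ncard_invol ho1, sq] at this
      omega

/-- **normalisers of tori** -/
theorem ncard_normalizer_torus (ho : Odd (Nat.card F)) {g : G2 F} (hg : g ≠ 1)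
    (hd : orderOf g ∣ outerCard (Nat.card F) / 2) :
    ((Subgroup.normalizer (Subgroup.zpowers g : Set (G2 F))) : Set (G2 F)).ncard ≤ 2 * outerCard (Nat.card F) := by
  classical
  haveI := finite_G2 (F := F)
  obtain ⟨p, hchar⟩ := CharP.exists F
  haveI := hchar
  haveI : Fact p.Prime := ⟨CharP.char_is_prime F p⟩
  have hcases : (outerCard (Nat.card F) = Nat.card F + 1 ∧ Nat.card F % 4 = 1) ∨
      (outerCard (Nat.card F) = Nat.card F - 1 ∧ Nat.card F % 4 = 3) := by
    obtain ⟨j, hj⟩ := ho
    unfold outerCard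
    split_ifs with h
    · exact Or.inl ⟨rfl, h⟩
    · exact Or.inr ⟨rfl, by omega⟩
  have hodd : Odd (orderOf g) := by
    refine Odd.of_dvd_nat ?_ hd
    rw [Nat.odd_iff]
    rcases hcases with ⟨h, h'⟩ | ⟨h, h'⟩ <;> omega
  have hdq : orderOf g ∣ outerCard (Nat.card F) :=
    hd.trans (Nat.div_dvd_of_dvd (by rcases hcases with ⟨h, h'⟩ | ⟨h, h'⟩ <;> omega))
  have hp : orderOf g ≠ p := fun h => by
    rcases hcases with ⟨e, -⟩ | ⟨e, -⟩ <;> rw [h, e] at hdq
    · exact not_dvd_q_add_one p hdq
    · exact not_dvd_q_sub_one p hdq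
  obtain ⟨a, b, hgood, hgm⟩ := exists_torus p hg hp
  have hr : 3 ≤ orderOf g := by
    have := orderOf_pos g
    have : orderOf g ≠ 1 := fun h => hg (orderOf_eq_one_iff.1 h)
    rw [Nat.odd_iff] at hodd
    omega
  have hcard : Nat.card (pairFix a b) = outerCard (Nat.card F) := by
    have hd2 : orderOf g ∣ Nat.card (pairFix a b) := Subgroup.orderOf_dvd_natCard _ hgm
    by_contra hne
    have h2 : orderOf g ∣ 2 := by
      rcases card_pairFix hgood with ⟨-, hc⟩ | ⟨-, hc⟩ <;> rcases hcases with ⟨e, -⟩ | ⟨e, -⟩ <;>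
        first
          | exact absurd (hc.trans e.symm) hne
          | (rw [hc] at hd2
             rw [e] at hdq
             have := (Nat.dvd_add_right hd2).1 (show orderOf g ∣ (Nat.card F - 1) + 2 by
               rwa [show Nat.card F - 1 + 2 = Nat.card F + 1 by have := (Finite.one_lt_card : 1 < Nat.card F); omega])
             exact this)
          | (rw [hc] at hd2
             rw [e] at hdq
             have := (Nat.dvd_add_right hdq).1 (show orderOf g ∣ (Nat.card F - 1) + 2 by
               rwa [show Nat.card F - 1 + 2 = Nat.card F + 1 by have := (Finite.one_lt_card : 1 < Nat.card F); omega])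
             exact this)
    have := Nat.le_of_dvd two_pos h2
    omega
  have hsub : ((Subgroup.normalizer (Subgroup.zpowers g : Set (G2 F))) : Set (G2 F)) ⊆ (pairSet a b : Set (G2 F)) := by
    intro h hh
    have hk : h⁻¹ * g * h⁻¹⁻¹ ∈ Subgroup.zpowers g :=
      (Subgroup.mem_normalizer_iff.1 (inv_mem hh) g).1 (Subgroup.mem_zpowers g)
    rw [inv_inv] at hk
    have hkP : h⁻¹ * g * h ∈ pairFix a b := (Subgroup.zpowers_le.2 hgm) hk
    have hone : mapG (iF F) g ≠ 1 := fun e => hg ((map_eq_one_iff _ (mapG_injective _)).1 e)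
    have hfix : ∀ w, mapG (iF F) (h⁻¹ * g * h) • w = w → mapG (iF F) h • w = a ∨ mapG (iF F) h • w = b := by
      intro w hw
      rw [map_mul, map_mul, map_inv, mul_smul, mul_smul, inv_smul_eq_iff] at hw
      by_contra! hcon
      exact hone (eq_one_of_three hgood.1 (Ne.symm hcon.1) (Ne.symm hcon.2) (mem_pairFix.1 hgm).1
        (mem_pairFix.1 hgm).2 hw)
    rcases hfix a (mem_pairFix.1 hkP).1 with e1 | e1 <;> rcases hfix b (mem_pairFix.1 hkP).2 with e2 | e2
    · exact absurd (MulAction.injective (mapG (iF F) h) (e1.trans e2.symm)) hgood.1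
    · exact Or.inl ⟨e1, e2⟩
    · exact Or.inr ⟨e1, e2⟩
    · exact absurd (MulAction.injective (mapG (iF F) h) (e1.trans e2.symm)) hgood.1
  refine (Set.ncard_le_ncard hsub).trans ?_
  have hP : (pairFix a b : Set (G2 F)).ncard = outerCard (Nat.card F) := by
    rw [← Nat.card_coe_set_eq]; exact hcard
  by_cases hle : pairSet a b ≤ pairFix a b
  · have := Set.ncard_le_ncard (show (pairSet a b : Set (G2 F)) ⊆ (pairFix a b : Set (G2 F)) from hle)
    omega
  obtain ⟨h0, h01, h02⟩ := SetLike.not_le_iff_exists.1 hle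
  have h : (pairSet a b : Set (G2 F)) ⊆ (pairFix a b : Set (G2 F)) ∪ (fun k => h0⁻¹ * k) '' (pairFix a b : Set (G2 F)) :=
    fun k hk => by
      by_cases hkf : k ∈ pairFix a b
      · exact Or.inl hkf
      · exact Or.inr ⟨h0 * k, mul_mem_of_swap h01 h02 hk hkf, inv_mul_cancel_left h0 k⟩
  refine (Set.ncard_le_ncard h).trans ((Set.ncard_union_le _ _).trans ?_)
  rw [Set.ncard_image_of_injective _ (mul_right_injective h0⁻¹), hP]
  omega

end CfsgLib.GW
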