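import Cfsg.Agent.Lib.Perm.Dickson.Finite
import Cfsg.Agent.Lib.Perm.Dickson.KleinConj
import Cfsg.Agent.Lib.Perm.Dickson.Subfield
import Cfsg.Agent.Lib.Perm.Dickson.Semisimple

/-!
# Two commuting outer involutions of `PGL(2, q)` and their tori generate `PSL(2, q)`
-/

set_option autoImplicit false
set_option linter.style.haveILetI false
set_option linter.unusedSectionVars false

namespace CfsgLib.GW

open Matrix CfsgLib.Perm.Dickson

variable {F : Type*} [Field F] [Finite F]

theorem perm_four_orders : ∀ x : Equiv.Perm (Fin 4), x ^ 4 = 1 ∨ x ^ 3 = 1 := by decide +kernel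

theorem alt_five_orders : ∀ x : alternatingGroup (Fin 5), x ^ 5 = 1 ∨ x ^ 3 = 1 ∨ x ^ 2 = 1 := by decide +kernel

theorem orderOf_le_five {G : Type*} [Group G] (x : G) (h : x ^ 4 = 1 ∨ x ^ 3 = 1 ∨ x ^ 5 = 1 ∨ x ^ 2 = 1) :
    orderOf x ≤ 5 := by
  rcases h with h | h | h | h <;>
    exact le_trans (Nat.le_of_dvd (by norm_num) (orderOf_dvd_of_pow_eq_one h)) (by norm_num)

/-- an outer involution with its torus -/
theorem exists_torus (ho : Odd (Nat.card F)) (h5 : 5 ≤ Nat.card F) {α : G2 F} (hα : orderOf α = 2)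
    (hαn : α ∉ psl F) :
    ∃ (a b : P2 (Kc F)) (c : G2 F), a ≠ b ∧ α ∈ pairFix a b ∧
      c ∈ psl F ∧ c ∈ pairFix a b ∧ Commute c α ∧ Odd (orderOf c) ∧ Nat.card F - 1 ≤ 2 * orderOf c ∧
      orderOf (α * c) = 2 * orderOf c := by
  classical
  haveI := finite_G2 (F := F)
  obtain ⟨p, hchar⟩ := CharP.exists F
  haveI := hchar
  haveI : Fact p.Prime := ⟨CharP.char_is_prime F p⟩
  haveI := charP_Kc (F := F) p
  have hα1 : α ≠ 1 := fun h => by rw [h, orderOf_one] at hα; omega
  obtain ⟨a, ha⟩ := exists_fixed_of_isAlgClosed (mapG (iF F) α)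
  obtain ⟨b, hb, hba⟩ : ∃ b, mapG (iF F) α • b = b ∧ b ≠ a := by
    by_contra! h
    have hp := pow_char_of_single p ha h
    rw [← map_pow, map_eq_one_iff _ (mapG_injective _)] at hp
    have h2 := (Nat.dvd_prime (Fact.out : p.Prime)).1 (orderOf_dvd_of_pow_eq_one hp)
    rw [hα] at h2
    have hp2 : p = 2 := (h2.resolve_left (by norm_num)).symm
    subst hp2
    exact two_ne_zero_of_odd ho (CharTwo.two_eq_zero (R := F))
  have hab : a ≠ b := Ne.symm hba
  have hgood := goodPair_of_fix p hα1 hab ha hb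
  have hαP : α ∈ pairFix a b := mem_pairFix.2 ⟨ha, hb⟩
  haveI hcyc : IsCyclic (pairFix a b) := isCyclic_pairFix hab
  set T0 := pairFix a b ⊓ psl F with hT0
  haveI : IsCyclic T0 := isCyclic_of_injective _ (Subgroup.inclusion_injective (inf_le_left : T0 ≤ pairFix a b))
  have hcardT := card_pairFix_psl hgood
  rw [gcd_odd ho] at hcardT
  -- the torus part in `psl` has odd order: the only involution of the torus is `α`
  have hodd : Odd (Nat.card T0) := by
    rw [← Nat.not_even_iff_odd, even_iff_two_dvd]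
    intro hd
    obtain ⟨t, ht⟩ := exists_prime_orderOf_dvd_card' 2 hd
    have ht' : orderOf (t : G2 F) = 2 := by rw [Subgroup.orderOf_coe, ht]
    have heq : (⟨(t : G2 F), t.2.1⟩ : pairFix a b) = ⟨α, hαP⟩ := by
      haveI := Fintype.ofFinite (pairFix a b)
      have h2 : 2 ∣ Fintype.card (pairFix a b) := by
        rw [← Nat.card_eq_fintype_card]
        exact (dvd_of_eq hα.symm).trans (Subgroup.orderOf_dvd_natCard _ hαP)
      have hcard1 := IsCyclic.card_orderOf_eq_totient (α := pairFix a b) h2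
      rw [Nat.totient_two] at hcard1
      exact Finset.card_le_one.1 hcard1.le _
        (Finset.mem_filter.2 ⟨Finset.mem_univ _, by rw [Subgroup.orderOf_mk, ht']⟩) _
        (Finset.mem_filter.2 ⟨Finset.mem_univ _, by rw [Subgroup.orderOf_mk, hα]⟩)
    have h' : (t : G2 F) = α := congrArg Subtype.val heq
    exact hαn (h' ▸ t.2.2)
  obtain ⟨c, hc⟩ := IsCyclic.exists_ofOrder_eq_natCard (α := T0)
  have hco : orderOf (c : G2 F) = Nat.card T0 := by rw [Subgroup.orderOf_coe, hc]
  have hcomm : Commute (c : G2 F) α := congrArg Subtype.val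
    (IsCyclic.commGroup.mul_comm (⟨c, c.2.1⟩ : pairFix a b) ⟨α, hαP⟩)
  refine ⟨a, b, c, hab, hαP, c.2.2, c.2.1, hcomm, hco ▸ hodd, ?_, ?_⟩
  · rw [hco, hcardT]
    rcases card_pairFix hgood with ⟨-, h⟩ | ⟨-, h⟩ <;> omega
  · rw [hcomm.symm.orderOf_mul_eq_mul_orderOf_of_coprime (by
      rw [hα, hco]; exact Nat.coprime_two_left.2 hodd), hα]

/-- **generation** -/
theorem psl_le_of_tori (ho : Odd (Nat.card F)) (h5 : 5 ≤ Nat.card F) {α β : G2 F} (hα : orderOf α = 2)
    (hβ : orderOf β = 2) (hαn : α ∉ psl F) (hβn : β ∉ psl F) (hne : α ≠ β) (hc : Commute α β)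
    (K : Subgroup (G2 F)) (hαK : α ∈ K) (hβK : β ∈ K) (hCα : ∀ c ∈ psl F, Commute c α → c ∈ K)
    (hCβ : ∀ c ∈ psl F, Commute c β → c ∈ K) : psl F ≤ K := by
  classical
  haveI := finite_G2 (F := F)
  obtain ⟨p, hchar⟩ := CharP.exists F
  haveI := hchar
  haveI : Fact p.Prime := ⟨CharP.char_is_prime F p⟩
  obtain ⟨a, b, c, hab, hαP, hcp, hcP, hcα, hcodd, hcm, hαc⟩ := exists_torus ho h5 hα hαn
  obtain ⟨a₂, b₂, d, hab₂, hβP, hdp, -, hdβ, hdodd, hdm, hβd⟩ := exists_torus ho h5 hβ hβn
  have hcK : c ∈ K := hCα c hcp hcα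
  have hdK : d ∈ K := hCβ d hdp hdβ
  have hα1 : mapG (iF F) α ≠ 1 := fun h => by
    rw [map_eq_one_iff _ (mapG_injective _)] at h
    rw [h, orderOf_one] at hα
    omega
  have huniqα : ∀ x, mapG (iF F) α • x = x → x = a ∨ x = b := by
    intro x hx
    by_contra! hh
    exact hα1 (eq_one_of_three hab (Ne.symm hh.1) (Ne.symm hh.2) (mem_pairFix.1 hαP).1 (mem_pairFix.1 hαP).2 hx)
  -- two commuting involutions of one torus coincide
  have hkey : ∀ (u v : P2 (Kc F)), u ≠ v → α ∈ pairFix u v → β ∈ pairFix u v → False := by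
    intro u v huv h1 h2
    haveI := isCyclic_pairFix (F := F) huv
    haveI := Fintype.ofFinite (pairFix u v)
    have h22 : 2 ∣ Fintype.card (pairFix u v) := by
      rw [← Nat.card_eq_fintype_card]
      exact (dvd_of_eq hα.symm).trans (Subgroup.orderOf_dvd_natCard _ h1)
    have hcard1 := IsCyclic.card_orderOf_eq_totient (α := pairFix u v) h22
    rw [Nat.totient_two] at hcard1
    exact hne (congrArg Subtype.val (Finset.card_le_one.1 hcard1.le (⟨α, h1⟩ : pairFix u v)
      (Finset.mem_filter.2 ⟨Finset.mem_univ _, by rw [Subgroup.orderOf_mk, hα]⟩) ⟨β, h2⟩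
      (Finset.mem_filter.2 ⟨Finset.mem_univ _, by rw [Subgroup.orderOf_mk, hβ]⟩)))
  have hm3 : 3 ≤ orderOf c ∧ 3 ≤ orderOf d := by
    obtain ⟨i, hi⟩ := hcodd
    obtain ⟨j, hj⟩ := hdodd
    omega
  cases classify_finite p K with
  | borel x h =>
    exfalso
    -- the four group would fix a pair of points
    have hxa : mapG (iF F) α • mapP (iF F) x = mapP (iF F) x := (fix_map_iff α x).2 (h α hαK)
    have hxb : mapG (iF F) β • mapP (iF F) x = mapP (iF F) x := (fix_map_iff β x).2 (h β hβK)
    have hperm : ∀ y : P2 (Kc F), mapG (iF F) α • y = y → mapG (iF F) α • (mapG (iF F) β • y) = mapG (iF F) β • y :=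
      fun y hy => by rw [← mul_smul, ← map_mul, hc.eq, map_mul, mul_smul, hy]
    rcases huniqα _ hxa with e | e
    · rw [e] at hxb
      rcases huniqα _ (hperm b (mem_pairFix.1 hαP).2) with e' | e'
      · exact hab (MulAction.injective (mapG (iF F) β) (hxb.trans e'.symm))
      · exact hkey a b hab hαP (mem_pairFix.2 ⟨hxb, e'⟩)
    · rw [e] at hxb
      rcases huniqα _ (hperm a (mem_pairFix.1 hαP).1) with e' | e'
      · exact hkey a b hab hαP (mem_pairFix.2 ⟨e', hxb⟩)
      · exact hab (MulAction.injective (mapG (iF F) β) (e'.trans hxb.symm))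
  | cyclic u v hg h hne' => exact absurd (h hβK) (fun hh => hkey u v hg.1 (h hαK) hh)
  | dihedral u v hg h hn hC =>
    exfalso
    have inFix : ∀ (ι e : G2 F), orderOf ι = 2 → Commute e ι → Odd (orderOf e) → 3 ≤ orderOf e → ι ∈ K → e ∈ K →
        ι ∈ pairFix u v := by
      intro ι e hι hcom hodd h3 hιK heK
      have hord : orderOf (ι * e) = 2 * orderOf e := by
        rw [hcom.symm.orderOf_mul_eq_mul_orderOf_of_coprime (by rw [hι]; exact Nat.coprime_two_left.2 hodd), hι]
      have hin : ι * e ∈ pairFix u v := by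
        by_contra hnot
        have h2 := sq_of_swap hg.1 (h (mul_mem hιK heK)) hnot
        have h2' := orderOf_dvd_of_pow_eq_one (by rwa [sq] : (ι * e) ^ 2 = 1)
        rw [hord] at h2'
        have := Nat.le_of_dvd two_pos h2'
        omega
      obtain ⟨k, hk⟩ := hodd
      have hpow : (ι * e) ^ orderOf e = ι := by
        rw [hcom.symm.mul_pow, pow_orderOf_eq_one, mul_one, hk, pow_succ, pow_mul,
          orderOf_dvd_iff_pow_eq_one.1 hι.dvd, one_pow, one_mul]
      exact hpow ▸ pow_mem hin _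
    exact hkey u v hg.1 (inFix α c hα hcα hcodd hm3.1 hαK hcK) (inFix β d hβ hdβ hdodd hm3.2 hβK hdK)
  | a4 hN _ _ h =>
    exfalso
    obtain ⟨e⟩ := h
    have hle := orderOf_le_five ((e ⟨α * c, mul_mem hαK hcK⟩ : alternatingGroup (Fin 4)) : Equiv.Perm (Fin 4))
      ((perm_four_orders _).imp id Or.inl)
    rw [Subgroup.orderOf_coe, MulEquiv.orderOf_eq, Subgroup.orderOf_mk, hαc] at hle
    omega
  | s4 hN _ _ h =>
    exfalso
    obtain ⟨e⟩ := h
    have hle := orderOf_le_five (e ⟨α * c, mul_mem hαK hcK⟩) ((perm_four_orders _).imp id Or.inl)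
    rw [MulEquiv.orderOf_eq, Subgroup.orderOf_mk, hαc] at hle
    omega
  | a5 hN _ _ h =>
    exfalso
    obtain ⟨e⟩ := h
    have hle := orderOf_le_five (e ⟨α * c, mul_mem hαK hcK⟩) (by
      rcases alt_five_orders (e ⟨α * c, mul_mem hαK hcK⟩) with h | h | h <;> simp [h])
    rw [MulEquiv.orderOf_eq, Subgroup.orderOf_mk, hαc] at hle
    omega
  | subfield σ F1 h3 h =>
    by_cases htop : F1 = ⊤
    · -- the whole field
      have hle : psl F ≤ conjG σ K := by
        subst htop
        let e : (⊤ : Subfield F) ≃+* F := Subfield.topEquiv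
        have hsub : ((⊤ : Subfield F).subtype : (⊤ : Subfield F) →+* F) = (e : (⊤ : Subfield F) →+* F) :=
          RingHom.ext fun _ => rfl
        rcases h with h | ⟨-, h⟩ <;> rw [h, hsub]
        · rw [MonoidHom.range_eq_top.2 (mapG_surjective e)]
          exact le_top
        · rw [psl_map_equiv e]
      rw [← conjG_psl σ] at hle
      intro x hx
      have h' := hle (mem_conjG.2 (show σ⁻¹ * (σ * x * σ⁻¹) * σ ∈ psl F by simpa [mul_assoc] using hx))
      rw [mem_conjG] at h'
      simpa [mul_assoc] using h'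
    · exfalso
      have hsq : Nat.card F1 * Nat.card F1 ≤ Nat.card F := by
        have hdvd : Nat.card F = Nat.card F1 ^ Module.finrank F1 F := Module.natCard_eq_pow_finrank
        have h2 : 2 ≤ Module.finrank F1 F := by
          by_contra hlt
          have h1 : Module.finrank F1 F = 1 := by
            have := Module.finrank_pos (R := F1) (M := F)
            omega
          rw [h1, pow_one] at hdvd
          exact htop (SetLike.coe_injective ((Set.eq_of_subset_of_ncard_le (t := Set.univ) (Set.subset_univ _) (by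
            rw [Set.ncard_univ, hdvd]; exact (Nat.card_coe_set_eq _).ge) (Set.toFinite _)).trans
            (Subfield.coe_top).symm))
        rw [hdvd, ← sq]
        exact Nat.pow_le_pow_right (by omega) h2
      haveI : CharP F1 p := (RingHom.charP_iff F1.subtype F1.subtype.injective p).2 inferInstance
      obtain ⟨g, hg⟩ : ∃ g, mapG F1.subtype g = σ * (α * c) * σ⁻¹ := by
        have hin : σ * (α * c) * σ⁻¹ ∈ conjG σ K := mem_conjG.2 (by
          simpa [mul_assoc] using mul_mem hαK hcK)
        rcases h with h | ⟨-, h⟩ <;> rw [h] at hin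
        · exact hin
        · obtain ⟨g, -, hg⟩ := hin
          exact ⟨g, hg⟩
      have hgo : orderOf g = 2 * orderOf c := by
        rw [← orderOf_injective _ (mapG_injective F1.subtype) g, hg,
          show σ * (α * c) * σ⁻¹ = MulAut.conj σ (α * c) from rfl, MulEquiv.orderOf_eq, hαc]
      have hple : p ≤ Nat.card F1 + 1 := by
        haveI := Fintype.ofFinite F1
        obtain ⟨n, -, hn⟩ := FiniteField.card F1 p
        rw [Nat.card_eq_fintype_card, hn]
        exact le_trans (Nat.le_self_pow n.pos.ne' p) (Nat.le_succ _)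
      have hub : orderOf g ≤ Nat.card F1 + 1 := by
        rcases order_cases p g with h' | h' | h'
        · exact le_trans (Nat.le_of_dvd (by omega) h') (by omega)
        · exact Nat.le_of_dvd (by omega) h'
        · omega
      have hq : Nat.card F ≤ Nat.card F1 + 2 := by omega
      nlinarith [hsq, hq, h3]

end CfsgLib.GW
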