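import Cfsg.Agent.Lib.GW.FieldPart
import Cfsg.Agent.Lib.GW.OuterTori
import Mathlib.GroupTheory.Perm.Cycle.Type

/-!
# A four group acting on a group with dihedral Sylow 2-subgroups (S1916)
-/

set_option autoImplicit false
set_option linter.style.haveILetI false
set_option linter.unusedSectionVars false

namespace CfsgLib.GW

open Matrix CfsgLib.AutPSL CfsgLib.Invol

universe u

/-- a group with cyclic Sylow 2-subgroups has no four group -/
theorem no_four_of_cyclic_sylow {H : Type*} [Group H] [Finite H] (hR : ∀ R : Sylow 2 H, IsCyclic R) {u v : H}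
    (hu : orderOf u = 2) (hv : orderOf v = 2) (huv : u ≠ v) (hc : Commute u v) : False := by
  haveI : Fact (Nat.Prime 2) := ⟨Nat.prime_two⟩
  have hK : IsKleinFour (Subgroup.closure ({u, v} : Set H)) := isKleinFour_closure_pair hu hv huv hc
  obtain ⟨R, hle⟩ := (IsPGroup.of_card (n := 2) (by rw [hK.card_four]; norm_num) :
    IsPGroup 2 (Subgroup.closure ({u, v} : Set H))).exists_le_sylow
  haveI := hR R
  haveI := hK
  exact IsKleinFour.not_isCyclic (isCyclic_of_injective _ (Subgroup.inclusion_injective hle))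

variable {F : Type*} [Field F] [Fintype F]

/-- `PGL(2, F)` acts on `PSL(2, F)` -/
noncomputable def pglAct : CfsgLib.Perm.Dickson.G2 F →* MulAut (Matrix.ProjectiveSpecialLinearGroup (Fin 2) F) :=
  Matrix.ProjGenLinGroup.lift indHom (MonoidHom.ext fun c => by
    rw [MonoidHom.comp_apply, MonoidHom.one_apply]
    refine indHom_scalar le_rfl (c := (c : F)) ?_
    rw [GeneralLinearGroup.scalar, Units.coe_map]
    exact (Matrix.smul_one_eq_diagonal _).symm)

theorem pglAct_mk (g : GL (Fin 2) F) : pglAct (Matrix.ProjGenLinGroup.mk g) = indHom g :=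
  Matrix.ProjGenLinGroup.lift_mk _ g

theorem pglAct_injective : Function.Injective (pglAct (F := F)) := by
  refine (injective_iff_map_eq_one _).2 fun x hx => ?_
  cases x using Matrix.ProjGenLinGroup.induction_on with
  | mk g =>
    rw [pglAct_mk] at hx
    obtain ⟨c, hc⟩ := scalar_of_indHom le_rfl hx
    rw [Matrix.ProjGenLinGroup.mk_eq_one, Subgroup.mem_center_iff]
    intro h
    apply Units.ext
    rw [Units.val_mul, Units.val_mul, hc, mul_smul_comm, smul_mul_assoc, one_mul, mul_one]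

/-- an involutory automorphism of `PSL(2, F)` fixing no four group is diagonal and outer -/
theorem outer_of_no_four (h2 : (2 : F) ≠ 0) (α : MulAut (Matrix.ProjectiveSpecialLinearGroup (Fin 2) F))
    (hα : α * α = 1) (hno : ∀ x y : Matrix.ProjectiveSpecialLinearGroup (Fin 2) F, orderOf x = 2 → orderOf y = 2 →
      x ≠ y → Commute x y → α x = x → α y = y → False) :
    α ≠ 1 ∧ ∃ g : GL (Fin 2) F, α = indHom g ∧ ¬ IsSquare g.1.det := by
  obtain ⟨a, b, ha, hb, hab, hc, -, -⟩ := exists_fixed_four h2 (1 : RingAut F)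
  have hα1 : α ≠ 1 := fun h => hno a b ha hb hab hc (by rw [h]; rfl) (by rw [h]; rfl)
  refine ⟨hα1, ?_⟩
  obtain ⟨σ, g, rfl⟩ := exists_ind α
  have hσ2 : σ * σ = 1 := by
    have h := congrArg fieldPartHom hα
    rwa [map_mul, fieldPartHom_ind, map_one] at h
  by_cases hσ : σ = 1
  · subst hσ
    refine ⟨g, rfl, fun hsq => ?_⟩
    obtain ⟨t, ht⟩ := (indHom_mem_inn_iff h2 g).2 hsq
    change MulAut.conj t = ind g 1 at ht
    have ht1 : t ≠ 1 := fun h => hα1 (by rw [← ht, h, map_one])
    have htt : t * t = 1 := by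
      refine CfsgLib.AutPSL.conj_injective (F := F) le_rfl ?_
      rw [map_mul, map_one, ht, hα]
    have hto : orderOf t = 2 := invol_iff.2 ⟨htt, ht1⟩
    obtain ⟨c, hc'⟩ := isConj_iff.1 (CfsgLib.OddProdPSL.isConj_of_invol (x := a) (y := t) ha hto)
    refine hno t (MulAut.conj c b) hto (by rw [MulEquiv.orderOf_eq, hb]) (fun h => hab ?_) ?_ ?_ ?_
    · exact (MulAut.conj c).injective (hc'.trans h)
    · rw [← hc']; exact hc.map (MulAut.conj c).toMonoidHom
    · rw [← ht]; show t * t * t⁻¹ = t; group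
    · rw [← ht]
      show t * (c * b * c⁻¹) * t⁻¹ = c * b * c⁻¹
      have h := (hc.map (MulAut.conj c).toMonoidHom)
      change Commute (c * a * c⁻¹) (c * b * c⁻¹) at h
      rw [hc'] at h
      rw [h.eq, mul_inv_cancel_right]
  · exfalso
    have hσo : orderOf σ = 2 := invol_iff.2 ⟨hσ2, hσ⟩
    obtain ⟨B, hB⟩ := field_coset_conj le_rfl hσo two_pos g (by rw [sq]; exact hα)
    obtain ⟨x, y, hx, hy, hxy, hcxy, hfx, hfy⟩ := exists_fixed_four h2 σ
    have hfix : ∀ v, ind (1 : GL (Fin 2) F) σ v = v → ind g σ (ind B 1 v) = ind B 1 v := fun v hv => by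
      rw [hB]
      show ind B 1 (ind 1 σ ((ind B 1)⁻¹ (ind B 1 v))) = ind B 1 v
      rw [MulAut.inv_apply_self, hv]
    exact hno (ind B 1 x) (ind B 1 y) (by rw [MulEquiv.orderOf_eq, hx]) (by rw [MulEquiv.orderOf_eq, hy])
      (fun h => hxy ((ind B 1).injective h)) (hcxy.map (ind B 1).toMonoidHom) (hfix x hfx) (hfix y hfy)

/-- every involution of `S7` centralises a four group of `A7` -/
theorem four_alt_seven (s : Equiv.Perm (Fin 7)) (hs : s * s = 1) :
    ∃ x y : alternatingGroup (Fin 7), orderOf x = 2 ∧ orderOf y = 2 ∧ x ≠ y ∧ Commute x y ∧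
      Commute s x ∧ Commute s y := by
  classical
  haveI : Fact (Nat.Prime 2) := ⟨Nat.prime_two⟩
  let mem : ∀ i j k l : Fin 7, i ≠ j → k ≠ l → Equiv.swap i j * Equiv.swap k l ∈ alternatingGroup (Fin 7) :=
    fun i j k l h1 h2 => by
      rw [Equiv.Perm.mem_alternatingGroup, map_mul, Equiv.Perm.sign_swap h1, Equiv.Perm.sign_swap h2]; rfl
  have base : ∀ r : Equiv.Perm (Fin 7), (r = 1 ∨ r = Equiv.swap 0 1 ∨ r = Equiv.swap 0 1 * Equiv.swap 2 3 ∨
      r = Equiv.swap 0 1 * Equiv.swap 2 3 * Equiv.swap 4 5) →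
      ∃ x y : alternatingGroup (Fin 7), orderOf x = 2 ∧ orderOf y = 2 ∧ x ≠ y ∧ Commute x y ∧
        Commute r x ∧ Commute r y := by
    intro r hr
    refine ⟨⟨_, mem 0 1 2 3 (by decide) (by decide)⟩, ⟨_, mem 0 1 4 5 (by decide) (by decide)⟩, ?_, ?_, ?_, ?_, ?_, ?_⟩
    · exact orderOf_eq_prime (Subtype.ext (show _ = _ by decide)) (fun h => absurd (congrArg Subtype.val h) (by decide))
    · exact orderOf_eq_prime (Subtype.ext (show _ = _ by decide)) (fun h => absurd (congrArg Subtype.val h) (by decide))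
    · exact fun h => absurd (congrArg Subtype.val h) (by decide)
    · exact Subtype.ext (show _ = _ by decide)
    · rcases hr with rfl | rfl | rfl | rfl <;> show _ = _ <;> decide
    · rcases hr with rfl | rfl | rfl | rfl <;> show _ = _ <;> decide
  by_cases hs1 : s = 1
  · subst hs1
    exact base 1 (Or.inl rfl)
  have hso : orderOf s = 2 := invol_iff.2 ⟨hs, hs1⟩
  obtain ⟨n, hn⟩ := Equiv.Perm.cycleType_prime_order (σ := s) (by rw [hso]; exact Nat.prime_two)
  have hle := Equiv.Perm.sum_cycleType s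
  rw [hn, hso, Multiset.sum_replicate, smul_eq_mul] at hle
  have h7 := s.support.card_le_univ
  rw [Fintype.card_fin] at h7
  have hn2 : n ≤ 2 := by omega
  obtain ⟨r, hr, hrn⟩ : ∃ r : Equiv.Perm (Fin 7), (r = 1 ∨ r = Equiv.swap 0 1 ∨
      r = Equiv.swap 0 1 * Equiv.swap 2 3 ∨ r = Equiv.swap 0 1 * Equiv.swap 2 3 * Equiv.swap 4 5) ∧
      r.cycleType = s.cycleType := by
    rw [hn, hso]
    have d2 : Equiv.Perm.Disjoint (Equiv.swap (0 : Fin 7) 1) (Equiv.swap 2 3) := fun i => by revert i; decide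
    have d3 : Equiv.Perm.Disjoint (Equiv.swap (0 : Fin 7) 1 * Equiv.swap 2 3) (Equiv.swap 4 5) := fun i => by
      revert i; decide
    have sw : ∀ i j : Fin 7, i ≠ j → (Equiv.swap i j).cycleType = {2} := fun i j hij => by
      rw [(Equiv.Perm.isCycle_swap hij).cycleType, Equiv.Perm.card_support_swap hij]
    interval_cases n
    · exact ⟨_, Or.inr (Or.inl rfl), by rw [sw 0 1 (by decide)]; rfl⟩
    · exact ⟨_, Or.inr (Or.inr (Or.inl rfl)), by rw [d2.cycleType_mul, sw 0 1 (by decide), sw 2 3 (by decide)]; rfl⟩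
    · exact ⟨_, Or.inr (Or.inr (Or.inr rfl)), by
        rw [d3.cycleType_mul, d2.cycleType_mul, sw 0 1 (by decide), sw 2 3 (by decide), sw 4 5 (by decide)]; rfl⟩
  obtain ⟨c, hc⟩ := isConj_iff.1 (Equiv.Perm.isConj_iff_cycleType_eq.2 hrn)
  obtain ⟨x, y, hx, hy, hxy, hcxy, hrx, hry⟩ := base r hr
  refine ⟨(MulAut.conjNormal c : MulAut (alternatingGroup (Fin 7))) x, (MulAut.conjNormal c) y,
    by rw [MulEquiv.orderOf_eq, hx], by rw [MulEquiv.orderOf_eq, hy], fun h => hxy ((MulEquiv.injective _) h),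
    hcxy.map (MulAut.conjNormal c : MulAut (alternatingGroup (Fin 7))).toMonoidHom, ?_, ?_⟩
  · rw [← hc, MulAut.conjNormal_apply]; exact hrx.map (MulAut.conj c).toMonoidHom
  · rw [← hc, MulAut.conjNormal_apply]; exact hry.map (MulAut.conj c).toMonoidHom

/-- **S1916**, given the dihedral theorem for `L` -/
theorem pair_generate {G : Type u} [Group G] [Finite G] (L : Subgroup G) (hL : IsSimpleGroup L)
    (hD : ∀ P : Sylow 2 L, ∃ n : ℕ, Nonempty (↥(P : Subgroup L) ≃* DihedralGroup n))
    (hgw : GWBelow.{u} (Nat.card L))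
    (a b : G) (ha : orderOf a = 2) (hb : orderOf b = 2) (hc : a * b = b * a)
    (haL : a ∈ Subgroup.normalizer (L : Set G)) (hbL : b ∈ Subgroup.normalizer (L : Set G))
    (hLn : ¬ IsMulCommutative L)
    (hCa : ∀ R : Sylow 2 ↥(L ⊓ Subgroup.centralizer ({a} : Set G)), IsCyclic R)
    (hCb : ∀ R : Sylow 2 ↥(L ⊓ Subgroup.centralizer ({b} : Set G)), IsCyclic R)
    (hgen : ¬ L ≤ Subgroup.closure ({a, b} : Set G) ⊔ (L ⊓ Subgroup.centralizer ({a} : Set G)) ⊔
      (L ⊓ Subgroup.centralizer ({b} : Set G))) :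
    a * b ∈ Subgroup.centralizer (L : Set G) := by
  classical
  haveI : Fact (Nat.Prime 2) := ⟨Nat.prime_two⟩
  haveI := hL
  -- the Sylow 2-subgroups are dihedral of order at least four
  have hdih : DihTwo L := by
    intro P
    obtain ⟨n, ⟨e⟩⟩ := hD P
    refine ⟨n, ?_, ⟨e⟩⟩
    obtain ⟨k, hk⟩ := P.2.exists_card_eq
    rw [Nat.card_congr e.toEquiv, DihedralGroup.nat_card] at hk
    rcases Nat.lt_or_ge n 2 with h | h
    · exfalso
      interval_cases n
      · rw [mul_zero] at hk
        exact (pow_pos two_pos k).ne hk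
      · haveI : IsCyclic (P : Subgroup L) := isCyclic_of_prime_card (p := 2) (by
          rw [Nat.card_congr e.toEquiv, DihedralGroup.nat_card])
        obtain ⟨Q, J, hJ, hJQ⟩ := hasNormalPComplement_two_of_isCyclic P inferInstance
        rcases hJ.eq_bot_or_eq_top with h0 | h0
        · refine hLn ?_
          have hQtop : (Q : Subgroup L) = ⊤ := by
            rw [← Subgroup.index_eq_one, hJQ.index_eq_card, h0, Subgroup.card_bot]
          haveI : IsCyclic (Q : Subgroup L) := (Sylow.equiv Q P).isCyclic.2 inferInstance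
          haveI : IsCyclic L := ((MulEquiv.subgroupCongr hQtop).trans Subgroup.topEquiv).isCyclic.1 inferInstance
          exact inferInstance
        · have := hJQ.card_mul_card
          rw [h0, Nat.card_congr Subgroup.topEquiv.toEquiv] at this
          have h2 : 2 ∣ Nat.card L := ⟨1, by
            rw [mul_one]
            have := Nat.card_congr (Sylow.equiv Q P).toEquiv
            nlinarith [Nat.card_pos (α := L), (Nat.card_congr e.toEquiv).trans DihedralGroup.nat_card]⟩
          nlinarith [Nat.card_pos (α := L), (Nat.card_congr (Sylow.equiv Q P).toEquiv).trans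
            ((Nat.card_congr e.toEquiv).trans DihedralGroup.nat_card)]
    · exact h
  set N := Subgroup.normalizer (L : Set G)
  have hLN : L ≤ N := Subgroup.le_normalizer
  set L' : Subgroup N := L.subgroupOf N
  haveI : L'.Normal := Subgroup.normal_in_normalizer
  let eL : L' ≃* L := Subgroup.subgroupOfEquivOfLe hLN
  -- no involution of the four group fixes a four group of `L`
  have hno : ∀ (x : G) (hx : x ∈ N), (∀ R : Sylow 2 ↥(L ⊓ Subgroup.centralizer ({x} : Set G)), IsCyclic R) →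
      ∀ u v : L', orderOf u = 2 → orderOf v = 2 → u ≠ v → Commute u v →
      Commute x ((u : N) : G) → Commute x ((v : N) : G) → False := by
    intro x _ hR u v hu hv huv hcuv hxu hxv
    refine no_four_of_cyclic_sylow hR
      (u := ⟨((u : N) : G), u.2, Subgroup.mem_centralizer_singleton_iff.2 hxu.eq.symm⟩)
      (v := ⟨((v : N) : G), v.2, Subgroup.mem_centralizer_singleton_iff.2 hxv.eq.symm⟩) ?_ ?_ ?_ ?_
    · rw [← Subgroup.orderOf_coe]; show orderOf ((u : N) : G) = 2; rw [Subgroup.orderOf_coe, Subgroup.orderOf_coe, hu]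
    · rw [← Subgroup.orderOf_coe]; show orderOf ((v : N) : G) = 2; rw [Subgroup.orderOf_coe, Subgroup.orderOf_coe, hv]
    · exact fun h => huv (Subtype.ext (Subtype.ext (congrArg Subtype.val h :)))
    · exact Subtype.ext (congrArg (fun w : L' => ((w : N) : G)) hcuv.eq :)
  have hGW := hgw L le_rfl hL hdih
  have hfixed : ∀ {T : Type} [Group T] (e : L ≃* T) (x : N) (t : T), conjVia L' (eL.trans e) x t = t →
      Commute (x : G) (((eL.trans e).symm t : N) : G) := by
    intro T _ e x t ht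
    rw [conjVia_apply, ← MulEquiv.eq_symm_apply] at ht
    have h := congrArg (fun w : L' => ((w : N) : G)) ht
    simp only [MulAut.conjNormal_apply, Subgroup.coe_mul, InvMemClass.coe_inv] at h
    exact mul_inv_eq_iff_eq_mul.1 h
  rcases hGW with ⟨F, iF, jF, hodd, h3, ⟨e⟩⟩ | ⟨⟨e⟩⟩
  swap
  · exfalso
    obtain ⟨hi, hs⟩ := CfsgLib.Perm.Groups.AltAut.conjNormal_bijective (Ω := Fin 7) (by decide) (by decide)
    obtain ⟨s, hs'⟩ := hs (conjVia L' (eL.trans e) ⟨a, haL⟩)
    have hss : s * s = 1 := hi (by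
      rw [map_mul, hs', ← map_mul, show (⟨a, haL⟩ : N) * ⟨a, haL⟩ = 1 from Subtype.ext (invol_mul_self ha),
        map_one, map_one])
    obtain ⟨x, y, hx, hy, hxy, hcxy, hsx, hsy⟩ := four_alt_seven s hss
    have hfix : ∀ t : alternatingGroup (Fin 7), Commute s t → conjVia L' (eL.trans e) ⟨a, haL⟩ t = t := fun t ht => by
      rw [← hs']
      refine Subtype.ext ?_
      rw [MulAut.conjNormal_apply, ht.eq, mul_inv_cancel_right]
    exact hno a haL hCa ((eL.trans e).symm x) ((eL.trans e).symm y) (by rw [MulEquiv.orderOf_eq, hx])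
      (by rw [MulEquiv.orderOf_eq, hy]) (fun h => hxy ((eL.trans e).symm.injective h))
      (hcxy.map (eL.trans e).symm.toMonoidHom) (hfixed e ⟨a, haL⟩ x (hfix x hsx)) (hfixed e ⟨a, haL⟩ y (hfix y hsy))
  letI := iF
  letI := jF
  have h2 : (2 : F) ≠ 0 := CfsgLib.Perm.Dickson.two_ne_zero_of_odd (by rwa [Nat.card_eq_fintype_card])
  set ψ := conjVia L' (eL.trans e)
  set A : N := ⟨a, haL⟩
  set B : N := ⟨b, hbL⟩
  have hAA : A * A = 1 := Subtype.ext (invol_mul_self ha)
  have hBB : B * B = 1 := Subtype.ext (invol_mul_self hb)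
  have hAB : A * B = B * A := Subtype.ext hc
  have houter : ∀ (x : N), x * x = 1 →
      (∀ R : Sylow 2 ↥(L ⊓ Subgroup.centralizer ({(x : G)} : Set G)), IsCyclic R) →
      ψ x ≠ 1 ∧ ∃ g : GL (Fin 2) F, ψ x = indHom g ∧ ¬ IsSquare g.1.det := fun x hxx hR => by
    refine outer_of_no_four h2 _ (by rw [← map_mul, hxx, map_one]) fun u v hu hv huv hcuv hfu hfv => ?_
    exact hno x x.2 hR ((eL.trans e).symm u) ((eL.trans e).symm v) (by rw [MulEquiv.orderOf_eq, hu])
      (by rw [MulEquiv.orderOf_eq, hv]) (fun h => huv ((eL.trans e).symm.injective h))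
      (hcuv.map (eL.trans e).symm.toMonoidHom) (hfixed e x u hfu) (hfixed e x v hfv)
  obtain ⟨hA1, ga, hga, hgan⟩ := houter A hAA hCa
  obtain ⟨hB1, gb, hgb, hgbn⟩ := houter B hBB hCb
  by_cases heq : ψ A = ψ B
  · -- `a b` centralises `L`
    refine Subgroup.mem_centralizer_iff.2 fun v hv => ?_
    have h1 : ψ (A * B) = 1 := by rw [map_mul, heq, ← map_mul, hBB, map_one]
    have h := DFunLike.congr_fun h1 (eL.trans e ⟨⟨v, hLN hv⟩, hv⟩)
    rw [conjVia_apply, MulEquiv.symm_apply_apply, MulAut.one_apply, EmbeddingLike.apply_eq_iff_eq] at h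
    have h' := congrArg (fun w : L' => ((w : N) : G)) h
    simp only [MulAut.conjNormal_apply, Subgroup.coe_mul, InvMemClass.coe_inv] at h'
    exact (mul_inv_eq_iff_eq_mul.1 h').symm
  exfalso
  refine hgen ?_
  set W := Subgroup.closure ({a, b} : Set G) ⊔ (L ⊓ Subgroup.centralizer ({a} : Set G)) ⊔
    (L ⊓ Subgroup.centralizer ({b} : Set G))
  have haW : a ∈ W := Subgroup.mem_sup_left (Subgroup.mem_sup_left (Subgroup.subset_closure (by simp)))
  have hbW : b ∈ W := Subgroup.mem_sup_left (Subgroup.mem_sup_left (Subgroup.subset_closure (by simp)))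
  -- the image of `W ∩ L` and the subgroup it generates with `a`
  set J := ((W ⊓ L).subgroupOf N).map ψ
  have hnorm : ∀ y ∈ J, ψ A * y * ψ A ∈ J := by
    rintro _ ⟨w, hw, rfl⟩
    refine ⟨A * w * A, ?_, by rw [map_mul, map_mul]⟩
    obtain ⟨hwW, hwL⟩ := (Subgroup.mem_subgroupOf.1 hw : (w : G) ∈ W ⊓ L)
    refine Subgroup.mem_subgroupOf.2 ⟨mul_mem (mul_mem haW hwW) haW, ?_⟩
    have h := (Subgroup.mem_normalizer_iff.1 haL (w : G)).1 hwL
    rw [inv_eq_of_mul_eq_one_right (invol_mul_self ha)] at h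
    exact h
  have hαα : ψ A * ψ A = 1 := by rw [← map_mul, hAA, map_one]
  let K' : Subgroup (MulAut (Matrix.ProjectiveSpecialLinearGroup (Fin 2) F)) :=
    { carrier := {y | y ∈ J ∨ ψ A * y ∈ J}
      one_mem' := Or.inl (one_mem J)
      mul_mem' := by
        rintro y z (hy | hy) (hz | hz)
        · exact Or.inl (mul_mem hy hz)
        · exact Or.inr (by
            have h := mul_mem (hnorm y hy) hz
            rwa [show ψ A * y * ψ A * (ψ A * z) = ψ A * (y * z) by
              rw [mul_assoc, ← mul_assoc (ψ A) (ψ A), hαα, one_mul, mul_assoc]] at h)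
        · exact Or.inr (by rw [← mul_assoc]; exact mul_mem hy hz)
        · exact Or.inl (by
            have h := mul_mem (hnorm _ hy) hz
            rwa [show ψ A * (ψ A * y) * ψ A * (ψ A * z) = y * z by
              rw [← mul_assoc (ψ A) (ψ A), hαα, one_mul, mul_assoc, ← mul_assoc (ψ A) (ψ A), hαα, one_mul]] at h)
      inv_mem' := by
        intro y hy
        rcases hy with hy | hy
        · exact Or.inl (inv_mem hy)
        · refine Or.inr ?_
          have h := hnorm _ (inv_mem hy)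
          rwa [_root_.mul_inv_rev, inv_eq_of_mul_eq_one_right hαα, mul_assoc, mul_assoc, hαα, mul_one] at h }
  have hφ : ∀ x : N, x ∈ L' → ψ x ∈ Cfsg.Inn (Matrix.ProjectiveSpecialLinearGroup (Fin 2) F) := fun x hx =>
    ⟨eL.trans e ⟨x, hx⟩, (conjVia_mem L' (eL.trans e) ⟨x, hx⟩).symm⟩
  -- the product is inner, coming from `L ∩ C(a)`
  obtain ⟨t, ht⟩ := (indHom_mem_inn_iff h2 (ga * gb)).2 (by
    rw [Units.val_mul, Matrix.det_mul]; exact isSquare_mul_nonsquare h2 hgan hgbn)
  change MulAut.conj t = _ at ht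
  rw [map_mul, ← hga, ← hgb] at ht
  set Tt : L' := (eL.trans e).symm t
  have hTt : ψ (Tt : N) = ψ A * ψ B := by
    rw [← ht]
    show conjVia L' (eL.trans e) _ = _
    rw [conjVia_mem, MulEquiv.apply_symm_apply]
  have hTtW : ((Tt : N) : G) ∈ W ⊓ L := by
    refine ⟨Subgroup.mem_sup_left (Subgroup.mem_sup_right ⟨Tt.2, Subgroup.mem_centralizer_singleton_iff.2 ?_⟩), Tt.2⟩
    have hat : ψ A t = t := by
      have hcom : ψ A * MulAut.conj t = MulAut.conj t * ψ A := by
        rw [ht, mul_assoc, ← map_mul ψ B A, ← hAB, map_mul]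
      have hgen' : MulAut.conj (ψ A t) = MulAut.conj t := by
        have h' : ψ A * MulAut.conj t * (ψ A)⁻¹ = MulAut.conj (ψ A t) := MulEquiv.ext fun v => by
          simp [MulAut.conj_apply]
        rw [← h', hcom, mul_inv_cancel_right]
      exact CfsgLib.AutPSL.conj_injective (F := F) le_rfl hgen'
    exact (hfixed e A t hat).eq.symm
  have hAK : ψ A ∈ K' := Or.inr (by rw [hαα]; exact one_mem J)
  have hBK : ψ B ∈ K' := Or.inr (by rw [← hTt]; exact ⟨_, Subgroup.mem_subgroupOf.2 hTtW, rfl⟩)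
  -- `PSL(2, F)` lies inside
  have hcardF : Nat.card F = Fintype.card F := Nat.card_eq_fintype_card
  set α := Matrix.ProjGenLinGroup.mk ga
  set β := Matrix.ProjGenLinGroup.mk gb
  have hinj := pglAct_injective (F := F)
  have hpa : pglAct α = ψ A := by rw [pglAct_mk, hga]
  have hpb : pglAct β = ψ B := by rw [pglAct_mk, hgb]
  have hcomap : CfsgLib.Perm.Dickson.psl F ≤ K'.comap pglAct := by
    refine psl_le_of_tori (by rwa [hcardF]) (by rw [hcardF]; obtain ⟨j, hj⟩ := hodd; omega) (α := α) (β := β)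
      (invol_iff.2 ⟨hinj (by rw [map_mul, hpa, hαα, map_one]), fun h => hA1 (by rw [← hpa, h, map_one])⟩)
      (invol_iff.2 ⟨hinj (by rw [map_mul, hpb, ← map_mul, hBB, map_one, map_one]),
        fun h => hB1 (by rw [← hpb, h, map_one])⟩)
      (fun h => hgan ((CfsgLib.Perm.Dickson.mk_mem_psl_iff ga).1 h))
      (fun h => hgbn ((CfsgLib.Perm.Dickson.mk_mem_psl_iff gb).1 h))
      (fun h => heq (by rw [← hpa, ← hpb, h])) (hinj (by rw [map_mul, map_mul, hpa, hpb, ← map_mul, hAB, map_mul]))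
      _ (Subgroup.mem_comap.2 (hpa.symm ▸ hAK)) (Subgroup.mem_comap.2 (hpb.symm ▸ hBK)) ?_ ?_
    all_goals
      intro c hc hcc
      cases c using Matrix.ProjGenLinGroup.induction_on with
      | mk g =>
        obtain ⟨v, hv⟩ := (indHom_mem_inn_iff h2 g).2 ((CfsgLib.Perm.Dickson.mk_mem_psl_iff g).1 hc)
        change MulAut.conj v = _ at hv
        rw [Subgroup.mem_comap, pglAct_mk, ← hv]
        refine Or.inl ⟨((eL.trans e).symm v : L'), Subgroup.mem_subgroupOf.2 ⟨?_, ((eL.trans e).symm v).2⟩, by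
          show conjVia L' (eL.trans e) _ = _
          rw [conjVia_mem, MulEquiv.apply_symm_apply]⟩
        have hcm := hcc.map pglAct
        rw [pglAct_mk, ← hv] at hcm
        first
          | (rw [hpa] at hcm
             refine Subgroup.mem_sup_left (Subgroup.mem_sup_right ⟨((eL.trans e).symm v).2,
               Subgroup.mem_centralizer_singleton_iff.2 (hfixed e A v ?_).eq.symm⟩)
             refine CfsgLib.AutPSL.conj_injective (F := F) le_rfl ?_
             rw [show MulAut.conj (ψ A v) = ψ A * MulAut.conj v * (ψ A)⁻¹ from MulEquiv.ext fun w => by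
               simp [MulAut.conj_apply], ← hcm.eq, mul_inv_cancel_right])
          | (rw [hpb] at hcm
             refine Subgroup.mem_sup_right ⟨((eL.trans e).symm v).2,
               Subgroup.mem_centralizer_singleton_iff.2 (hfixed e B v ?_).eq.symm⟩
             refine CfsgLib.AutPSL.conj_injective (F := F) le_rfl ?_
             rw [show MulAut.conj (ψ B v) = ψ B * MulAut.conj v * (ψ B)⁻¹ from MulEquiv.ext fun w => by
               simp [MulAut.conj_apply], ← hcm.eq, mul_inv_cancel_right])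
  intro l hl
  set T := eL.trans e ⟨⟨l, hLN hl⟩, hl⟩ with hT
  obtain ⟨g, hg⟩ := (mem_inn_iff (β := MulAut.conj T)).1 ⟨T, rfl⟩
  have hmem : pglAct (Matrix.ProjGenLinGroup.mk (Matrix.SpecialLinearGroup.toGL g)) ∈ K' := hcomap ⟨g, rfl⟩
  have hconj : MulAut.conj T ∈ K' := by
    rw [hg]
    rwa [pglAct_mk] at hmem
  rcases hconj with hJ | hJ
  · obtain ⟨w, hw, hwe⟩ := hJ
    obtain ⟨hwW, hwL⟩ := (Subgroup.mem_subgroupOf.1 hw : (w : G) ∈ W ⊓ L)
    have hwL' : w ∈ L' := hwL
    rw [show ψ w = MulAut.conj (eL.trans e ⟨w, hwL'⟩) from conjVia_mem L' (eL.trans e) ⟨w, hwL'⟩] at hwe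
    have h := congrArg (fun v : L' => ((v : N) : G))
      ((eL.trans e).injective (CfsgLib.AutPSL.conj_injective (F := F) le_rfl hwe))
    exact (show (w : G) = l from h) ▸ hwW
  · exfalso
    obtain ⟨w, hw, hwe⟩ := hJ
    refine hgan ((indHom_mem_inn_iff h2 ga).1 ?_)
    rw [← hga, show ψ A = ψ A * MulAut.conj T * (MulAut.conj T)⁻¹ by rw [mul_inv_cancel_right], ← hwe]
    exact mul_mem (hφ w (Subgroup.mem_subgroupOf.1 hw).2) (inv_mem ⟨T, rfl⟩)

end CfsgLib.GW
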