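import Cfsg.Agent.Lib.GW.XFacts
import Cfsg.Agent.Lib.GW.PairGenerate
import Cfsg.Agent.Lib.GW.PGLCount

/-!
# Counting in groups over `PSL(2, F)` with dihedral Sylow 2-subgroups
-/

set_option autoImplicit false
set_option linter.style.haveILetI false
set_option linter.unusedSectionVars false

namespace CfsgLib.GW

open Matrix CfsgLib.Invol CfsgLib.AutPSL CfsgLib.Perm.Dickson

universe u

variable {X : Type u} [Group X] [Finite X] {F : Type*} [Field F] [Fintype F]
  (M : Subgroup X) [M.Normal] (e : M ≃* Matrix.ProjectiveSpecialLinearGroup (Fin 2) F)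

theorem conjVia_mem_range (x : diagPart M e) : conjVia M e (x : X) ∈ (pglAct (F := F)).range := by
  obtain ⟨g, hg⟩ := (mem_diagPart M e).1 x.2
  exact ⟨ProjGenLinGroup.mk g, by rw [pglAct_mk, hg]⟩

/-- the diagonal part as a subgroup of `PGL(2, F)` -/
noncomputable def toG : diagPart M e →* G2 F :=
  (MonoidHom.ofInjective (pglAct_injective (F := F))).symm.toMonoidHom.comp
    (((conjVia M e).comp (diagPart M e).subtype).codRestrict (pglAct (F := F)).range (conjVia_mem_range M e))

theorem pglAct_toG (x : diagPart M e) : pglAct (toG M e x) = conjVia M e (x : X) := by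
  show pglAct ((MonoidHom.ofInjective (pglAct_injective (F := F))).symm
    ⟨conjVia M e (x : X), conjVia_mem_range M e x⟩) = _
  exact congrArg Subtype.val ((MonoidHom.ofInjective (pglAct_injective (F := F))).apply_symm_apply
    ⟨conjVia M e (x : X), conjVia_mem_range M e x⟩)

theorem toG_injective (hC : Subgroup.centralizer (M : Set X) = ⊥) : Function.Injective (toG M e) := fun x y h =>
  Subtype.ext (conjVia_injective M e hC (by rw [← pglAct_toG, ← pglAct_toG, h]))

theorem mem_iff_toG (hC : Subgroup.centralizer (M : Set X) = ⊥) (h2 : (2 : F) ≠ 0) (x : diagPart M e) :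
    (x : X) ∈ M ↔ toG M e x ∈ psl F := by
  have h := pglAct_toG M e x
  generalize toG M e x = y at h
  induction y using ProjGenLinGroup.induction_on with
  | mk g =>
    rw [pglAct_mk] at h
    rw [mem_iff_isSquare M e hC h2 h.symm, mk_mem_psl_iff]

theorem odd_of_two_ne (h2 : (2 : F) ≠ 0) : Odd (Nat.card F) := by
  rw [Nat.card_eq_fintype_card, Nat.odd_iff]
  exact FiniteField.odd_card_of_char_ne_two (ringChar_ne_two h2)

theorem toG_bijective (hC : Subgroup.centralizer (M : Set X) = ⊥) (h2 : (2 : F) ≠ 0)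
    (hidx : M.index = 2 * (diagPart M e).index) : Function.Bijective (toG M e) := by
  haveI := finite_G2 (F := F)
  refine (Nat.bijective_iff_injective_and_card _).2 ⟨toG_injective M e hC, ?_⟩
  have hodd := odd_of_two_ne h2
  have hpsl := card_psl F
  rw [gcd_odd hodd] at hpsl
  have h1 := M.card_mul_index
  rw [hidx, ← (diagPart M e).card_mul_index, Nat.card_congr e.toEquiv,
    Nat.card_congr (pslEquiv F).toEquiv, ← mul_assoc] at h1
  rw [← Nat.eq_of_mul_eq_mul_right (Nat.pos_of_ne_zero Subgroup.FiniteIndex.index_ne_zero) h1, card_G2,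
    mul_comm (Nat.card (psl F)) 2, hpsl, mul_assoc]

include e in
/-- **the outer involutions number `q (q - ε) / 2`** -/
theorem card_outer_invol (hX : DihTwo X) (hC : Subgroup.centralizer (M : Set X) = ⊥) (h2 : (2 : F) ≠ 0)
    (hidx : M.index = 2 * (diagPart M e).index) :
    2 * Nat.card {x : X // orderOf x = 2 ∧ x ∉ M} = Fintype.card F * invCard (Fintype.card F) := by
  classical
  haveI := finite_G2 (F := F)
  rw [← Nat.card_eq_fintype_card, ← ncard_outer (odd_of_two_ne h2), ← Nat.card_coe_set_eq]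
  congr 1
  have hD : ∀ x : X, orderOf x = 2 → x ∈ diagPart M e := fun x hx =>
    two_mem_diagPart M e hX hC h2 (k := 1) (by rw [hx]; norm_num)
  refine Nat.card_congr (Equiv.ofBijective (fun x => ⟨toG M e ⟨x.1, hD _ x.2.1⟩, ?_, ?_⟩) ⟨?_, ?_⟩)
  · rw [orderOf_injective _ (toG_injective M e hC), Subgroup.orderOf_mk, x.2.1]
  · rw [← mem_iff_toG M e hC h2]
    exact x.2.2
  · intro x y h
    have h' := congrArg Subtype.val h
    have h'' := congrArg Subtype.val (toG_injective M e hC h')
    exact Subtype.ext h''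
  · rintro ⟨g, hg1, hg2⟩
    obtain ⟨⟨x, hx⟩, rfl⟩ := (toG_bijective M e hC h2 hidx).2 g
    rw [orderOf_injective _ (toG_injective M e hC), Subgroup.orderOf_mk] at hg1
    rw [← mem_iff_toG M e hC h2] at hg2
    exact ⟨⟨x, hg1, hg2⟩, rfl⟩

include e in
/-- **few outer involutions in a subgroup not containing `M`** -/
theorem card_outer_invol_le (hX : DihTwo X) (hC : Subgroup.centralizer (M : Set X) = ⊥) (h2 : (2 : F) ≠ 0)
    (h5 : 5 ≤ Fintype.card F) (H : Subgroup X) (hH : ¬ M ≤ H) :
    Nat.card {x : X // x ∈ H ∧ orderOf x = 2 ∧ x ∉ M} ≤ Fintype.card F + 1 := by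
  classical
  haveI := finite_G2 (F := F)
  rw [← Nat.card_eq_fintype_card]
  have hno : ¬ psl F ≤ (H.subgroupOf (diagPart M e)).map (toG M e) := fun hle => hH fun m hm => by
    obtain ⟨y, hy, hye⟩ := hle ((mem_iff_toG M e hC h2 ⟨m, le_diagPart M e hm⟩).1 hm)
    have := congrArg Subtype.val (toG_injective M e hC hye)
    change (y : X) = m at this
    rw [← this]
    exact hy
  refine le_trans ?_ (ncard_outer_le (odd_of_two_ne h2) (by rwa [Nat.card_eq_fintype_card]) _ hno)
  rw [← Nat.card_coe_set_eq]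
  have hD : ∀ x : X, orderOf x = 2 → x ∈ diagPart M e := fun x hx =>
    two_mem_diagPart M e hX hC h2 (k := 1) (by rw [hx]; norm_num)
  refine Nat.card_le_card_of_injective
    (fun x => ⟨toG M e ⟨x.1, hD _ x.2.2.1⟩, ⟨_, x.2.1, rfl⟩, ?_, ?_⟩) fun x y h => ?_
  · rw [orderOf_injective _ (toG_injective M e hC), Subgroup.orderOf_mk, x.2.2.1]
  · rw [← mem_iff_toG M e hC h2]
    exact x.2.2.2
  · have h' := congrArg Subtype.val h
    have h'' := congrArg Subtype.val (toG_injective M e hC h')
    exact Subtype.ext h''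

include e in
/-- **an outer element of odd prime order centralises a four group of `M`** -/
theorem odd_outer_cent_four (hC : Subgroup.centralizer (M : Set X) = ⊥) (h2 : (2 : F) ≠ 0) {x : X} (hx : x ∉ M)
    (hp : (orderOf x).Prime) (ho : orderOf x ≠ 2) :
    ∃ a b : X, a ∈ M ∧ b ∈ M ∧ orderOf a = 2 ∧ orderOf b = 2 ∧ a ≠ b ∧ Commute a b ∧ Commute x a ∧ Commute x b := by
  classical
  have hodd : Odd (orderOf x) := hp.odd_of_ne_two ho
  have hσ : orderOf (fieldOn M e x) = orderOf x := by
    refine (((Nat.dvd_prime hp).1 (orderOf_map_dvd (fieldOn M e) x)).resolve_left fun h => hx ?_)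
    exact mem_of_odd M e hC h2 (MonoidHom.mem_ker.2 (orderOf_eq_one_iff.1 h)) hodd
  obtain ⟨τ, g, hg⟩ := exists_ind (conjVia M e x)
  have hτ : τ = fieldOn M e x := by
    show τ = fieldPartHom (conjVia M e x)
    rw [hg, fieldPartHom_ind]
  subst hτ
  obtain ⟨B, hB⟩ := field_coset_conj le_rfl hσ hp.pos g (by rw [← hg, ← map_pow, pow_orderOf_eq_one, map_one])
  obtain ⟨a₀, b₀, ha₀, hb₀, hne₀, hc₀, hfa, hfb⟩ := exists_fixed_four h2 (fieldOn M e x)
  set f := ind B (1 : RingAut F)
  have hcom : ∀ v, ind (1 : GL (Fin 2) F) (fieldOn M e x) v = v → Commute x ((e.symm (f v) : M) : X) := by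
    intro v hv
    have h1 : conjVia M e x (f v) = f v := by
      rw [hg, hB, MulAut.mul_apply, MulAut.mul_apply, MulAut.inv_apply_self, hv]
    rw [conjVia_apply, ← MulEquiv.eq_symm_apply] at h1
    have h3 := congrArg Subtype.val h1
    rw [MulAut.conjNormal_apply] at h3
    exact mul_inv_eq_iff_eq_mul.1 h3
  refine ⟨_, _, (e.symm (f a₀)).2, (e.symm (f b₀)).2, ?_, ?_, ?_, ?_, hcom a₀ hfa, hcom b₀ hfb⟩
  · rw [Subgroup.orderOf_coe, MulEquiv.orderOf_eq, MulEquiv.orderOf_eq, ha₀]
  · rw [Subgroup.orderOf_coe, MulEquiv.orderOf_eq, MulEquiv.orderOf_eq, hb₀]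
  · exact fun h => hne₀ (f.injective (e.symm.injective (Subtype.ext h)))
  · exact congrArg Subtype.val ((hc₀.map f.toMonoidHom).map e.symm.toMonoidHom)

include e in
/-- **normalisers of tori of order `(q + ε) / 2`** -/
theorem card_normalizer_torus (hC : Subgroup.centralizer (M : Set X) = ⊥) (h2 : (2 : F) ≠ 0) {y : X} (hy : y ∈ M)
    (hy1 : y ≠ 1) (hd : orderOf y ∣ outerCard (Fintype.card F) / 2) :
    Nat.card (Subgroup.normalizer (Subgroup.zpowers y : Set X)) ≤
      2 * outerCard (Fintype.card F) * (diagPart M e).index := by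
  classical
  haveI := finite_G2 (F := F)
  rw [← Nat.card_eq_fintype_card] at hd ⊢
  set N := Subgroup.normalizer (Subgroup.zpowers y : Set X)
  set y' : diagPart M e := ⟨y, le_diagPart M e hy⟩
  have hg1 : toG M e y' ≠ 1 := fun h =>
    hy1 (congrArg Subtype.val (toG_injective M e hC (h.trans (map_one _).symm)))
  have hgd : orderOf (toG M e y') ∣ outerCard (Nat.card F) / 2 := by
    rwa [orderOf_injective _ (toG_injective M e hC), Subgroup.orderOf_mk]
  have hG := ncard_normalizer_torus (odd_of_two_ne h2) hg1 hgd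
  rw [← Nat.card_coe_set_eq] at hG
  have hk : Nat.card (N.subgroupOf (diagPart M e)) ≤ 2 * outerCard (Nat.card F) := by
    have hz : Subgroup.zpowers (toG M e y') = (Subgroup.zpowers y').map (toG M e) := (MonoidHom.map_zpowers _ _).symm
    have hmem : ∀ v : diagPart M e, v ∈ Subgroup.zpowers y' ↔ (v : X) ∈ Subgroup.zpowers y := fun v => by
      rw [← Subgroup.mem_map_iff_mem (diagPart M e).subtype_injective, MonoidHom.map_zpowers]
      rfl
    have himg : ∀ x : N.subgroupOf (diagPart M e),
        toG M e x.1 ∈ Subgroup.normalizer (Subgroup.zpowers (toG M e y') : Set (G2 F)) := fun x => by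
      rw [hz]
      refine Subgroup.le_normalizer_map (H := Subgroup.zpowers y') (toG M e) ⟨x.1, ?_, rfl⟩
      refine Subgroup.mem_normalizer_iff.2 fun w => ?_
      rw [hmem, hmem]
      exact Subgroup.mem_normalizer_iff.1 x.2 w
    refine le_trans (Nat.card_le_card_of_injective (fun x => ⟨toG M e x.1, himg x⟩) fun x z h => ?_) hG
    have h' := congrArg Subtype.val h
    exact Subtype.ext (toG_injective M e hC h')
  have hle : Nat.card N ≤ Nat.card (N.subgroupOf (diagPart M e)) * (diagPart M e).index := by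
    rw [← ((diagPart M e).subgroupOf N).card_mul_index]
    refine Nat.mul_le_mul (le_of_eq (Nat.card_congr
      { toFun := fun x => ⟨⟨x.1.1, x.2⟩, x.1.2⟩
        invFun := fun x => ⟨⟨x.1.1, x.2⟩, x.1.2⟩
        left_inv := fun _ => rfl
        right_inv := fun _ => rfl })) ?_
    exact Nat.le_of_dvd (Nat.pos_of_ne_zero Subgroup.FiniteIndex.index_ne_zero)
      (Subgroup.relIndex_dvd_index_of_normal _ _)
  exact hle.trans (Nat.mul_le_mul_right _ hk)

end CfsgLib.GW
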