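import Cfsg.Agent.Lib.GW.CaseCNumeric
import Cfsg.Agent.Lib.GW.OddLift
import Cfsg.Agent.Lib.GW.XCount
import Cfsg.Agent.Lib.GW.AltSevenCent
import Mathlib.GroupTheory.SpecificGroups.Alternating
import Mathlib.GroupTheory.Perm.Centralizer

/-!
# Case C with one class of involutions: contradiction

If all involutions of `M / K` are conjugate, the order formula gives the index of `M` below three.
-/

set_option autoImplicit false
set_option linter.style.haveILetI false
set_option linter.unusedSectionVars false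

namespace CfsgLib.GW

open CfsgLib.Invol CfsgLib.Block.Dihedral

universe u

variable {G : Type u} [Group G] [Finite G]

theorem card_cent_of_le {M : Subgroup G} (S : Set M)
    (h : Subgroup.centralizer ((fun x : M => (x : G)) '' S) ≤ M) :
    Nat.card (Subgroup.centralizer ((fun x : M => (x : G)) '' S)) = Nat.card (Subgroup.centralizer S) :=
  Nat.card_congr
    { toFun := fun x => ⟨⟨x.1, h x.2⟩, Subgroup.mem_centralizer_iff.2 fun s hs =>
        Subtype.ext (Subgroup.mem_centralizer_iff.1 x.2 (s : G) ⟨s, hs, rfl⟩)⟩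
      invFun := fun x => ⟨(x.1 : G), Subgroup.mem_centralizer_iff.2 (by
        rintro _ ⟨s, hs, rfl⟩
        exact congrArg Subtype.val (Subgroup.mem_centralizer_iff.1 x.2 s hs))⟩
      left_inv := fun _ => rfl
      right_inv := fun _ => rfl }

theorem card_fixIn_conj {H : Type u} [Group H] (K : Subgroup H) [K.Normal] (m a : H) :
    Nat.card (fixIn K (m * a * m⁻¹)) = Nat.card (fixIn K a) := by
  have key : ∀ (m a x : H), x ∈ fixIn K a → m * x * m⁻¹ ∈ fixIn K (m * a * m⁻¹) := fun m a x hx => by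
    refine ⟨‹K.Normal›.conj_mem x hx.1 m, Subgroup.mem_centralizer_singleton_iff.2 ?_⟩
    rw [conj_mul, conj_mul, Subgroup.mem_centralizer_singleton_iff.1 hx.2]
  have h1 : ∀ x ∈ fixIn K (m * a * m⁻¹), m⁻¹ * x * m ∈ fixIn K a := fun x hx => by
    have := key m⁻¹ _ x hx
    simpa [mul_assoc] using this
  exact (Nat.card_congr
    { toFun := fun x : fixIn K a => (⟨m * (x : H) * m⁻¹, key m a x x.2⟩ : fixIn K (m * a * m⁻¹))
      invFun := fun x : fixIn K (m * a * m⁻¹) => (⟨m⁻¹ * (x : H) * m, h1 x x.2⟩ : fixIn K a)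
      left_inv := fun x => Subtype.ext (by simp [mul_assoc])
      right_inv := fun x => Subtype.ext (by simp [mul_assoc]) }).symm

/-- **the index when all involutions of the quotient are conjugate** -/
theorem index_one_class {M : Subgroup G} {K : Subgroup M} [K.Normal] (hK : Odd (Nat.card K))
    (h1 : ∀ a b : M ⧸ K, orderOf a = 2 → orderOf b = 2 → ∃ x, x * a * x⁻¹ = b)
    {P : Sylow 2 G} {σ τ : G} {h : ℕ} (D : Frame P σ τ h) (hC : Subgroup.centralizer ({σ ^ h} : Set G) ≤ M)
    {r : ℤ} (hG : (Nat.card G : ℚ) = 2 * rho r *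
        (Nat.card (Subgroup.centralizer ({σ ^ h} : Set G)) : ℚ) ^ 3 *
        (1 / (Nat.card (Subgroup.centralizer ({σ ^ h, τ} : Set G)) : ℚ) +
          1 / (Nat.card (Subgroup.centralizer ({σ ^ h, σ * τ} : Set G)) : ℚ)) ^ 2) :
    Odd M.index ∧ ∃ t a b : M ⧸ K, orderOf t = 2 ∧ orderOf a = 2 ∧ orderOf b = 2 ∧ t ≠ a ∧ t ≠ b ∧ Commute t a ∧ Commute t b ∧
      (M.index : ℚ) * Nat.card (M ⧸ K) = 2 * rho r * (Nat.card (Subgroup.centralizer ({t} : Set (M ⧸ K))) : ℚ) ^ 3 *
        (1 / (Nat.card (Subgroup.centralizer ({t, a} : Set (M ⧸ K))) : ℚ) +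
          1 / (Nat.card (Subgroup.centralizer ({t, b} : Set (M ⧸ K))) : ℚ)) ^ 2 := by
  classical
  haveI : Fact (Nat.Prime 2) := ⟨Nat.prime_two⟩
  have hPM : (P : Subgroup G) ≤ M := fun x hx => hC (Subgroup.mem_centralizer_singleton_iff.2 (D.J_comm hx).eq)
  have hMo : Odd M.index := by
    rw [← Nat.not_even_iff_odd, even_iff_two_dvd]
    exact fun hd => P.not_dvd_index (hd.trans (Subgroup.index_dvd_of_le hPM))
  refine ⟨hMo, ?_⟩
  set t : M := ⟨σ ^ h, hC (Subgroup.mem_centralizer_singleton_iff.2 rfl)⟩ with htdef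
  set u : M := ⟨τ, hPM D.memτ⟩ with hudef
  set v : M := ⟨σ * τ, hPM (mul_mem D.memσ D.memτ)⟩ with hvdef
  have ht : orderOf t = 2 := by
    rw [htdef, Subgroup.orderOf_mk]
    exact orderOf_eq_prime (by rw [sq, D.sigma_h_sq]) D.sigma_h_ne
  have hu : orderOf u = 2 := by
    rw [hudef, Subgroup.orderOf_mk]
    exact orderOf_eq_prime (by rw [sq, D.sqτ]) fun h => D.not_zpow (h ▸ one_mem _)
  have hv : orderOf v = 2 := by
    rw [hvdef, Subgroup.orderOf_mk]
    refine orderOf_eq_prime ?_ fun h => D.not_zpow ?_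
    · rw [sq, show σ * τ * (σ * τ) = σ * (τ * σ * τ⁻¹) * (τ * τ) by group, D.rel, D.sqτ]
      group
    · rw [show τ = σ⁻¹ by exact eq_inv_of_mul_eq_one_right h]
      exact inv_mem (Subgroup.mem_zpowers σ)
  have htu : t ≠ u := fun e => D.not_zpow (by
    rw [← (show σ ^ h = τ from congrArg Subtype.val e)]
    exact Subgroup.npow_mem_zpowers σ h)
  have htv : t ≠ v := fun e => D.not_zpow ((Subgroup.mul_mem_cancel_left _ (Subgroup.mem_zpowers σ)).1 (by
    rw [← (show σ ^ h = σ * τ from congrArg Subtype.val e)]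
    exact Subgroup.npow_mem_zpowers σ h))
  have hcu : Commute t u := Subtype.ext (D.J_comm D.memτ).eq.symm
  have hcv : Commute t v := Subtype.ext (D.J_comm (mul_mem D.memσ D.memτ)).eq.symm
  have hT : ∀ z : M, orderOf z = 2 → Nat.card (fixIn K z) = Nat.card (fixIn K t) := fun z hz => by
    obtain ⟨x, hx⟩ := h1 _ _ (orderOf_mk_invol hK ht) (orderOf_mk_invol hK hz)
    obtain ⟨m, -, hm⟩ := exists_conj_lift hK ht hz hx
    rw [← hm, card_fixIn_conj]
  have han : ∀ z : M, ∀ x ∈ K, z * x * z⁻¹ ∈ K := fun z x hx => ‹K.Normal›.conj_mem x hx z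
  have hfour : ∀ z : M, orderOf z = 2 → t ≠ z → Commute t z →
      Nat.card K * Nat.card (fixIn K t ⊓ fixIn K z : Subgroup M) ^ 2 = Nat.card (fixIn K t) ^ 3 := fun z hz hne hc => by
    rw [card_four_formula hK (invol_mul_self ht) (invol_mul_self hz) hc (han t) (han z), hT z hz,
      hT (t * z) (invol_mul_of_commute ht hz hne hc)]
    ring
  have hD : Nat.card (fixIn K t ⊓ fixIn K v : Subgroup M) = Nat.card (fixIn K t ⊓ fixIn K u : Subgroup M) :=
    Nat.pow_left_injective two_ne_zero (Nat.eq_of_mul_eq_mul_left Nat.card_pos ((hfour v hv htv hcv).trans (hfour u hu htu hcu).symm))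
  have hne : ∀ z : M, orderOf z = 2 → t ≠ z → Commute t z → QuotientGroup.mk' K t ≠ QuotientGroup.mk' K z :=
    fun z hz hne hc h => invol_ne_one (invol_mul_of_commute ht hz hne hc) (eq_one_of_mem_of_sq hK
      (show t * z ∈ K by
        refine (QuotientGroup.eq_one_iff _).1 ?_
        show QuotientGroup.mk' K (t * z) = 1
        rw [map_mul, ← h, ← map_mul, invol_mul_self ht, map_one]) (invol_mul_self (invol_mul_of_commute ht hz hne hc)))
  refine ⟨QuotientGroup.mk' K t, QuotientGroup.mk' K u, QuotientGroup.mk' K v, orderOf_mk_invol hK ht,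
    orderOf_mk_invol hK hu, orderOf_mk_invol hK hv, hne u hu htu hcu, hne v hv htv hcv, hcu.map _, hcv.map _, ?_⟩
  have hCt : Nat.card (Subgroup.centralizer ({σ ^ h} : Set G)) =
      Nat.card (fixIn K t) * Nat.card (Subgroup.centralizer ({QuotientGroup.mk' K t} : Set (M ⧸ K))) := by
    have h2 := card_cent_of_le {t} (by rw [Set.image_singleton]; exact hC)
    rw [Set.image_singleton] at h2
    exact h2.trans (card_centralizer_quotient_odd hK (invol_mul_self ht))
  have hCz : ∀ z : M, orderOf z = 2 → Commute t z → Nat.card (Subgroup.centralizer ({σ ^ h, (z : G)} : Set G)) =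
      Nat.card (fixIn K t ⊓ fixIn K z : Subgroup M) *
        Nat.card (Subgroup.centralizer ({QuotientGroup.mk' K t, QuotientGroup.mk' K z} : Set (M ⧸ K))) := fun z hz hc => by
    have h2 := card_cent_of_le {t, z} (le_trans (Subgroup.centralizer_le (by simp [Set.image_pair, htdef])) hC)
    rw [Set.image_pair] at h2
    exact h2.trans (card_centralizer_four_odd hK (invol_mul_self ht) (invol_mul_self hz) hc)
  rw [hCt, show (τ : G) = (u : G) from rfl, show σ * (u : G) = (v : G) from rfl, hCz u hu hcu, hCz v hv hcv, hD,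
    ← M.card_mul_index, ← K.card_mul_index, Subgroup.index_eq_card K] at hG
  have hK3 : (Nat.card K : ℚ) * (Nat.card (fixIn K t ⊓ fixIn K u : Subgroup M) : ℚ) ^ 2 = (Nat.card (fixIn K t) : ℚ) ^ 3 := by
    exact_mod_cast hfour u hu htu hcu
  have hK0 : (Nat.card K : ℚ) ≠ 0 := by exact_mod_cast Nat.card_pos.ne'
  have hD0 : (Nat.card (fixIn K t ⊓ fixIn K u : Subgroup M) : ℚ) ≠ 0 := by exact_mod_cast Nat.card_pos.ne'
  push_cast at hG
  refine mul_left_cancel₀ hK0 ?_
  rw [show (Nat.card K : ℚ) * ((M.index : ℚ) * Nat.card (M ⧸ K)) = (Nat.card K : ℚ) * Nat.card (M ⧸ K) * M.index by ring, hG,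
    mul_pow, ← hK3]
  field_simp

/-- one class of involutions in `A7` -/
theorem alt_seven_one_class {a b : alternatingGroup (Fin 7)} (ha : orderOf a = 2) (hb : orderOf b = 2) :
    IsConj a b := by
  have key : ∀ x : alternatingGroup (Fin 7), orderOf x = 2 →
      (x : Equiv.Perm (Fin 7)).cycleType = Multiset.replicate 2 2 := by
    intro x hx
    have hx' : orderOf (x : Equiv.Perm (Fin 7)) = 2 := by rw [Subgroup.orderOf_coe, hx]
    obtain ⟨n, hn⟩ := Equiv.Perm.cycleType_prime_order (σ := (x : Equiv.Perm (Fin 7))) (by rw [hx']; exact Nat.prime_two)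
    rw [hx'] at hn
    have hle := Equiv.Perm.sum_cycleType (x : Equiv.Perm (Fin 7))
    rw [hn, Multiset.sum_replicate, smul_eq_mul] at hle
    have h7 := (x : Equiv.Perm (Fin 7)).support.card_le_univ
    rw [Fintype.card_fin] at h7
    have hsign := Equiv.Perm.mem_alternatingGroup.1 x.2
    rw [Equiv.Perm.sign_of_cycleType, hn, Multiset.sum_replicate, smul_eq_mul, Multiset.card_replicate] at hsign
    have hn2 : n ≤ 2 := by omega
    interval_cases n
    · exact absurd hsign (by decide)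
    · exact hn
    · exact absurd hsign (by decide)
  refine alternatingGroup.isConj_of (Equiv.Perm.isConj_iff_cycleType_eq.2 ((key a ha).trans (key b hb).symm)) ?_
  rw [← Equiv.Perm.sum_cycleType, key a ha, Fintype.card_fin]
  decide

/-- centralisers of involutions in `A7` -/
theorem alt_seven_card_cent {a : alternatingGroup (Fin 7)} (ha : orderOf a = 2) :
    Nat.card (Subgroup.centralizer ({a} : Set (alternatingGroup (Fin 7)))) = 24 := by
  classical
  obtain ⟨φ, hφ⟩ := exists_aut_altInvol ha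
  have h1 : Nat.card (Subgroup.centralizer ({a} : Set (alternatingGroup (Fin 7)))) =
      Nat.card (Subgroup.centralizer ({altInvol} : Set (alternatingGroup (Fin 7)))) :=
    Nat.card_congr
      { toFun := fun x => ⟨φ x, Subgroup.mem_centralizer_singleton_iff.2 (by
          rw [← hφ, ← map_mul, ← map_mul, Subgroup.mem_centralizer_singleton_iff.1 x.2])⟩
        invFun := fun x => ⟨φ.symm x, Subgroup.mem_centralizer_singleton_iff.2 (φ.injective (by
          rw [map_mul, map_mul, hφ, MulEquiv.apply_symm_apply]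
          exact Subgroup.mem_centralizer_singleton_iff.1 x.2))⟩
        left_inv := fun x => Subtype.ext (φ.symm_apply_apply x)
        right_inv := fun x => Subtype.ext (φ.apply_symm_apply x) }
  rw [h1]
  set s : Equiv.Perm (Fin 7) := (altInvol : Equiv.Perm (Fin 7))
  set C := Subgroup.centralizer ({s} : Set (Equiv.Perm (Fin 7)))
  have hct : s.cycleType = Multiset.replicate 2 2 := by
    have d : Equiv.Perm.Disjoint (Equiv.swap (0 : Fin 7) 1) (Equiv.swap 2 3) := fun i => by revert i; decide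
    rw [show s = Equiv.swap 0 1 * Equiv.swap 2 3 from rfl, d.cycleType_mul,
      (Equiv.Perm.isCycle_swap (by decide)).cycleType, (Equiv.Perm.isCycle_swap (by decide)).cycleType,
      Equiv.Perm.card_support_swap (by decide), Equiv.Perm.card_support_swap (by decide)]
    rfl
  have hC : Nat.card C = 48 := by
    rw [Equiv.Perm.nat_card_centralizer, hct, Fintype.card_fin]
    decide
  set χ := (Equiv.Perm.sign : Equiv.Perm (Fin 7) →* ℤˣ).comp C.subtype
  have hχ : Function.Surjective χ := fun z => by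
    rcases Int.units_eq_one_or z with rfl | rfl
    · exact ⟨1, map_one χ⟩
    · refine ⟨⟨Equiv.swap 0 1, Subgroup.mem_centralizer_singleton_iff.2 (by decide)⟩, ?_⟩
      exact Equiv.Perm.sign_swap (show (0 : Fin 7) ≠ 1 by decide)
  have h2 := χ.ker.card_mul_index
  rw [Subgroup.index_ker, MonoidHom.range_eq_top.2 hχ, Nat.card_congr Subgroup.topEquiv.toEquiv,
    Nat.card_eq_fintype_card (α := ℤˣ), Fintype.card_units_int, hC] at h2
  have h3 : Nat.card (Subgroup.centralizer ({altInvol} : Set (alternatingGroup (Fin 7)))) = Nat.card χ.ker :=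
    Nat.card_congr
      { toFun := fun x => ⟨⟨(x.1 : Equiv.Perm (Fin 7)), Subgroup.mem_centralizer_singleton_iff.2
            (congrArg Subtype.val (Subgroup.mem_centralizer_singleton_iff.1 x.2))⟩,
          Equiv.Perm.mem_alternatingGroup.1 x.1.2⟩
        invFun := fun x => ⟨⟨(x.1 : Equiv.Perm (Fin 7)), Equiv.Perm.mem_alternatingGroup.2 x.2⟩,
          Subgroup.mem_centralizer_singleton_iff.2 (Subtype.ext (Subgroup.mem_centralizer_singleton_iff.1 x.1.2))⟩
        left_inv := fun _ => rfl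
        right_inv := fun _ => rfl }
  omega

/-- four groups lie in their centralisers -/
theorem four_dvd_cent {X : Type u} [Group X] [Finite X] {a b : X} (ha : orderOf a = 2) (hb : orderOf b = 2)
    (hab : a ≠ b) (hc : Commute a b) : 4 ∣ Nat.card (Subgroup.centralizer ({a, b} : Set X)) := by
  rw [← (isKleinFour_closure_pair ha hb hab hc).card_four]
  refine Subgroup.card_dvd_of_le ((Subgroup.closure_le _).2 ?_)
  rintro x (rfl | rfl) <;> refine Subgroup.mem_centralizer_iff.2 ?_ <;> rintro v (rfl | rfl)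
  · rfl
  · exact hc.eq.symm
  · exact hc.eq
  · rfl

/-- **one class over `PSL(2, q)` is impossible** -/
theorem false_one_class_psl {F : Type*} [Field F] [Fintype F] {M : Subgroup G} (hM : M ≠ ⊤) {K : Subgroup M}
    [K.Normal] (hK : Odd (Nat.card K)) (M0 : Subgroup (M ⧸ K)) [M0.Normal]
    (e : M0 ≃* Matrix.ProjectiveSpecialLinearGroup (Fin 2) F) (hX : DihTwo (M ⧸ K))
    (hC0 : Subgroup.centralizer (M0 : Set (M ⧸ K)) = ⊥) (h2 : (2 : F) ≠ 0) (h5 : 5 ≤ Fintype.card F)
    (hidx : M0.index = (diagPart M0 e).index) {P : Sylow 2 G} {σ τ : G} {h : ℕ} (D : Frame P σ τ h)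
    (hC : Subgroup.centralizer ({σ ^ h} : Set G) ≤ M) {r : ℤ} (hr1 : r ≠ 1) (hrd : (4 * h : ℤ) ∣ r - 1)
    (hG : (Nat.card G : ℚ) = 2 * rho r *
        (Nat.card (Subgroup.centralizer ({σ ^ h} : Set G)) : ℚ) ^ 3 *
        (1 / (Nat.card (Subgroup.centralizer ({σ ^ h, τ} : Set G)) : ℚ) +
          1 / (Nat.card (Subgroup.centralizer ({σ ^ h, σ * τ} : Set G)) : ℚ)) ^ 2) : False := by
  classical
  have hodd : Odd (Fintype.card F) := by rw [← Nat.card_eq_fintype_card]; exact odd_of_two_ne h2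
  have hin : ∀ a : M ⧸ K, orderOf a = 2 → a ∈ M0 := fun a ha => by
    have h1 := Subgroup.relIndex_mul_index (le_diagPart M0 e)
    rw [hidx] at h1
    exact Subgroup.relIndex_eq_one.1 ((Nat.mul_eq_right Subgroup.FiniteIndex.index_ne_zero).1 h1)
      (two_mem_diagPart M0 e hX hC0 h2 (k := 1) (by rw [ha]; norm_num))
  obtain ⟨hMo, t, a, b, ht, ha, hb, hta, htb, hca, hcb, heq⟩ := index_one_class hK (fun a b ha hb => by
    obtain ⟨x, -, hx⟩ := isConj_of_invol_mem M0 e ha hb (hin a ha) (hin b hb)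
    exact ⟨x, hx⟩) D hC hG
  rw [card_cent_four M0 e hX hC0 h2 ht ha hta hca, card_cent_four M0 e hX hC0 h2 ht hb htb hcb,
    card_cent_invol M0 e hodd ht (hin t ht), hidx, ← M0.card_mul_index, hidx] at heq
  have hn3 : 3 ≤ M.index := by
    have h1 : M.index ≠ 1 := fun h => hM (Subgroup.index_eq_one.1 h)
    obtain ⟨j, hj⟩ := hMo
    omega
  have hM0 : 2 * Nat.card M0 = Fintype.card F * ((Fintype.card F - 1) * (Fintype.card F + 1)) := by
    have h0 := CfsgLib.Perm.Dickson.card_psl F
    rw [CfsgLib.Perm.Dickson.gcd_odd (odd_of_two_ne h2), Nat.card_eq_fintype_card (α := F)] at h0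
    rw [Nat.card_congr e.toEquiv, Nat.card_congr (CfsgLib.Perm.Dickson.pslEquiv F).toEquiv]
    exact h0
  obtain ⟨ε, hε, hε4, hinvc⟩ : ∃ ε : ℤ, (ε = 1 ∨ ε = -1) ∧ (4 : ℤ) ∣ (Fintype.card F : ℤ) - ε ∧
      (invCard (Fintype.card F) : ℤ) = Fintype.card F - ε := by
    obtain ⟨j, hj⟩ := hodd
    by_cases h4 : Fintype.card F % 4 = 1
    · refine ⟨1, Or.inl rfl, by omega, ?_⟩
      simp [invCard, h4]
      omega
    · refine ⟨-1, Or.inr rfl, by omega, ?_⟩
      simp [invCard, h4]
  refine one_class_linear D.two_le hr1 hrd hε h5 hε4 hn3 ?_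
  have hq5 : (5 : ℚ) ≤ Fintype.card F := by exact_mod_cast h5
  have hinvq : (invCard (Fintype.card F) : ℚ) = (Fintype.card F : ℚ) - ε := by exact_mod_cast hinvc
  have hM0q : 2 * (Nat.card M0 : ℚ) = (Fintype.card F : ℚ) * (((Fintype.card F : ℚ) - ε) * ((Fintype.card F : ℚ) + ε)) := by
    have : ((2 * Nat.card M0 : ℕ) : ℚ) = _ := congrArg Nat.cast hM0
    push_cast [Nat.cast_sub (show 1 ≤ Fintype.card F by omega)] at this
    rw [this]
    rcases hε with rfl | rfl <;> push_cast <;> ring
  have hpos : (0 : ℚ) < ((Fintype.card F : ℚ) + ε) ∧ (0 : ℚ) < ((Fintype.card F : ℚ) - ε) := by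
    rcases hε with rfl | rfl <;> push_cast <;> constructor <;> linarith
  have hf : (0 : ℚ) < (diagPart M0 e).index := by
    exact_mod_cast Nat.pos_of_ne_zero Subgroup.FiniteIndex.index_ne_zero
  push_cast at heq
  rw [hinvq] at heq
  field_simp at heq
  rw [eq_div_iff (by have := hpos.1; positivity)]
  apply mul_left_cancel₀ hpos.2.ne'
  linear_combination heq / 8 - (M.index : ℚ) * hM0q

/-- **one class over `A7` is impossible** -/
theorem false_one_class_seven {M : Subgroup G} (hM : M ≠ ⊤) {K : Subgroup M} [K.Normal] (hK : Odd (Nat.card K))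
    (e : (M ⧸ K) ≃* alternatingGroup (Fin 7)) {P : Sylow 2 G} {σ τ : G} {h : ℕ} (D : Frame P σ τ h)
    (hC : Subgroup.centralizer ({σ ^ h} : Set G) ≤ M) {r : ℤ} (hr1 : r ≠ 1) (hrd : (4 * h : ℤ) ∣ r - 1)
    (hG : (Nat.card G : ℚ) = 2 * rho r *
        (Nat.card (Subgroup.centralizer ({σ ^ h} : Set G)) : ℚ) ^ 3 *
        (1 / (Nat.card (Subgroup.centralizer ({σ ^ h, τ} : Set G)) : ℚ) +
          1 / (Nat.card (Subgroup.centralizer ({σ ^ h, σ * τ} : Set G)) : ℚ)) ^ 2) : False := by
  classical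
  obtain ⟨hMo, t, a, b, ht, ha, hb, hta, htb, hca, hcb, heq⟩ := index_one_class hK (fun a b ha hb => by
    obtain ⟨x, hx⟩ := isConj_iff.1 (alt_seven_one_class (a := e a) (b := e b)
      (by rw [MulEquiv.orderOf_eq, ha]) (by rw [MulEquiv.orderOf_eq, hb]))
    exact ⟨e.symm x, e.injective (by rw [map_mul, map_mul, map_inv, MulEquiv.apply_symm_apply, hx])⟩) D hC hG
  have h24 : Nat.card (Subgroup.centralizer ({t} : Set (M ⧸ K))) = 24 := by
    rw [← alt_seven_card_cent (a := e t) (by rw [MulEquiv.orderOf_eq, ht])]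
    exact Nat.card_congr
      { toFun := fun x => ⟨e x, Subgroup.mem_centralizer_singleton_iff.2 (by
          rw [← map_mul, ← map_mul, Subgroup.mem_centralizer_singleton_iff.1 x.2])⟩
        invFun := fun x => ⟨e.symm x, Subgroup.mem_centralizer_singleton_iff.2 (e.injective (by
          rw [map_mul, map_mul, MulEquiv.apply_symm_apply]
          exact Subgroup.mem_centralizer_singleton_iff.1 x.2))⟩
        left_inv := fun x => Subtype.ext (e.symm_apply_apply x)
        right_inv := fun x => Subtype.ext (e.apply_symm_apply x) }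
  have hcard : Nat.card (M ⧸ K) = 2520 := by
    rw [Nat.card_congr e.toEquiv]
    have h1 := two_mul_nat_card_alternatingGroup (α := Fin 7)
    rw [Nat.card_perm, Nat.card_eq_fintype_card (α := Fin 7), Fintype.card_fin,
      show Nat.factorial 7 = 2 * 2520 from rfl] at h1
    exact Nat.eq_of_mul_eq_mul_left two_pos h1
  rw [h24, hcard] at heq
  push_cast at heq
  have hn3 : 3 ≤ M.index := by
    have h1 : M.index ≠ 1 := fun h => hM (Subgroup.index_eq_one.1 h)
    obtain ⟨j, hj⟩ := hMo
    omega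
  have hrho := rho_le D.two_le hr1 hrd
  have hn3q : (3 : ℚ) ≤ M.index := by exact_mod_cast hn3
  obtain ⟨p, hp⟩ := four_dvd_cent ht ha hta hca
  obtain ⟨q, hq⟩ := four_dvd_cent ht hb htb hcb
  have hp0 : 0 < p := by have := (Nat.card_pos : 0 < Nat.card (Subgroup.centralizer ({t, a} : Set (M ⧸ K)))); omega
  have hq0 : 0 < q := by have := (Nat.card_pos : 0 < Nat.card (Subgroup.centralizer ({t, b} : Set (M ⧸ K)))); omega
  rw [hp, hq] at heq
  push_cast at heq
  set s : ℚ := 1 / (4 * (p : ℚ)) + 1 / (4 * q)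
  have hs0 : 0 ≤ s := by positivity
  by_cases hpq : p = 1 ∧ q = 1
  · obtain ⟨rfl, rfl⟩ := hpq
    norm_num [s] at heq
    have hn : M.index = 3 := by
      have : (M.index : ℚ) < 5 := by nlinarith
      have : M.index < 5 := by exact_mod_cast this
      obtain ⟨j, hj⟩ := hMo
      omega
    rw [hn] at heq
    push_cast at heq
    have hrho' : rho r = 35 / 32 := by linarith
    obtain ⟨j, hj⟩ : ∃ j : ℤ, r = 1 + 8 * j := by
      obtain ⟨m, hm⟩ := hrd
      obtain ⟨g, hg⟩ := D.h_even
      exact ⟨g * m, by rw [hg] at hm; push_cast at hm; linarith⟩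
    have hj0 : (j : ℚ) ≠ 0 := by
      intro h0
      exact hr1 (by rw [hj, Int.cast_eq_zero.1 h0]; ring)
    have hz : (3 : ℚ) * j ^ 2 - 12 * j - 1 = 0 := by
      rw [rho, hj] at hrho'
      push_cast at hrho'
      field_simp at hrho'
      nlinarith
    have hz' : 3 * j ^ 2 - 12 * j - 1 = 0 := by exact_mod_cast hz
    omega
  · have hs : s ≤ 3 / 8 := by
      have hp1 : (1 : ℚ) ≤ p := by exact_mod_cast hp0
      have hq1 : (1 : ℚ) ≤ q := by exact_mod_cast hq0
      rcases not_and_or.1 hpq with h | h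
      · have : (2 : ℚ) ≤ p := by exact_mod_cast (show 2 ≤ p by omega)
        calc s ≤ 1 / (4 * 2) + 1 / (4 * 1) := by simp only [s]; gcongr
          _ = 3 / 8 := by norm_num
      · have : (2 : ℚ) ≤ q := by exact_mod_cast (show 2 ≤ q by omega)
        calc s ≤ 1 / (4 * 1) + 1 / (4 * 2) := by simp only [s]; gcongr
          _ = 3 / 8 := by norm_num
    have hs2 : s ^ 2 ≤ 9 / 64 := by
      calc s ^ 2 ≤ (3 / 8) ^ 2 := by gcongr
        _ = 9 / 64 := by norm_num
    have h2 : rho r * s ^ 2 ≤ 45 / 32 * (9 / 64) :=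
      mul_le_mul hrho hs2 (sq_nonneg s) (by norm_num)
    nlinarith

end CfsgLib.GW
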