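import Cfsg.Agent.S0948
import Cfsg.Agent.Lib.Block.KleinOrder
import Cfsg.Agent.Lib.Char.SmallCofactor.Tools

/-!
# The order formula for a four-group Sylow two-subgroup, with the signed degrees

With `a, b, c` the signed degrees of the non-principal characters of the principal block, all
congruent to one modulo four, `a + b + c = -1` and `1 + 1/a + 1/b + 1/c ≥ 8/15`.
-/

set_option autoImplicit false
set_option linter.unusedSectionVars false
set_option linter.style.haveILetI false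

namespace CfsgLib.GW

open Cfsg CfsgLib.Block CfsgLib.Char CfsgLib.Char.SmallCofactor

universe u

variable {G : Type u} [Group G] [Finite G]

/-- The sum in the order formula. -/
def sigmaKlein (a b c : ℤ) : ℚ := 1 + 1 / (a : ℚ) + 1 / (b : ℚ) + 1 / (c : ℚ)

theorem sigmaKlein_ge {a b c : ℤ} (ha : 5 ≤ a ∨ a ≤ -3) (hb : 5 ≤ b ∨ b ≤ -3)
    (hc : 5 ≤ c ∨ c ≤ -3) (h : a + b + c = -1) : 8 / 15 ≤ sigmaKlein a b c := by
  have two_neg : ∀ x y z : ℤ, x ≤ -3 → y ≤ -3 → x + y + z = -1 →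
      8 / 15 ≤ 1 + 1 / (x : ℚ) + 1 / (y : ℚ) + 1 / (z : ℚ) := by
    intro x y z hx hy hsum
    obtain ⟨u, hu, rfl⟩ : ∃ u : ℤ, 3 ≤ u ∧ x = -u := ⟨-x, by omega, by omega⟩
    obtain ⟨v, hv, rfl⟩ : ∃ v : ℤ, 3 ≤ v ∧ y = -v := ⟨-y, by omega, by omega⟩
    obtain rfl : z = u + v - 1 := by omega
    have hu' : (3 : ℚ) ≤ u := by exact_mod_cast hu
    have hv' : (3 : ℚ) ≤ v := by exact_mod_cast hv
    have h1 : (0 : ℚ) < u := by linarith
    have h2 : (0 : ℚ) < v := by linarith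
    have h3 : (0 : ℚ) < (u : ℚ) + v - 1 := by linarith
    push_cast
    rw [show (1 : ℚ) + 1 / (-(u : ℚ)) + 1 / (-(v : ℚ)) + 1 / ((u : ℚ) + v - 1) =
      ((u : ℚ) * v * (u + v - 1) - v * (u + v - 1) - u * (u + v - 1) + u * v) /
        (u * v * (u + v - 1)) by field_simp; ring,
      le_div_iff₀ (by positivity)]
    nlinarith [mul_nonneg (sub_nonneg.2 hu') (sub_nonneg.2 hv'),
      mul_nonneg (mul_nonneg (sub_nonneg.2 hu') (sub_nonneg.2 hv')) h3.le]
  have low : ∀ x : ℤ, 5 ≤ x ∨ x ≤ -3 → -(1 / 3) ≤ 1 / (x : ℚ) := by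
    rintro x (hx | hx)
    · have hx' : (5 : ℚ) ≤ x := by exact_mod_cast hx
      exact le_trans (by norm_num) (one_div_nonneg.2 (by linarith))
    · have hx' : (x : ℚ) ≤ -3 := by exact_mod_cast hx
      rw [le_div_iff_of_neg (by linarith)]
      linarith
  have pos : ∀ x : ℤ, 5 ≤ x → 0 ≤ 1 / (x : ℚ) := fun x hx =>
    one_div_nonneg.2 (by exact_mod_cast le_trans (by norm_num) hx)
  unfold sigmaKlein
  rcases ha with ha' | ha' <;> rcases hb with hb' | hb' <;> rcases hc with hc' | hc'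
  · omega
  · linarith [pos a ha', pos b hb', low c (Or.inr hc')]
  · linarith [pos a ha', pos c hc', low b (Or.inr hb')]
  · linarith [two_neg b c a hb' hc' (by omega)]
  · linarith [pos b hb', pos c hc', low a (Or.inr ha')]
  · linarith [two_neg a c b ha' hc' (by omega)]
  · linarith [two_neg a b c ha' hb' (by omega)]
  · omega

/-- **The order formula for a four group.** -/
theorem klein_order_formula [IsSimpleGroup G] (hG : ¬ IsCyclic G) (P : Sylow 2 G)
    (hK : IsKleinFour (P : Subgroup G))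
    (hone : ∀ s t : G, orderOf s = 2 → orderOf t = 2 → IsConj s t)
    {J : G} (hJ : J ∈ (P : Subgroup G)) (hJ2 : orderOf J = 2) :
    ∃ a b c : ℤ, (4 : ℤ) ∣ a - 1 ∧ (4 : ℤ) ∣ b - 1 ∧ (4 : ℤ) ∣ c - 1 ∧
      (5 ≤ a ∨ a ≤ -3) ∧ (5 ≤ b ∨ b ≤ -3) ∧ (5 ≤ c ∨ c ≤ -3) ∧ a + b + c = -1 ∧
      8 / 15 ≤ sigmaKlein a b c ∧
      (Nat.card G : ℚ) * sigmaKlein a b c *
          (Nat.card (Subgroup.centralizer ((P : Subgroup G) : Set G)) : ℚ) ^ 2 =
        8 * (Nat.card (Subgroup.centralizer ({J} : Set G)) : ℚ) ^ 3 := by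
  classical
  letI := Fintype.ofFinite G
  haveI : Fact (Nat.Prime 2) := ⟨Nat.prime_two⟩
  haveI := Fintype.ofFinite (IrrCharacter G)
  obtain ⟨M, hM⟩ := CfsgLib.Block.exists_pModular Nat.prime_two
  haveI := hM.2.1
  obtain ⟨z₂, z₃, z₄, ε, hε, h2, h3, h23, h24, h34, hB, hval, hc2, hc3, hc4, horth⟩ :=
    Cfsg.Agent.S0948.result M hM P hK hone
  have h4 : (z₄ : G → ℂ) ≠ (fun _ => 1) := fun e => by
    have h := (hval J hJ2).2.2
    rw [e] at h
    norm_num at h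
  obtain ⟨v2, v3, v4⟩ := hval J hJ2
  have hs := exists_kleinSums hM P hK hone hJ hJ2 hB h2 h3 h4 h23 h24 h34
    (e₁ := 1) (e₂ := ε) (e₃ := -1) (by simpa using v2) v3 (by simpa using v4)
  have hne : ∀ z : IrrCharacter G, (z : G → ℂ) ≠ (fun _ => 1) → z ≠ Block.oneChar G :=
    fun z hz e => hz (by rw [e]; rfl)
  have d2 : 1 < charDegree (z₂ : G → ℂ) := one_lt_deg hG (hne _ h2)
  have d3 : 1 < charDegree (z₃ : G → ℂ) := one_lt_deg hG (hne _ h3)
  have d4 : 1 < charDegree (z₄ : G → ℂ) := one_lt_deg hG (hne _ h4)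
  have ho := hs.orth
  set x : ℤ := (charDegree (z₂ : G → ℂ) : ℤ) with ex
  set y : ℤ := (charDegree (z₃ : G → ℂ) : ℤ) with ey
  set w : ℤ := (charDegree (z₄ : G → ℂ) : ℤ) with ew
  have hx : 1 < x := by rw [ex]; exact_mod_cast d2
  have hy : 1 < y := by rw [ey]; exact_mod_cast d3
  have hw : 1 < w := by rw [ew]; exact_mod_cast d4
  have hb : (4 : ℤ) ∣ ε * y - 1 := by
    rcases hε with rfl | rfl <;> omega
  have hr : ε * y = y ∨ ε * y = -y := by rcases hε with rfl | rfl <;> simp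
  have hsum : x + ε * y + -w = -1 := by omega
  have ra : 5 ≤ x ∨ x ≤ -3 := by omega
  have rb : 5 ≤ ε * y ∨ ε * y ≤ -3 := by omega
  have rc : 5 ≤ -w ∨ -w ≤ -3 := by omega
  refine ⟨x, ε * y, -w, hc2, hb, by omega, ra, rb, rc, hsum, sigmaKlein_ge ra rb rc hsum, ?_⟩
  have horder := hs.order
  rw [(charDegree_eq z₂).1, (charDegree_eq z₃).1, (charDegree_eq z₄).1] at horder
  have hσ : sigmaKlein x (ε * y) (-w) = 1 + 1 / (x : ℚ) + (ε : ℚ) / (y : ℚ) + (-1) / (w : ℚ) := by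
    rw [sigmaKlein]
    rcases hε with rfl | rfl <;> push_cast <;> simp [neg_div, div_neg]
  rw [hσ]
  have h : (((Nat.card G : ℚ) * (1 + 1 / (x : ℚ) + (ε : ℚ) / (y : ℚ) + (-1) / (w : ℚ)) *
      (Nat.card (Subgroup.centralizer ((P : Subgroup G) : Set G)) : ℚ) ^ 2 : ℚ) : ℂ) =
      ((8 * (Nat.card (Subgroup.centralizer ({J} : Set G)) : ℚ) ^ 3 : ℚ) : ℂ) := by
    rw [ex, ey, ew]
    push_cast at horder ⊢
    exact horder
  exact_mod_cast h

/-- The index bound of the four-group case. -/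
theorem klein_order_bound [IsSimpleGroup G] (hG : ¬ IsCyclic G) (P : Sylow 2 G)
    (hK : IsKleinFour (P : Subgroup G))
    (hone : ∀ s t : G, orderOf s = 2 → orderOf t = 2 → IsConj s t)
    {J : G} (hJ : J ∈ (P : Subgroup G)) (hJ2 : orderOf J = 2) :
    Nat.card G * Nat.card (Subgroup.centralizer ((P : Subgroup G) : Set G)) ^ 2 ≤
      15 * Nat.card (Subgroup.centralizer ({J} : Set G)) ^ 3 := by
  obtain ⟨a, b, c, -, -, -, -, -, -, -, hσ, h⟩ := klein_order_formula hG P hK hone hJ hJ2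
  have hp : (0 : ℚ) ≤ (Nat.card G : ℚ) *
      (Nat.card (Subgroup.centralizer ((P : Subgroup G) : Set G)) : ℚ) ^ 2 := by positivity
  have : ((Nat.card G * Nat.card (Subgroup.centralizer ((P : Subgroup G) : Set G)) ^ 2 : ℕ) : ℚ) ≤
      ((15 * Nat.card (Subgroup.centralizer ({J} : Set G)) ^ 3 : ℕ) : ℚ) := by
    push_cast
    nlinarith [mul_le_mul_of_nonneg_left hσ hp]
  exact_mod_cast this

end CfsgLib.GW
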