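import Cfsg.Agent.Lib.GW.Main
import Cfsg.Agent.Lib.GW.Klein.Main
import Cfsg.Agent.Lib.GW.CaseA.Mixed.Kill.Main

/-!
# The Gorenstein-Walter theorem
-/

set_option autoImplicit false

namespace CfsgLib.GW

universe u

theorem Min.isPSLTwoOrA7 {G : Type u} [Group G] [Finite G] (hG : Min G) : IsPSLTwoOrA7 G :=
  hG.isPSLTwoOrA7_of (fun h8 => hG.isPSLTwoOrA7_of_klein h8)
    fun _ _ _ _ _ _ R => CaseA.Mixed.Kill.false_of_residual R

/-- **the Gorenstein-Walter theorem** for all orders -/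
theorem gwBelow (N : ℕ) : GWBelow.{u} N :=
  gwBelow_of_min (fun _ _ _ hG => hG.isPSLTwoOrA7) N

/-- perfect groups with dihedral Sylow 2-subgroups modulo their odd core -/
theorem gw_perfect (X : Type u) [Group X] [Finite X] [Group.IsPerfect X] (hX : DihTwo X) :
    IsPSLTwoOrA7 (X ⧸ Cfsg.oddCore X) :=
  gw_of (fun _ _ _ hG => hG.isPSLTwoOrA7) X hX

end CfsgLib.GW
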