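import Mathlib

/-!
# Involutions and four groups acting on a group of odd order

The fixed point formula for a four group, and centralisers in the quotient by a normal subgroup of odd order.
-/

set_option autoImplicit false
set_option linter.all false

namespace CfsgLib.GW

universe u

variable {G : Type u} [Group G] [Finite G]

theorem sq_inj_of_odd {K : Subgroup G} (hK : Odd (Nat.card K)) {x y : G} (hx : x ∈ K) (hy : y ∈ K)
    (h : x * x = y * y) : x = y := by
  have := (powCoprime (G := K) (n := 2) (Nat.coprime_two_right.2 hK)).injective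
    (a₁ := ⟨x, hx⟩) (a₂ := ⟨y, hy⟩) (Subtype.ext (by simpa [powCoprime_apply, pow_two] using h))
  exact congrArg Subtype.val this

theorem exists_sqrt {K : Subgroup G} (hK : Odd (Nat.card K)) {x : G} (hx : x ∈ K) : ∃ y ∈ K, y * y = x := by
  obtain ⟨y, hy⟩ := (powCoprime (G := K) (n := 2) (Nat.coprime_two_right.2 hK)).surjective ⟨x, hx⟩
  exact ⟨y, y.2, by simpa [powCoprime_apply, pow_two] using congrArg Subtype.val hy⟩

variable {K : Subgroup G}

/-- the elements inverted by `a` -/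
def invSet (K : Subgroup G) (a : G) : Set G := {x | x ∈ K ∧ a * x * a⁻¹ = x⁻¹}

/-- the fixed points of `a` in `K` -/
def fixIn (K : Subgroup G) (a : G) : Subgroup G := K ⊓ Subgroup.centralizer ({a} : Set G)

theorem mem_fixIn {a x : G} : x ∈ fixIn K a ↔ x ∈ K ∧ a * x * a⁻¹ = x := by
  rw [fixIn, Subgroup.mem_inf, Subgroup.mem_centralizer_singleton_iff, mul_inv_eq_iff_eq_mul]
  exact and_congr_right fun _ => eq_comm

theorem conj_conj_self {a : G} (ha : a * a = 1) (x : G) : a * (a * x * a⁻¹) * a⁻¹ = x := by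
  rw [show a * (a * x * a⁻¹) * a⁻¹ = (a * a) * x * (a * a)⁻¹ by group, ha]; group

theorem conj_comm {a b : G} (hab : Commute a b) (x : G) : a * (b * x * b⁻¹) * a⁻¹ = b * (a * x * a⁻¹) * b⁻¹ := by
  rw [show a * (b * x * b⁻¹) * a⁻¹ = (a * b) * x * (a * b)⁻¹ by group, hab.eq]; group

variable (hK : Odd (Nat.card K))
include hK

/-- fixed points times inverted elements -/
theorem card_fix_mul_inv {a : G} (ha : a * a = 1) (han : ∀ x ∈ K, a * x * a⁻¹ ∈ K) :
    Nat.card K = Nat.card (fixIn K a) * Nat.card (invSet K a) := by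
  rw [← Nat.card_prod]
  refine (Nat.card_congr (Equiv.ofBijective
    (fun p : fixIn K a × invSet K a => (⟨p.1 * p.2, mul_mem (mem_fixIn.1 p.1.2).1 p.2.2.1⟩ : K)) ⟨?_, ?_⟩)).symm
  · rintro ⟨⟨c, hc⟩, ⟨i, hi⟩⟩ ⟨⟨c', hc'⟩, ⟨i', hi'⟩⟩ h
    have h1 : c * i = c' * i' := congrArg Subtype.val h
    have h2 := congrArg (fun z => a * z * a⁻¹) h1
    simp only [← conj_mul] at h2
    rw [(mem_fixIn.1 hc).2, hi.2, (mem_fixIn.1 hc').2, hi'.2] at h2
    have h3 : i = i' := sq_inj_of_odd hK hi.1 hi'.1 (by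
      calc i * i = (c * i⁻¹)⁻¹ * (c * i) := by group
        _ = (c' * i'⁻¹)⁻¹ * (c' * i') := by rw [h1, h2]
        _ = i' * i' := by group)
    subst h3
    simp [mul_right_cancel h1]
  · rintro ⟨k, hk⟩
    obtain ⟨i, hi, hii⟩ := exists_sqrt hK (K.mul_mem (K.inv_mem (han k hk)) hk)
    have hia : a * i * a⁻¹ = i⁻¹ := sq_inj_of_odd hK (han i hi) (K.inv_mem hi) (by
      rw [conj_mul, hii, ← conj_mul, ← conj_inv, conj_conj_self ha, ← mul_inv_rev, hii]
      group)
    refine ⟨⟨⟨k * i⁻¹, mem_fixIn.2 ⟨K.mul_mem hk (K.inv_mem hi), ?_⟩⟩, ⟨i, hi, hia⟩⟩, Subtype.ext (by simp)⟩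
    rw [← conj_mul, ← conj_inv, hia, inv_inv]
    calc a * k * a⁻¹ * i = a * k * a⁻¹ * (i * i) * i⁻¹ := by group
      _ = k * i⁻¹ := by rw [hii]; group

/-- **the fixed point formula of a four group** -/
theorem card_four_formula {a b : G} (ha : a * a = 1) (hb : b * b = 1) (hab : Commute a b)
    (han : ∀ x ∈ K, a * x * a⁻¹ ∈ K) (hbn : ∀ x ∈ K, b * x * b⁻¹ ∈ K) :
    Nat.card K * Nat.card (fixIn K a ⊓ fixIn K b : Subgroup G) ^ 2 =
      Nat.card (fixIn K a) * Nat.card (fixIn K b) * Nat.card (fixIn K (a * b)) := by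
  have hc : (a * b) * (a * b) = 1 := by
    rw [mul_assoc, ← mul_assoc b, ← hab.eq, mul_assoc a b b, hb, mul_one, ha]
  have hcconj : ∀ x, (a * b) * x * (a * b)⁻¹ = a * (b * x * b⁻¹) * a⁻¹ := fun x => by group
  have hcn : ∀ x ∈ K, (a * b) * x * (a * b)⁻¹ ∈ K := fun x hx => by rw [hcconj]; exact han _ (hbn x hx)
  have hcb : Commute (a * b) b := hab.mul_left (Commute.refl b)
  -- the three sets of inverted elements in fixed point groups
  have hoddF : ∀ v : G, Odd (Nat.card (fixIn K v)) := fun v =>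
    hK.of_dvd_nat (Subgroup.card_dvd_of_le inf_le_left)
  have hstep : ∀ v w : G, w * w = 1 → Commute v w → (∀ x ∈ K, w * x * w⁻¹ ∈ K) →
      Nat.card (fixIn K v) = Nat.card (fixIn K v ⊓ fixIn K w : Subgroup G) * Nat.card (invSet (fixIn K v) w) := by
    intro v w hw hvw hwn
    have e := card_fix_mul_inv (hoddF v) hw (fun x hx => by
      obtain ⟨h1, h2⟩ := mem_fixIn.1 hx
      exact mem_fixIn.2 ⟨hwn x h1, by rw [conj_comm hvw, h2]⟩)
    rw [show fixIn (fixIn K v) w = fixIn K v ⊓ fixIn K w from le_antisymm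
      (fun x hx => ⟨(mem_fixIn.1 hx).1, mem_fixIn.2 ⟨(mem_fixIn.1 (mem_fixIn.1 hx).1).1, (mem_fixIn.1 hx).2⟩⟩)
      (fun x hx => mem_fixIn.2 ⟨hx.1, (mem_fixIn.1 hx.2).2⟩)] at e
    exact e
  -- inverted by `a` in the two other fixed point groups
  have hmap : Nat.card (invSet K a) = Nat.card (invSet (fixIn K b) a) * Nat.card (invSet (fixIn K (a * b)) a) := by
    rw [← Nat.card_prod]
    refine (Nat.card_congr (Equiv.ofBijective (fun p : invSet (fixIn K b) a × invSet (fixIn K (a * b)) a =>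
      (⟨(p.2 : G) * p.1 * p.2, K.mul_mem (K.mul_mem (mem_fixIn.1 p.2.2.1).1 (mem_fixIn.1 p.1.2.1).1)
        (mem_fixIn.1 p.2.2.1).1, ?_⟩ : invSet K a)) ⟨?_, ?_⟩)).symm
    · rw [← conj_mul, ← conj_mul, p.1.2.2, p.2.2.2]; group
    · rintro ⟨⟨x, hx⟩, ⟨y, hy⟩⟩ ⟨⟨x', hx'⟩, ⟨y', hy'⟩⟩ h
      have h1 : y * x * y = y' * x' * y' := congrArg Subtype.val h
      have hbinv : ∀ z, z ∈ invSet (fixIn K (a * b)) a → b * z * b⁻¹ = z⁻¹ := fun z hz => by
        obtain ⟨-, e⟩ := mem_fixIn.1 hz.1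
        rw [hcconj] at e
        have e2 := congrArg (fun u => a * u * a⁻¹) e
        simp only [conj_conj_self ha] at e2
        rw [e2, hz.2]
      have h2 := congrArg (fun z => b * z * b⁻¹) h1
      simp only [← conj_mul] at h2
      rw [hbinv y hy, hbinv y' hy', (mem_fixIn.1 hx.1).2, (mem_fixIn.1 hx'.1).2] at h2
      obtain ⟨hyK, -⟩ := mem_fixIn.1 hy.1
      obtain ⟨hy'K, -⟩ := mem_fixIn.1 hy'.1
      obtain ⟨hxK, -⟩ := mem_fixIn.1 hx.1
      obtain ⟨hx'K, -⟩ := mem_fixIn.1 hx'.1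
      have hI : y * x * y ∈ K := K.mul_mem (K.mul_mem hyK hxK) hyK
      have e3 : (y * x * y) * (y * y)⁻¹ = (y' * x' * y') * (y' * y')⁻¹ :=
        sq_inj_of_odd hK (K.mul_mem hI (K.inv_mem (K.mul_mem hyK hyK)))
          (K.mul_mem (K.mul_mem (K.mul_mem hy'K hx'K) hy'K) (K.inv_mem (K.mul_mem hy'K hy'K))) (by
          calc (y * x * y) * (y * y)⁻¹ * ((y * x * y) * (y * y)⁻¹)
              = (y * x * y) * (y⁻¹ * x * y⁻¹) := by group
            _ = (y' * x' * y') * (y'⁻¹ * x' * y'⁻¹) := by rw [h1, h2]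
            _ = (y' * x' * y') * (y' * y')⁻¹ * ((y' * x' * y') * (y' * y')⁻¹) := by group)
      have hyy : y = y' := sq_inj_of_odd hK hyK hy'K (inv_injective (by rw [h1] at e3; exact mul_left_cancel e3))
      subst hyy
      simp [mul_left_cancel (mul_right_cancel h1)]
    · rintro ⟨i, hiK, hia⟩
      obtain ⟨j, hjK, hjj⟩ := exists_sqrt hK (K.mul_mem hiK (hbn i hiK))
      obtain ⟨y, hyK, hyy⟩ := exists_sqrt hK (K.mul_mem (K.inv_mem hjK) hiK)
      -- j = i z with z = (y * y)⁻¹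
      have hib : b * i * b⁻¹ = (y * y)⁻¹ * i * (y * y)⁻¹ := by
        rw [hyy]
        calc b * i * b⁻¹ = i⁻¹ * (i * (b * i * b⁻¹)) := by group
          _ = i⁻¹ * (j * j) := by rw [hjj]
          _ = (j⁻¹ * i)⁻¹ * i * (j⁻¹ * i)⁻¹ := by group
      -- the twisting element is inverted by both
      have huniq : ∀ z ∈ K, b * i * b⁻¹ = z⁻¹ * i * z⁻¹ → z = y * y := fun z hz e => inv_injective (by
        have hzI : i * z⁻¹ = i * (y * y)⁻¹ := sq_inj_of_odd hK (K.mul_mem hiK (K.inv_mem hz))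
          (K.mul_mem hiK (K.inv_mem (K.mul_mem hyK hyK))) (by
          calc i * z⁻¹ * (i * z⁻¹) = i * (z⁻¹ * i * z⁻¹) := by group
            _ = i * ((y * y)⁻¹ * i * (y * y)⁻¹) := by rw [← e, hib]
            _ = i * (y * y)⁻¹ * (i * (y * y)⁻¹) := by group)
        exact mul_left_cancel hzI)
      have hyb : b * y * b⁻¹ = y⁻¹ := sq_inj_of_odd hK (hbn y hyK) (K.inv_mem hyK) (by
        obtain ⟨w, hw⟩ : ∃ w, w = b * y * b⁻¹ * (b * y * b⁻¹) := ⟨_, rfl⟩
        have hwK : w ∈ K := hw ▸ K.mul_mem (hbn y hyK) (hbn y hyK)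
        have h1 := congrArg (fun u => b * u * b⁻¹) hib
        simp only [conj_conj_self hb, ← conj_mul, ← conj_inv, ← hw] at h1
        have h2 := huniq w⁻¹ (K.inv_mem hwK) (by
          rw [inv_inv]
          calc b * i * b⁻¹ = w * (w⁻¹ * (b * i * b⁻¹) * w⁻¹) * w := by group
            _ = w * i * w := by rw [← h1])
        rw [← hw, inv_eq_iff_eq_inv.1 h2, mul_inv_rev])
      have hya : a * y * a⁻¹ = y⁻¹ := sq_inj_of_odd hK (han y hyK) (K.inv_mem hyK) (by
        obtain ⟨w, hw⟩ : ∃ w, w = a * y * a⁻¹ * (a * y * a⁻¹) := ⟨_, rfl⟩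
        have hwK : w ∈ K := hw ▸ K.mul_mem (han y hyK) (han y hyK)
        have h1 := congrArg (fun u => a * u * a⁻¹) hib
        simp only [conj_comm hab, ← conj_mul, ← conj_inv, hia, ← hw] at h1
        have h2 := huniq w⁻¹ (K.inv_mem hwK) (inv_injective (by
          rw [h1]; group))
        rw [← hw, inv_eq_iff_eq_inv.1 h2, mul_inv_rev])
      have hxb : b * (y⁻¹ * i * y⁻¹) * b⁻¹ = y⁻¹ * i * y⁻¹ := by
        rw [← conj_mul, ← conj_mul, ← conj_inv, hyb, inv_inv, hib]; group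
      refine ⟨⟨⟨y⁻¹ * i * y⁻¹, mem_fixIn.2 ⟨K.mul_mem (K.mul_mem (K.inv_mem hyK) hiK) (K.inv_mem hyK), hxb⟩, ?_⟩,
        ⟨y, mem_fixIn.2 ⟨hyK, ?_⟩, hya⟩⟩, Subtype.ext (by group)⟩
      · rw [← conj_mul, ← conj_mul, ← conj_inv, hya, hia]; group
      · rw [hcconj, hyb, ← conj_inv, hya, inv_inv]
  have hDc : fixIn K (a * b) ⊓ fixIn K a = fixIn K a ⊓ fixIn K b := by
    ext x
    simp only [Subgroup.mem_inf, mem_fixIn, hcconj]
    constructor
    · rintro ⟨⟨h1, h2⟩, -, h3⟩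
      refine ⟨⟨h1, h3⟩, h1, ?_⟩
      have := congrArg (fun u => a * u * a⁻¹) h2
      simpa [conj_conj_self ha, h3] using this
    · rintro ⟨⟨h1, h3⟩, -, h4⟩
      exact ⟨⟨h1, by rw [h4, h3]⟩, h1, h3⟩
  have hac : Commute (a * b) a := (Commute.refl a).mul_left hab.symm
  rw [card_fix_mul_inv hK ha han, hmap, hstep b a ha hab.symm han, hstep (a * b) a ha hac han, hDc,
    inf_comm (fixIn K b) (fixIn K a)]
  ring

variable [K.Normal]

/-- lifting an element centralising an involution modulo `K` -/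
theorem exists_fix_lift {a g : G} (ha : a * a = 1) (h : (g * a * g⁻¹) * a ∈ K) :
    ∃ k ∈ K, Commute (k * g) a := by
  obtain ⟨x, hx⟩ : ∃ x, x = (g * a * g⁻¹) * a := ⟨_, rfl⟩
  rw [← hx] at h
  obtain ⟨y, hy, hyy⟩ := exists_sqrt hK h
  have han : ∀ z ∈ K, a * z * a⁻¹ ∈ K := fun z hz => ‹K.Normal›.conj_mem z hz a
  have hai : a⁻¹ = a := inv_eq_of_mul_eq_one_right ha
  have hxi : a * x * a⁻¹ = x⁻¹ := by
    rw [hx, mul_inv_rev, mul_inv_rev, mul_inv_rev, inv_inv, hai]; simp [mul_assoc, ha]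
  have hya : a * y * a⁻¹ = y⁻¹ := sq_inj_of_odd hK (han y hy) (K.inv_mem hy) (by
    rw [conj_mul, hyy, hxi, ← hyy]; group)
  refine ⟨y⁻¹, K.inv_mem hy, ?_⟩
  show y⁻¹ * g * a = a * (y⁻¹ * g)
  have e1 : g * a = y * y * a * g := by rw [hyy, hx]; simp [mul_assoc, ha]
  calc y⁻¹ * g * a = y⁻¹ * (g * a) := by rw [mul_assoc]
    _ = y * a * g := by rw [e1]; group
    _ = a * (y⁻¹ * g) := by
      rw [show y * a = a * y⁻¹ from ?_, mul_assoc]
      calc y * a = (a * y⁻¹ * a⁻¹) * a := by rw [← conj_inv, hya, inv_inv]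
        _ = a * y⁻¹ := by group

/-- centralisers in the quotient -/
theorem card_centralizer_quotient_odd {a : G} (ha : a * a = 1) :
    Nat.card (Subgroup.centralizer ({a} : Set G)) =
      Nat.card (fixIn K a) * Nat.card (Subgroup.centralizer ({(a : G ⧸ K)} : Set (G ⧸ K))) := by
  obtain ⟨C, hC⟩ : ∃ C, C = Subgroup.centralizer ({a} : Set G) := ⟨_, rfl⟩
  rw [← hC]
  have himg : C.map (QuotientGroup.mk' K) = Subgroup.centralizer ({(a : G ⧸ K)} : Set (G ⧸ K)) := by
    ext x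
    constructor
    · rintro ⟨g, hg, rfl⟩
      rw [hC, SetLike.mem_coe, Subgroup.mem_centralizer_singleton_iff] at hg
      rw [Subgroup.mem_centralizer_singleton_iff]
      show (g : G ⧸ K) * a = a * g
      rw [← QuotientGroup.mk_mul, hg, QuotientGroup.mk_mul]
    · intro hx
      obtain ⟨g, rfl⟩ := QuotientGroup.mk'_surjective K x
      rw [Subgroup.mem_centralizer_singleton_iff] at hx
      obtain ⟨k, hk, hcomm⟩ := exists_fix_lift hK (g := g) ha (by
        rw [← QuotientGroup.eq_one_iff]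
        have hx' : (g : G ⧸ K) * a = a * g := hx
        simp only [QuotientGroup.mk_mul, QuotientGroup.mk_inv]
        rw [hx', mul_inv_cancel_right, ← QuotientGroup.mk_mul, ha, QuotientGroup.mk_one])
      refine ⟨k * g, by rw [hC, SetLike.mem_coe, Subgroup.mem_centralizer_singleton_iff]; exact hcomm.eq, ?_⟩
      rw [map_mul, show QuotientGroup.mk' K k = 1 from (QuotientGroup.eq_one_iff k).2 hk, one_mul]
  have h := (C.subgroupOf C).card_mul_index
  have hker : fixIn K a = K ⊓ C := by rw [fixIn, hC]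
  rw [← himg, hker]
  have h2 := Subgroup.card_mul_index ((QuotientGroup.mk' K).comp C.subtype).ker
  rw [Subgroup.index_ker, MonoidHom.range_comp, Subgroup.range_subtype] at h2
  rw [← h2]
  congr 1
  refine Nat.card_congr ⟨fun z => ⟨z.1.1, (QuotientGroup.eq_one_iff _).1 z.2, z.1.2⟩,
    fun z => ⟨⟨z.1, z.2.2⟩, (QuotientGroup.eq_one_iff _).2 z.2.1⟩, fun z => rfl, fun z => rfl⟩

/-- centralisers of a four group in the quotient -/
theorem card_centralizer_four_odd {a b : G} (ha : a * a = 1) (hb : b * b = 1) (hab : Commute a b) :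
    Nat.card (Subgroup.centralizer ({a, b} : Set G)) = Nat.card (fixIn K a ⊓ fixIn K b : Subgroup G) *
      Nat.card (Subgroup.centralizer ({(a : G ⧸ K), (b : G ⧸ K)} : Set (G ⧸ K))) := by
  obtain ⟨C, hC⟩ : ∃ C, C = Subgroup.centralizer ({a, b} : Set G) := ⟨_, rfl⟩
  have hmemC : ∀ g, g ∈ C ↔ Commute g a ∧ Commute g b := fun g => by
    rw [hC, Subgroup.mem_centralizer_iff]
    simp only [Set.mem_insert_iff, Set.mem_singleton_iff, forall_eq_or_imp, forall_eq]
    exact ⟨fun ⟨h1, h2⟩ => ⟨h1.symm, h2.symm⟩, fun ⟨h1, h2⟩ => ⟨h1.symm, h2.symm⟩⟩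
  rw [← hC]
  have himg : C.map (QuotientGroup.mk' K) = Subgroup.centralizer ({(a : G ⧸ K), (b : G ⧸ K)} : Set (G ⧸ K)) := by
    ext x
    constructor
    · rintro ⟨g, hg, rfl⟩
      obtain ⟨h1, h2⟩ := (hmemC g).1 hg
      simp only [Subgroup.mem_centralizer_iff, Set.mem_insert_iff, Set.mem_singleton_iff, forall_eq_or_imp, forall_eq]
      exact ⟨((h1.map (QuotientGroup.mk' K)).eq).symm, ((h2.map (QuotientGroup.mk' K)).eq).symm⟩
    · intro hx
      obtain ⟨g, rfl⟩ := QuotientGroup.mk'_surjective K x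
      simp only [Subgroup.mem_centralizer_iff, Set.mem_insert_iff, Set.mem_singleton_iff, forall_eq_or_imp,
        forall_eq] at hx
      have hquot : ∀ (z g : G), z * z = 1 → (z : G ⧸ K) * g = (g : G ⧸ K) * z → (g * z * g⁻¹) * z ∈ K := by
        intro z g hz e
        rw [← QuotientGroup.eq_one_iff]
        simp only [QuotientGroup.mk_mul, QuotientGroup.mk_inv]
        rw [← e, mul_inv_cancel_right, ← QuotientGroup.mk_mul, hz, QuotientGroup.mk_one]
      obtain ⟨k, hk, hga⟩ := exists_fix_lift hK (g := g) ha (hquot a g ha hx.1)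
      have hkg : ((k * g : G) : G ⧸ K) = (g : G ⧸ K) := by
        rw [QuotientGroup.mk_mul]
        rw [(QuotientGroup.eq_one_iff k).2 hk, one_mul]
      obtain ⟨z, hz⟩ : ∃ z, z = ((k * g) * b * (k * g)⁻¹) * b := ⟨_, rfl⟩
      have hzK : z ∈ K := hz ▸ hquot b (k * g) hb (by rw [hkg]; exact hx.2)
      have hza : Commute z a := hz ▸ ((hga.mul_left hab.symm).mul_left hga.inv_left).mul_left hab.symm
      obtain ⟨y, hy, hyy⟩ := exists_sqrt hK hzK
      have hya : a * y * a⁻¹ = y := sq_inj_of_odd hK (‹K.Normal›.conj_mem y hy a) hy (by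
        rw [conj_mul, hyy, ← hza.eq, mul_inv_cancel_right])
      have hbi : b⁻¹ = b := inv_eq_of_mul_eq_one_right hb
      have hzi : b * z * b⁻¹ = z⁻¹ := by
        rw [hz]; simp only [mul_inv_rev, inv_inv, hbi]; simp [mul_assoc, hb]
      have hyb : b * y * b⁻¹ = y⁻¹ := sq_inj_of_odd hK (‹K.Normal›.conj_mem y hy b) (K.inv_mem hy) (by
        rw [conj_mul, hyy, hzi, ← hyy]; group)
      refine ⟨y⁻¹ * (k * g), (hmemC _).2 ⟨Commute.mul_left (Commute.inv_left (show y * a = a * y by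
        conv_lhs => rw [← hya]
        group)) hga, ?_⟩, ?_⟩
      · show y⁻¹ * (k * g) * b = b * (y⁻¹ * (k * g))
        have e1 : (k * g) * b = y * y * b * (k * g) := by rw [hyy, hz]; simp [mul_assoc, hb]
        calc y⁻¹ * (k * g) * b = y⁻¹ * ((k * g) * b) := by rw [mul_assoc]
          _ = y * b * (k * g) := by rw [e1]; group
          _ = b * (y⁻¹ * (k * g)) := by
            rw [show y * b = b * y⁻¹ from ?_, mul_assoc]
            calc y * b = (b * y⁻¹ * b⁻¹) * b := by rw [← conj_inv, hyb, inv_inv]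
              _ = b * y⁻¹ := by group
      · rw [map_mul, show QuotientGroup.mk' K y⁻¹ = 1 from (QuotientGroup.eq_one_iff _).2 (K.inv_mem hy), one_mul]
        exact hkg
  rw [← himg]
  have h2 := Subgroup.card_mul_index ((QuotientGroup.mk' K).comp C.subtype).ker
  rw [Subgroup.index_ker, MonoidHom.range_comp, Subgroup.range_subtype] at h2
  rw [← h2]
  congr 1
  have hfix : ∀ v z, Commute z v ↔ z ∈ Subgroup.centralizer ({v} : Set G) := fun v z => by
    rw [Subgroup.mem_centralizer_singleton_iff]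
    rfl
  exact Nat.card_congr
    ⟨fun z => ⟨z.1.1, ⟨(QuotientGroup.eq_one_iff _).1 z.2, (hfix a _).1 ((hmemC _).1 z.1.2).1⟩,
        (QuotientGroup.eq_one_iff _).1 z.2, (hfix b _).1 ((hmemC _).1 z.1.2).2⟩,
      fun z => ⟨⟨z.1, (hmemC _).2 ⟨(hfix a _).2 z.2.1.2, (hfix b _).2 z.2.2.2⟩⟩, (QuotientGroup.eq_one_iff _).2 z.2.1.1⟩,
      fun z => rfl, fun z => rfl⟩

end CfsgLib.GW
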