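import Cfsg.Agent.Lib.GW.Perfect

/-!
# No dihedral Sylow 2-subgroup over `A7` except in `A7`
-/

set_option autoImplicit false
set_option linter.style.haveILetI false
set_option linter.unusedSectionVars false

namespace CfsgLib.GW

universe u

/-- a normal `A7` with trivial centraliser is everything, dihedral Sylow 2-subgroups given -/
theorem eq_top_of_alt7 {X : Type u} [Group X] [Finite X] (hX : DihTwo X) (M : Subgroup X) [M.Normal]
    (e : M ≃* alternatingGroup (Fin 7)) (hC : Subgroup.centralizer (M : Set X) = ⊥) : M = ⊤ := by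
  classical
  obtain ⟨hi, hs⟩ := CfsgLib.Perm.Groups.AltAut.conjNormal_bijective (Ω := Fin 7) (by decide) (by decide)
  let E := MulEquiv.ofBijective _ ⟨hi, hs⟩
  let ψ : X →* Equiv.Perm (Fin 7) := E.symm.toMonoidHom.comp (conjVia M e)
  have hψ : Function.Injective ψ := E.symm.injective.comp (conjVia_injective M e hC)
  have hM : ∀ m : M, ψ (m : X) = (e m : Equiv.Perm (Fin 7)) := fun m => by
    show E.symm (conjVia M e (m : X)) = _
    rw [MulEquiv.symm_apply_eq, conjVia_mem]
    refine MulEquiv.ext fun t => Subtype.ext ?_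
    show _ = ((MulAut.conjNormal (e m : Equiv.Perm (Fin 7)) : MulAut (alternatingGroup (Fin 7))) t :
      Equiv.Perm (Fin 7))
    rw [MulAut.conjNormal_apply]
    rfl
  have hAle : alternatingGroup (Fin 7) ≤ ψ.range := fun s hs' => ⟨((e.symm ⟨s, hs'⟩ : M) : X), by
    rw [hM, MulEquiv.apply_symm_apply]⟩
  -- no element induces an odd permutation
  have heven : ∀ x : X, ψ x ∈ alternatingGroup (Fin 7) := by
    by_contra! hodd
    obtain ⟨x, hx⟩ := hodd
    have hall : ∀ s : Equiv.Perm (Fin 7), s ∈ ψ.range := fun s => by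
      rw [Equiv.Perm.mem_alternatingGroup] at hx
      by_cases hsg : Equiv.Perm.sign s = 1
      · exact hAle (Equiv.Perm.mem_alternatingGroup.2 hsg)
      · have h1 : s * ψ x ∈ ψ.range := hAle (Equiv.Perm.mem_alternatingGroup.2 (by
          rw [map_mul, (Int.units_eq_one_or _).resolve_left hsg, (Int.units_eq_one_or _).resolve_left hx]
          rfl))
        exact (Subgroup.mul_mem_cancel_right _ (MonoidHom.mem_range.2 ⟨x, rfl⟩)).1 h1
    obtain ⟨a, ha⟩ := hall (Equiv.swap 0 1)
    obtain ⟨b, hb⟩ := hall (Equiv.swap 2 3)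
    obtain ⟨c, hc⟩ := hall (Equiv.swap 4 5)
    have ord : ∀ {v : X} {i j : Fin 7}, i ≠ j → ψ v = Equiv.swap i j → orderOf v = 2 := fun {v i j} hij hv => by
      haveI : Fact (Nat.Prime 2) := ⟨Nat.prime_two⟩
      rw [← orderOf_injective ψ hψ v, hv]
      refine orderOf_eq_prime (by rw [sq, Equiv.swap_mul_self]) fun h => hij ?_
      have := congrArg (fun p : Equiv.Perm (Fin 7) => p i) h
      simpa using this.symm
    have hab : a ≠ b := fun h => by
      rw [h, hb] at ha
      exact absurd ha (by decide)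
    have comm : ∀ {v w : X}, ψ v * ψ w = ψ w * ψ v → Commute v w := fun h => hψ (by rw [map_mul, map_mul, h])
    rcases hX.four (ord (by decide) ha) (ord (by decide) hb) hab (comm (by rw [ha, hb]; decide))
      (comm (by rw [hc, ha]; decide)) (comm (by rw [hc, hb]; decide))
      ⟨1, by rw [ord (by decide) hc]; norm_num⟩ with h | h | h | h <;>
      apply_fun ψ at h <;> simp only [map_one, map_mul, ha, hb, hc] at h <;> exact absurd h (by decide)
  refine eq_top_of_inner M e hC fun x => ?_
  refine ⟨⟨ψ x, heven x⟩, ?_⟩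
  rw [show conjVia M e x = E (ψ x) from (E.apply_symm_apply _).symm]
  refine MulEquiv.ext fun t => Subtype.ext ?_
  show ((MulAut.conjNormal (ψ x) : MulAut (alternatingGroup (Fin 7))) t : Equiv.Perm (Fin 7)) = _
  rw [MulAut.conjNormal_apply]
  rfl

end CfsgLib.GW
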