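import Cfsg.Agent.Lib.GW.CyclicSylow
import Cfsg.Agent.Lib.GW.AltSeven
import Cfsg.Agent.Lib.Coprime.UniqueOrderP
import Cfsg.Agent.Lib.Char.QuaternionSylow
import Cfsg.Agent.Lib.Fusion.SmallTwo.Models
import Cfsg.Agent.Lib.Char.Zassenhaus.SixTypes
import Cfsg.Agent.Lib.Perm.Dickson.KleinCount
import Cfsg.Agent.Lib.Classical.SLBasic
import Cfsg.Agent.Lib.Block.PairSolvable.Criterion
import Cfsg.Prelude.Def_CaseTheorems
import Cfsg.Prelude.Def_PLocal

/-!
# Groups of `p`-rank one generated by `p`-elements, given the dihedral theorem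
-/

set_option autoImplicit false
set_option linter.style.haveILetI false
set_option linter.unusedSectionVars false

namespace CfsgLib.GW

universe u

/-- the symmetric group of degree four is the automorphism group of `PSL(2, 3)` -/
theorem mulAut_psl_three :
    Nonempty (MulAut (Matrix.ProjectiveSpecialLinearGroup (Fin 2) (ZMod 3)) ≃* Equiv.Perm (Fin 4)) := by
  haveI : Fact (Nat.Prime 3) := ⟨Nat.prime_three⟩
  obtain ⟨H, ⟨e⟩⟩ := CfsgLib.Perm.Dickson.exists_a4_odd (F := ZMod 3) (by rw [Nat.card_zmod]; decide)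
  have hcard := CfsgLib.Classical.card_psl_mul (F := ZMod 3) (n := 2) (by norm_num)
  rw [ZMod.card, Fin.prod_univ_two] at hcard
  have hH : Nat.card H = 12 := by
    rw [Nat.card_congr e.toEquiv]
    have h : 2 * Nat.card (alternatingGroup (Fin 4)) = 24 := by
      rw [Nat.card_eq_fintype_card, two_mul_card_alternatingGroup, Fintype.card_perm, Fintype.card_fin]
      rfl
    omega
  have htop : H = ⊤ := Subgroup.eq_top_of_card_eq H (by
    norm_num at hcard
    rw [← Nat.card_eq_fintype_card] at hcard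
    change Nat.card H = Nat.card (Matrix.ProjectiveSpecialLinearGroup (Fin 2) (ZMod 3))
    omega)
  obtain ⟨hi, hs⟩ := CfsgLib.Perm.Groups.AltAut.conjNormal_bijective (Ω := Fin 4) (by decide) (by decide)
  exact ⟨(MulAut.congr (((MulEquiv.subgroupCongr htop).trans Subgroup.topEquiv).symm.trans e)).trans
    (MulEquiv.ofBijective _ ⟨hi, hs⟩).symm⟩

variable {G : Type u} [Group G] [Finite G] {p : ℕ} [Fact p.Prime]

theorem uniqueOrderP_of_rank {P : Type*} [Group P] [Finite P] (hP : IsPGroup p P) (h : Cfsg.PRankLE p 1 P) :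
    ∀ x y : P, x ^ p = 1 → y ^ p = 1 → x ≠ 1 → y ∈ Subgroup.zpowers x := by
  classical
  haveI : Fact p.Prime := inferInstance
  intro x y hx hy hx1
  haveI : Nontrivial P := ⟨⟨x, 1, hx1⟩⟩
  haveI := hP.center_nontrivial
  obtain ⟨z, hz⟩ : ∃ z : Subgroup.center P, orderOf z = p := exists_prime_orderOf_dvd_card' p (by
    obtain ⟨k, hk⟩ := (hP.to_subgroup (Subgroup.center P)).exists_card_eq
    rw [hk]
    refine dvd_pow_self p fun h0 => ?_
    rw [h0, pow_zero, Subgroup.card_eq_one] at hk
    exact (Subgroup.nontrivial_iff_ne_bot _).1 inferInstance hk)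
  have hzo : orderOf (z : P) = p := by rw [Subgroup.orderOf_coe, hz]
  have key : ∀ w : P, w ^ p = 1 → w ∈ Subgroup.zpowers (z : P) := by
    intro w hw
    by_contra hwn
    set A := Subgroup.closure ({(z : P), w} : Set P) with hA
    have hcz : ∀ v : P, (z : P) * v = v * z := fun v => (Subgroup.mem_center_iff.1 z.2 v).symm
    haveI hAc : IsMulCommutative A := Subgroup.isMulCommutative_closure (by
      intro a ha b hb
      rcases ha with rfl | rfl <;> rcases hb with rfl | rfl
      · rfl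
      · exact hcz _
      · exact (hcz _).symm
      · rfl)
    have hAe : ∀ a ∈ A, a ^ p = 1 := fun a ha => by
      induction ha using Subgroup.closure_induction with
      | mem v hv =>
        rcases hv with rfl | rfl
        · rw [← hzo]; exact pow_orderOf_eq_one _
        · exact hw
      | one => exact one_pow p
      | mul u v hu hv h1 h2 =>
        have hc : Commute u v := congrArg Subtype.val (hAc.is_comm.comm (⟨u, hu⟩ : A) ⟨v, hv⟩)
        rw [hc.mul_pow, h1, h2, one_mul]
      | inv u _ h1 => rw [inv_pow, h1, inv_one]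
    have hle := h A hAc hAe
    rw [pow_one] at hle
    have heq : Subgroup.zpowers (z : P) = A := Subgroup.eq_of_le_of_card_ge
      (Subgroup.zpowers_le.2 (Subgroup.subset_closure (by simp))) (by rwa [Nat.card_zpowers, hzo])
    exact hwn (heq ▸ Subgroup.subset_closure (by simp))
  have hxz : Subgroup.zpowers x = Subgroup.zpowers (z : P) := Subgroup.eq_of_le_of_card_ge
    (Subgroup.zpowers_le.2 (key x hx)) (by
      rw [Nat.card_zpowers, Nat.card_zpowers, hzo, orderOf_eq_prime hx hx1])
  rw [hxz]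
  exact key y hy

/-- the cyclic case -/
theorem cyclic_case (hgen : Cfsg.pElementClosure p (⊤ : Subgroup G) = ⊤) (S : Sylow p G)
    [IsCyclic (S : Subgroup G)] :
    (p ≠ 2 ∧ IsCyclic ↥(S : Subgroup G) ∧ commutator G = ⊤ ∧ IsSimpleGroup (G ⧸ Cfsg.pPrimeCore p G) ∧
        ¬ IsMulCommutative (G ⧸ Cfsg.pPrimeCore p G)) ∨
      ((S : Subgroup G) ⊔ Cfsg.pPrimeCore p G = ⊤ ∧ Cfsg.IsPSolvable p G) := by
  classical
  by_cases hc : Cfsg.HasNormalPComplement p G
  · obtain ⟨P, N, hN, hNP⟩ := hc
    haveI := hN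
    refine Or.inr ⟨?_, CfsgLib.Block.PairSolvable.isPSolvable_of_complement ⟨P, N, hN, hNP⟩⟩
    have hNle : N ≤ Cfsg.pPrimeCore p G := CfsgLib.Coprime.le_pPrimeCore_of_not_dvd Fact.out (by
      rw [← hNP.index_eq_card]
      exact P.not_dvd_index)
    haveI : ((S : Subgroup G) ⊔ Cfsg.pPrimeCore p G).FiniteIndex := inferInstance
    refine Subgroup.index_eq_one.1 (Nat.eq_one_of_dvd_coprimes (a := Nat.card (P : Subgroup G))
      (b := (S : Subgroup G).index) ?_ ?_ (Subgroup.index_dvd_of_le le_sup_left))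
    · obtain ⟨k, hk⟩ := P.2.exists_card_eq
      rw [hk]
      exact Nat.Coprime.pow_left k ((Fact.out : p.Prime).coprime_iff_not_dvd.2 S.not_dvd_index)
    · rw [← hNP.symm.index_eq_card]
      exact Subgroup.index_dvd_of_le (hNle.trans le_sup_right)
  · refine Or.inl ⟨?_, inferInstance, commutator_eq_top_of_cyclic hgen S hc, ?_⟩
    · rintro rfl
      exact hc (CfsgLib.Invol.hasNormalPComplement_two_of_isCyclic S inferInstance |> fun ⟨Q, M, hM, hMQ⟩ =>
        ⟨Q, M, hM, hMQ⟩)
    set O := Cfsg.pPrimeCore p G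
    haveI : IsCyclic ((S.mapSurjective (QuotientGroup.mk'_surjective O)) : Subgroup (G ⧸ O)) := by
      rw [Sylow.coe_mapSurjective]
      exact isCyclic_of_surjective _ ((QuotientGroup.mk' O).subgroupMap_surjective _)
    have hgen' := gen_map (QuotientGroup.mk' O) (QuotientGroup.mk'_surjective O) hgen
    have hc' : ¬ Cfsg.HasNormalPComplement p (G ⧸ O) := by
      rintro ⟨P, N, hN, hNP⟩
      haveI := hN
      refine hc ?_
      obtain ⟨T⟩ : Nonempty (Sylow p G) := inferInstance
      refine ⟨S, N.comap (QuotientGroup.mk' O), inferInstance, ?_⟩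
      have hidx : (N.comap (QuotientGroup.mk' O)).index = Nat.card (S : Subgroup G) := by
        rw [Subgroup.index_comap_of_surjective _ (QuotientGroup.mk'_surjective O), hNP.symm.index_eq_card]
        refine Eq.trans (Sylow.card_eq_multiplicity P) (Eq.trans ?_ (Sylow.card_eq_multiplicity S).symm)
        congr 1
        rw [Subgroup.card_eq_card_quotient_mul_card_subgroup O, Nat.factorization_mul Nat.card_pos.ne' Nat.card_pos.ne',
          Finsupp.add_apply, Nat.factorization_eq_zero_of_not_dvd (CfsgLib.Coprime.pPrimeCore_not_dvd Fact.out),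
          add_zero]
      have hcardN : ¬ p ∣ Nat.card (N.comap (QuotientGroup.mk' O)) := by
        intro hd
        have h2 := (N.comap (QuotientGroup.mk' O)).card_mul_index
        rw [hidx, ← (S : Subgroup G).card_mul_index,
          mul_comm (Nat.card (S : Subgroup G)) (S : Subgroup G).index] at h2
        exact S.not_dvd_index (Nat.eq_of_mul_eq_mul_right Nat.card_pos h2 ▸ hd)
      obtain ⟨k, hk⟩ := S.2.exists_card_eq
      refine Subgroup.isComplement'_of_coprime (by rw [← hidx, Subgroup.card_mul_index]) ?_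
      rw [hk]
      exact (Nat.Coprime.pow_left k ((Fact.out : p.Prime).coprime_iff_not_dvd.2 hcardN)).symm
    haveI hsimple := isSimple_of_cyclic hgen' (S.mapSurjective (QuotientGroup.mk'_surjective O)) hc'
      (CfsgLib.Coprime.pPrimeCore_quotient_eq_bot Fact.out)
    refine ⟨hsimple, fun hcm => ?_⟩
    haveI := hcm
    have h1 : commutator (G ⧸ O) = ⊥ := eq_bot_iff.2 (Subgroup.commutator_le.2 fun a _ b _ =>
      Subgroup.mem_bot.2 (commutatorElement_eq_one_iff_mul_comm.2 (hcm.is_comm.comm a b)))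
    rw [commutator_eq_top_of_cyclic hgen' (S.mapSurjective (QuotientGroup.mk'_surjective O)) hc'] at h1
    haveI := hsimple.toNontrivial
    exact top_ne_bot h1

/-- **the quaternion case** -/
theorem quaternion_case (hgen : Cfsg.pElementClosure 2 (⊤ : Subgroup G) = ⊤) (S : Sylow 2 G) {n : ℕ} (hn : 2 ≤ n)
    (e : (S : Subgroup G) ≃* QuaternionGroup n) (hgw : GWBelow.{u} (Nat.card G)) :
    ((S : Subgroup G) ⊔ Cfsg.pPrimeCore 2 G = ⊤ ∧ Cfsg.IsPSolvable 2 G) ∨
      ∃ (N : Subgroup G) (_ : N.Normal), N = Cfsg.omegaOne 2 (S : Subgroup G) ⊔ Cfsg.pPrimeCore 2 G ∧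
        ((∃ (F : Type) (_ : Field F) (_ : Fintype F), Odd (Fintype.card F) ∧
            ∃ K : Subgroup (MulAut (Matrix.ProjectiveSpecialLinearGroup (Fin 2) F)),
              (MulAut.conj : Matrix.ProjectiveSpecialLinearGroup (Fin 2) F →*
                MulAut (Matrix.ProjectiveSpecialLinearGroup (Fin 2) F)).range ≤ K ∧ Nonempty (G ⧸ N ≃* ↥K)) ∨
          Nonempty (G ⧸ N ≃* alternatingGroup (Fin 7))) := by
  classical
  haveI : Fact (Nat.Prime 2) := ⟨Nat.prime_two⟩
  haveI : NeZero n := ⟨by omega⟩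
  set O := Cfsg.pPrimeCore 2 G with hO
  have hOodd : ¬ 2 ∣ Nat.card O := CfsgLib.Coprime.pPrimeCore_not_dvd Nat.prime_two
  -- the involution of `S`
  set z' : (S : Subgroup G) := e.symm (.a (n : ZMod (2 * n)))
  have huniq : ∀ x : (S : Subgroup G), x * x = 1 → x = 1 ∨ x = z' := fun x hx => by
    rcases CfsgLib.Invol.quaternion_sq_one (q := e x) (by rw [← map_mul, hx, map_one]) with h | h
    · exact Or.inl (e.injective (h.trans (map_one e).symm))
    · exact Or.inr (by rw [show z' = e.symm (e x) by rw [h], e.symm_apply_apply])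
  have hz'1 : z' ≠ 1 := fun h => by
    have h' : QuaternionGroup.a (n : ZMod (2 * n)) = 1 := e.symm.injective (h.trans (map_one _).symm)
    rw [QuaternionGroup.one_def] at h'
    injection h' with h'
    rw [ZMod.natCast_eq_zero_iff] at h'
    have := Nat.le_of_dvd (by omega) h'
    omega
  have hz'2 : z' * z' = 1 := by
    show e.symm _ * e.symm _ = 1
    rw [← map_mul, QuaternionGroup.a_mul_a, ← map_one e.symm]
    congr 1
    rw [QuaternionGroup.one_def]
    congr 1
    rw [← Nat.cast_add, ← two_mul, ZMod.natCast_self]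
  set z : G := (z' : G) with hz
  have hzo : orderOf z = 2 := by
    rw [hz, Subgroup.orderOf_coe]
    exact CfsgLib.Invol.invol_iff.2 ⟨hz'2, hz'1⟩
  have hzc : CfsgLib.Invol.IsZCentral z := CfsgLib.Invol.zcentral_of_unique_invol S hzo fun x hx hxo => by
    rcases huniq ⟨x, hx⟩ (Subtype.ext (CfsgLib.Invol.invol_mul_self hxo)) with h | h
    · exact absurd (congrArg Subtype.val h) (CfsgLib.Invol.invol_ne_one hxo)
    · exact congrArg Subtype.val h
  have homega : Cfsg.omegaOne 2 (S : Subgroup G) = Subgroup.zpowers z := by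
    refine le_antisymm ((Subgroup.closure_le _).2 fun x hx => ?_) (Subgroup.zpowers_le.2 ?_)
    · rcases huniq ⟨x, hx.1⟩ (Subtype.ext (by
        have h2 := hx.2
        rw [sq] at h2
        exact h2)) with h | h
      · rw [show x = 1 from congrArg Subtype.val h]; exact one_mem _
      · rw [show x = z from congrArg Subtype.val h]; exact Subgroup.mem_zpowers z
    · exact Subgroup.subset_closure ⟨z'.2, by rw [sq]; exact congrArg Subtype.val hz'2⟩
  set π := QuotientGroup.mk' O with hπ
  set zb := π z with hzb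
  have hzbo : orderOf zb = 2 := by
    refine CfsgLib.Invol.invol_iff.2 ⟨by rw [← map_mul, CfsgLib.Invol.invol_mul_self hzo, map_one], fun h => ?_⟩
    exact hOodd (hzo ▸ Subgroup.orderOf_dvd_natCard O ((QuotientGroup.eq_one_iff z).1 h))
  have hzbc : ∀ g, g * zb = zb * g := fun g => by
    obtain ⟨g, rfl⟩ := QuotientGroup.mk'_surjective O g
    have h1 : π (z * g * z⁻¹ * g⁻¹) = 1 := (QuotientGroup.eq_one_iff _).2 (hzc g)
    rw [map_mul, map_mul, map_mul, map_inv, map_inv, mul_inv_eq_one, mul_inv_eq_iff_eq_mul] at h1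
    exact h1.symm
  set N := Cfsg.omegaOne 2 (S : Subgroup G) ⊔ O with hN
  have hNc : N = (Subgroup.zpowers zb).comap π := by
    rw [hN, homega, hzb, ← MonoidHom.map_zpowers, Subgroup.comap_map_eq, QuotientGroup.ker_mk']
  haveI hzn : (Subgroup.zpowers zb).Normal := ⟨fun a ha g => by
    obtain ⟨i, rfl⟩ := Subgroup.mem_zpowers_iff.1 ha
    rw [((show Commute g zb from hzbc g).zpow_right i).eq, mul_inv_cancel_right]
    exact zpow_mem (Subgroup.mem_zpowers zb) i⟩
  haveI hNn : N.Normal := hNc ▸ Subgroup.Normal.comap hzn π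
  set Q := G ⧸ N
  let f : G ⧸ O →* Q := QuotientGroup.map O N (MonoidHom.id G) (by
    rw [Subgroup.comap_id]; exact le_sup_right)
  have hf : Function.Surjective f := fun y => by
    obtain ⟨g, rfl⟩ := QuotientGroup.mk'_surjective N y
    exact ⟨π g, rfl⟩
  have hker : f.ker = Subgroup.zpowers zb := by
    ext y
    obtain ⟨g, rfl⟩ := QuotientGroup.mk'_surjective O y
    rw [MonoidHom.mem_ker]
    show ((g : G) : Q) = 1 ↔ _
    rw [QuotientGroup.eq_one_iff, hNc, Subgroup.mem_comap]
  obtain ⟨S₁, ⟨e₁⟩⟩ := CfsgLib.Invol.exists_sylow_quotient_equiv O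
    ((Nat.prime_two.coprime_iff_not_dvd.2 hOodd).symm) S
  obtain ⟨T, ⟨eT⟩⟩ := CfsgLib.Fusion.SmallTwo.sylow_image_dihedral f hf
    (by rw [hker, Nat.card_zpowers, hzbo]) S₁ (e₁.symm.trans e)
  have hQ : DihTwo Q := dihTwo_of_sylow T hn eT
  have hQO : Cfsg.oddCore Q = ⊥ := by
    set K := (Cfsg.oddCore Q).comap f
    have hK : Nat.card K = 2 * Nat.card (Cfsg.oddCore Q) := by
      have h1 := K.card_mul_index
      rw [Subgroup.index_comap_of_surjective _ hf] at h1
      have h2 := f.ker.card_mul_index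
      rw [Subgroup.index_ker, MonoidHom.range_eq_top.2 hf, Nat.card_congr Subgroup.topEquiv.toEquiv, hker,
        Nat.card_zpowers, hzbo] at h2
      rw [← h2, ← (Cfsg.oddCore Q).card_mul_index, ← mul_assoc] at h1
      exact Nat.eq_of_mul_eq_mul_right (Nat.pos_of_ne_zero Subgroup.FiniteIndex.index_ne_zero) h1
    have hoddQ := CfsgLib.Coprime.pPrimeCore_not_dvd (G := Q) Nat.prime_two
    haveI : IsCyclic (Subgroup.zpowers zb) := inferInstance
    obtain ⟨R⟩ : Nonempty (Sylow 2 K) := inferInstance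
    have hR : Nat.card (R : Subgroup K) = 2 := by
      rw [Sylow.card_eq_multiplicity, hK, Nat.factorization_mul two_ne_zero Nat.card_pos.ne', Finsupp.add_apply,
        Nat.Prime.factorization_self Nat.prime_two, Nat.factorization_eq_zero_of_not_dvd hoddQ]
      rfl
    haveI : IsCyclic (R : Subgroup K) := isCyclic_of_prime_card hR
    obtain ⟨R', J, hJ, hJR⟩ := CfsgLib.Invol.hasNormalPComplement_two_of_isCyclic R inferInstance
    haveI := hJ
    have hJodd : ¬ 2 ∣ Nat.card J := by rw [← hJR.index_eq_card]; exact R'.not_dvd_index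
    have hJ0 : J = ⊥ := by
      have h1 : J ≤ Cfsg.pPrimeCore 2 K := CfsgLib.Coprime.le_pPrimeCore_of_not_dvd Nat.prime_two hJodd
      have h2 := CfsgLib.Coprime.pPrimeCore_map_subtype_eq (p := 2) Nat.prime_two K
      rw [CfsgLib.Coprime.pPrimeCore_quotient_eq_bot Nat.prime_two, bot_inf_eq] at h2
      rw [(Subgroup.map_eq_bot_iff_of_injective _ K.subtype_injective).1 h2] at h1
      exact le_bot_iff.1 h1
    have h3 := hJR.card_mul_card
    rw [hJ0, Subgroup.card_bot, one_mul, hK] at h3
    obtain ⟨k, hk⟩ := R'.2.exists_card_eq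
    rw [hk] at h3
    refine Subgroup.card_eq_one.1 ?_
    rcases k with - | k
    · simp at h3
      omega
    · rw [pow_succ'] at h3
      have h4 := Nat.eq_of_mul_eq_mul_left two_pos h3
      rcases k with - | k
      · simpa using h4.symm
      · exact absurd ⟨2 ^ k, by rw [← h4, pow_succ']⟩ hoddQ
  have hgenQ := gen_map (QuotientGroup.mk' N) (QuotientGroup.mk'_surjective N) hgen
  have hcardQ : Nat.card Q ≤ Nat.card G := Nat.card_le_card_of_surjective _ (QuotientGroup.mk'_surjective N)
  rcases structure_core hQ hQO (hgw.mono hcardQ) with h | ⟨V, hVn, hV, hVC, hcard⟩ | ⟨M, hMn, -, -, -, hC, hM⟩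
  · -- a 2-group modulo `N`
    left
    have htop : (S : Subgroup G) ⊔ O = ⊤ := by
      refine Subgroup.index_eq_one.1 ?_
      have h1 : N ≤ (S : Subgroup G) ⊔ O := sup_le_sup_right (by
        rw [homega]; exact Subgroup.zpowers_le.2 z'.2) O
      obtain ⟨k, hk⟩ := h.exists_card_eq
      refine Nat.eq_one_of_dvd_coprimes (Nat.Coprime.pow_left k
        ((Nat.prime_two.coprime_iff_not_dvd.2 S.not_dvd_index))) ?_ (Subgroup.index_dvd_of_le le_sup_left)
      rw [← hk]
      exact Subgroup.index_dvd_of_le h1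
    haveI : O.Normal := inferInstance
    refine ⟨htop, CfsgLib.Block.PairSolvable.isPSolvable_of_complement ⟨S, O, inferInstance, ?_⟩⟩
    obtain ⟨k, hk⟩ := S.2.exists_card_eq
    have hdisj : Disjoint O (S : Subgroup G) := disjoint_iff.2 (Subgroup.inf_eq_bot_of_coprime (by
      rw [hk]
      exact (Nat.Coprime.pow_left k (Nat.prime_two.coprime_iff_not_dvd.2 hOodd)).symm))
    exact Subgroup.isComplement'_of_disjoint_and_mul_eq_univ hdisj (by
      rw [← Subgroup.normal_mul, sup_comm, htop]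
      rfl)
  · -- the symmetric group of degree four
    refine Or.inr ⟨N, hNn, rfl, Or.inl ⟨ZMod 3, inferInstance, inferInstance, by rw [ZMod.card]; decide, ⊤, le_top, ?_⟩⟩
    haveI := hVn
    rcases hcard with hc | hc
    · exfalso
      obtain ⟨R⟩ : Nonempty (Sylow 2 Q) := inferInstance
      have hVp : IsPGroup 2 V := IsPGroup.of_card (n := 2) (by rw [hV.card_four]; norm_num)
      have hVR : V = (R : Subgroup Q) := Subgroup.eq_of_le_of_card_ge (hVp.le_sylow_of_normal R) (by
        obtain ⟨k, hk⟩ := R.2.exists_card_eq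
        have hd : 2 ^ k ∣ 12 := hk ▸ hc ▸ Subgroup.card_subgroup_dvd_card (R : Subgroup Q)
        have hk2 : k ≤ 2 := by
          by_contra hk2
          exact absurd ((pow_dvd_pow 2 (show 3 ≤ k by omega)).trans hd) (by norm_num)
        rw [hk, hV.card_four]
        exact le_trans (Nat.pow_le_pow_right (by norm_num) hk2) (by norm_num))
      have h1 := eq_top_of_sylow_le hgenQ R (N := V) (by rw [hVR])
      have h2 := hV.card_four
      rw [h1, Nat.card_congr Subgroup.topEquiv.toEquiv, hc] at h2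
      omega
    · haveI := hV
      have hV2 : ∀ v ∈ V, v * v = 1 := fun v hv =>
        congrArg Subtype.val (IsKleinFour.mul_self (⟨v, hv⟩ : V))
      obtain h4 | h4 := CfsgLib.Char.Zassenhaus.equiv_of_self_centralizing_four V hV.card_four hV2
        hVC.le (fun h => by
          obtain ⟨k, hk⟩ := h.exists_card_eq
          rw [hc] at hk
          have h3 : 3 ∣ 2 ^ k := hk ▸ by norm_num
          exact absurd (Nat.prime_three.dvd_of_dvd_pow h3) (by norm_num))
      · obtain ⟨e24⟩ := h4
        obtain ⟨a⟩ := mulAut_psl_three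
        exact ⟨(e24.trans a.symm).trans Subgroup.topEquiv.symm⟩
      · exfalso
        obtain ⟨e12⟩ := h4
        have h := Nat.card_congr e12.toEquiv
        rw [hc] at h
        have h2 : 2 * Nat.card (alternatingGroup (Fin 4)) = 24 := by
          rw [Nat.card_eq_fintype_card, two_mul_card_alternatingGroup, Fintype.card_perm, Fintype.card_fin]
          rfl
        omega
  · refine Or.inr ⟨N, hNn, rfl, ?_⟩
    haveI := hMn
    rcases hM with ⟨F, iF, jF, hodd, -, ⟨eM⟩⟩ | ⟨⟨eM⟩⟩
    · refine Or.inl ⟨F, iF, jF, hodd, (conjVia M eM).range, ?_,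
        ⟨MonoidHom.ofInjective (conjVia_injective M eM hC)⟩⟩
      rintro _ ⟨t, rfl⟩
      exact ⟨((eM.symm t : M) : Q), by rw [conjVia_mem, MulEquiv.apply_symm_apply]⟩
    · exact Or.inr ⟨(Subgroup.topEquiv.symm.trans
        (MulEquiv.subgroupCongr (eq_top_of_alt7 hQ M eM hC).symm)).trans eM⟩

/-- **groups of `p`-rank one generated by `p`-elements** (S2778), given the dihedral theorem -/
theorem rank_one (hgen : Cfsg.pElementClosure p (⊤ : Subgroup G) = ⊤) (S : Sylow p G)
    (hr : Cfsg.PRankLE p 1 ↥(S : Subgroup G)) (hgw : GWBelow.{u} (Nat.card G)) :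
    (p ≠ 2 ∧ IsCyclic ↥(S : Subgroup G) ∧ commutator G = ⊤ ∧ IsSimpleGroup (G ⧸ Cfsg.pPrimeCore p G) ∧
        ¬ IsMulCommutative (G ⧸ Cfsg.pPrimeCore p G)) ∨
      ((S : Subgroup G) ⊔ Cfsg.pPrimeCore p G = ⊤ ∧
        (IsCyclic ↥(S : Subgroup G) ∨ ∃ n : ℕ, Nonempty (↥(S : Subgroup G) ≃* QuaternionGroup n)) ∧
        Cfsg.IsPSolvable p G) ∨
      (p = 2 ∧ (∃ n : ℕ, 2 ≤ n ∧ Nonempty (↥(S : Subgroup G) ≃* QuaternionGroup n)) ∧
        ∃ (N : Subgroup G) (_ : N.Normal), N = Cfsg.omegaOne 2 (S : Subgroup G) ⊔ Cfsg.pPrimeCore 2 G ∧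
          ((∃ (F : Type) (_ : Field F) (_ : Fintype F), Odd (Fintype.card F) ∧
              ∃ K : Subgroup (MulAut (Matrix.ProjectiveSpecialLinearGroup (Fin 2) F)),
                (MulAut.conj : Matrix.ProjectiveSpecialLinearGroup (Fin 2) F →*
                  MulAut (Matrix.ProjectiveSpecialLinearGroup (Fin 2) F)).range ≤ K ∧ Nonempty (G ⧸ N ≃* ↥K)) ∨
            Nonempty (G ⧸ N ≃* alternatingGroup (Fin 7)))) := by
  classical
  by_cases hcyc : IsCyclic ↥(S : Subgroup G)
  · haveI := hcyc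
    rcases cyclic_case hgen S with h | ⟨h1, h2⟩
    · exact Or.inl h
    · exact Or.inr (Or.inl ⟨h1, Or.inl hcyc, h2⟩)
  obtain ⟨h2, j, ⟨e⟩⟩ := (CfsgLib.Coprime.cyclic_or_quaternion_of_unique S.2
    (uniqueOrderP_of_rank S.2 hr)).resolve_left hcyc
  have hk : 2 ≤ 2 ^ j := by
    rcases j with - | j
    · refine absurd ?_ hcyc
      haveI : IsCyclic (QuaternionGroup (2 ^ 0)) := QuaternionGroup.quaternionGroup_one_isCyclic
      exact e.isCyclic.2 inferInstance
    · rw [pow_succ']; exact Nat.le_mul_of_pos_right 2 (by positivity)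
  generalize 2 ^ j = k at e hk
  subst h2
  rcases quaternion_case hgen S hk e hgw with ⟨h1, h2⟩ | h
  · exact Or.inr (Or.inl ⟨h1, Or.inr ⟨k, ⟨e⟩⟩, h2⟩)
  · exact Or.inr (Or.inr ⟨rfl, ⟨k, hk, ⟨e⟩⟩, h⟩)

end CfsgLib.GW
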