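import Cfsg.Agent.Lib.GW.Perfect
import Cfsg.Agent.Lib.Lie.SLUniv.Main
import Cfsg.Agent.Lib.Lie.Mult.SLNine
import Cfsg.Agent.Lib.GW.RankOne
import Cfsg.Prelude.Def_SporadicB

/-!
# Perfect groups of 2-rank one, given the dihedral theorem
-/

set_option autoImplicit false
set_option linter.style.haveILetI false
set_option linter.unusedSectionVars false

namespace CfsgLib.GW

open scoped commutatorElement

universe u

theorem comm_congr_center {P : Type*} [Group P] {a b z w : P} (hz : z ∈ Subgroup.center P)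
    (hw : w ∈ Subgroup.center P) : ⁅a * z, b * w⁆ = ⁅a, b⁆ := by
  have h1 : ∀ y, z * y = y * z := fun y => (Subgroup.mem_center_iff.1 hz y).symm
  have h2 : ∀ y, w * y = y * w := fun y => (Subgroup.mem_center_iff.1 hw y).symm
  rw [commutatorElement_def, commutatorElement_def, _root_.mul_inv_rev, _root_.mul_inv_rev]
  calc a * z * (b * w) * (z⁻¹ * a⁻¹) * (w⁻¹ * b⁻¹)
      = a * (z * b) * (w * (z⁻¹ * a⁻¹)) * (w⁻¹ * b⁻¹) := by group
    _ = a * (b * z) * ((z⁻¹ * a⁻¹) * w) * (w⁻¹ * b⁻¹) := by rw [h1 b, h2 (z⁻¹ * a⁻¹)]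
    _ = a * b * a⁻¹ * b⁻¹ := by group

/-- central extensions with kernel of exponent two split over `SL(2, q)`, odd `q` -/
theorem exists_section_two {F : Type*} [Field F] [Fintype F] (hodd : Odd (Fintype.card F))
    (hq : 3 < Fintype.card F) {P : Type*} [Group P] [Finite P] (p : P →* Matrix.SpecialLinearGroup (Fin 2) F)
    (hp : Function.Surjective p) (hc : p.ker ≤ Subgroup.center P) (h2 : ∀ x ∈ p.ker, x ^ 2 = 1) :
    ∃ s : Matrix.SpecialLinearGroup (Fin 2) F →* P, p.comp s = MonoidHom.id _ := by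
  classical
  have h4 : Fintype.card F ≠ 4 := fun h => by rw [h] at hodd; exact absurd hodd (by decide)
  by_cases h9 : Fintype.card F = 9
  swap
  · exact CfsgLib.Lie.SLUniv.exists_section_sl2 p hp hc hq h4 h9
  set D := commutator P
  let σ : D →* Matrix.SpecialLinearGroup (Fin 2) F := p.comp D.subtype
  have hσ : Function.Surjective σ := by
    intro g
    have hg : g ∈ D.map p := by
      rw [show D.map p = commutator (Matrix.SpecialLinearGroup (Fin 2) F) by
        show (commutator P).map p = _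
        rw [commutator_def, Subgroup.map_commutator, ← MonoidHom.range_eq_map, MonoidHom.range_eq_top.2 hp,
          ← commutator_def], CfsgLib.Lie.SLUniv.sl2_commutator hq]
      exact Subgroup.mem_top g
    obtain ⟨d, hd, hdg⟩ := hg
    exact ⟨⟨d, hd⟩, hdg⟩
  have hperf : commutator D = ⊤ := by
    refine Subgroup.map_injective D.subtype_injective ?_
    rw [Subgroup.map_subtype_commutator, ← MonoidHom.range_eq_map, Subgroup.range_subtype]
    refine le_antisymm (Subgroup.commutator_le_self D) ?_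
    -- `P = D Z` with `Z` central
    show commutator P ≤ ⁅D, D⁆
    refine Subgroup.commutator_le.2 fun a _ b _ => ?_
    obtain ⟨⟨a', ha'⟩, hpa⟩ := hσ (p a)
    obtain ⟨⟨b', hb'⟩, hpb⟩ := hσ (p b)
    change p a' = p a at hpa
    change p b' = p b at hpb
    have hza : a'⁻¹ * a ∈ Subgroup.center P := hc (MonoidHom.mem_ker.2 (by rw [map_mul, map_inv, hpa, inv_mul_cancel]))
    have hzb : b'⁻¹ * b ∈ Subgroup.center P := hc (MonoidHom.mem_ker.2 (by rw [map_mul, map_inv, hpb, inv_mul_cancel]))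
    rw [show a = a' * (a'⁻¹ * a) by group, show b = b' * (b'⁻¹ * b) by group,
      comm_congr_center hza hzb]
    exact Subgroup.commutator_mem_commutator ha' hb'
  have hker : σ.ker = ⊥ := by
    obtain ⟨c, -, hc3, hle⟩ := CfsgLib.Lie.MultSLNine.exists_bound h9 (σ := σ)
      ⟨hσ, fun x hx => Subgroup.mem_center_iff.2 fun y => Subtype.ext (Subgroup.mem_center_iff.1 (hc hx) y),
        by rw [hperf]; exact le_top⟩
    refine eq_bot_iff.2 fun x hx => ?_
    have hx2 : x ^ 2 = 1 := Subtype.ext (h2 x hx)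
    obtain ⟨k, rfl⟩ := Subgroup.mem_zpowers_iff.1 (hle hx)
    have hx3 : (c ^ k) ^ 3 = 1 := by
      rw [← zpow_natCast, ← zpow_mul, mul_comm, zpow_mul, zpow_natCast, hc3, one_zpow]
    rw [Subgroup.mem_bot]
    calc c ^ k = (c ^ k) ^ 3 * ((c ^ k) ^ 2)⁻¹ := by group
      _ = 1 := by rw [hx3, hx2]; simp
  refine ⟨D.subtype.comp (MulEquiv.ofBijective σ ⟨(MonoidHom.ker_eq_bot_iff σ).1 hker, hσ⟩).symm.toMonoidHom, ?_⟩
  refine MonoidHom.ext fun g => ?_
  exact (MulEquiv.ofBijective σ ⟨(MonoidHom.ker_eq_bot_iff σ).1 hker, hσ⟩).apply_symm_apply g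

/-- the perfect double cover of `PSL(2, q)` is `SL(2, q)` -/
theorem equiv_sl2_of_cover {F : Type*} [Field F] [Fintype F] (hodd : Odd (Fintype.card F)) (hq : 3 < Fintype.card F)
    {Y : Type*} [Group Y] [Finite Y] [Group.IsPerfect Y] (π : Y →* Matrix.ProjectiveSpecialLinearGroup (Fin 2) F)
    (hπ : Function.Surjective π) (hc : π.ker ≤ Subgroup.center Y) (h2 : Nat.card π.ker = 2) :
    Nonempty (Y ≃* Matrix.SpecialLinearGroup (Fin 2) F) := by
  classical
  set m := QuotientGroup.mk' (Subgroup.center (Matrix.SpecialLinearGroup (Fin 2) F))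
  let P : Subgroup (Matrix.SpecialLinearGroup (Fin 2) F × Y) :=
    (m.comp (MonoidHom.fst _ Y)).eqLocus (π.comp (MonoidHom.snd _ Y))
  let p : P →* Matrix.SpecialLinearGroup (Fin 2) F := (MonoidHom.fst _ Y).comp P.subtype
  have hp : Function.Surjective p := fun g => by
    obtain ⟨y, hy⟩ := hπ (m g)
    exact ⟨⟨(g, y), hy.symm⟩, rfl⟩
  have hk : ∀ x : P, x ∈ p.ker → x.1.1 = 1 ∧ x.1.2 ∈ π.ker := fun x hx => by
    have h1 : x.1.1 = 1 := hx
    refine ⟨h1, ?_⟩
    have h3 : m x.1.1 = π x.1.2 := x.2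
    rw [MonoidHom.mem_ker, ← h3, h1, map_one]
  obtain ⟨s, hs⟩ := exists_section_two hodd hq p hp (fun x hx => Subgroup.mem_center_iff.2 fun y =>
      Subtype.ext (Prod.ext (by simp [(hk x hx).1]) (Subgroup.mem_center_iff.1 (hc (hk x hx).2) y.1.2)))
    (fun x hx => Subtype.ext (Prod.ext (by simp [(hk x hx).1]) (by
      have h := congrArg Subtype.val (pow_card_eq_one' (x := (⟨x.1.2, (hk x hx).2⟩ : π.ker)))
      rw [h2] at h
      exact h)))
  let φ : Matrix.SpecialLinearGroup (Fin 2) F →* Y := (MonoidHom.snd _ Y).comp (P.subtype.comp s)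
  have hφ : ∀ g, π (φ g) = m g := fun g => by
    have h1 : m (s g).1.1 = π (s g).1.2 := (s g).2
    have h3 : (s g).1.1 = g := DFunLike.congr_fun hs g
    rw [h3] at h1
    exact h1.symm
  have hsurj : Function.Surjective φ := by
    refine MonoidHom.range_eq_top.1 (eq_top_iff.2 ?_)
    calc (⊤ : Subgroup Y) = commutator Y := Group.IsPerfect.commutator_eq_top.symm
      _ ≤ φ.range := Subgroup.commutator_le.2 fun a _ b _ => by
        obtain ⟨g, hg⟩ := QuotientGroup.mk'_surjective _ (π a)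
        obtain ⟨g', hg'⟩ := QuotientGroup.mk'_surjective _ (π b)
        have hza : (φ g)⁻¹ * a ∈ Subgroup.center Y := hc (MonoidHom.mem_ker.2 (by
          rw [map_mul, map_inv, hφ, show m g = π a from hg, inv_mul_cancel]))
        have hzb : (φ g')⁻¹ * b ∈ Subgroup.center Y := hc (MonoidHom.mem_ker.2 (by
          rw [map_mul, map_inv, hφ, show m g' = π b from hg', inv_mul_cancel]))
        rw [show a = φ g * ((φ g)⁻¹ * a) by group, show b = φ g' * ((φ g')⁻¹ * b) by group,
          comm_congr_center hza hzb, ← map_commutatorElement]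
        exact ⟨_, rfl⟩
  have hcard : Nat.card (Matrix.SpecialLinearGroup (Fin 2) F) = Nat.card Y := by
    have h1 := π.ker.card_mul_index
    rw [Subgroup.index_ker, MonoidHom.range_eq_top.2 hπ, Nat.card_congr Subgroup.topEquiv.toEquiv, h2] at h1
    have h3 := Subgroup.card_eq_card_quotient_mul_card_subgroup
      (Subgroup.center (Matrix.SpecialLinearGroup (Fin 2) F))
    rw [CfsgLib.Classical.card_center_sl (F := F) (n := 2) (by norm_num)] at h3
    have hg : Nat.gcd 2 (Fintype.card F - 1) = 2 := Nat.gcd_eq_left (by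
      obtain ⟨j, hj⟩ := hodd; omega)
    rw [hg] at h3
    rw [← h1, h3, mul_comm]
  exact ⟨(MulEquiv.ofBijective φ (hsurj.bijective_of_nat_card_le hcard.le)).symm⟩

/-- a central involution keeps the odd core of the quotient trivial -/
theorem oddCore_quotient_central {Y : Type*} [Group Y] [Finite Y] (hY : Cfsg.oddCore Y = ⊥) (Z : Subgroup Y)
    [Z.Normal] (hZ : Nat.card Z = 2) : Cfsg.oddCore (Y ⧸ Z) = ⊥ := by
  classical
  haveI : Fact (Nat.Prime 2) := ⟨Nat.prime_two⟩
  set K := (Cfsg.oddCore (Y ⧸ Z)).comap (QuotientGroup.mk' Z)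
  have hK : Nat.card K = 2 * Nat.card (Cfsg.oddCore (Y ⧸ Z)) := by
    have h1 := K.card_mul_index
    rw [Subgroup.index_comap_of_surjective _ (QuotientGroup.mk'_surjective Z),
      Subgroup.card_eq_card_quotient_mul_card_subgroup Z, hZ, ← (Cfsg.oddCore (Y ⧸ Z)).card_mul_index] at h1
    refine Nat.eq_of_mul_eq_mul_right (m := (Cfsg.oddCore (Y ⧸ Z)).index)
      (Nat.pos_of_ne_zero Subgroup.FiniteIndex.index_ne_zero) ?_
    rw [h1]; ring
  have hoddQ := CfsgLib.Coprime.pPrimeCore_not_dvd (G := Y ⧸ Z) Nat.prime_two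
  obtain ⟨R⟩ : Nonempty (Sylow 2 K) := inferInstance
  have hR : Nat.card (R : Subgroup K) = 2 := by
    rw [Sylow.card_eq_multiplicity, hK, Nat.factorization_mul two_ne_zero Nat.card_pos.ne', Finsupp.add_apply,
      Nat.Prime.factorization_self Nat.prime_two, Nat.factorization_eq_zero_of_not_dvd hoddQ]
    rfl
  haveI : IsCyclic (R : Subgroup K) := isCyclic_of_prime_card hR
  obtain ⟨R', J, hJ, hJR⟩ := CfsgLib.Invol.hasNormalPComplement_two_of_isCyclic R inferInstance
  haveI := hJ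
  have hJodd : ¬ 2 ∣ Nat.card J := by rw [← hJR.index_eq_card]; exact R'.not_dvd_index
  have hJ0 : J = ⊥ := by
    have h1 : J ≤ Cfsg.pPrimeCore 2 K := CfsgLib.Coprime.le_pPrimeCore_of_not_dvd Nat.prime_two hJodd
    have h2 := CfsgLib.Coprime.pPrimeCore_map_subtype_eq (p := 2) Nat.prime_two K
    rw [show Cfsg.pPrimeCore 2 Y = ⊥ from hY, bot_inf_eq] at h2
    rw [(Subgroup.map_eq_bot_iff_of_injective _ K.subtype_injective).1 h2] at h1
    exact le_bot_iff.1 h1
  have h3 := hJR.card_mul_card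
  rw [hJ0, Subgroup.card_bot, one_mul, hK] at h3
  have hR'2 : Nat.card (R' : Subgroup K) = 2 := (Nat.card_congr (Sylow.equiv R' R).toEquiv).trans hR
  rw [hR'2] at h3
  exact Subgroup.card_eq_one.1 (show Nat.card (Cfsg.oddCore (Y ⧸ Z)) = 1 by omega)

/-- a perfect double cover does not split -/
theorem nonsplit_of_perfect {H K : Type*} [Group H] [Finite H] [Group.IsPerfect H] [Group K] (Z : Subgroup H)
    [Z.Normal] (hZc : Z ≤ Subgroup.center H) (hZ : Nat.card Z = 2) (e : H ⧸ Z ≃* K)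
    (hK : Subgroup.center K = ⊥) : Cfsg.IsNonsplitDoubleCover H K := by
  have hcen : Subgroup.center H = Z := by
    refine le_antisymm (fun x hx => ?_) hZc
    have h : e (QuotientGroup.mk' Z x) ∈ Subgroup.center K := Subgroup.mem_center_iff.2 fun k => by
      obtain ⟨y, rfl⟩ := e.surjective k
      obtain ⟨y, rfl⟩ := QuotientGroup.mk'_surjective Z y
      rw [← map_mul, ← map_mul, ← map_mul, ← map_mul, Subgroup.mem_center_iff.1 hx y]
    rw [hK, Subgroup.mem_bot, EmbeddingLike.map_eq_one_iff] at h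
    exact (QuotientGroup.eq_one_iff x).1 h
  refine ⟨by rw [hcen, hZ], ⟨(QuotientGroup.quotientMulEquivOfEq hcen).trans e⟩, fun L hL => ?_⟩
  -- the complement contains all commutators
  have hle : commutator H ≤ L := Subgroup.commutator_le.2 fun a _ b _ => by
    have hex : ∀ a : H, ∃ l ∈ L, a⁻¹ * l ∈ Subgroup.center H := fun a => by
      obtain ⟨⟨z, l⟩, hzl⟩ := hL.2 a
      have hzl' : (z : H) * l = a := hzl
      refine ⟨l, l.2, ?_⟩
      rw [← hzl', _root_.mul_inv_rev, mul_assoc, ← Subgroup.mem_center_iff.1 (inv_mem z.2) (l : H), ← mul_assoc,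
        inv_mul_cancel, one_mul]
      exact inv_mem z.2
    obtain ⟨la, hla, ha⟩ := hex a
    obtain ⟨lb, hlb, hb⟩ := hex b
    have h1 : ⁅a * (a⁻¹ * la), b * (b⁻¹ * lb)⁆ = ⁅a, b⁆ := comm_congr_center ha hb
    rw [← h1, mul_inv_cancel_left, mul_inv_cancel_left]
    exact mul_mem (mul_mem (mul_mem hla hlb) (inv_mem hla)) (inv_mem hlb)
  rw [Group.IsPerfect.commutator_eq_top, top_le_iff] at hle
  have h2 := hL.card_mul_card
  rw [hle, hcen, hZ, Nat.card_congr Subgroup.topEquiv.toEquiv] at h2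
  have := Nat.card_pos (α := H)
  omega

/-- **perfect groups of 2-rank one** (S3099), given the dihedral theorem -/
theorem perfect_rank_one {X : Type u} [Group X] [Finite X] [Group.IsPerfect X] (h1 : Cfsg.PRankLE 2 1 X)
    (h2 : Even (Nat.card X)) (hgw : GWBelow.{u} (Nat.card X)) :
    (∃ (F : Type) (_ : Field F) (_ : Fintype F), Odd (Fintype.card F) ∧ 3 < Fintype.card F ∧
        Nonempty (X ⧸ Cfsg.oddCore X ≃* Matrix.SpecialLinearGroup (Fin 2) F)) ∨
      Cfsg.IsNonsplitDoubleCover (X ⧸ Cfsg.oddCore X) ↥(alternatingGroup (Fin 7)) := by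
  classical
  haveI : Fact (Nat.Prime 2) := ⟨Nat.prime_two⟩
  obtain ⟨S⟩ : Nonempty (Sylow 2 X) := inferInstance
  have hr : Cfsg.PRankLE 2 1 ↥(S : Subgroup X) := by
    intro A hA hexp
    haveI := hA
    rw [← Subgroup.card_map_of_injective (S : Subgroup X).subtype_injective (K := A)]
    refine h1 _ inferInstance ?_
    rintro _ ⟨a, ha, rfl⟩
    rw [← map_pow, hexp a ha, map_one]
  have hcyc : ¬ IsCyclic ↥(S : Subgroup X) := fun hc => by
    obtain ⟨R, J, hJ, hJR⟩ := CfsgLib.Invol.hasNormalPComplement_two_of_isCyclic S hc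
    haveI := hJ
    haveI : IsCyclic ↥(R : Subgroup X) := (Sylow.equiv R S).isCyclic.2 hc
    have hcm : ∀ a b : X ⧸ J, a * b = b * a := fun a b => by
      obtain ⟨a, rfl⟩ := QuotientGroup.mk'_surjective J a
      obtain ⟨b, rfl⟩ := QuotientGroup.mk'_surjective J b
      obtain ⟨⟨ja, ra⟩, hra⟩ := hJR.2 a
      obtain ⟨⟨jb, rb⟩, hrb⟩ := hJR.2 b
      rw [← show (ja : X) * ra = a from hra, ← show (jb : X) * rb = b from hrb, map_mul, map_mul,
        show QuotientGroup.mk' J (ja : X) = 1 from (QuotientGroup.eq_one_iff _).2 ja.2,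
        show QuotientGroup.mk' J (jb : X) = 1 from (QuotientGroup.eq_one_iff _).2 jb.2, one_mul, one_mul,
        ← map_mul, ← map_mul]
      exact congrArg _ (congrArg Subtype.val (IsCyclic.commGroup.mul_comm ra rb))
    have hle : commutator X ≤ J := Subgroup.commutator_le.2 fun a _ b _ => by
      rw [← QuotientGroup.eq_one_iff, ← QuotientGroup.mk'_apply, map_commutatorElement,
        commutatorElement_eq_one_iff_mul_comm]
      exact hcm _ _
    rw [Group.IsPerfect.commutator_eq_top, top_le_iff] at hle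
    have hJodd : ¬ 2 ∣ Nat.card J := by rw [← hJR.index_eq_card]; exact R.not_dvd_index
    rw [hle, Nat.card_congr Subgroup.topEquiv.toEquiv] at hJodd
    exact hJodd h2.two_dvd
  obtain ⟨-, j, ⟨e⟩⟩ := (CfsgLib.Coprime.cyclic_or_quaternion_of_unique S.2
    (uniqueOrderP_of_rank S.2 hr)).resolve_left hcyc
  have hk : 2 ≤ 2 ^ j := by
    rcases j with - | j
    · refine absurd ?_ hcyc
      haveI : IsCyclic (QuaternionGroup (2 ^ 0)) := QuaternionGroup.quaternionGroup_one_isCyclic
      exact e.isCyclic.2 inferInstance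
    · rw [pow_succ']; exact Nat.le_mul_of_pos_right 2 (by positivity)
  generalize 2 ^ j = k at e hk
  haveI : NeZero k := ⟨by omega⟩
  set O := Cfsg.oddCore X with hO
  haveI : O.Normal := by rw [hO]; infer_instance
  have hOodd : ¬ 2 ∣ Nat.card O := CfsgLib.Coprime.pPrimeCore_not_dvd Nat.prime_two
  obtain ⟨z, hzo, hzc⟩ := CfsgLib.Invol.exists_zcentral_of_no_klein (G := X) h2 (fun E hE => by
    haveI := hE
    have h := h1 E ⟨⟨fun a b => mul_comm_of_exponent_two IsKleinFour.exponent_two a b⟩⟩ (fun a ha => by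
      have h2 := IsKleinFour.mul_self (⟨a, ha⟩ : E)
      rw [sq]
      exact congrArg Subtype.val h2)
    rw [hE.card_four] at h
    norm_num at h)
  set π := QuotientGroup.mk' O with hπ
  set zb := π z with hzb
  have hzbo : orderOf zb = 2 := by
    refine CfsgLib.Invol.invol_iff.2 ⟨by rw [← map_mul, CfsgLib.Invol.invol_mul_self hzo, map_one], fun h => ?_⟩
    exact hOodd (hzo ▸ Subgroup.orderOf_dvd_natCard O ((QuotientGroup.eq_one_iff z).1 h))
  have hzbc : ∀ g, g * zb = zb * g := fun g => by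
    obtain ⟨g, rfl⟩ := QuotientGroup.mk'_surjective O g
    have h1 : π (z * g * z⁻¹ * g⁻¹) = 1 := (QuotientGroup.eq_one_iff _).2 (hzc g)
    rw [map_mul, map_mul, map_mul, map_inv, map_inv, mul_inv_eq_one, mul_inv_eq_iff_eq_mul] at h1
    exact h1.symm
  set Z := Subgroup.zpowers zb with hZ
  have hZc : Z ≤ Subgroup.center (X ⧸ O) := Subgroup.zpowers_le.2 (Subgroup.mem_center_iff.2 hzbc)
  haveI hzn : Z.Normal := ⟨fun a ha g => by
    rw [Subgroup.mem_center_iff.1 (hZc ha) g, mul_inv_cancel_right]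
    exact ha⟩
  have hZ2 : Nat.card Z = 2 := by rw [hZ, Nat.card_zpowers, hzbo]
  set f := QuotientGroup.mk' Z
  have hf : Function.Surjective f := QuotientGroup.mk'_surjective Z
  obtain ⟨S₁, ⟨e₁⟩⟩ := CfsgLib.Invol.exists_sylow_quotient_equiv O
    ((Nat.prime_two.coprime_iff_not_dvd.2 hOodd).symm) S
  obtain ⟨T, ⟨eT⟩⟩ := CfsgLib.Fusion.SmallTwo.sylow_image_dihedral f hf
    (by rw [QuotientGroup.ker_mk', hZ2]) S₁ (e₁.symm.trans e)
  have hQ : DihTwo ((X ⧸ O) ⧸ Z) := dihTwo_of_sylow T hk eT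
  have hQO : Cfsg.oddCore ((X ⧸ O) ⧸ Z) = ⊥ :=
    oddCore_quotient_central (CfsgLib.Coprime.pPrimeCore_quotient_eq_bot Nat.prime_two) Z hZ2
  haveI : Group.IsPerfect (X ⧸ O) := Group.IsPerfect.ofSurjective (QuotientGroup.mk'_surjective O)
  haveI : Group.IsPerfect ((X ⧸ O) ⧸ Z) := Group.IsPerfect.ofSurjective hf
  have hcardQ : Nat.card ((X ⧸ O) ⧸ Z) ≤ Nat.card X :=
    (Nat.card_le_card_of_surjective _ hf).trans (Nat.card_le_card_of_surjective _ (QuotientGroup.mk'_surjective O))
  have hQX : IsPSLTwoOrA7 ((X ⧸ O) ⧸ Z) := (perfect_quotient hQ (hgw.mono hcardQ)).congr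
    (((QuotientGroup.quotientMulEquivOfEq hQO).trans QuotientGroup.quotientBot).symm)
  rcases hQX with ⟨F, iF, jF, hodd, hq, ⟨eF⟩⟩ | ⟨⟨eA⟩⟩
  · refine Or.inl ⟨F, iF, jF, hodd, hq, ?_⟩
    refine equiv_sl2_of_cover hodd hq (eF.toMonoidHom.comp f) (eF.surjective.comp hf) ?_ ?_
    · intro x hx
      rw [MonoidHom.mem_ker, MonoidHom.comp_apply] at hx
      exact hZc ((QuotientGroup.eq_one_iff x).1 (eF.injective (hx.trans (map_one _).symm)))
    · rw [show (eF.toMonoidHom.comp f).ker = f.ker by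
        ext x
        rw [MonoidHom.mem_ker, MonoidHom.mem_ker]
        show eF (f x) = 1 ↔ f x = 1
        exact MulEquiv.map_eq_one_iff eF, QuotientGroup.ker_mk', hZ2]
  · exact Or.inr (nonsplit_of_perfect Z hZc hZ2 eA (alternatingGroup.center_eq_bot (by simp)))

end CfsgLib.GW
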