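import Cfsg.Agent.Lib.Perm.OddProductPSL
import Cfsg.Agent.S0809

/-!
# Centralisers of involutions in `PSL(2, F)`, odd characteristic
-/

set_option autoImplicit false
set_option linter.style.haveILetI false
set_option linter.unusedSectionVars false

namespace CfsgLib.GW

open Matrix CfsgLib.OddProdPSL

variable {F : Type*} [Field F] [Fintype F]

/-- the order of the centraliser of an involution of `PSL(2, q)`, odd `q` -/
def invCard (q : ℕ) : ℕ := if q % 4 = 1 then q - 1 else q + 1

theorem card_comap_surjective {G H : Type*} [Group G] [Group H] [Finite G] (f : G →* H) (hf : Function.Surjective f)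
    (K : Subgroup H) : Nat.card (K.comap f) = Nat.card f.ker * Nat.card K := by
  haveI : Finite H := Finite.of_surjective f hf
  have h1 := (K.comap f).card_mul_index
  rw [Subgroup.index_comap_of_surjective K hf] at h1
  have h2 : Nat.card G = Nat.card f.ker * Nat.card H := by
    rw [← f.ker.card_mul_index, Subgroup.index_ker, MonoidHom.range_eq_top.2 hf,
      Nat.card_congr Subgroup.topEquiv.toEquiv]
  rw [h2, ← K.card_mul_index, ← mul_assoc] at h1
  exact Nat.eq_of_mul_eq_mul_right (Nat.pos_of_ne_zero Subgroup.FiniteIndex.index_ne_zero) h1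

theorem card_cent_psl (hodd : Odd (Fintype.card F)) (t : ProjectiveSpecialLinearGroup (Fin 2) F)
    (ht : orderOf t = 2) :
    Nat.card (Subgroup.centralizer ({t} : Set (ProjectiveSpecialLinearGroup (Fin 2) F))) =
      invCard (Fintype.card F) := by
  classical
  have h2 : (2 : F) ≠ 0 := CfsgLib.Perm.Dickson.two_ne_zero_of_odd (F := F) (by rwa [Nat.card_eq_fintype_card])
  obtain ⟨N, rfl⟩ := proj_surjective t
  have htr := tr_eq_zero N ht
  have hdet := det_eq N
  unfold tr at htr
  have hN2 : (N * N).1 = -1 := by
    show N.1 * N.1 = -1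
    ext i j
    fin_cases i <;> fin_cases j <;> simp [Matrix.mul_apply, Fin.sum_univ_two]
    · linear_combination N.1 0 0 * htr - hdet
    · linear_combination N.1 0 1 * htr
    · linear_combination N.1 1 0 * htr
    · linear_combination N.1 1 1 * htr - hdet
  have hN4 : orderOf N = 4 := by
    haveI : Fact (Nat.Prime 2) := ⟨Nat.prime_two⟩
    refine orderOf_eq_prime_pow (p := 2) (n := 1) (fun h => ?_) (Subtype.ext ?_)
    · rw [pow_one, sq] at h
      have h' := congrFun (congrFun hN2 0) 0
      rw [h] at h'
      simp at h'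
      exact h2 (by linear_combination h')
    · rw [show N ^ 2 ^ (1 + 1) = (N * N) * (N * N) by rw [← sq N, ← sq]; rw [← pow_mul]; norm_num]
      show (N * N).1 * (N * N).1 = (1 : Matrix (Fin 2) (Fin 2) F)
      rw [hN2]
      simp
  have hker : ∀ x : SpecialLinearGroup (Fin 2) F, proj x = 1 → x = 1 ∨ x = N * N := by
    intro x hx
    obtain ⟨e1, e2, e3⟩ := (proj_eq_one_iff x).1 hx
    have hd := det_eq x
    rw [e1, e2, ← e3] at hd
    have hsq : x.1 0 0 * x.1 0 0 = 1 := by linear_combination hd
    rcases mul_self_eq_one_iff.1 hsq with e | e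
    · refine Or.inl (Subtype.ext ?_)
      ext i j
      fin_cases i <;> fin_cases j <;> simp [e1, e2, e, ← e3]
    · refine Or.inr (Subtype.ext ?_)
      rw [hN2]
      ext i j
      fin_cases i <;> fin_cases j <;> simp [e1, e2, e, ← e3]
  have hz : (Subgroup.zpowers (proj N)).comap proj = Subgroup.zpowers N := by
    refine le_antisymm (fun x hx => ?_) (Subgroup.zpowers_le.2 (Subgroup.mem_zpowers (proj N)))
    obtain ⟨k, hk⟩ := Subgroup.mem_zpowers_iff.1 (Subgroup.mem_comap.1 hx)
    rw [← map_zpow, eq_comm, ← inv_mul_eq_one, ← map_inv, ← map_mul] at hk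
    rcases hker _ hk with e | e
    · have hxk : x = N ^ k := by
        first | exact inv_mul_eq_one.1 e | exact (inv_mul_eq_one.1 e).symm
      exact hxk ▸ zpow_mem (Subgroup.mem_zpowers N) k
    · have hmem : N * N ∈ Subgroup.zpowers N := mul_mem (Subgroup.mem_zpowers N) (Subgroup.mem_zpowers N)
      rw [← e] at hmem
      have hk' : N ^ k ∈ Subgroup.zpowers N := zpow_mem (Subgroup.mem_zpowers N) k
      first
        | exact (Subgroup.mul_mem_cancel_left _ (inv_mem hk')).1 hmem
        | exact inv_mem_iff.1 ((Subgroup.mul_mem_cancel_right _ hk').1 hmem)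
  have hk2 : Nat.card (proj (F := F)).ker = 2 := by
    have h := card_comap_surjective proj proj_surjective (Subgroup.zpowers (proj N))
    rw [hz, Nat.card_zpowers, Nat.card_zpowers, hN4, ht] at h
    omega
  have hC : Subgroup.normalizer (Subgroup.zpowers (proj N) : Set (ProjectiveSpecialLinearGroup (Fin 2) F)) =
      Subgroup.centralizer {proj N} := by
    ext g
    rw [Subgroup.mem_centralizer_singleton_iff, Subgroup.mem_normalizer_iff]
    constructor
    · intro h
      have h1 := (h (proj N)).1 (Subgroup.mem_zpowers _)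
      haveI : Fact (Nat.Prime 2) := ⟨Nat.prime_two⟩
      obtain ⟨k, hk⟩ := Subgroup.mem_zpowers_iff.1 h1
      rw [← zpow_mod_orderOf, ht] at hk
      rcases Int.emod_two_eq_zero_or_one k with e | e <;> rw [show ((2 : ℕ) : ℤ) = 2 from rfl, e] at hk
      · rw [zpow_zero, eq_comm, ← MulAut.conj_apply, map_eq_one_iff _ (MulEquiv.injective _)] at hk
        rw [hk, orderOf_one] at ht
        omega
      · rw [zpow_one] at hk
        exact (eq_mul_inv_iff_mul_eq.1 hk).symm
    · intro hg z
      have hc : ∀ y ∈ Subgroup.zpowers (proj N), g * y * g⁻¹ = y := fun y hy => by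
        obtain ⟨k, rfl⟩ := Subgroup.mem_zpowers_iff.1 hy
        rw [((show Commute g (proj N) from hg).zpow_right k).eq, mul_inv_cancel_right]
      refine ⟨fun hy => by rwa [hc z hy], fun hy => ?_⟩
      have h1 := hc _ hy
      have h2' : g * z * g⁻¹ = z := mul_left_cancel (mul_right_cancel h1)
      rwa [h2'] at hy
  have hA := Cfsg.Agent.S0809.result (F := F) rfl hodd (Subgroup.zpowers N) (by rw [Nat.card_zpowers, hN4])
  have hcard := card_comap_surjective proj proj_surjective (Subgroup.centralizer {proj N})
  rw [hk2, ← hC, Subgroup.comap_normalizer_eq_of_surjective _ proj_surjective, hz, hC] at hcard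
  obtain ⟨j, hj⟩ := hodd
  unfold invCard
  split_ifs with h4
  · rw [hA.2.1 h4] at hcard; omega
  · rw [hA.2.2.1 (by omega)] at hcard; omega

end CfsgLib.GW
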