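import Cfsg.Agent.Lib.AutPSL.Coset
import Cfsg.Agent.Lib.AutPSL.BalanceField

/-!
# Commuting elements of `PGL(2, F)` in odd characteristic
-/

set_option autoImplicit false
set_option linter.style.haveILetI false
set_option linter.unusedSectionVars false

namespace CfsgLib.GW.Two

open Matrix CfsgLib.AutPSL

variable {F : Type*} [Field F]

/-- two matrices commute if their off-diagonal and trace coordinates do -/
theorem commute_two_iff (A B : Matrix (Fin 2) (Fin 2) F) :
    A * B = B * A ↔ A 0 1 * B 1 0 = A 1 0 * B 0 1 ∧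
      A 0 1 * (B 1 1 - B 0 0) = B 0 1 * (A 1 1 - A 0 0) ∧ A 1 0 * (B 1 1 - B 0 0) = B 1 0 * (A 1 1 - A 0 0) := by
  constructor
  · intro h
    have e00 := congrFun (congrFun h 0) 0
    have e01 := congrFun (congrFun h 0) 1
    have e10 := congrFun (congrFun h 1) 0
    simp only [Matrix.mul_apply, Fin.sum_univ_two] at e00 e01 e10
    exact ⟨by linear_combination e00, by linear_combination e01, by linear_combination (-1 : F) * e10⟩
  · rintro ⟨h1, h2, h3⟩
    ext i j
    fin_cases i <;> fin_cases j <;> simp [Matrix.mul_apply, Fin.sum_univ_two]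
    · linear_combination h1
    · linear_combination h2
    · linear_combination (-1 : F) * h3
    · linear_combination (-1 : F) * h1

/-- the commutant of a non-scalar matrix is commutative -/
theorem commute_of_commute {A B C : Matrix (Fin 2) (Fin 2) F} (hA : ∀ c : F, A ≠ c • 1) (hB : B * A = A * B)
    (hC : C * A = A * C) : B * C = C * B := by
  rw [commute_two_iff] at hB hC ⊢
  obtain ⟨b1, b2, b3⟩ := hB
  obtain ⟨c1, c2, c3⟩ := hC
  have hne : A 0 1 ≠ 0 ∨ A 1 0 ≠ 0 ∨ A 1 1 - A 0 0 ≠ 0 := by
    by_contra! h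
    refine hA (A 0 0) ?_
    ext i j
    fin_cases i <;> fin_cases j <;> simp [h.1, h.2.1]
    exact (sub_eq_zero.1 h.2.2)
  rcases hne with h | h | h
  · have g1 : B 0 1 * C 1 0 = B 1 0 * C 0 1 :=
      mul_left_cancel₀ h (by linear_combination (-(B 0 1)) * c1 + (C 0 1) * b1)
    exact ⟨g1, mul_left_cancel₀ h (by linear_combination (-(B 0 1)) * c2 + (C 0 1) * b2),
      mul_left_cancel₀ h (by linear_combination (-(B 1 0)) * c2 + (C 1 0) * b2 - (A 1 1 - A 0 0) * g1)⟩
  · have g1 : B 0 1 * C 1 0 = B 1 0 * C 0 1 :=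
      mul_left_cancel₀ h (by linear_combination (C 1 0) * b1 - (B 1 0) * c1)
    exact ⟨g1, mul_left_cancel₀ h (by linear_combination (-(B 0 1)) * c3 + (C 0 1) * b3 + (A 1 1 - A 0 0) * g1),
      mul_left_cancel₀ h (by linear_combination (-(B 1 0)) * c3 + (C 1 0) * b3)⟩
  · exact ⟨mul_left_cancel₀ h (by linear_combination (C 1 0) * b2 - (C 0 1) * b3 - (B 1 1 - B 0 0) * c1),
      mul_left_cancel₀ h (by linear_combination (-(B 1 1 - B 0 0)) * c2 + (C 1 1 - C 0 0) * b2),
      mul_left_cancel₀ h (by linear_combination (-(B 1 1 - B 0 0)) * c3 + (C 1 1 - C 0 0) * b3)⟩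

variable [Finite F]

/-- commuting automorphisms come from matrices that commute up to sign -/
theorem exists_sign {a b : GL (Fin 2) F} (h : Commute (indHom a) (indHom b)) :
    ∃ l : F, l * l = 1 ∧ a.1 * b.1 = l • (b.1 * a.1) := by
  have h1 : indHom (a * b * a⁻¹ * b⁻¹) = 1 := by
    rw [map_mul, map_mul, map_mul, map_inv, map_inv, h.eq]
    group
  obtain ⟨l, hl⟩ := scalar_of_indHom le_rfl h1
  refine ⟨l, ?_, ?_⟩
  · have h2 := congrArg Matrix.det hl
    rw [Matrix.det_smul, Matrix.det_one, mul_one, Fintype.card_fin, sq] at h2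
    rw [← h2, show (a * b * a⁻¹ * b⁻¹).1.det = ((Matrix.GeneralLinearGroup.det (a * b * a⁻¹ * b⁻¹) : Fˣ) : F)
      from rfl, map_mul, map_mul, map_mul, map_inv, map_inv, mul_comm (Matrix.GeneralLinearGroup.det a)]
    simp
  · calc a.1 * b.1 = (a * b).1 := rfl
      _ = ((a * b * a⁻¹ * b⁻¹) * (b * a)).1 := by
        congr 1
        group
      _ = l • (b.1 * a.1) := by rw [Units.val_mul, hl, smul_mul_assoc, one_mul]; rfl

/-- elements of odd order commute as matrices -/
theorem commute_of_odd {a c : GL (Fin 2) F} (hc : Odd (orderOf (indHom c)))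
    (h : Commute (indHom c) (indHom a)) : c.1 * a.1 = a.1 * c.1 := by
  obtain ⟨l, hl, hla⟩ := exists_sign h
  set m := orderOf (indHom c)
  obtain ⟨k, hk⟩ := scalar_of_indHom le_rfl (show indHom (c ^ m) = 1 by rw [map_pow]; exact pow_orderOf_eq_one _)
  have key : ∀ i : ℕ, (c ^ i).1 * a.1 = l ^ i • (a.1 * (c ^ i).1) := by
    intro i
    induction i with
    | zero => simp
    | succ i ih =>
      rw [pow_succ', Units.val_mul, mul_assoc, ih, mul_smul_comm, ← mul_assoc, hla, smul_mul_assoc, smul_smul,
        mul_assoc, pow_succ]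
  have h1 := key m
  rw [hk, smul_mul_assoc, one_mul, mul_smul_comm, mul_one, smul_comm] at h1
  have hlm : l ^ m = 1 := by
    have hk0 : k ≠ 0 := fun e => (c ^ m).ne_zero (by rw [hk, e, zero_smul])
    have h2 : (k : F) • a.1 = k • (l ^ m • a.1) := by
      rw [smul_comm]
      first | exact h1 | (rw [smul_comm] at h1; exact h1) | exact h1.trans (smul_comm _ _ _)
    have h3 : (1 : F) • a.1 = l ^ m • a.1 := by
      rw [one_smul]
      exact smul_right_injective _ hk0 h2
    by_contra hne
    have h4 : (1 - l ^ m) • a.1 = 0 := by rw [sub_smul, ← h3, sub_self]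
    rcases smul_eq_zero.1 h4 with e | e
    · exact hne (sub_eq_zero.1 e).symm
    · exact a.ne_zero e
  obtain ⟨j, hj⟩ := hc
  rw [hj, pow_succ, pow_mul, sq, hl, one_pow, one_mul] at hlm
  rw [hla, hlm, one_smul]

theorem not_scalar {a : GL (Fin 2) F} (h : indHom a ≠ 1) (c : F) : a.1 ≠ c • 1 := fun e =>
  h (indHom_scalar le_rfl e)

/-- two matrices commuting with an involution as matrices -/
theorem commute_indHom {b c : GL (Fin 2) F} (h : b.1 * c.1 = c.1 * b.1) : Commute (indHom b) (indHom c) := by
  show indHom b * indHom c = indHom c * indHom b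
  rw [← map_mul, ← map_mul]
  exact congrArg indHom (Units.ext h)

/-- odd elements centralising an element `a` centralise each other -/
theorem commute_of_cent {a b c : GL (Fin 2) F} (ha : indHom a ≠ 1) (hb : Odd (orderOf (indHom b)))
    (hc : Odd (orderOf (indHom c))) (hba : Commute (indHom b) (indHom a))
    (hca : Commute (indHom c) (indHom a)) : Commute (indHom b) (indHom c) :=
  commute_indHom (commute_of_commute (not_scalar ha) (commute_of_odd hb hba) (commute_of_odd hc hca))

/-- the odd elements centralising a nontrivial odd element centralise what it centralises -/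
theorem commute_trans {a x y : GL (Fin 2) F} (hx1 : indHom x ≠ 1) (hx : Odd (orderOf (indHom x)))
    (hy : Odd (orderOf (indHom y))) (hxa : Commute (indHom x) (indHom a))
    (hyx : Commute (indHom y) (indHom x)) : Commute (indHom y) (indHom a) :=
  commute_indHom (commute_of_commute (not_scalar hx1) (commute_of_odd hy hyx) (commute_of_odd hx hxa).symm)

/-- no odd element centralises a four group -/
theorem cent_four (h2 : (2 : F) ≠ 0) {a b c : GL (Fin 2) F} (ha : orderOf (indHom a) = 2)
    (hb : orderOf (indHom b) = 2) (hne : indHom a ≠ indHom b) (hab : Commute (indHom a) (indHom b))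
    (hc : Odd (orderOf (indHom c))) (hca : Commute (indHom c) (indHom a))
    (hcb : Commute (indHom c) (indHom b)) : indHom c = 1 := by
  by_contra hc1
  have hab' := commute_of_commute (not_scalar hc1) (commute_of_odd hc hca).symm (commute_of_odd hc hcb).symm
  have ha1 : indHom a ≠ 1 := fun e => by rw [e, orderOf_one] at ha; omega
  have hb1 : indHom b ≠ 1 := fun e => by rw [e, orderOf_one] at hb; omega
  -- the squares are scalar, so the traceless parts are proportional
  have tr0 : ∀ x : GL (Fin 2) F, orderOf (indHom x) = 2 → indHom x ≠ 1 → x.1 0 0 + x.1 1 1 = 0 := by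
    intro x hx hx1
    obtain ⟨k, hk⟩ := scalar_of_indHom le_rfl (show indHom (x * x) = 1 by
      rw [map_mul, ← sq]
      exact orderOf_dvd_iff_pow_eq_one.1 hx.dvd)
    by_contra ht
    have e01 := congrFun (congrFun hk 0) 1
    have e10 := congrFun (congrFun hk 1) 0
    have e00 := congrFun (congrFun hk 0) 0
    have e11 := congrFun (congrFun hk 1) 1
    rw [Units.val_mul] at e01 e10 e00 e11
    simp [Matrix.mul_apply, Fin.sum_univ_two] at e01 e10 e00 e11
    have h01 : x.1 0 1 = 0 := by
      refine (mul_eq_zero.1 (show x.1 0 1 * (x.1 0 0 + x.1 1 1) = 0 by linear_combination e01)).resolve_right ht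
    have h10 : x.1 1 0 = 0 := by
      refine (mul_eq_zero.1 (show x.1 1 0 * (x.1 0 0 + x.1 1 1) = 0 by linear_combination e10)).resolve_right ht
    have h11 : x.1 1 1 = x.1 0 0 := by
      have : (x.1 0 0 + x.1 1 1) * (x.1 1 1 - x.1 0 0) = 0 := by linear_combination e11 - e00
      exact sub_eq_zero.1 ((mul_eq_zero.1 this).resolve_left ht)
    refine not_scalar hx1 (x.1 0 0) ?_
    ext i j
    fin_cases i <;> fin_cases j <;> simp [h01, h10, h11]
  have ta := tr0 a ha ha1
  have tb := tr0 b hb hb1
  obtain ⟨h1, h3, h4⟩ := (commute_two_iff _ _).1 hab'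
  refine hne ?_
  -- a traceless matrix commuting with `a` is a multiple of it
  have hka : ∃ k : F, b.1 = k • a.1 := by
    have hA11 : a.1 1 1 = -a.1 0 0 := eq_neg_of_add_eq_zero_right ta
    have hB11 : b.1 1 1 = -b.1 0 0 := eq_neg_of_add_eq_zero_right tb
    rw [hA11, hB11] at h3 h4
    have h3' : a.1 0 1 * b.1 0 0 = b.1 0 1 * a.1 0 0 :=
      mul_left_cancel₀ h2 (by linear_combination (-1 : F) * h3)
    have h4' : a.1 1 0 * b.1 0 0 = b.1 1 0 * a.1 0 0 :=
      mul_left_cancel₀ h2 (by linear_combination (-1 : F) * h4)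
    have hne' : a.1 0 1 ≠ 0 ∨ a.1 1 0 ≠ 0 ∨ a.1 0 0 ≠ 0 := by
      by_contra! h
      refine a.ne_zero ?_
      ext i j
      fin_cases i <;> fin_cases j <;> simp [h.1, h.2.1, h.2.2, hA11]
    rcases hne' with h | h | h
    · refine ⟨b.1 0 1 / a.1 0 1, ?_⟩
      ext i j
      fin_cases i <;> fin_cases j <;> simp [hA11, hB11] <;> field_simp
      · linear_combination h3'
      · linear_combination h1
      · linear_combination h3'
    · refine ⟨b.1 1 0 / a.1 1 0, ?_⟩
      ext i j
      fin_cases i <;> fin_cases j <;> simp [hA11, hB11] <;> field_simp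
      · linear_combination h4'
      · linear_combination (-1 : F) * h1
      · linear_combination h4'
    · refine ⟨b.1 0 0 / a.1 0 0, ?_⟩
      ext i j
      fin_cases i <;> fin_cases j <;> simp [hA11, hB11] <;> field_simp
      · linear_combination (-1 : F) * h3'
      · linear_combination (-1 : F) * h4'
  obtain ⟨k, hk⟩ := hka
  have h' : indHom (b * a⁻¹) = 1 := indHom_scalar le_rfl (c := k) (by
    rw [Units.val_mul, hk, smul_mul_assoc, Units.mul_inv])
  rw [map_mul, map_inv, mul_inv_eq_one] at h'
  exact h'.symm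

end CfsgLib.GW.Two
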