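import Cfsg.Agent.Lib.GW.Perfect
import Cfsg.Agent.Lib.GW.Matrix2
import Cfsg.Agent.Lib.GW.InvolPSL

/-!
# The field part of a group between `PSL(2, F)` and its automorphism group
-/

set_option autoImplicit false
set_option linter.style.haveILetI false
set_option linter.unusedSectionVars false

namespace CfsgLib.GW

open Matrix CfsgLib.AutPSL

variable {F : Type*} [Field F] [Fintype F]

theorem field_unique {g h : GL (Fin 2) F} {σ τ : RingAut F} (he : ind g σ = ind h τ) : σ = τ := by
  obtain ⟨g', hg'⟩ := ind_inv g σ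
  have h1 : 1 = (ind g σ)⁻¹ * ind h τ := by rw [← he, inv_mul_cancel]
  rw [hg', ind_mul] at h1
  exact inv_mul_eq_one.1 (eq_one_of_ind_eq_one le_rfl h1.symm).1

theorem exists_ind (β : MulAut (Matrix.ProjectiveSpecialLinearGroup (Fin 2) F)) :
    ∃ σ : RingAut F, ∃ g : GL (Fin 2) F, β = ind g σ := by
  obtain ⟨g, σ, h | ⟨h3, -⟩⟩ := aut_classify le_rfl β
  · exact ⟨σ, g, h⟩
  · omega

/-- the field automorphism underlying an automorphism of `PSL(2, F)` -/
noncomputable def fieldPartHom : MulAut (Matrix.ProjectiveSpecialLinearGroup (Fin 2) F) →* RingAut F :=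
  MonoidHom.mk' (fun β => (exists_ind β).choose) fun β γ => by
    obtain ⟨g, hg⟩ := (exists_ind β).choose_spec
    obtain ⟨h, hh⟩ := (exists_ind γ).choose_spec
    obtain ⟨k, hk⟩ := (exists_ind (β * γ)).choose_spec
    refine field_unique (g := k) (h := g * glField (exists_ind β).choose h) ?_
    rw [← hk, ← ind_mul, ← hg, ← hh]

theorem fieldPartHom_ind (g : GL (Fin 2) F) (σ : RingAut F) : fieldPartHom (ind g σ) = σ := by
  obtain ⟨k, hk⟩ := (exists_ind (ind g σ)).choose_spec
  exact (field_unique hk).symm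

theorem mem_ker_fieldPartHom {β : MulAut (Matrix.ProjectiveSpecialLinearGroup (Fin 2) F)} :
    fieldPartHom β = 1 ↔ ∃ g : GL (Fin 2) F, β = indHom g := by
  obtain ⟨σ, g, rfl⟩ := exists_ind β
  rw [fieldPartHom_ind]
  constructor
  · rintro rfl
    exact ⟨g, rfl⟩
  · rintro ⟨h, hh⟩
    exact field_unique (g := g) (h := h) hh

theorem ringChar_ne_two (h2 : (2 : F) ≠ 0) : ringChar F ≠ 2 := fun h => h2 (by
  rw [← Nat.cast_ofNat (R := F) (n := 2), ← h]; exact ringChar.Nat.cast_ringChar)

theorem isSquare_mul_nonsquare (h2 : (2 : F) ≠ 0) {a b : F} (ha : ¬ IsSquare a) (hb : ¬ IsSquare b) :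
    IsSquare (a * b) := by
  classical
  have hc := ringChar_ne_two h2
  have ha0 : a ≠ 0 := fun h => ha (h ▸ IsSquare.zero)
  have hb0 : b ≠ 0 := fun h => hb (h ▸ IsSquare.zero)
  rw [← quadraticChar_one_iff_isSquare (mul_ne_zero ha0 hb0), map_mul,
    (quadraticChar_neg_one_iff_not_isSquare).2 ha, (quadraticChar_neg_one_iff_not_isSquare).2 hb]
  norm_num

/-- elements fixed by an involutory field automorphism are squares -/
theorem isSquare_fixed (h2 : (2 : F) ≠ 0) {σ : RingAut F} (hσ : orderOf σ = 2) {c : F} (hc : σ c = c) :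
    IsSquare c := by
  classical
  set K := (σ.toRingHom).eqLocusField (RingHom.id F) with hK
  have hmem : ∀ x : F, x ∈ K ↔ σ x = x := fun x => Iff.rfl
  haveI : Fintype K := Fintype.ofFinite _
  have h2K : (2 : K) ≠ 0 := fun e => h2 (by
    have := congrArg K.subtype e
    rwa [map_ofNat, map_zero] at this)
  have hσ1 : σ ≠ 1 := fun e => by rw [e, orderOf_one] at hσ; omega
  have hσσ : ∀ x, σ (σ x) = x := fun x => by
    show (σ * σ) x = x
    rw [← sq, ← hσ, pow_orderOf_eq_one]
    rfl
  obtain ⟨x, hx⟩ : ∃ x, σ x ≠ x := by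
    by_contra! hh
    exact hσ1 (RingEquiv.ext hh)
  set z := x - σ x with hz
  have hz0 : z ≠ 0 := sub_ne_zero.2 hx.symm
  have hσz : σ z = -z := by rw [hz, map_sub, hσσ]; ring
  by_cases hcK : IsSquare (⟨c, (hmem c).2 hc⟩ : K)
  · obtain ⟨r, hr⟩ := hcK
    exact ⟨r, congrArg Subtype.val hr⟩
  have hzz : σ (z * z) = z * z := by rw [map_mul, hσz]; ring
  have hzK : ¬ IsSquare (⟨z * z, (hmem _).2 hzz⟩ : K) := by
    rintro ⟨r, hr⟩
    have h1 : z * z = (r : F) * r := congrArg Subtype.val hr
    have h3 : σ z = z := by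
      rcases mul_self_eq_mul_self_iff.1 h1 with e | e
      · rw [e, (hmem _).1 r.2]
      · rw [e, map_neg, (hmem _).1 r.2]
    rw [hσz] at h3
    exact hz0 ((mul_eq_zero.1 (show 2 * z = 0 by linear_combination (-1 : F) * h3)).resolve_left h2)
  obtain ⟨r, hr⟩ := isSquare_mul_nonsquare h2K hcK hzK
  have h1 : c * (z * z) = (r : F) * r := congrArg Subtype.val hr
  refine ⟨(r : F) / z, ?_⟩
  field_simp
  linear_combination h1

/-- norm one elements for an involutory field automorphism are squares -/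
theorem isSquare_norm_one (h2 : (2 : F) ≠ 0) {σ : RingAut F} (hσ : orderOf σ = 2) {v : F} (hv : v * σ v = 1) :
    IsSquare v := by
  have hv0 : v ≠ 0 := fun e => by rw [e, zero_mul] at hv; exact zero_ne_one hv
  by_cases hw : 1 + v = 0
  · refine isSquare_fixed h2 hσ ?_
    rw [eq_neg_of_add_eq_zero_right hw, map_neg, map_one]
  · have hσw : σ (1 + v) ≠ 0 := by rwa [map_ne_zero_iff _ σ.injective]
    have key : v * σ (1 + v) = 1 + v := by rw [map_add, map_one, mul_add, hv, mul_one, add_comm]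
    have hiff : IsSquare ((1 + v) * σ (1 + v)) := by
      by_cases h : IsSquare (1 + v)
      · exact h.mul (h.map σ)
      · refine isSquare_mul_nonsquare h2 h fun hh => h ?_
        have := hh.map σ.symm
        rwa [RingEquiv.symm_apply_apply] at this
    obtain ⟨r, hr⟩ := hiff
    refine ⟨r / σ (1 + v), ?_⟩
    field_simp
    linear_combination σ (1 + v) * key + hr

theorem isSquare_norm_sq (h2 : (2 : F) ≠ 0) {σ : RingAut F} (hσ : orderOf σ = 2) {u c : F} (hu : u ≠ 0)
    (hc : σ c = c) (h : u * σ u = c * c) : IsSquare u := by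
  have hc0 : c ≠ 0 := fun e => by
    rw [e, mul_zero, mul_eq_zero, map_eq_zero_iff _ σ.injective, or_self] at h
    exact hu h
  obtain ⟨r, hr⟩ := isSquare_norm_one h2 hσ (v := u / c) (by rw [map_div₀, hc]; field_simp; linear_combination h)
  obtain ⟨s, hs⟩ := isSquare_fixed h2 hσ hc
  refine ⟨r * s, ?_⟩
  rw [show u = u / c * c by field_simp, hr, hs]
  ring

/-- the determinant of a matrix inducing an involution of the coset of a field involution is a square -/
theorem det_isSquare_of_invol (h2 : (2 : F) ≠ 0) {σ : RingAut F} (hσ : orderOf σ = 2) {g : GL (Fin 2) F}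
    (hg : ind g σ * ind g σ = 1) : IsSquare g.1.det := by
  rw [ind_mul, show σ * σ = 1 by rw [← sq, ← hσ, pow_orderOf_eq_one]] at hg
  obtain ⟨-, c, hc0, hc⟩ := eq_one_of_ind_eq_one le_rfl hg
  rw [Units.val_mul] at hc
  have hσσ : ∀ x, σ (σ x) = x := fun x => by
    show (σ * σ) x = x
    rw [← sq, ← hσ, pow_orderOf_eq_one]
    rfl
  have hgf : (glField σ g).1 = g.1.map σ := glField_val σ g
  rw [hgf] at hc
  -- the scalar is fixed
  have h1 : g.1.map σ * g.1 = σ c • (1 : Matrix (Fin 2) (Fin 2) F) := by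
    have e := congrArg (fun A : Matrix (Fin 2) (Fin 2) F => A.map σ.toRingHom) hc
    simp only [Matrix.map_mul] at e
    have e2 : (g.1.map σ).map σ.toRingHom = g.1 := by
      ext i j
      exact hσσ _
    rw [e2] at e
    refine e.trans ?_
    ext i j
    rcases eq_or_ne i j with rfl | hij
    · simp
    · simp [hij]
  have h3 : g.1.map σ = c • (g⁻¹).1 := by
    calc g.1.map σ = (g⁻¹).1 * (g.1 * g.1.map σ) := by rw [← mul_assoc, Units.inv_mul, one_mul]
      _ = c • (g⁻¹).1 := by rw [hc, mul_smul_comm, mul_one]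
  have hσc : σ c = c := by
    rw [h3, smul_mul_assoc, Units.inv_mul] at h1
    have := congrFun (congrFun h1 0) 0
    simpa using this.symm
  have hdet : g.1.det * σ g.1.det = c * c := by
    have e := congrArg Matrix.det hc
    rw [Matrix.det_mul, Matrix.det_smul, Matrix.det_one, mul_one, Fintype.card_fin, sq] at e
    rw [← e]
    congr 1
    exact RingHom.map_det σ.toRingHom _
  exact isSquare_norm_sq h2 hσ (g.isUnit.map Matrix.detMonoidHom).ne_zero hσc hdet

theorem indHom_mem_inn_iff (h2 : (2 : F) ≠ 0) (g : GL (Fin 2) F) :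
    indHom g ∈ Cfsg.Inn (Matrix.ProjectiveSpecialLinearGroup (Fin 2) F) ↔ IsSquare g.1.det := by
  rw [mem_inn_iff]
  constructor
  · rintro ⟨s, hs⟩
    have h1 : indHom (g * (Matrix.SpecialLinearGroup.toGL s)⁻¹) = 1 := by
      rw [map_mul, map_inv, hs]
      exact mul_inv_cancel _
    obtain ⟨c, hc⟩ := scalar_of_indHom le_rfl h1
    have hg : g.1 = c • s.1 := by
      calc g.1 = (g * (Matrix.SpecialLinearGroup.toGL s)⁻¹).1 * (Matrix.SpecialLinearGroup.toGL s).1 := by
            rw [← Units.val_mul, inv_mul_cancel_right]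
        _ = c • s.1 := by rw [hc, smul_mul_assoc, one_mul]; rfl
    rw [hg, Matrix.det_smul, s.2, mul_one, Fintype.card_fin]
    exact ⟨c, sq c⟩
  · rintro ⟨r, hr⟩
    have hr0 : r ≠ 0 := fun e => (g.isUnit.map Matrix.detMonoidHom).ne_zero (by
      show g.1.det = 0
      rw [hr, e, mul_zero])
    have hdet : ((r⁻¹ : F) • g.1).det = 1 := by
      rw [Matrix.det_smul, hr, Fintype.card_fin]
      field_simp
    refine ⟨⟨_, hdet⟩, ?_⟩
    rw [indHom_apply, ← ind_scal_mul (Units.mk0 r⁻¹ (inv_ne_zero hr0)) g 1]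
    refine congrArg (fun y => ind y 1) (Units.ext ?_)
    rw [Units.val_mul, scal_val, smul_mul_assoc, one_mul]
    rfl

/-- two commuting fixed involutions under an involutory field automorphism -/
theorem exists_fixed_four (h2 : (2 : F) ≠ 0) (σ : RingAut F) :
    ∃ a b : Matrix.ProjectiveSpecialLinearGroup (Fin 2) F, orderOf a = 2 ∧ orderOf b = 2 ∧ a ≠ b ∧ Commute a b ∧
      ind (1 : GL (Fin 2) F) σ a = a ∧ ind (1 : GL (Fin 2) F) σ b = b := by
  classical
  set K := (σ.toRingHom).eqLocusField (RingHom.id F) with hK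
  haveI : Fintype K := Fintype.ofFinite _
  have h2K : (2 : K) ≠ 0 := fun e => h2 (by
    have := congrArg K.subtype e
    rwa [map_ofNat, map_zero] at this)
  obtain ⟨a', b', hab'⟩ := CfsgLib.OddProdPSL.exists_sq_add_sq h2K (-1)
  set a : F := (a' : F)
  set b : F := (b' : F)
  have hab : a ^ 2 + b ^ 2 = -1 := by
    have := congrArg (Subtype.val : K → F) hab'
    simpa using this
  have ha : σ a = a := a'.2
  have hb : σ b = b := b'.2
  have hd : a * -a - b * b = 1 := by linear_combination -hab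
  have hne : a ≠ 0 ∨ b ≠ 0 := by
    by_contra! h
    rw [h.1, h.2] at hd
    simp at hd
  set s := CfsgLib.OddProdPSL.mk a b b (-a) hd
  refine ⟨CfsgLib.OddProdPSL.proj CfsgLib.OddProdPSL.std, CfsgLib.OddProdPSL.proj s, ?_, ?_, fun e => ?_, ?_,
    ?_, ?_⟩
  · refine CfsgLib.OddProdPSL.orderOf_proj_eq_two _ (by simp [CfsgLib.OddProdPSL.tr, CfsgLib.OddProdPSL.std]) fun e => ?_
    rw [CfsgLib.OddProdPSL.proj_eq_one_iff] at e
    simp [CfsgLib.OddProdPSL.std] at e
  · refine CfsgLib.OddProdPSL.orderOf_proj_eq_two _ (by simp [CfsgLib.OddProdPSL.tr, s])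
      fun e => ?_
    rw [CfsgLib.OddProdPSL.proj_eq_one_iff] at e
    simp [s] at e
    rcases hne with h | h
    · exact h ((mul_eq_zero.1 (show 2 * a = 0 by linear_combination e.2)).resolve_left h2)
    · exact h e.1
  · have h1 : CfsgLib.OddProdPSL.proj (CfsgLib.OddProdPSL.std * s) = 1 := by
      rw [map_mul, ← e, ← map_mul, CfsgLib.OddProdPSL.proj_eq_one_iff]
      simp [CfsgLib.OddProdPSL.std, s, mul_apply, Fin.sum_univ_two]
    rw [CfsgLib.OddProdPSL.proj_eq_one_iff] at h1
    simp [s, CfsgLib.OddProdPSL.std, mul_apply, Fin.sum_univ_two] at h1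
    rcases hne with h | h
    · exact h h1.1
    · exact h ((mul_eq_zero.1 (show 2 * b = 0 by linear_combination -h1.2)).resolve_left h2)
  · show CfsgLib.OddProdPSL.proj CfsgLib.OddProdPSL.std * CfsgLib.OddProdPSL.proj s =
      CfsgLib.OddProdPSL.proj s * CfsgLib.OddProdPSL.proj CfsgLib.OddProdPSL.std
    rw [← mul_inv_eq_one, _root_.mul_inv_rev, ← map_mul, ← map_inv, ← map_inv, ← map_mul, ← map_mul,
      CfsgLib.OddProdPSL.proj_eq_one_iff]
    simp [s, CfsgLib.OddProdPSL.std, Matrix.SpecialLinearGroup.coe_inv, adjugate_fin_two,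
      mul_apply, Fin.sum_univ_two]
    constructor <;> (try constructor) <;> ring
  · refine (field_proj σ CfsgLib.OddProdPSL.std).trans (congrArg CfsgLib.OddProdPSL.proj (Subtype.ext ?_))
    rw [slField_val]
    ext i j
    fin_cases i <;> fin_cases j <;> simp [CfsgLib.OddProdPSL.std, CfsgLib.OddProdPSL.mk]
  · refine (field_proj σ s).trans (congrArg CfsgLib.OddProdPSL.proj (Subtype.ext ?_))
    rw [slField_val]
    ext i j
    fin_cases i <;> fin_cases j <;> simp [s, CfsgLib.OddProdPSL.mk, ha, hb]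

end CfsgLib.GW
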