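import Cfsg.Agent.Lib.GW.QGroup

/-!
# Q-groups (S1216) and involution centralisers with quasidihedral or wreathed Sylow 2-subgroups (S1240), given
the dihedral theorem
-/

set_option autoImplicit false
set_option linter.style.haveILetI false
set_option linter.unusedSectionVars false

namespace CfsgLib.GW

open CfsgLib.Invol
open scoped MatrixGroups commutatorElement

universe u

theorem center_central_mod_core {H : Type*} [Group H] [Finite H] (S : Sylow 2 H)
    (hS : Cfsg.IsQuasiDihedral (S : Subgroup H) ∨ Cfsg.IsWreathed (S : Subgroup H))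
    (hw : ∀ Z₀ : Subgroup H, Z₀ ≤ centerG S → Cfsg.IsWeaklyClosed Z₀ (S : Subgroup H))
    {z : H} (hz : z ∈ centerG S) (h : H) :
    QuotientGroup.mk' (Cfsg.oddCore H) h * QuotientGroup.mk' (Cfsg.oddCore H) z =
      QuotientGroup.mk' (Cfsg.oddCore H) z * QuotientGroup.mk' (Cfsg.oddCore H) h := by
  obtain ⟨o, ho, c, hc, rfl⟩ := exists_core_mul_centralizer S (Subgroup.map_subtype_le _)
    (center_closed_of_weaklyClosed S hS hw) h
  rw [map_mul, show QuotientGroup.mk' (Cfsg.oddCore H) o = 1 from (QuotientGroup.eq_one_iff o).2 ho, one_mul,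
    ← map_mul, ← map_mul, Subgroup.mem_centralizer_iff.1 hc z hz]

/-- **S1216**, given the dihedral theorem -/
theorem qgroup_sl_two {H : Type u} [Group H] [Finite H] (S : Sylow 2 H)
    (hS : Cfsg.IsQuasiDihedral (S : Subgroup H) ∨ Cfsg.IsWreathed (S : Subgroup H)) (hO : Cfsg.oddCore H = ⊥)
    (K : Subgroup H) (hK : K.Normal) {a : ℕ} (hKi : K.index = 2 ^ a) (hK2 : ∀ M : Subgroup K, M.index ≠ 2)
    (hQ : QuatTwo K) (hw : ∀ Z₀ : Subgroup H, Z₀ ≤ centerG S → Cfsg.IsWeaklyClosed Z₀ (S : Subgroup H))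
    (hgw : GWBelow.{u} (Nat.card H)) :
    ∃ L₀ : Subgroup H, L₀.Normal ∧
      (∃ (F : Type) (_ : Field F) (_ : Fintype F), Odd (Fintype.card F) ∧ Nonempty (L₀ ≃* SL(2, F))) ∧
      ∀ L₁ : Subgroup H, L₁.Normal →
        (∃ (F : Type) (_ : Field F) (_ : Fintype F), Odd (Fintype.card F) ∧ Nonempty (L₁ ≃* SL(2, F))) →
          L₁ = L₀ := by
  haveI := hK
  have hSc : centerG S ≤ Subgroup.center H := fun z hz => Subgroup.mem_center_iff.2 fun h => by
    have h1 := center_central_mod_core S hS hw hz h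
    rw [← map_mul, ← map_mul, QuotientGroup.mk'_apply, QuotientGroup.mk'_apply, QuotientGroup.eq, hO,
      Subgroup.mem_bot, inv_mul_eq_one] at h1
    exact h1
  obtain ⟨L, h1, h2, -, h3⟩ := qgroup_structure S hS hO hSc K hKi hK2 hQ hgw
  exact ⟨L, h1, h2, h3⟩

/-- **S1240**, given the dihedral theorem -/
theorem centralizer_mod_core {G : Type u} [Group G] [Finite G] (S : Sylow 2 G)
    (hS : Cfsg.IsQuasiDihedral (S : Subgroup G) ∨ Cfsg.IsWreathed (S : Subgroup G))
    (hG : ∀ H : Subgroup G, H.index ≠ 2) (t : G) (ht : orderOf t = 2) (hgw : GWBelow.{u} (Nat.card G)) :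
    ∃ (F : Type) (_ : Field F) (_ : Fintype F), Odd (Fintype.card F) ∧
      Nonempty (↥(commutator (↥(Subgroup.centralizer ({t} : Set G)) ⧸
        Cfsg.oddCore ↥(Subgroup.centralizer ({t} : Set G)))) ≃* SL(2, F)) := by
  classical
  haveI : Fact (Nat.Prime 2) := ⟨Nat.prime_two⟩
  set C := Subgroup.centralizer ({t} : Set G) with hC
  obtain ⟨R, hRc, ⟨K, hKn, ⟨a, hKi⟩, hK2, hQ⟩, hw⟩ := qGroup_centralizer S hS hG t ht
  haveI := hKn
  set π := QuotientGroup.mk' (Cfsg.oddCore C) with hπ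
  have hπs : Function.Surjective π := QuotientGroup.mk'_surjective _
  have hodd : ¬ 2 ∣ Nat.card (Cfsg.oddCore C) := CfsgLib.Coprime.pPrimeCore_not_dvd Nat.prime_two
  have hinj : ∀ r ∈ (R : Subgroup C), π r = 1 → r = 1 := fun r hr hr1 => by
    obtain ⟨j, hj⟩ := R.2.exists_card_eq
    refine orderOf_eq_one_iff.1 (Nat.eq_one_of_dvd_coprimes
      (Nat.Coprime.pow_left j (Nat.prime_two.coprime_iff_not_dvd.2 hodd)) (hj ▸ Subgroup.orderOf_dvd_natCard _ hr)
      (Subgroup.orderOf_dvd_natCard _ ((QuotientGroup.eq_one_iff r).1 hr1)))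
  set R' := R.mapSurjective hπs
  have hR' : (R' : Subgroup (C ⧸ Cfsg.oddCore C)) = (R : Subgroup C).map π := Sylow.coe_mapSurjective hπs R
  have hf : Function.Bijective (π.subgroupMap (R : Subgroup C)) :=
    ⟨(injective_iff_map_eq_one _).2 fun r hr => Subtype.ext (hinj r r.2 (congrArg Subtype.val hr)),
      π.subgroupMap_surjective _⟩
  let eR : (R : Subgroup C) ≃* (R' : Subgroup (C ⧸ Cfsg.oddCore C)) :=
    (MulEquiv.ofBijective _ hf).trans (MulEquiv.subgroupCongr hR'.symm)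
  have hS' : Cfsg.IsQuasiDihedral (R' : Subgroup (C ⧸ Cfsg.oddCore C)) ∨
      Cfsg.IsWreathed (R' : Subgroup (C ⧸ Cfsg.oddCore C)) := by
    -- `R` is a Sylow 2-subgroup of `G` up to isomorphism
    obtain ⟨T, hT⟩ := (R.2.map C.subtype).exists_le_sylow
    have heq : (R : Subgroup C).map C.subtype = (T : Subgroup G) := Subgroup.eq_of_le_of_card_ge hT (by
      rw [Subgroup.card_map_of_injective C.subtype_injective, show Nat.card (R : Subgroup C) = Nat.card R from rfl,
        hRc]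
      exact (Nat.card_congr (Sylow.equiv T S).toEquiv).le)
    let e : (S : Subgroup G) ≃* (R' : Subgroup (C ⧸ Cfsg.oddCore C)) :=
      ((Sylow.equiv S T).trans (MulEquiv.subgroupCongr heq.symm)).trans
        ((Subgroup.equivMapOfInjective _ _ C.subtype_injective).symm.trans eR)
    exact hS.imp (isQuasiDihedral_congr e) (isWreathed_congr e)
  have hSR : Cfsg.IsQuasiDihedral (R : Subgroup C) ∨ Cfsg.IsWreathed (R : Subgroup C) :=
    hS'.imp (isQuasiDihedral_congr eR.symm) (isWreathed_congr eR.symm)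
  have hSc : centerG R' ≤ Subgroup.center (C ⧸ Cfsg.oddCore C) := by
    rintro _ ⟨z, hz, rfl⟩
    obtain ⟨r, rfl⟩ := eR.surjective z
    have hr : (r : C) ∈ centerG R := by
      refine ⟨r, Subgroup.mem_center_iff.2 fun s => eR.injective ?_, rfl⟩
      rw [map_mul, map_mul]
      exact Subgroup.mem_center_iff.1 hz (eR s)
    refine Subgroup.mem_center_iff.2 fun h => ?_
    obtain ⟨h, rfl⟩ := hπs h
    exact center_central_mod_core R hSR hw hr h
  have hO : Cfsg.oddCore (C ⧸ Cfsg.oddCore C) = ⊥ := CfsgLib.Coprime.pPrimeCore_quotient_eq_bot Nat.prime_two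
  haveI : (K.map π).Normal := hKn.map π hπs
  obtain ⟨b, -, hb⟩ := (Nat.dvd_prime_pow Nat.prime_two).1 (hKi ▸ K.index_map_dvd hπs)
  have hQ' : QuatTwo (K.map π) := by
    intro P
    obtain ⟨P₀⟩ : Nonempty (Sylow 2 K) := inferInstance
    obtain ⟨m, hm, ⟨e⟩⟩ := hQ P₀
    set f := π.subgroupMap K
    have hfs : Function.Surjective f := π.subgroupMap_surjective K
    set P₁ := P₀.mapSurjective hfs
    have hP₁ : (P₁ : Subgroup (K.map π)) = (P₀ : Subgroup K).map f := Sylow.coe_mapSurjective hfs P₀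
    have hfb : Function.Bijective (f.subgroupMap (P₀ : Subgroup K)) := by
      refine ⟨(injective_iff_map_eq_one _).2 fun r hr => ?_, f.subgroupMap_surjective _⟩
      have hr1 : π ((r : K) : C) = 1 := congrArg Subtype.val (congrArg Subtype.val hr)
      obtain ⟨j, hj⟩ := P₀.2.exists_card_eq
      have hd : orderOf ((r : K) : C) ∣ 2 ^ j := by
        rw [Subgroup.orderOf_coe, ← hj]
        exact Subgroup.orderOf_dvd_natCard _ r.2
      exact Subtype.ext (Subtype.ext (orderOf_eq_one_iff.1 (Nat.eq_one_of_dvd_coprimes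
        (Nat.Coprime.pow_left j (Nat.prime_two.coprime_iff_not_dvd.2 hodd)) hd
        (Subgroup.orderOf_dvd_natCard _ ((QuotientGroup.eq_one_iff _).1 hr1)))))
    exact ⟨m, hm, ⟨(Sylow.equiv P P₁).trans ((MulEquiv.subgroupCongr hP₁).trans
      ((MulEquiv.ofBijective _ hfb).symm.trans e))⟩⟩
  obtain ⟨L, -, ⟨F, iF, jF, ho, ⟨e⟩⟩, hcomm, -⟩ := qgroup_structure R' hS' hO hSc (K.map π) hb
    (map_no_index_two π K hK2) hQ'
    (hgw.mono ((Nat.card_le_card_of_surjective _ hπs).trans (Nat.card_le_card_of_injective _ C.subtype_injective)))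
  exact ⟨F, iF, jF, ho, ⟨(MulEquiv.subgroupCongr hcomm).trans e⟩⟩

end CfsgLib.GW
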