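import Cfsg.Agent.Lib.GW.TwoSubgroups
import Cfsg.Agent.Lib.Invol.DihedralSubgroup
import Cfsg.Agent.Lib.PGroup.DihedralSubgroups
import Cfsg.Agent.Lib.Perm.Dickson.Recog
import Cfsg.Agent.Lib.Invol.Basic

/-!
# Gorenstein-Walter: groups whose 2-subgroups embed in dihedral groups
-/

set_option autoImplicit false
set_option linter.unusedSectionVars false

open Subgroup DihedralGroup

namespace CfsgLib.GW

/-- Every 2-subgroup embeds in a dihedral 2-group. -/
def DihLE (G : Type*) [Group G] : Prop :=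
  ∀ P : Subgroup G, IsPGroup 2 P → ∃ (k : ℕ) (φ : P →* DihedralGroup (2 ^ k)), Function.Injective φ

universe u

variable {G : Type u} [Group G] [Finite G]

theorem DihTwo.dihLE (h : DihTwo G) : DihLE G := by
  haveI : Fact (Nat.Prime 2) := ⟨Nat.prime_two⟩
  intro P hP
  obtain ⟨S, hS⟩ := hP.exists_le_sylow
  obtain ⟨n, hn, ⟨e⟩⟩ := h S
  obtain ⟨j, hj⟩ := S.2.exists_card_eq
  rw [Nat.card_congr e.toEquiv, DihedralGroup.nat_card] at hj
  obtain ⟨i, hi, rfl⟩ := (Nat.dvd_prime_pow Nat.prime_two).1 ⟨2, show 2 ^ j = n * 2 by omega⟩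
  exact ⟨i, e.toMonoidHom.comp (inclusion hS), e.injective.comp (inclusion_injective hS)⟩

theorem DihLE.of_injective {H : Type u} [Group H] (h : DihLE G) (f : H →* G)
    (hf : Function.Injective f) : DihLE H := by
  intro P hP
  obtain ⟨k, φ, hφ⟩ := h (P.map f) (hP.map f)
  refine ⟨k, φ.comp (P.equivMapOfInjective f hf).toMonoidHom, ?_⟩
  exact hφ.comp (P.equivMapOfInjective f hf).injective

theorem DihLE.subgroup (h : DihLE G) (H : Subgroup G) : DihLE H :=
  h.of_injective H.subtype H.subtype_injective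

/-- Quotients by normal subgroups of odd order. -/
theorem DihLE.quotient_odd (h : DihLE G) (N : Subgroup G) [N.Normal] (hN : Odd (Nat.card N)) :
    DihLE (G ⧸ N) := by
  haveI : Fact (Nat.Prime 2) := ⟨Nat.prime_two⟩
  intro Q hQ
  obtain ⟨T, hT⟩ := hQ.exists_le_sylow
  obtain ⟨S, rfl⟩ := Sylow.mapSurjective_surjective (QuotientGroup.mk'_surjective N) 2 T
  obtain ⟨k, φ, hφ⟩ := h S S.2
  let π : (S : Subgroup G) →* (S : Subgroup G).map (QuotientGroup.mk' N) :=
    (QuotientGroup.mk' N).subgroupMap S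
  have hπ : Function.Bijective π := by
    refine ⟨(injective_iff_map_eq_one _).2 fun x hx => ?_, (QuotientGroup.mk' N).subgroupMap_surjective _⟩
    have hxN : (x : G) ∈ N := (QuotientGroup.eq_one_iff _).1 (congrArg Subtype.val hx)
    obtain ⟨j, hj⟩ := S.2 x
    have h1 : orderOf (x : G) ∣ 2 ^ j := orderOf_dvd_of_pow_eq_one (congrArg Subtype.val hj)
    have h2 : orderOf (x : G) ∣ Nat.card N := N.orderOf_dvd_natCard hxN
    exact Subtype.ext (orderOf_eq_one_iff.1 (Nat.eq_one_of_dvd_coprimes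
      ((Nat.coprime_two_left.2 hN).pow_left j) h1 h2))
  refine ⟨k, φ.comp ((MulEquiv.ofBijective π hπ).symm.toMonoidHom.comp (inclusion hT)), ?_⟩
  exact hφ.comp ((MulEquiv.ofBijective π hπ).symm.injective.comp (inclusion_injective hT))

/-- A commutative subgroup of a dihedral group with two different involutions. -/
theorem dihedral_abelian_four {n : ℕ} [NeZero n] (A : Subgroup (DihedralGroup n))
    (hA : ∀ a ∈ A, ∀ b ∈ A, a * b = b * a) {a b : DihedralGroup n} (ha : a ∈ A) (hb : b ∈ A)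
    (ha2 : a * a = 1) (hb2 : b * b = 1) (ha1 : a ≠ 1) (hb1 : b ≠ 1) (hab : a ≠ b) :
    (∀ x ∈ A, x * x = 1) ∧ Nat.card A ≤ 4 := by
  obtain ⟨i, hi⟩ : ∃ i, sr i ∈ A := by
    rcases a with i | i
    · rcases b with j | j
      · exfalso
        rw [r_mul_r, one_def] at ha2 hb2
        rw [Ne, one_def] at ha1 hb1
        exact hab (congrArg r (PGroup.two_torsion_eq (r.inj ha2) (r.inj hb2)
          (fun e => ha1 (congrArg r e)) (fun e => hb1 (congrArg r e))))
      · exact ⟨j, hb⟩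
    · exact ⟨i, ha⟩
  have hr : ∀ j, r j ∈ A → j + j = 0 := fun j hj => by
    have h := hA _ hj _ hi
    rw [r_mul_sr, sr_mul_r, sr.injEq] at h
    linear_combination (-1 : ℤ) * h
  have hsq : ∀ x ∈ A, x * x = 1 := by
    rintro (j | j) hj
    · rw [r_mul_r, hr j hj, r_zero]
    · rw [sr_mul_sr, sub_self, r_zero]
  refine ⟨hsq, ?_⟩
  let R : Set (ZMod n) := {j | j + j = 0}
  have hR : Nat.card R ≤ 2 := by
    rw [← Nat.card_eq_fintype_card.trans (Fintype.card_bool)]
    refine Nat.card_le_card_of_injective (fun j : R => decide (j.1 = 0)) fun x y e => Subtype.ext ?_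
    simp only [decide_eq_decide] at e
    by_cases hx : x.1 = 0
    · rw [hx, e.1 hx]
    · exact PGroup.two_torsion_eq x.2 y.2 hx fun h => hx (e.2 h)
  have key : ∀ x ∈ A, (∃ j ∈ R, x = r j) ∨ ∃ j ∈ R, x = sr i * r j := by
    rintro (j | j) hj
    · exact Or.inl ⟨j, hr j hj, rfl⟩
    · refine Or.inr ⟨j - i, hr _ ?_, by rw [sr_mul_r, add_sub_cancel]⟩
      have := mul_mem hi hj
      rwa [sr_mul_sr] at this
  let f : R × Bool → DihedralGroup n := fun p => if p.2 then r p.1.1 else sr i * r p.1.1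
  have hsub : (A : Set (DihedralGroup n)) ⊆ Set.range f := fun x hx => by
    rcases key x hx with ⟨j, hj, rfl⟩ | ⟨j, hj, rfl⟩
    · exact ⟨(⟨j, hj⟩, true), rfl⟩
    · exact ⟨(⟨j, hj⟩, false), rfl⟩
  calc Nat.card A ≤ Nat.card (Set.range f) := Nat.card_mono (Set.toFinite _) hsub
    _ ≤ Nat.card (R × Bool) := Finite.card_range_le f
    _ ≤ 4 := by
      rw [Nat.card_prod, Nat.card_eq_fintype_card (α := Bool), Fintype.card_bool]; omega

/-- A commutative 2-subgroup with two different involutions has order at most four, exponent two. -/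
theorem DihLE.abelian_four (h : DihLE G) {A : Subgroup G} (hA : IsPGroup 2 A)
    (hc : ∀ a ∈ A, ∀ b ∈ A, a * b = b * a) {a b : G} (ha : a ∈ A) (hb : b ∈ A)
    (ha2 : a * a = 1) (hb2 : b * b = 1) (ha1 : a ≠ 1) (hb1 : b ≠ 1) (hab : a ≠ b) :
    (∀ x ∈ A, x * x = 1) ∧ Nat.card A ≤ 4 := by
  obtain ⟨k, φ, hφ⟩ := h A hA
  haveI : NeZero (2 ^ k) := ⟨pow_ne_zero k two_ne_zero⟩
  obtain ⟨h1, h2⟩ := dihedral_abelian_four φ.range (by
      rintro _ ⟨x, rfl⟩ _ ⟨y, rfl⟩
      rw [← map_mul, ← map_mul]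
      exact congrArg φ (Subtype.ext (hc x x.2 y y.2)))
    (a := φ ⟨a, ha⟩) (b := φ ⟨b, hb⟩) ⟨_, rfl⟩ ⟨_, rfl⟩
    (by rw [← map_mul, show (⟨a, ha⟩ * ⟨a, ha⟩ : A) = 1 from Subtype.ext ha2, map_one])
    (by rw [← map_mul, show (⟨b, hb⟩ * ⟨b, hb⟩ : A) = 1 from Subtype.ext hb2, map_one])
    (fun e => ha1 (congrArg Subtype.val (hφ (e.trans (map_one φ).symm))))
    (fun e => hb1 (congrArg Subtype.val (hφ (e.trans (map_one φ).symm))))
    (fun e => hab (congrArg Subtype.val (hφ e)))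
  refine ⟨fun x hx => ?_, (Nat.card_congr (MonoidHom.ofInjective hφ).toEquiv).trans_le h2⟩
  have := h1 (φ ⟨x, hx⟩) ⟨_, rfl⟩
  rw [← map_mul] at this
  exact congrArg Subtype.val (hφ (this.trans (map_one φ).symm))

/-- The 2-rank is at most two. -/
theorem DihLE.rank_two (h : DihLE G) {E : Subgroup G} (hsq : ∀ x ∈ E, x * x = 1) :
    Nat.card E ≤ 4 := by
  haveI : Fact (Nat.Prime 2) := ⟨Nat.prime_two⟩
  by_contra hlt
  push Not at hlt
  have hE : IsPGroup 2 E := fun x => ⟨1, Subtype.ext (by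
    rw [pow_one, SubmonoidClass.coe_pow, pow_two]; exact hsq x x.2)⟩
  have hc : ∀ a ∈ E, ∀ b ∈ E, a * b = b * a := fun a ha b hb => by
    have h1 := hsq _ (mul_mem ha hb)
    calc a * b = a * (a * b * (a * b)) * b := by rw [h1, mul_one]
      _ = (a * a) * b * a * (b * b) := by group
      _ = b * a := by rw [hsq a ha, hsq b hb, one_mul, mul_one]
  obtain ⟨x, hx⟩ : ∃ x : E, x ≠ 1 := by
    haveI : Nontrivial E := Finite.one_lt_card_iff_nontrivial.1 (by omega)
    exact exists_ne 1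
  obtain ⟨y, hy1, hy2⟩ : ∃ y : E, y ≠ 1 ∧ y ≠ x := by
    classical
    by_contra hcon
    push Not at hcon
    have : Nat.card E ≤ 2 := by
      rw [← Nat.card_eq_fintype_card.trans (Fintype.card_bool)]
      refine Nat.card_le_card_of_injective (fun z : E => decide (z = 1)) fun u v e => ?_
      simp only [decide_eq_decide] at e
      by_cases hu : u = 1
      · rw [hu, e.1 hu]
      · rw [hcon u hu, hcon v fun hv => hu (e.2 hv)]
    omega
  exact absurd (h.abelian_four hE hc x.2 y.2 (hsq _ x.2) (hsq _ y.2)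
    (fun e => hx (Subtype.ext e)) (fun e => hy1 (Subtype.ext e)) fun e => hy2 (Subtype.ext e).symm).2
    (by omega)

/-- A Sylow 2-subgroup is cyclic or dihedral of order at least four. -/
theorem DihLE.sylow_cases (h : DihLE G) (S : Sylow 2 G) :
    IsCyclic (S : Subgroup G) ∨
      ∃ k : ℕ, 1 ≤ k ∧ Nonempty ((S : Subgroup G) ≃* DihedralGroup (2 ^ k)) := by
  haveI : Fact (Nat.Prime 2) := ⟨Nat.prime_two⟩
  refine or_iff_not_imp_left.2 fun hnc => ?_
  obtain ⟨k, φ, hφ⟩ := h S S.2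
  haveI : NeZero (2 ^ k) := ⟨pow_ne_zero k two_ne_zero⟩
  let eR : (S : Subgroup G) ≃* φ.range := MonoidHom.ofInjective hφ
  have hnc' : ¬ IsCyclic φ.range := fun hc => hnc
    (isCyclic_of_surjective eR.symm.toMonoidHom eR.symm.surjective)
  obtain ⟨i, a, hi, ha, ha0⟩ := PGroup.exists_sr_r_of_not_isCyclic φ.range hnc'
  let C : Subgroup φ.range := (zpowers (r (1 : ZMod (2 ^ k)))).subgroupOf φ.range
  have hr : ∀ x : φ.range, x ∈ C ↔ ∃ j, (x : DihedralGroup (2 ^ k)) = r j := fun x => by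
    rw [mem_subgroupOf]
    refine ⟨fun ⟨z, hz⟩ => ⟨(z : ZMod (2 ^ k)), by rw [← hz]; simp⟩, fun ⟨j, hj⟩ => ?_⟩
    exact ⟨(j.val : ℤ), by rw [hj]; simp⟩
  haveI hC : IsCyclic C := isCyclic_of_injective (φ.range.subtype.subgroupComap
      (zpowers (r (1 : ZMod (2 ^ k)))))
    fun x y e => Subtype.ext (Subtype.ext (congrArg (fun z => ((z : zpowers (r (1 : ZMod (2 ^ k)))) : DihedralGroup (2 ^ k))) e))
  have hinv : ∀ g : φ.range, g ∉ C → g * g = 1 := fun g hg => by
    rcases hgv : (g : DihedralGroup (2 ^ k)) with j | j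
    · exact absurd ((hr g).2 ⟨j, hgv⟩) hg
    · exact Subtype.ext (by rw [Subgroup.coe_mul, hgv, sr_mul_sr, sub_self, r_zero]; rfl)
  have hidx : C.index = 2 := by
    refine index_eq_two_iff.2 ⟨⟨sr i, hi⟩, fun b => ?_⟩
    rcases hbv : (b : DihedralGroup (2 ^ k)) with j | j
    · refine Or.inr ⟨(hr b).2 ⟨j, hbv⟩, fun hh => ?_⟩
      obtain ⟨l, hl⟩ := (hr _).1 hh
      rw [Subgroup.coe_mul, hbv] at hl
      simp at hl
    · refine Or.inl ⟨(hr _).2 ⟨i - j, ?_⟩, fun hh => ?_⟩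
      · rw [Subgroup.coe_mul, hbv]; exact sr_mul_sr j i
      · obtain ⟨l, hl⟩ := (hr _).1 hh
        rw [hbv] at hl
        simp at hl
  obtain ⟨e⟩ := Perm.Dickson.mulEquiv_dihedral hC
    (show 2 * Nat.card C = Nat.card φ.range by
      have := C.card_mul_index; rw [hidx] at this; omega) hinv
  obtain ⟨j, hj⟩ := (S.2.of_equiv eR).to_subgroup C |>.exists_card_eq
  rw [hj] at e
  refine ⟨j, Nat.one_le_iff_ne_zero.2 fun h0 => ha0 ?_, ⟨eR.trans e⟩⟩
  subst h0
  have hbot : C = ⊥ := Subgroup.eq_bot_of_card_eq _ (by rw [hj, pow_zero])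
  have hmem : (⟨r a, ha⟩ : φ.range) ∈ C := (hr _).2 ⟨a, rfl⟩
  rw [hbot, mem_bot] at hmem
  exact r.inj (congrArg Subtype.val hmem)

/-- Either a cyclic Sylow 2-subgroup or all of them dihedral. -/
theorem DihLE.cyclic_or_dihTwo (h : DihLE G) :
    (∃ S : Sylow 2 G, IsCyclic (S : Subgroup G)) ∨ DihTwo G := by
  refine or_iff_not_imp_left.2 fun hno S => ?_
  rcases h.sylow_cases S with hc | ⟨k, hk, he⟩
  · exact absurd ⟨S, hc⟩ hno
  · exact ⟨2 ^ k, Nat.le_self_pow (by omega) 2, he⟩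

end CfsgLib.GW
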