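import Cfsg.Agent.Lib.Invol.PrincipalBlock
import Cfsg.Agent.Lib.Block.PRationalExtension
import Cfsg.Agent.Lib.Block.PPrimeKernel
import Cfsg.Agent.Lib.Block.Cyclic.PrincipalSq
import Cfsg.Agent.Lib.Char.BlichfeldtPi
import Cfsg.Agent.Lib.Char.ThreeTI.Common

/-!
# Galois conjugation and principal blocks

A character outside the principal `p`-block taking an odd value at `yJ` (`y` a `p`-element, `J` an
involution centralising it) is moved by every automorphism of `ℂ` that fixes the roots of unity of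
`p`-power order and moves in pairs the odd degree characters of `C(y)` outside the principal block.
-/

set_option autoImplicit false
set_option linter.unusedSectionVars false
set_option linter.style.haveILetI false

open scoped ComplexConjugate

namespace CfsgLib.GW

open Cfsg CfsgLib.Char CfsgLib.Block CfsgLib.Char.BlichfeldtPi CfsgLib.Block.PRationalExtension
  CfsgLib.Block.PPrimeKernel

universe u

variable {G : Type u} [Group G] [Fintype G]

/-- A Galois conjugate of an irreducible character. -/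
noncomputable def galChar (τ : ℂ ≃+* ℂ) (χ : IrrCharacter G) : IrrCharacter G :=
  ⟨fun g => τ ((χ : G → ℂ) g), isIrr_galois τ χ⟩

theorem galChar_apply (τ : ℂ ≃+* ℂ) (χ : IrrCharacter G) (g : G) :
    (galChar τ χ : G → ℂ) g = τ ((χ : G → ℂ) g) := rfl

theorem galChar_one (τ : ℂ ≃+* ℂ) (χ : IrrCharacter G) :
    (galChar τ χ : G → ℂ) 1 = (χ : G → ℂ) 1 := by
  rw [galChar_apply, (Block.charDegree_eq χ).1, map_natCast]

theorem galChar_symm (τ : ℂ ≃+* ℂ) (χ : IrrCharacter G) : galChar τ.symm (galChar τ χ) = χ :=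
  Subtype.ext (funext fun g => τ.symm_apply_apply _)

variable {p : ℕ} {M : Ideal AlgInt} [M.IsMaximal]

/-- The principal block is stable under field automorphisms. -/
theorem galChar_mem_principalBlock [DecidableEq G] (hM : IsPModular p M) (τ : ℂ ≃+* ℂ)
    {χ : IrrCharacter G} (hχ : χ ∈ principalBlock M G) : galChar τ χ ∈ principalBlock M G := by
  classical
  have := Fintype.ofFinite (IrrCharacter G)
  have := Fintype.ofFinite (ConjClasses G)
  rw [mem_principalBlock_iff hM, omegaBar_regBar_eq_regN] at hχ ⊢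
  obtain ⟨k, hk, hτ⟩ := exists_powMap (G := G) τ
  -- the sum of the regular values is rational
  have hsum : ∀ ψ : IrrCharacter G, (Nat.card G : ℂ) * regInner p ψ (oneChar G) =
      ∑ x ∈ Finset.univ.filter (fun x : G => ¬ p ∣ orderOf x), (ψ : G → ℂ) x := fun ψ => by
    rw [card_mul_regInner]
    exact Finset.sum_congr rfl fun x _ => by simp [oneChar]
  have hfix : ∀ ψ : IrrCharacter G,
      τ (∑ x ∈ Finset.univ.filter (fun x : G => ¬ p ∣ orderOf x), (ψ : G → ℂ) x) =
        ∑ x ∈ Finset.univ.filter (fun x : G => ¬ p ∣ orderOf x), (ψ : G → ℂ) x := fun ψ => by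
    have hiff : ∀ x : G, p ∣ orderOf (x ^ k) ↔ p ∣ orderOf x := fun x => by
      rw [Nat.Coprime.orderOf_pow (Nat.Coprime.coprime_dvd_left (orderOf_dvd_natCard x) hk)]
    rw [map_sum]
    refine Finset.sum_nbij (fun x => x ^ k) (fun x hx => ?_) (fun x _ y _ h => ?_) (fun y hy => ?_)
      fun x _ => hτ _ (isCharacter_irr ψ) x
    · simpa [hiff x] using hx
    · exact (powCoprime hk).injective h
    · obtain ⟨x, rfl⟩ := (powCoprime hk).surjective y
      exact ⟨x, by simpa [powCoprime, hiff x] using hy, rfl⟩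
  obtain ⟨R, hR, hRres⟩ := exists_regN_lift (p := p) (M := M) χ (oneChar G)
  obtain ⟨R', hR', hRres'⟩ := exists_regN_lift (p := p) (M := M) (galChar τ χ) (oneChar G)
  have hRR : R' = R := by
    refine Subtype.ext (mul_right_cancel₀ (irr_one_ne_zero χ) ?_)
    rw [hsum] at hR hR'
    rw [hR, ← galChar_one τ χ, hR', ← hfix χ, map_sum]
    rfl
  rw [← hRres', hRR, hRres]
  exact hχ

/-- Values at involutions are integers of the parity of the degree. -/
theorem exists_half_invol (η : IrrCharacter G) {j : G} (hj : orderOf j = 2) :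
    ∃ r : ℂ, IsIntegral ℤ r ∧ (η : G → ℂ) j = (charDegree (η : G → ℂ) : ℂ) + 2 * r := by
  classical
  obtain ⟨d, ρ, -, hρ⟩ := η.2
  obtain ⟨b, μ, h1, -, h3⟩ := exists_eigen_data ρ j
  have hd : ((η : G → ℂ) 1) = ∑ i : Fin (Module.finrank ℂ (Fin d → ℂ)), (1 : ℂ) := by
    rw [← hρ, ← pow_zero j, h3]; simp
  have hv : ((η : G → ℂ) j) = ∑ i, μ i := by
    rw [← hρ, ← pow_one j, h3]; simp
  refine ⟨∑ i, if μ i = 1 then 0 else -1, IsIntegral.sum _ fun i _ => by
    split_ifs; exacts [isIntegral_zero, isIntegral_one.neg], ?_⟩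
  rw [← (Block.charDegree_eq η).1, hd, hv, Finset.mul_sum, ← Finset.sum_add_distrib]
  refine Finset.sum_congr rfl fun i _ => ?_
  rcases sq_eq_one_iff.1 (hj ▸ h1 i) with h | h <;> rw [h] <;> norm_num

/-- A sum over a set paired by a fixed-point-free involution preserving the summand. -/
theorem exists_double_of_pairing {α : Type*} [DecidableEq α] (s : Finset α) (π : α → α) (g : α → ℂ)
    (hmem : ∀ a ∈ s, π a ∈ s) (hne : ∀ a ∈ s, π a ≠ a) (hinv : ∀ a ∈ s, π (π a) = a)
    (hg : ∀ a ∈ s, g (π a) = g a) (hint : ∀ a ∈ s, IsIntegral ℤ (g a)) :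
    ∃ r : ℂ, IsIntegral ℤ r ∧ ∑ a ∈ s, g a = 2 * r := by
  induction s using Finset.strongInduction with
  | _ s ih =>
    rcases s.eq_empty_or_nonempty with rfl | ⟨a, ha⟩
    · exact ⟨0, isIntegral_zero, by simp⟩
    have hpair : ({a, π a} : Finset α) ⊆ s := by
      intro x hx
      rcases Finset.mem_insert.1 hx with rfl | hx
      · exact ha
      · rw [Finset.mem_singleton.1 hx]; exact hmem a ha
    obtain ⟨r, hr, hsum⟩ := ih (s \ {a, π a}) (Finset.sdiff_ssubset hpair ⟨a, by simp⟩)
      (fun x hx => by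
        simp only [Finset.mem_sdiff, Finset.mem_insert, Finset.mem_singleton, not_or] at hx ⊢
        refine ⟨hmem x hx.1, fun h => hx.2.2 ?_, fun h => hx.2.1 ?_⟩
        · rw [← hinv x hx.1, h]
        · rw [← hinv x hx.1, h, hinv a ha])
      (fun x hx => hne x (Finset.sdiff_subset hx)) (fun x hx => hinv x (Finset.sdiff_subset hx))
      (fun x hx => hg x (Finset.sdiff_subset hx)) (fun x hx => hint x (Finset.sdiff_subset hx))
    refine ⟨r + g a, hr.add (hint a ha), ?_⟩
    rw [← Finset.sum_sdiff hpair, hsum, Finset.sum_pair (hne a ha).symm, hg a ha]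
    ring

/-- **The moved character.** -/
theorem galChar_ne_of_not_mem_principal [DecidableEq G] (hM : IsPModular p M) (h2 : p ≠ 2)
    {χ : IrrCharacter G} (hχ : χ ∉ principalBlock M G) {y J : G}
    (hy : ∃ k : ℕ, orderOf y = p ^ k) (hJ : orderOf J = 2) (hyJ : Commute y J)
    {e : ℤ} (he : Odd e) (hval : (χ : G → ℂ) (y * J) = e)
    (τ : ℂ ≃+* ℂ) (hτ : ∀ z : ℂ, z ^ orderOf y = 1 → τ z = z)
    (hH : ∀ η : IrrCharacter (Subgroup.centralizer ({y} : Set G)),
      η ∉ principalBlock M (Subgroup.centralizer ({y} : Set G)) →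
      Odd (charDegree (η : Subgroup.centralizer ({y} : Set G) → ℂ)) →
      (∃ c, τ ((η : Subgroup.centralizer ({y} : Set G) → ℂ) c) ≠ (η : _ → ℂ) c) ∧
        ∀ c, τ (τ ((η : Subgroup.centralizer ({y} : Set G) → ℂ) c)) = (η : _ → ℂ) c) :
    galChar τ χ ≠ χ := by
  classical
  intro hfix
  set C := Subgroup.centralizer ({y} : Set G) with hCdef
  letI := Fintype.ofFinite C
  haveI := Fintype.ofFinite (IrrCharacter C)
  haveI := Fact.mk hM.1
  have hC : ∀ t : G, t ∈ C ↔ Commute t y := fun t => Subgroup.mem_centralizer_singleton_iff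
  have hC' : ∀ t : C, Commute (t : G) y := fun t => (hC t).1 t.2
  set J' : C := ⟨J, (hC J).2 hyJ.symm⟩ with hJ'def
  have hJ'o : orderOf J' = 2 := by rw [← Subgroup.orderOf_coe]; exact hJ
  have hJreg : ¬ p ∣ orderOf J' := by
    rw [hJ'o]; exact fun h => h2 ((Nat.prime_dvd_prime_iff_eq hM.1 Nat.prime_two).1 h)
  set y' : C := ⟨y, (hC y).2 (Commute.refl y)⟩ with hy'def
  have hy'c : y' ∈ Subgroup.center C :=
    Subgroup.mem_center_iff.2 fun c => Subtype.ext (hC' c).eq
  have hy'n : y' ^ orderOf y = 1 := Subtype.ext (by simp [hy'def, pow_orderOf_eq_one])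
  set f := secFun y C χ with hf
  have hfc : IsClassFunction C f := isClassFunction_secFun hC' χ
  set c : IrrCharacter C → ℂ := fun η => classInner f (η : C → ℂ) with hc
  have hexp := congrFun (Char.classFun_expand hfc) J'
  simp only [Finset.sum_apply, Pi.smul_apply, smul_eq_mul] at hexp
  -- the coefficients: a root of unity times a multiplicity
  have hcoef : ∀ η : IrrCharacter C, ∃ (ω : ℂ) (m : ℕ), ω ^ orderOf y = 1 ∧ c η = ω * m := by
    intro η
    obtain ⟨ω, hω, hmul⟩ := Cyclic.irr_central_mul hy'c hy'n η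
    obtain ⟨l, hl⟩ := exists_list_irr (isCharacter_comp (isCharacter_irr χ) C.subtype)
    replace hl : (χ : G → ℂ) ∘ C.subtype = (l.map fun θ : IrrCharacter C => (θ : C → ℂ)).sum :=
      hl.trans (congrArg List.sum (by
        clear hl; induction l with | nil => rfl | cons a l ih => exact congrArg (List.cons _) ih))
    obtain ⟨m, hm, -⟩ := exists_nat_classInner_list η l
    refine ⟨ω, m, hω, ?_⟩
    rw [← hl] at hm
    rw [← hm, hc]
    simp only [classInner]
    rw [mul_left_comm]
    congr 1
    rw [Finset.mul_sum]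
    refine Fintype.sum_equiv (Equiv.mulLeft y') _ _ fun z => ?_
    simp only [Equiv.coe_mulLeft, Function.comp_apply, Subgroup.coe_subtype, Subgroup.coe_mul, hf,
      secFun, hmul z, map_mul]
    have hω0 : ω * conj ω = 1 := by
      rw [conj_eq_inv_of_pow_eq_one (orderOf_pos y).ne' hω, mul_inv_cancel₀]
      rintro rfl
      simp [zero_pow (orderOf_pos y).ne'] at hω
    linear_combination (-((χ : G → ℂ) (y * (z : G)) * conj ((η : C → ℂ) z))) * hω0
  have hcint : ∀ η : IrrCharacter C, IsIntegral ℤ (c η) := fun η => by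
    obtain ⟨ω, m, hω, hcm⟩ := hcoef η
    rw [hcm]
    exact (Char.isIntegral_of_pow_eq_one (orderOf_pos y).ne' hω).mul
      (by simpa using (isIntegral_algebraMap (R := ℤ) (A := ℂ) (x := (m : ℤ))))
  have hcτ : ∀ η : IrrCharacter C, c (galChar τ η) = c η := by
    intro η
    obtain ⟨ω, m, hω, hcm⟩ := hcoef η
    have h1 : τ (c η) = c η := by rw [hcm, map_mul, map_natCast, hτ ω hω]
    rw [← h1, hc]
    simp only [classInner, map_mul, map_inv₀, map_natCast, map_sum]
    congr 1
    refine Finset.sum_congr rfl fun z _ => ?_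
    rw [← Char.irr_inv η z, ← Char.irr_inv (galChar τ η) z, galChar_apply]
    congr 1
    exact (congrFun (congrArg Subtype.val hfix) (y * (z : G))).symm
  -- the principal part vanishes
  set b0 := principalBlock M C with hb0
  obtain ⟨B, hB⟩ := exists_induced_centralizer hM hy hC (isPBlock_principalBlock (M := M) (G := C))
  have hBp : B = principalBlock M G := (isInducedBlock_principal_iff hM hB).2 rfl
  have hzero : ∑ η ∈ Finset.univ.filter (· ∈ b0), c η * (η : C → ℂ) J' = 0 := by
    have h := blockPart_secFun_eq_zero hM hy hC hB (hBp ▸ hχ) hJreg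
    rwa [blockPart_eq] at h
  have hstab : ∀ η : IrrCharacter C, η ∉ b0 → galChar τ η ∉ b0 := fun η hη h => hη (by
    have := galChar_mem_principalBlock hM τ.symm h
    rwa [galChar_symm] at this)
  have hval' : (χ : G → ℂ) (y * J) =
      ∑ η ∈ Finset.univ.filter (· ∉ b0), c η * (η : C → ℂ) J' := by
    rw [show (χ : G → ℂ) (y * J) = f J' from rfl, hexp,
      ← Finset.sum_filter_add_sum_filter_not Finset.univ (· ∈ b0), hzero, zero_add]
  -- odd degrees pair off
  set S := Finset.univ.filter (· ∉ b0) with hS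
  rw [← Finset.sum_filter_add_sum_filter_not S (fun η : IrrCharacter C => Odd (charDegree (η : C → ℂ)))] at hval'
  have hJint : ∀ η : IrrCharacter C, IsIntegral ℤ ((η : C → ℂ) J') := fun η =>
    isCharacter_isIntegral (isCharacter_irr η) J'
  have hJτ : ∀ η : IrrCharacter C, (galChar τ η : C → ℂ) J' = (η : C → ℂ) J' := fun η => by
    obtain ⟨k, hk, hpow⟩ := exists_powMap (G := C) τ
    rw [galChar_apply, hpow _ (isCharacter_irr η)]
    congr 1
    have hko : k % 2 = 1 := by
      rcases Nat.mod_two_eq_zero_or_one k with h | h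
      · exact absurd (Nat.dvd_gcd (hJ'o ▸ orderOf_dvd_natCard J') (Nat.dvd_of_mod_eq_zero h))
          (by rw [hk]; norm_num)
      · exact h
    rw [← pow_mod_orderOf, hJ'o, hko, pow_one]
  obtain ⟨r1, hr1, hs1⟩ := exists_double_of_pairing
    (S.filter fun η : IrrCharacter C => Odd (charDegree (η : C → ℂ))) (galChar τ)
    (fun η => c η * (η : C → ℂ) J')
    (fun η hη => by
      simp only [hS, Finset.mem_filter, Finset.mem_univ, true_and] at hη ⊢
      refine ⟨hstab η hη.1, ?_⟩
      rw [charDegree, galChar_one]; exact hη.2)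
    (fun η hη h => by
      simp only [hS, Finset.mem_filter, Finset.mem_univ, true_and] at hη
      obtain ⟨z, hz⟩ := (hH η hη.1 hη.2).1
      exact hz (congrFun (congrArg Subtype.val h) z))
    (fun η hη => by
      simp only [hS, Finset.mem_filter, Finset.mem_univ, true_and] at hη
      exact Subtype.ext (funext fun z => (hH η hη.1 hη.2).2 z))
    (fun η _ => by simp only [hcτ, hJτ])
    (fun η _ => (hcint η).mul (hJint η))
  choose hr hrint hrJ using fun η : IrrCharacter C => exists_half_invol η hJ'o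
  set r2 : ℂ := ∑ η ∈ S.filter (fun η : IrrCharacter C => ¬ Odd (charDegree (η : C → ℂ))),
    c η * ((charDegree (η : C → ℂ) / 2 : ℕ) + hr η) with hr2
  have hr2i : IsIntegral ℤ r2 := IsIntegral.sum _ fun η _ => (hcint η).mul
    (IsIntegral.add (by
      generalize charDegree (η : C → ℂ) / 2 = d
      simpa using (isIntegral_algebraMap (R := ℤ) (A := ℂ) (x := (d : ℤ)))) (hrint η))
  have hs2 : ∑ η ∈ S.filter (fun η : IrrCharacter C => ¬ Odd (charDegree (η : C → ℂ))), c η * (η : C → ℂ) J' =
      2 * r2 := by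
    rw [hr2, Finset.mul_sum]
    refine Finset.sum_congr rfl fun η hη => ?_
    obtain ⟨d, hd⟩ := Nat.not_odd_iff_even.1 (Finset.mem_filter.1 hη).2
    rw [hrJ η, hd, show (d + d) / 2 = d by omega]
    push_cast
    ring
  rw [hs1, hs2, hval, ← mul_add] at hval'
  obtain ⟨m, hm⟩ : ∃ m : ℤ, r1 + r2 = m :=
    ThreeTI.int_of_rat (hr1.add hr2i) (b := 2) (a := e) two_ne_zero (by push_cast; exact hval'.symm)
  rw [hm] at hval'
  have : e = 2 * m := by exact_mod_cast hval'
  exact Int.not_odd_iff_even.2 ⟨m, by omega⟩ he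

end CfsgLib.GW
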