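import Cfsg.Agent.Lib.Fusion.Transfer
import Cfsg.Agent.Lib.Coprime.Core
import Cfsg.Prelude.Def_Amalgam

/-!
# Groups generated by `p`-elements with a cyclic Sylow `p`-subgroup
-/

set_option autoImplicit false
set_option linter.style.haveILetI false
set_option linter.unusedSectionVars false

namespace CfsgLib.GW

open scoped commutatorElement

variable {G : Type*} [Group G] [Finite G] {p : ℕ} [Fact p.Prime]

/-- generated by `p`-elements, elementwise -/
theorem normal_eq_top_of_gen (hgen : Cfsg.pElementClosure p (⊤ : Subgroup G) = ⊤) {N : Subgroup G}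
    (h : ∀ x : G, (∃ k : ℕ, orderOf x = p ^ k) → x ∈ N) : N = ⊤ :=
  top_unique (hgen ▸ (Subgroup.closure_le N).2 fun x hx => h x hx.2)

/-- the image of a group generated by `p`-elements -/
theorem gen_map {H : Type*} [Group H] (f : G →* H) (hf : Function.Surjective f)
    (hgen : Cfsg.pElementClosure p (⊤ : Subgroup G) = ⊤) : Cfsg.pElementClosure p (⊤ : Subgroup H) = ⊤ := by
  refine top_unique ?_
  have h : (⊤ : Subgroup G) ≤ (Cfsg.pElementClosure p (⊤ : Subgroup H)).comap f := by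
    refine (normal_eq_top_of_gen hgen fun x hx => ?_).ge
    obtain ⟨k, hk⟩ := hx
    obtain ⟨i, -, hi⟩ := (Nat.dvd_prime_pow Fact.out).1 (hk ▸ orderOf_map_dvd f x)
    exact Subgroup.subset_closure ⟨Subgroup.mem_top _, i, hi⟩
  intro y _
  obtain ⟨x, rfl⟩ := hf y
  exact h (Subgroup.mem_top x)

/-- a normal subgroup of index prime to `p` -/
theorem eq_top_of_sylow_le (hgen : Cfsg.pElementClosure p (⊤ : Subgroup G) = ⊤) {N : Subgroup G} [N.Normal]
    (P : Sylow p G) (hP : (P : Subgroup G) ≤ N) : N = ⊤ := by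
  refine normal_eq_top_of_gen hgen fun x ⟨k, hk⟩ => ?_
  have hx : IsPGroup p (Subgroup.zpowers x) := IsPGroup.of_card (n := k) (by rw [Nat.card_zpowers, hk])
  obtain ⟨Q, hQ⟩ := hx.exists_le_sylow
  obtain ⟨g, rfl⟩ := MulAction.exists_smul_eq G P Q
  obtain ⟨y, hy, hyx⟩ := hQ (Subgroup.mem_zpowers x)
  exact hyx ▸ ‹N.Normal›.conj_mem y (hP hy) g

/-- the binomial expansion up to the linear term -/
theorem sq_dvd_binom (x : ℤ) : ∀ q : ℕ, x ^ 2 ∣ (1 + x) ^ q - 1 - (q : ℤ) * x
  | 0 => by simp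
  | q + 1 => by
    obtain ⟨u, hu⟩ := sq_dvd_binom x q
    refine ⟨u * (1 + x) + (q : ℤ), ?_⟩
    push_cast
    rw [pow_succ]
    linear_combination (1 + x) * hu

/-- automorphisms of a cyclic group commute -/
theorem aut_comm_of_cyclic {H : Type*} [Group H] [IsCyclic H] (σ τ : MulAut H) : σ * τ = τ * σ := by
  obtain ⟨a, ha⟩ := MonoidHom.map_cyclic σ.toMonoidHom
  obtain ⟨b, hb⟩ := MonoidHom.map_cyclic τ.toMonoidHom
  refine MulEquiv.ext fun x => ?_
  show σ.toMonoidHom (τ.toMonoidHom x) = τ.toMonoidHom (σ.toMonoidHom x)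
  rw [ha, hb, hb, ha, ← zpow_mul, ← zpow_mul, mul_comm]

/-- a cyclic Sylow subgroup that is not centralised by its normaliser -/
theorem exists_comm_generator (P : Sylow p G) [IsCyclic (P : Subgroup G)]
    (h : ¬ Cfsg.HasNormalPComplement p G) :
    ∃ (n : G) (g : G), g ∈ (P : Subgroup G) ∧ (∀ x ∈ (P : Subgroup G), n * x * n⁻¹ ∈ (P : Subgroup G)) ∧
      (P : Subgroup G) = Subgroup.zpowers (n * g * n⁻¹ * g⁻¹) := by
  classical
  have hn0 : ¬ Subgroup.normalizer ((P : Subgroup G) : Set G) ≤ Subgroup.centralizer ((P : Subgroup G) : Set G) :=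
    fun hh => h (CfsgLib.Fusion.hasNormalPComplement_of_normalizer_le_centralizer P hh)
  obtain ⟨g0, hg0⟩ := IsCyclic.exists_generator (α := (P : Subgroup G))
  -- a normalising element of order prime to `p` moves the generator
  obtain ⟨n, hn, hnp, hng⟩ : ∃ n ∈ Subgroup.normalizer ((P : Subgroup G) : Set G), ¬ p ∣ orderOf n ∧
      n * g0.1 * n⁻¹ ≠ g0.1 := by
    by_contra! hh
    refine hn0 fun m hm => ?_
    have hPc : (P : Subgroup G) ≤ Subgroup.centralizer ((P : Subgroup G) : Set G) := fun x hx =>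
      Subgroup.mem_centralizer_iff.2 fun y hy => congrArg Subtype.val
        (IsCyclic.commGroup.mul_comm (⟨y, hy⟩ : (P : Subgroup G)) ⟨x, hx⟩)
    obtain ⟨k, r, hr, hkr⟩ := Nat.exists_eq_pow_mul_and_not_dvd (orderOf_pos m).ne' p (Fact.out : p.Prime).ne_one
    have hcop : (p ^ k).Coprime r := Nat.Coprime.pow_left k ((Fact.out : p.Prime).coprime_iff_not_dvd.2 hr)
    have hgcd := Nat.gcd_eq_gcd_ab (p ^ k) r
    rw [hcop] at hgcd
    have hm1 : m = (m ^ (p ^ k)) ^ (Nat.gcdA (p ^ k) r) * (m ^ r) ^ (Nat.gcdB (p ^ k) r) := by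
      rw [← zpow_natCast, ← zpow_natCast, ← zpow_mul, ← zpow_mul, ← zpow_add, ← hgcd]
      simp
    have h1 : m ^ (p ^ k) ∈ Subgroup.centralizer ((P : Subgroup G) : Set G) := by
      have e := hh (m ^ (p ^ k)) (pow_mem hm _) (by
        rw [orderOf_pow_of_dvd (pow_ne_zero k (Fact.out : p.Prime).ne_zero) ⟨r, hkr⟩, hkr,
          Nat.mul_div_cancel_left _ (pow_pos (Fact.out : p.Prime).pos k)]
        exact hr)
      refine Subgroup.mem_centralizer_iff.2 fun y hy => ?_
      obtain ⟨i, hi⟩ := Subgroup.mem_zpowers_iff.1 (hg0 ⟨y, hy⟩)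
      have hyi : y = g0.1 ^ i := (congrArg Subtype.val hi).symm
      rw [hyi]
      exact (show Commute (m ^ (p ^ k)) g0.1 from mul_inv_eq_iff_eq_mul.1 e).zpow_right i |>.symm.eq
    have h2 : m ^ r ∈ (P : Subgroup G) := by
      have hq : IsPGroup p (Subgroup.zpowers (m ^ r)) := IsPGroup.of_card (n := k) (by
        rw [Nat.card_zpowers, orderOf_pow_of_dvd (by rintro rfl; exact hr (dvd_zero p)) ⟨p ^ k, by rw [hkr, mul_comm]⟩,
          hkr, Nat.mul_div_cancel _ (Nat.pos_of_ne_zero (by rintro rfl; exact hr (dvd_zero p)))])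
      have hle : Subgroup.zpowers (m ^ r) ≤ Subgroup.normalizer ((P : Subgroup G) : Set G) :=
        Subgroup.zpowers_le.2 (pow_mem hm _)
      have hsup := (P.3 (hq.to_sup_of_normal_right' P.2 hle) le_sup_right)
      exact hsup ▸ Subgroup.mem_sup_left (Subgroup.mem_zpowers (m ^ r))
    rw [hm1]
    exact mul_mem (zpow_mem h1 _) (zpow_mem (hPc h2) _)
  have hconj : ∀ x ∈ (P : Subgroup G), n * x * n⁻¹ ∈ (P : Subgroup G) := fun x hx =>
    (Subgroup.mem_normalizer_iff.1 hn x).1 hx
  refine ⟨n, g0.1, g0.2, hconj, ?_⟩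
  set c : (P : Subgroup G) := ⟨n * g0.1 * n⁻¹ * g0.1⁻¹, mul_mem (hconj _ g0.2) (inv_mem g0.2)⟩ with hc
  -- `c = g0 ^ (i - 1)` with `i - 1` prime to `p`
  obtain ⟨i, hi⟩ := Subgroup.mem_zpowers_iff.1 (hg0 ⟨n * g0.1 * n⁻¹, hconj _ g0.2⟩)
  have hci : c = g0 ^ (i - 1) := by
    refine Subtype.ext ?_
    show n * g0.1 * n⁻¹ * g0.1⁻¹ = ((g0 ^ (i - 1) : (P : Subgroup G)) : G)
    rw [zpow_sub, zpow_one, hi]
    rfl
  obtain ⟨e, he⟩ := (P.2).exists_card_eq
  have hord : orderOf g0 = p ^ e := by rw [← Nat.card_zpowers, (Subgroup.eq_top_iff' _).2 hg0,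
    Nat.card_congr Subgroup.topEquiv.toEquiv, he]
  have hndvd : ¬ (p : ℤ) ∣ i - 1 := by
    intro hdvd
    -- conjugation by `n` is then a `p`-power automorphism
    have hpow : ∀ j : ℕ, n ^ j * g0.1 * (n ^ j)⁻¹ = g0.1 ^ (i ^ j) := by
      intro j
      induction j with
      | zero => simp
      | succ j ih =>
        have hi' : n * g0.1 * n⁻¹ = g0.1 ^ i := (congrArg Subtype.val hi).symm
        rw [show n ^ (j + 1) * g0.1 * (n ^ (j + 1))⁻¹ = n * (n ^ j * g0.1 * (n ^ j)⁻¹) * n⁻¹ by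
          rw [pow_succ']; group, ih, show n * g0.1 ^ (i ^ j) * n⁻¹ = MulAut.conj n (g0.1 ^ (i ^ j)) from rfl,
          map_zpow, MulAut.conj_apply, hi', ← zpow_mul, pow_succ']
    have hpe : ((p : ℤ) ^ e) ∣ i ^ (p ^ e) - 1 := by
      have key : ∀ j : ℕ, ((p : ℤ) ^ (j + 1)) ∣ i ^ (p ^ j) - 1 := by
        intro j
        induction j with
        | zero => simpa using hdvd
        | succ j ih =>
          obtain ⟨t, ht⟩ := ih
          rw [pow_succ p j, pow_mul, show i ^ p ^ j = 1 + (p : ℤ) ^ (j + 1) * t by linarith]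
          obtain ⟨u, hu⟩ := sq_dvd_binom ((p : ℤ) ^ (j + 1) * t) p
          refine ⟨t + (p : ℤ) ^ j * t ^ 2 * u, ?_⟩
          rw [show (p : ℤ) ^ (j + 1 + 1) = (p : ℤ) ^ j * p * p by ring]
          rw [show (p : ℤ) ^ (j + 1) = (p : ℤ) ^ j * p by ring] at hu ⊢
          linear_combination hu
      exact (pow_dvd_pow _ (Nat.le_succ e)).trans (key e)
    have h1 : n ^ p ^ e * g0.1 * (n ^ p ^ e)⁻¹ = g0.1 := by
      rw [hpow]
      have : g0.1 ^ (i ^ p ^ e - 1) = 1 := by
        obtain ⟨t, ht⟩ := hpe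
        rw [ht, zpow_mul, show (p : ℤ) ^ e = ((p ^ e : ℕ) : ℤ) by push_cast; ring, zpow_natCast, ← hord,
          ← Subgroup.orderOf_coe, pow_orderOf_eq_one, one_zpow]
      rw [show i ^ p ^ e = (i ^ p ^ e - 1) + 1 by ring, zpow_add, this, one_mul, zpow_one]
    have hcom : Commute (n ^ p ^ e) g0.1 := mul_inv_eq_iff_eq_mul.1 h1
    obtain ⟨j, hj⟩ := exists_pow_eq_self_of_coprime
      ((Nat.Coprime.pow_left e ((Fact.out : p.Prime).coprime_iff_not_dvd.2 hnp)) : (p ^ e).Coprime (orderOf n))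
    exact hng (mul_inv_eq_iff_eq_mul.2 (hj ▸ hcom.pow_left j).eq)
  have hcop : (i - 1).natAbs.Coprime (p ^ e) := Nat.Coprime.pow_right e
    (((Fact.out : p.Prime).coprime_iff_not_dvd.2 fun hd => hndvd (Int.natCast_dvd.2 hd)).symm)
  have hgen : g0 ∈ Subgroup.zpowers c := by
    rw [← hord] at hcop
    obtain ⟨j, hj⟩ := exists_pow_eq_self_of_coprime hcop
    have hn' : g0 ^ (i - 1).natAbs ∈ Subgroup.zpowers c := by
      rcases Int.natAbs_eq (i - 1) with e' | e' <;> rw [e'] at hci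
      · rw [zpow_natCast] at hci
        exact hci ▸ Subgroup.mem_zpowers c
      · rw [zpow_neg, zpow_natCast] at hci
        exact inv_mem_iff.1 (hci ▸ Subgroup.mem_zpowers c)
    exact hj ▸ pow_mem hn' j
  refine le_antisymm (fun x hx => ?_) (Subgroup.zpowers_le.2 c.2)
  obtain ⟨j, hj⟩ := Subgroup.mem_zpowers_iff.1
    (show (⟨x, hx⟩ : (P : Subgroup G)) ∈ Subgroup.zpowers c from
      (Subgroup.zpowers_le.2 hgen) (hg0 _))
  exact ⟨j, congrArg Subtype.val hj⟩

/-- the Sylow subgroup lies in the derived group -/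
theorem commutator_eq_top_of_cyclic (hgen : Cfsg.pElementClosure p (⊤ : Subgroup G) = ⊤) (P : Sylow p G)
    [IsCyclic (P : Subgroup G)] (h : ¬ Cfsg.HasNormalPComplement p G) : commutator G = ⊤ := by
  obtain ⟨n, g, -, -, hP⟩ := exists_comm_generator P h
  refine eq_top_of_sylow_le hgen P (hP ▸ Subgroup.zpowers_le.2 ?_)
  rw [← commutatorElement_def]
  exact Subgroup.commutator_mem_commutator (Subgroup.mem_top n) (Subgroup.mem_top g)

/-- with trivial `p'`-core the group is simple -/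
theorem isSimple_of_cyclic (hgen : Cfsg.pElementClosure p (⊤ : Subgroup G) = ⊤) (P : Sylow p G)
    [IsCyclic (P : Subgroup G)] (h : ¬ Cfsg.HasNormalPComplement p G) (hO : Cfsg.pPrimeCore p G = ⊥) :
    IsSimpleGroup G := by
  classical
  haveI : Nontrivial G := by
    by_contra hne
    rw [not_nontrivial_iff_subsingleton] at hne
    exact h ⟨P, ⊤, inferInstance, by
      have hb : (P : Subgroup G) = ⊥ := Subsingleton.elim _ _
      rw [hb]; exact Subgroup.isComplement'_top_bot⟩
  refine ⟨fun N hN => or_iff_not_imp_left.2 fun hN0 => ?_⟩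
  haveI := hN
  refine eq_top_of_sylow_le hgen P ?_
  obtain ⟨n, g, hg, hconj, hP⟩ := exists_comm_generator P h
  have hpN : p ∣ Nat.card N := by
    by_contra hd
    exact hN0 (le_bot_iff.1 (hO ▸ CfsgLib.Coprime.le_pPrimeCore_of_not_dvd Fact.out hd))
  by_cases hNp : IsPGroup p N
  · -- a normal `p`-subgroup would be central
    exfalso
    obtain ⟨x, hx⟩ := exists_prime_orderOf_dvd_card' p hpN
    rw [← Subgroup.orderOf_coe] at hx
    obtain ⟨Q, hQ⟩ := hNp.exists_le_sylow
    obtain ⟨u, hu⟩ := MulAction.exists_smul_eq G Q P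
    have hNP : N ≤ (P : Subgroup G) := fun y hy => by
      rw [← hu, Sylow.coe_subgroup_smul]
      exact ⟨u⁻¹ * y * u, hQ (by simpa using hN.conj_mem y hy u⁻¹), by
        show u * (u⁻¹ * y * u) * u⁻¹ = y
        group⟩
    haveI : IsCyclic N := isCyclic_of_injective _ (Subgroup.inclusion_injective hNP)
    have hcomm : commutator G ≤ Subgroup.centralizer (N : Set G) := by
      refine Subgroup.commutator_le.2 fun a _ b _ => ?_
      have hab : ∀ v : N, (MulAut.conjNormal ⁅a, b⁆ : MulAut N) v = v := fun v => by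
        rw [map_commutatorElement, commutatorElement_eq_one_iff_mul_comm.2 (aut_comm_of_cyclic _ _)]
        rfl
      refine Subgroup.mem_centralizer_iff.2 fun y hy => ?_
      have h1 := congrArg Subtype.val (hab ⟨y, hy⟩)
      rw [MulAut.conjNormal_apply] at h1
      exact (mul_inv_eq_iff_eq_mul.1 h1).symm
    rw [commutator_eq_top_of_cyclic hgen P h, top_le_iff] at hcomm
    -- `n` centralises `x`, but moves every nontrivial element of `P`
    have hxc : n * (x : G) = (x : G) * n := (Subgroup.mem_centralizer_iff.1 (hcomm ▸ Subgroup.mem_top n) _ x.2).symm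
    haveI : IsCyclic (P : Subgroup G) := inferInstance
    let φ : (P : Subgroup G) →* (P : Subgroup G) := MonoidHom.mk'
      (fun v => ⟨n * v.1 * n⁻¹ * v.1⁻¹, mul_mem (hconj v.1 v.2) (inv_mem v.2)⟩) fun v w => Subtype.ext (by
        have hcm : v.1⁻¹ * (n * w.1 * n⁻¹ * w.1⁻¹) = (n * w.1 * n⁻¹ * w.1⁻¹) * v.1⁻¹ := congrArg Subtype.val
          (IsCyclic.commGroup.mul_comm v⁻¹ (⟨n * w.1 * n⁻¹ * w.1⁻¹, mul_mem (hconj w.1 w.2) (inv_mem w.2)⟩ :
            (P : Subgroup G)))
        show n * (v.1 * w.1) * n⁻¹ * (v.1 * w.1)⁻¹ = n * v.1 * n⁻¹ * v.1⁻¹ * (n * w.1 * n⁻¹ * w.1⁻¹)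
        rw [mul_assoc (n * v.1 * n⁻¹), hcm]
        group)
    have hsurj : Function.Surjective φ := by
      intro y
      have hy : (y : G) ∈ Subgroup.zpowers (n * g * n⁻¹ * g⁻¹) := by rw [← hP]; exact y.2
      obtain ⟨j, hj⟩ := Subgroup.mem_zpowers_iff.1 hy
      refine ⟨⟨g, hg⟩ ^ j, ?_⟩
      rw [map_zpow]
      exact Subtype.ext hj
    have hinj := Finite.injective_iff_surjective.2 hsurj
    have hx1 : φ ⟨x, hNP x.2⟩ = φ 1 := by
      rw [map_one]
      refine Subtype.ext ?_
      show n * (x : G) * n⁻¹ * (x : G)⁻¹ = 1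
      rw [hxc, mul_inv_cancel_right, mul_inv_cancel]
    have hx0 := congrArg Subtype.val (hinj hx1)
    change (x : G) = 1 at hx0
    rw [hx0, orderOf_one] at hx
    exact (Fact.out : p.Prime).ne_one hx.symm
  · -- otherwise `N P` has no normal complement, so `P = [P, N_N(P)]`
    set H := N ⊔ (P : Subgroup G)
    set Q : Sylow p H := P.subtype le_sup_right
    haveI : IsCyclic (Q : Subgroup H) :=
      ((MulEquiv.subgroupCongr (P.coe_subtype (le_sup_right : (P : Subgroup G) ≤ H))).trans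
        (Subgroup.subgroupOfEquivOfLe le_sup_right)).isCyclic.2 inferInstance
    by_contra hPN
    refine hNp ?_
    by_cases hHc : Cfsg.HasNormalPComplement p H
    · obtain ⟨R, K, hK, hKR⟩ := hHc
      haveI := hK
      have hKcard : ¬ p ∣ Nat.card K := by rw [← hKR.index_eq_card]; exact R.not_dvd_index
      -- the complement lies in `N` and is trivial
      have hKN : K.map H.subtype ≤ N := by
        rintro _ ⟨y, hy, rfl⟩
        obtain ⟨a, ha, b, hb, hab⟩ := Subgroup.mem_sup_of_normal_left.1 y.2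
        have hnd : ¬ p ∣ orderOf (y : G) := fun hd => hKcard (hd.trans
          (by rw [Subgroup.orderOf_coe]; exact Subgroup.orderOf_dvd_natCard K hy))
        rw [← QuotientGroup.eq_one_iff, ← QuotientGroup.mk'_apply]
        obtain ⟨k, hk⟩ := P.2 ⟨b, hb⟩
        have hb1 : QuotientGroup.mk' N (y : G) = QuotientGroup.mk' N b := by
          rw [← hab, map_mul, show QuotientGroup.mk' N a = 1 from (QuotientGroup.eq_one_iff a).2 ha, one_mul]
        refine orderOf_eq_one_iff.1 (Nat.eq_one_of_dvd_coprimes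
          (Nat.Coprime.pow_left k ((Fact.out : p.Prime).coprime_iff_not_dvd.2 hnd)) ?_
          (orderOf_map_dvd _ _))
        show orderOf (QuotientGroup.mk' N (y : G)) ∣ _
        rw [hb1]
        refine orderOf_dvd_of_pow_eq_one ?_
        rw [← map_pow, show b ^ p ^ k = 1 from congrArg Subtype.val hk, map_one]
      haveI : ((K.map H.subtype).subgroupOf N).Normal := by
        refine ⟨fun v hv u => ?_⟩
        rw [Subgroup.mem_subgroupOf] at hv ⊢
        obtain ⟨y, hy, hyv⟩ := hv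
        exact ⟨⟨(u : G), Subgroup.mem_sup_left u.2⟩ * y * ⟨(u : G), Subgroup.mem_sup_left u.2⟩⁻¹,
          hK.conj_mem y hy _, by simp [← hyv]⟩
      have hON : Cfsg.pPrimeCore p N = ⊥ := by
        have h1 := CfsgLib.Coprime.pPrimeCore_map_subtype_eq (p := p) Fact.out N
        rw [hO, bot_inf_eq] at h1
        exact (Subgroup.map_eq_bot_iff_of_injective _ N.subtype_injective).1 h1
      have hKbot : (K.map H.subtype).subgroupOf N = ⊥ := by
        refine le_bot_iff.1 (hON ▸ CfsgLib.Coprime.le_pPrimeCore_of_not_dvd Fact.out ?_)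
        rw [Nat.card_congr (Subgroup.subgroupOfEquivOfLe hKN).toEquiv,
          Subgroup.card_map_of_injective H.subtype_injective]
        exact hKcard
      have hK0 : K = ⊥ := by
        rw [Subgroup.subgroupOf_eq_bot] at hKbot
        exact (Subgroup.map_eq_bot_iff_of_injective _ H.subtype_injective).1
          (le_bot_iff.1 (hKbot le_rfl hKN))
      have hHp : IsPGroup p H := by
        refine R.2.of_equiv ((MulEquiv.subgroupCongr ?_).trans Subgroup.topEquiv)
        rw [← Subgroup.index_eq_one, hKR.index_eq_card, hK0, Subgroup.card_bot]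
      exact hHp.to_le le_sup_left
    · exfalso
      obtain ⟨m, g', hg', hconj', hQ⟩ := exists_comm_generator Q hHc
      refine hPN fun x hx => ?_
      have hxQ : (⟨x, Subgroup.mem_sup_right hx⟩ : H) ∈ (Q : Subgroup H) := hx
      rw [hQ] at hxQ
      obtain ⟨j, hj⟩ := Subgroup.mem_zpowers_iff.1 hxQ
      have hxe : x = ((m * g' * m⁻¹ * g'⁻¹ : H) : G) ^ j := by
        rw [← SubgroupClass.coe_zpow, hj]
      rw [hxe]
      refine zpow_mem ?_ j
      -- the commutator is trivial modulo `N`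
      obtain ⟨a, ha, b, hb, hab⟩ := Subgroup.mem_sup_of_normal_left.1 m.2
      rw [← QuotientGroup.eq_one_iff, ← QuotientGroup.mk'_apply]
      simp only [Subgroup.coe_mul, InvMemClass.coe_inv, map_mul, map_inv]
      rw [← hab, map_mul, show QuotientGroup.mk' N a = 1 from (QuotientGroup.eq_one_iff a).2 ha, one_mul]
      have hg'P : (g' : G) ∈ (P : Subgroup G) := hg'
      have hbc : b * (g' : G) = (g' : G) * b := congrArg Subtype.val
        (IsCyclic.commGroup.mul_comm (⟨b, hb⟩ : (P : Subgroup G)) ⟨(g' : G), hg'P⟩)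
      rw [← map_inv, ← map_inv, ← map_mul, ← map_mul, ← map_mul, hbc, mul_inv_cancel_right, mul_inv_cancel, map_one]

end CfsgLib.GW
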