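import Cfsg.Agent.Lib.GW.Formula

/-!
# The numerical contradictions in case C

`n` is the index of a maximal subgroup over an involution centraliser.
-/

set_option autoImplicit false
set_option linter.all false

namespace CfsgLib.GW

theorem rho_le {h : ℕ} (hh : 2 ≤ h) {e : ℤ} (he : e ≠ 1) (hdvd : (4 * h : ℤ) ∣ e - 1) : rho e ≤ 45 / 32 := by
  obtain ⟨m, hm⟩ := hdvd
  have hd : (0 : ℚ) < ((e : ℚ) - 1) ^ 2 := by
    have : (e : ℚ) - 1 ≠ 0 := sub_ne_zero.2 (by exact_mod_cast he)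
    positivity
  rw [rho, div_le_div_iff₀ hd (by norm_num)]
  have h8 : 9 ≤ e ∨ e ≤ -7 := by
    rcases lt_trichotomy m 0 with hm0 | hm0 | hm0
    · right; nlinarith
    · exact absurd (by rw [hm0, mul_zero] at hm; linarith) he
    · left; nlinarith
  rcases h8 with h8 | h8
  · have : (9 : ℚ) ≤ e := by exact_mod_cast h8
    nlinarith [mul_nonneg (sub_nonneg.2 this) (show (0 : ℚ) ≤ 13 * e - 5 by linarith)]
  · have : (e : ℚ) ≤ -7 := by exact_mod_cast h8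
    nlinarith

/-- one class in a linear quotient -/
theorem one_class_linear {h : ℕ} (hh : 2 ≤ h) {e : ℤ} (he : e ≠ 1) (hdvd : (4 * h : ℤ) ∣ e - 1) {r : ℕ} {ε : ℤ}
    (hε : ε = 1 ∨ ε = -1) (hr : 5 ≤ r) (hrε : (4 : ℤ) ∣ r - ε) {n : ℕ} (hn : 3 ≤ n) :
    (n : ℚ) ≠ rho e * ((r : ℚ) - ε) ^ 2 / (r * ((r : ℚ) + ε)) := by
  intro hn'
  have hrho := rho_le hh he hdvd
  have h5 : (5 : ℚ) ≤ r := by exact_mod_cast hr
  have hd : (0 : ℚ) < r * ((r : ℚ) + ε) := by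
    rcases hε with rfl | rfl <;> push_cast <;> nlinarith
  have h3 : (3 : ℚ) ≤ n := by exact_mod_cast hn
  rw [hn', le_div_iff₀ hd] at h3
  have hsq : rho e * ((r : ℚ) - ε) ^ 2 ≤ 45 / 32 * ((r : ℚ) - ε) ^ 2 :=
    mul_le_mul_of_nonneg_right hrho (sq_nonneg _)
  rcases hε with rfl | rfl
  · push_cast at h3 hsq; nlinarith
  · have h7 : (7 : ℚ) ≤ r := by
      have : 7 ≤ r := by omega
      exact_mod_cast this
    push_cast at h3 hsq; nlinarith

/-- one class in the alternating quotient -/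
theorem one_class_seven {h : ℕ} (hh : 2 ≤ h) {e : ℤ} (he : e ≠ 1) (hdvd : (4 * h : ℤ) ∣ e - 1) {n : ℕ}
    (hn : 3 ≤ n) : (n : ℚ) ≠ 3072 / 2520 * rho e := by
  intro hn'
  have hrho := rho_le hh he hdvd
  have h3 : (3 : ℚ) ≤ n := by exact_mod_cast hn
  nlinarith

/-- two classes, `r ≥ 5` -/
theorem two_class_linear {h : ℕ} (hh : 2 ≤ h) {e : ℤ} (he : e ≠ 1) (heven : Even h) (hdvd : (4 * h : ℤ) ∣ e - 1) {r δ : ℕ} {ε : ℤ}
    (hε : ε = 1 ∨ ε = -1) (hr : 5 ≤ r) (hrε : (4 : ℤ) ∣ r - ε) (hδ : Odd δ) (hδr : (r : ℤ) + ε ∣ 2 * δ) {n : ℕ}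
    (hodd : Odd n)
    (hn : (n : ℚ) = rho e * ((r : ℚ) - ε) ^ 2 * (1 + δ) ^ 2 / (r * ((r : ℚ) + ε)))
    (hbd : (δ : ℚ) ^ 2 * r * ((r : ℚ) - ε) ^ 2 ≤ ((n : ℚ) - 1) * (r + 1) * (2 * ((r : ℚ) + ε))) : False := by
  have hrho := rho_le hh he hdvd
  have h5 : (5 : ℚ) ≤ r := by exact_mod_cast hr
  have hrε' : (0 : ℚ) < (r : ℚ) + ε := by rcases hε with rfl | rfl <;> push_cast <;> linarith
  have hne : (0 : ℚ) < ((r : ℚ) - ε) ^ 2 := by
    have : (r : ℚ) - ε ≠ 0 := by rcases hε with rfl | rfl <;> push_cast <;> linarith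
    positivity
  have hnr : (n : ℚ) * (r * ((r : ℚ) + ε)) = rho e * ((r : ℚ) - ε) ^ 2 * (1 + δ) ^ 2 :=
    (eq_div_iff (by positivity)).1 hn
  have key : (δ : ℚ) ^ 2 * r ^ 2 < 2 * rho e * (1 + δ) ^ 2 * (r + 1) := by
    refine lt_of_mul_lt_mul_right ?_ hne.le
    calc (δ : ℚ) ^ 2 * r ^ 2 * ((r : ℚ) - ε) ^ 2 = ((δ : ℚ) ^ 2 * r * ((r : ℚ) - ε) ^ 2) * r := by ring
      _ ≤ ((n : ℚ) - 1) * (r + 1) * (2 * ((r : ℚ) + ε)) * r := mul_le_mul_of_nonneg_right hbd (by linarith)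
      _ < (n : ℚ) * (r + 1) * (2 * ((r : ℚ) + ε)) * r := by
          have : (0 : ℚ) < (r + 1) * (2 * ((r : ℚ) + ε)) * r := by positivity
          nlinarith
      _ = 2 * rho e * (1 + δ) ^ 2 * (r + 1) * ((r : ℚ) - ε) ^ 2 := by linear_combination (2 * ((r : ℚ) + 1)) * hnr
  have hδ3 : 3 ≤ δ := by
    have hpos : 0 < δ := hδ.pos
    have h2 : (r : ℤ) + ε ≤ 2 * δ := Int.le_of_dvd (by omega) hδr
    rcases hε with rfl | rfl <;> omega
  have hδ' : (3 : ℚ) ≤ δ := by exact_mod_cast hδ3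
  have hrr : r = 5 := by
    by_contra hne5
    have h7 : (7 : ℚ) ≤ r := by
      have : 7 ≤ r := by omega
      exact_mod_cast this
    have h1 : (δ : ℚ) ^ 2 * r ^ 2 < 45 / 16 * (1 + δ) ^ 2 * (r + 1) := by
      refine key.trans_le ?_
      have : (0 : ℚ) ≤ (1 + δ) ^ 2 * (r + 1) := by positivity
      nlinarith
    have h2 : (1 + (δ : ℚ)) ^ 2 ≤ 16 / 9 * (δ : ℚ) ^ 2 := by nlinarith
    have h3 : 45 / 16 * (1 + (δ : ℚ)) ^ 2 * (r + 1) ≤ 5 * (δ : ℚ) ^ 2 * (r + 1) := by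
      have := mul_le_mul_of_nonneg_right h2 (show (0 : ℚ) ≤ r + 1 by linarith)
      linarith
    nlinarith [mul_nonneg (sq_nonneg (δ : ℚ)) (show (0 : ℚ) ≤ (r : ℚ) ^ 2 - 5 * (r + 1) by nlinarith)]
  subst hrr
  have hε1 : ε = 1 := by
    rcases hε with rfl | rfl
    · rfl
    · norm_num at hrε
  subst hε1
  obtain ⟨a, ha⟩ : (3 : ℤ) ∣ δ := by
    have : (6 : ℤ) ∣ 2 * δ := by simpa using hδr
    omega
  have hδ9 : δ = 3 := by
    by_contra hne3
    have : (9 : ℕ) ≤ δ := by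
      obtain ⟨b, hb⟩ := hδ
      omega
    have h9 : (9 : ℚ) ≤ δ := by exact_mod_cast this
    have : (0 : ℚ) ≤ (1 + (δ : ℚ)) ^ 2 := sq_nonneg _
    push_cast at key
    nlinarith [mul_le_mul_of_nonneg_right hrho this]
  subst hδ9
  push_cast at key hn
  obtain ⟨m, hm⟩ := hdvd
  have hd : ((e : ℚ) - 1) ≠ 0 := sub_ne_zero.2 (by exact_mod_cast he)
  have h17 : e = 9 ∨ e = 17 := by
    obtain ⟨g, hg⟩ := heven
    obtain ⟨j, hj⟩ : ∃ j : ℤ, e = 1 + 8 * j := ⟨g * m, by rw [hg] at hm; push_cast at hm; linarith⟩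
    have hd2 : (0 : ℚ) < ((e : ℚ) - 1) ^ 2 := by positivity
    have k2 : ((e : ℚ) - 1) ^ 2 * 75 < 64 * (e * ((e : ℚ) + 1)) := by
      have : rho e * ((e : ℚ) - 1) ^ 2 = e * ((e : ℚ) + 1) := div_mul_cancel₀ _ hd2.ne'
      nlinarith
    have k3 : (e - 1) ^ 2 * 75 < 64 * (e * (e + 1)) := by exact_mod_cast k2
    rcases lt_trichotomy j 0 with h0 | h0 | h0
    · exfalso; nlinarith
    · exact absurd (by rw [hj, h0]; ring) he
    · have : j ≤ 2 := by nlinarith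
      omega
  rcases h17 with rfl | rfl <;> norm_num [rho] at hn
  · have : n = 12 := by exact_mod_cast hn
    subst this
    exact absurd hodd (by decide)
  · have : (n : ℚ) * 30 = 306 := by rw [hn]; norm_num
    have : n * 30 = 306 := by exact_mod_cast this
    omega

/-- two classes, `r ≥ 5`, the normal odd subgroup being a torus -/
theorem two_class_torus {h : ℕ} (hh : 2 ≤ h) {e : ℤ} (he : e ≠ 1) (heven : Even h) (hdvd : (4 * h : ℤ) ∣ e - 1)
    {r : ℕ} {ε : ℤ} (hε : ε = 1 ∨ ε = -1) (hr : 5 ≤ r) (hrε : (4 : ℤ) ∣ r - ε) {n : ℕ} (hodd : Odd n)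
    (hn : (n : ℚ) = rho e * ((r : ℚ) - ε) ^ 2 * ((r : ℚ) + ε + 2) ^ 2 / (4 * r * ((r : ℚ) + ε)))
    (hbd : (r : ℚ) * ((r : ℚ) - ε) + 2 ≤ 2 * n) : False := by
  have hrho := rho_le hh he hdvd
  obtain ⟨j, hj⟩ : ∃ j : ℤ, e = 1 + 8 * j := by
    obtain ⟨m, hm⟩ := hdvd
    obtain ⟨g, hg⟩ := heven
    exact ⟨g * m, by rw [hg] at hm; push_cast at hm; linarith⟩
  have hj0 : j ≠ 0 := fun h0 => he (by rw [hj, h0]; ring)
  have hjq : (j : ℚ) ≠ 0 := by exact_mod_cast hj0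
  have hrj : rho e * (32 * (j : ℚ) ^ 2) = (1 + 8 * j) * (1 + 4 * j) := by
    rw [rho, hj]
    push_cast
    field_simp
    ring
  have hsq : rho e * (((r : ℚ) - ε) ^ 2 * ((r : ℚ) + ε + 2) ^ 2) ≤
      45 / 32 * (((r : ℚ) - ε) ^ 2 * ((r : ℚ) + ε + 2) ^ 2) :=
    mul_le_mul_of_nonneg_right hrho (by positivity)
  rcases hε with rfl | rfl
  · push_cast at hn hbd hsq
    rcases lt_or_ge r 9 with h9 | h9
    · have hr5 : r = 5 := by omega
      subst hr5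
      norm_num at hn hbd
      have h1 : (11 : ℕ) ≤ n := by exact_mod_cast (show (11 : ℚ) ≤ n by linarith)
      have hsq' : (165 : ℚ) * j ^ 2 ≤ 4 * ((1 + 8 * j) * (1 + 4 * j)) := by
        rw [← hrj]; nlinarith [sq_nonneg (j : ℚ)]
      have hsqz : 165 * j ^ 2 ≤ 4 * ((1 + 8 * j) * (1 + 4 * j)) := by exact_mod_cast hsq'
      have hlo : 0 ≤ j := by nlinarith
      have hhi : j ≤ 1 := by nlinarith
      have : j = 1 := by omega
      subst this
      norm_num at hrj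
      have : n = 12 := by exact_mod_cast (show (n : ℚ) = 12 by linarith)
      subst this
      exact absurd hodd (by decide)
    · have h9' : (9 : ℚ) ≤ r := by exact_mod_cast h9
      have hd : (0 : ℚ) < 4 * r * ((r : ℚ) + 1) := by positivity
      rw [eq_div_iff hd.ne'] at hn
      have h1 := mul_le_mul_of_nonneg_right hbd hd.le
      nlinarith [mul_nonneg (pow_nonneg (sub_nonneg.2 h9') 2) (sq_nonneg ((r : ℚ) - 1)), pow_nonneg (sub_nonneg.2 h9') 3,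
        pow_nonneg (sub_nonneg.2 h9') 4, sq_nonneg ((r : ℚ) - 9)]
  · push_cast at hn hbd hsq
    rcases lt_or_ge r 11 with h11 | h11
    · have hr7 : r = 7 := by omega
      subst hr7
      norm_num at hn hbd
      have hsq' : (608 : ℚ) * j ^ 2 ≤ 16 * ((1 + 8 * j) * (1 + 4 * j)) := by
        rw [← hrj]; nlinarith [sq_nonneg (j : ℚ)]
      have hsqz : 608 * j ^ 2 ≤ 16 * ((1 + 8 * j) * (1 + 4 * j)) := by exact_mod_cast hsq'
      have hlo : 0 ≤ j := by nlinarith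
      have hhi : j ≤ 2 := by nlinarith
      have hj12 : j = 1 ∨ j = 2 := by omega
      rcases hj12 with rfl | rfl <;> norm_num at hrj
      · have : n * 21 = 720 := by exact_mod_cast (show (n : ℚ) * 21 = 720 by linarith)
        omega
      · have : n * 21 = 612 := by exact_mod_cast (show (n : ℚ) * 21 = 612 by linarith)
        omega
    · have h11' : (11 : ℚ) ≤ r := by exact_mod_cast h11
      have hd : (0 : ℚ) < 4 * r * ((r : ℚ) + -1) := by
        have : (0 : ℚ) < (r : ℚ) + -1 := by linarith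
        positivity
      rw [eq_div_iff hd.ne'] at hn
      have h1 := mul_le_mul_of_nonneg_right hbd hd.le
      nlinarith [pow_nonneg (sub_nonneg.2 h11') 3, pow_nonneg (sub_nonneg.2 h11') 4, sq_nonneg ((r : ℚ) - 11)]

/-- the candidate index -/
def fourIndex (K : ℕ) (j : ℤ) : ℤ := (1 + 8 * j) * (1 + 4 * j) * (1 + (K : ℤ)) ^ 2 / (12 * j ^ 2)

/-- the check of one candidate -/
def fourOk (K : ℕ) (j : ℤ) : Bool :=
  K % 2 != 1 || j == 0 || (1 + 8 * j) * (1 + 4 * j) * (1 + (K : ℤ)) ^ 2 % (12 * j ^ 2) != 0 ||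
    fourIndex K j % 2 != 1 ||
    (5 ≤ K && ((3 * (fourIndex K j - 1 - 6 * (K : ℤ))) % (4 * (K : ℤ)) != 0 ||
      decide (fourIndex K j - 1 < 4 * (K : ℤ) ^ 2 + 2 * K))) ||
    (K == 1 && (fourIndex K j == 7 || fourIndex K j == 15)) || (K == 3 && (fourIndex K j == 35 || fourIndex K j == 51))

/-- the finite check for four points -/
theorem four_table : ((List.range 56).all fun K => (List.range 113).all fun J : ℕ => fourOk K ((J : ℤ) - 56)) = true := by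
  decide +kernel

/-- two classes, `r = 3` -/
theorem two_class_four {e : ℤ} (he : e ≠ 1) (hdvd : (8 : ℤ) ∣ e - 1) {K n : ℕ} (hK : Odd K) (hodd : Odd n)
    (hn : (n : ℚ) = 8 / 3 * rho e * (1 + K) ^ 2)
    (hbd : 5 ≤ K → (4 * K : ℤ) ∣ 3 * ((n : ℤ) - 1 - 6 * K) ∧ 4 * (K : ℤ) ^ 2 + 2 * K ≤ (n : ℤ) - 1) :
    (K = 1 ∧ (n = 7 ∨ n = 15)) ∨ (K = 3 ∧ (n = 35 ∨ n = 51)) := by
  obtain ⟨j, hj⟩ := hdvd
  have hj0 : j ≠ 0 := fun h0 => he (by rw [h0, mul_zero] at hj; linarith)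
  have hje : e = 1 + 8 * j := by linarith
  have hrho := rho_le (h := 2) le_rfl he ⟨j, by rw [hj]; norm_num⟩
  have hjq : (j : ℚ) ≠ 0 := by exact_mod_cast hj0
  have heq : (12 * j ^ 2) * (n : ℤ) = (1 + 8 * j) * (1 + 4 * j) * (1 + (K : ℤ)) ^ 2 := by
    have : (12 * (j : ℚ) ^ 2) * n = (1 + 8 * j) * (1 + 4 * j) * (1 + (K : ℚ)) ^ 2 := by
      rw [hn, rho, hje]
      push_cast
      field_simp
      ring
    exact_mod_cast this
  have hKb : K < 56 := by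
    by_contra hcon
    obtain ⟨-, h2⟩ := hbd (by omega)
    have h2' : 4 * (K : ℚ) ^ 2 + 2 * K ≤ (n : ℚ) - 1 := by exact_mod_cast h2
    have h56 : (56 : ℚ) ≤ K := by exact_mod_cast (not_lt.1 hcon)
    nlinarith [mul_le_mul_of_nonneg_right hrho (sq_nonneg (1 + (K : ℚ)))]
  have hjd : j ∣ 1 + (K : ℤ) := by
    rw [← Int.pow_dvd_pow_iff two_ne_zero]
    have hco : IsCoprime (j ^ 2) ((1 + 8 * j) * (1 + 4 * j)) :=
      (IsCoprime.mul_right ⟨-8, 1, by ring⟩ ⟨-4, 1, by ring⟩).pow_left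
    exact hco.dvd_of_dvd_mul_left ⟨12 * (n : ℤ), by rw [← heq]; ring⟩
  have hjb : j.natAbs ≤ 1 + K := by
    have := Int.natAbs_le_of_dvd_ne_zero hjd (by omega)
    omega
  have ht := List.all_eq_true.1 (List.all_eq_true.1 four_table K (List.mem_range.2 hKb)) (j + 56).toNat
    (List.mem_range.2 (by omega))
  rw [show (((j + 56).toNat : ℕ) : ℤ) - 56 = j by omega] at ht
  have h12 : (12 * j ^ 2 : ℤ) ≠ 0 := by positivity
  have hN : fourIndex K j = n := by rw [fourIndex, ← heq, Int.mul_ediv_cancel_left _ h12]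
  have hmod : (1 + 8 * j) * (1 + 4 * j) * (1 + (K : ℤ)) ^ 2 % (12 * j ^ 2) = 0 := by rw [← heq, Int.mul_emod_right]
  simp only [fourOk, hN, hmod, Bool.or_eq_true, Bool.and_eq_true, bne_iff_ne, beq_iff_eq, decide_eq_true_eq, ne_eq,
    not_true_eq_false, or_false] at ht
  have hK' := Nat.odd_iff.1 hK
  have hn' : (n : ℤ) % 2 = 1 := by
    obtain ⟨k, hk⟩ := hodd
    omega
  rcases ht with ((((h | h) | h) | h) | h) | h
  · exact absurd hK' h
  · exact absurd h hj0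
  · exact absurd hn' h
  · obtain ⟨h1, h2⟩ := hbd h.1
    rcases h.2 with h' | h'
    · exact absurd (Int.emod_eq_zero_of_dvd h1) h'
    · omega
  · exact Or.inl ⟨h.1, by omega⟩
  · exact Or.inr ⟨h.1, by omega⟩

end CfsgLib.GW
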