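import Cfsg.Agent.Lib.GW.TwoSubgroups

/-!
# Counting fixed points on the cosets of a subgroup

For `M` a subgroup of `G`, the fixed points of an element on `G ⧸ M` and the incidences between a set of elements of
`M` and the other points.
-/

set_option autoImplicit false
set_option linter.all false

namespace CfsgLib.GW

open scoped Pointwise

universe u

variable {G : Type u} [Group G] [Finite G]

theorem smul_coset_eq_iff {M : Subgroup G} {u g : G} : u • (g : G ⧸ M) = (g : G ⧸ M) ↔ g⁻¹ * u * g ∈ M := by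
  rw [MulAction.Quotient.smul_coe, smul_eq_mul, QuotientGroup.eq]
  rw [← inv_mem_iff, show ((u * g)⁻¹ * g)⁻¹ = g⁻¹ * u * g by group]

/-- fixed points of `w` against its conjugates in `M` -/
theorem fix_mul (M : Subgroup G) (w : G) :
    Nat.card {x : G ⧸ M // w • x = x} * Nat.card M =
      Nat.card (Subgroup.centralizer ({w} : Set G)) * Nat.card {v : M // IsConj w (v : G)} := by
  classical
  have h1 : Nat.card {g : G // g⁻¹ * w * g ∈ M} = Nat.card {x : G ⧸ M // w • x = x} * Nat.card M := by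
    rw [← Nat.card_prod]
    refine Nat.card_congr ?_
    refine ((Subgroup.groupEquivQuotientProdSubgroup (s := M)).subtypeEquiv
      (p := fun g : G => g⁻¹ * w * g ∈ M) (q := fun z => w • z.1 = z.1) fun g => ?_).trans
      { toFun := fun z => (⟨z.1.1, z.2⟩, z.1.2)
        invFun := fun z => ⟨(z.1.1, z.2), z.1.2⟩
        left_inv := fun z => rfl
        right_inv := fun z => rfl }
    rw [← smul_coset_eq_iff]
    rfl
  rw [← h1]
  have h2 : Nat.card {g : G // g⁻¹ * w * g ∈ M} =
      Nat.card (Subgroup.centralizer ({w} : Set G)) * Nat.card {v : M // IsConj w (v : G)} := by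
    have hc : ∀ v : {v : M // IsConj w (v : G)}, ∃ g : G, g⁻¹ * w * g = (v : G) := fun v => by
      obtain ⟨c, hc⟩ := isConj_iff.1 v.2
      exact ⟨c⁻¹, by rw [inv_inv, hc]⟩
    choose γ hγ using hc
    rw [← Nat.card_prod]
    refine Nat.card_congr (Equiv.ofBijective (fun g => (⟨g.1 * (γ ⟨⟨_, g.2⟩, isConj_iff.2 ⟨g.1⁻¹, by rw [inv_inv]⟩⟩)⁻¹,
      ?_⟩, ⟨⟨_, g.2⟩, isConj_iff.2 ⟨g.1⁻¹, by rw [inv_inv]⟩⟩)) ⟨?_, ?_⟩)
    · rw [Subgroup.mem_centralizer_singleton_iff]
      have e := hγ ⟨⟨_, g.2⟩, isConj_iff.2 ⟨g.1⁻¹, by rw [inv_inv]⟩⟩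
      simp only at e
      generalize γ _ = c at e ⊢
      calc g.1 * c⁻¹ * w = g.1 * (c⁻¹ * w * c) * c⁻¹ := by group
        _ = g.1 * (g.1⁻¹ * w * g.1) * c⁻¹ := by rw [e]
        _ = w * (g.1 * c⁻¹) := by group
    · intro a b hab
      simp only [Prod.mk.injEq, Subtype.mk.injEq] at hab
      obtain ⟨h1, h2⟩ := hab
      refine Subtype.ext ?_
      simp only [h2] at h1
      exact mul_right_cancel h1
    · rintro ⟨⟨c, hc⟩, v⟩
      have hv : (c * γ v)⁻¹ * w * (c * γ v) = (v : G) := by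
        rw [Subgroup.mem_centralizer_singleton_iff] at hc
        calc (c * γ v)⁻¹ * w * (c * γ v) = (γ v)⁻¹ * (c⁻¹ * (w * c)) * γ v := by group
          _ = (γ v)⁻¹ * w * γ v := by rw [← hc]; group
          _ = v := hγ v
      refine ⟨⟨c * γ v, hv ▸ v.1.2⟩, ?_⟩
      have he : (⟨⟨_, hv ▸ v.1.2⟩, isConj_iff.2 ⟨(c * γ v)⁻¹, by rw [inv_inv]⟩⟩ : {v : M // IsConj w (v : G)}) = v :=
        Subtype.ext (Subtype.ext hv)
      simp only [Prod.mk.injEq, Subtype.mk.injEq]
      rw [he]
      exact ⟨mul_inv_cancel_right _ _, rfl⟩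
  exact h2

/-- incidences between a set of elements of `M` and the points other than the base point -/
theorem incidence_le (M : Subgroup G) (J : Set G) (hJ : ∀ u ∈ J, u ∈ M) {φ b : ℕ}
    (hφ : ∀ u ∈ J, φ ≤ Nat.card {x : G ⧸ M // u • x = x})
    (hb : ∀ x : G ⧸ M, x ≠ ((1 : G) : G ⧸ M) → Nat.card {u : J // (u : G) • x = x} ≤ b) :
    Nat.card J * (φ - 1) ≤ b * (M.index - 1) := by
  classical
  haveI := Fintype.ofFinite G
  haveI := Fintype.ofFinite (G ⧸ M)
  haveI := Fintype.ofFinite J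
  obtain ⟨P, hP⟩ : ∃ P : Finset (G ⧸ M), P = Finset.univ.erase ((1 : G) : G ⧸ M) := ⟨_, rfl⟩
  have hcardP : P.card = M.index - 1 := by
    rw [hP, Finset.card_erase_of_mem (Finset.mem_univ _), Finset.card_univ, Subgroup.index, Nat.card_eq_fintype_card]
  have key := Finset.sum_card_bipartiteAbove_eq_sum_card_bipartiteBelow (fun (u : J) (x : G ⧸ M) => (u : G) • x = x)
    (s := Finset.univ) (t := P)
  have h1 : Nat.card J * (φ - 1) ≤ ∑ u : J, (P.bipartiteAbove (fun (u : J) (x : G ⧸ M) => (u : G) • x = x) u).card := by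
    rw [Nat.card_eq_fintype_card, ← Finset.card_univ, ← smul_eq_mul, ← Finset.sum_const]
    refine Finset.sum_le_sum fun u _ => ?_
    have h := hφ u.1 u.2
    rw [Nat.card_eq_fintype_card, Fintype.card_subtype] at h
    have e : P.bipartiteAbove (fun (u : J) (x : G ⧸ M) => (u : G) • x = x) u =
        (Finset.univ.filter fun x => (u : G) • x = x).erase ((1 : G) : G ⧸ M) := by
      ext x
      simp [Finset.bipartiteAbove, hP]
    rw [e, Finset.card_erase_of_mem]
    · omega
    · rw [Finset.mem_filter, smul_coset_eq_iff]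
      exact ⟨Finset.mem_univ _, by simpa using hJ u.1 u.2⟩
  have h2 : ∑ x ∈ P, (Finset.univ.bipartiteBelow (fun (u : J) (x : G ⧸ M) => (u : G) • x = x) x).card ≤
      b * (M.index - 1) := by
    rw [← hcardP, mul_comm, ← smul_eq_mul, ← Finset.sum_const]
    refine Finset.sum_le_sum fun x hx => ?_
    have h := hb x (by rw [hP] at hx; exact Finset.ne_of_mem_erase hx)
    rwa [Nat.card_eq_fintype_card, Fintype.card_subtype] at h
  rw [key] at h1
  exact h1.trans h2

/-- an element fixing a point lies in the conjugate -/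
theorem mem_conj_of_fix {M : Subgroup G} {u g : G} (h : u • (g : G ⧸ M) = (g : G ⧸ M)) :
    u ∈ M.map (MulAut.conj g).toMonoidHom :=
  ⟨g⁻¹ * u * g, smul_coset_eq_iff.1 h, by show g * (g⁻¹ * u * g) * g⁻¹ = u; group⟩

/-- the stabiliser of another point is another subgroup -/
theorem conj_ne_of_ne {M : Subgroup G} (hM : Subgroup.normalizer (M : Set G) = M) {g : G}
    (hg : (g : G ⧸ M) ≠ ((1 : G) : G ⧸ M)) : M.map (MulAut.conj g).toMonoidHom ≠ M := by
  intro h
  refine hg (QuotientGroup.eq.2 ?_)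
  rw [mul_one]
  refine M.inv_mem ?_
  have : g ∈ Subgroup.normalizer (M : Set G) := by
    refine Subgroup.mem_normalizer_iff.2 fun x => ⟨fun hx => h ▸ ⟨x, hx, rfl⟩, fun hx => ?_⟩
    rw [← h] at hx
    obtain ⟨y, hy, e⟩ := hx
    have e' : g * y * g⁻¹ = g * x * g⁻¹ := e
    exact (mul_left_cancel (mul_right_cancel e') : y = x) ▸ hy
  rwa [hM] at this

end CfsgLib.GW
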