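import Cfsg.Agent.Lib.GW.CaseCFrame
import Cfsg.Agent.Lib.GW.CaseCNumeric
import Cfsg.Agent.Lib.GW.OrbitCount

/-!
# Case C with two classes of involutions over `PSL(2, q)`, `q ≥ 5`: contradiction

A conjugate `g⁻¹ t g = w` of the inner involution `t` into an outer one forces `K` to be the torus of order
`(q + ε) / 2` of `w`; then the orbit of `g M` is too long for the order formula.
-/

set_option autoImplicit false
set_option linter.style.haveILetI false
set_option linter.unusedSectionVars false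

namespace CfsgLib.GW

open CfsgLib.Invol CfsgLib.Block.Dihedral

universe u

variable {G : Type u} [Group G] [Finite G] {F : Type*} [Field F] [Fintype F]

namespace TwoData

variable {M : Subgroup G} {K : Subgroup M} [K.Normal] {M0 : Subgroup (M ⧸ K)} [M0.Normal]
  {e : M0 ≃* Matrix.ProjectiveSpecialLinearGroup (Fin 2) F} (d : TwoData M K M0 e)
include d

theorem odd_field : Odd (Fintype.card F) := by
  rw [← Nat.card_eq_fintype_card]
  exact odd_of_two_ne d.two_ne

/-- elements centralising an outer involution are determined modulo `K` -/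
theorem cent_outer_inj {w v : M} (hw : orderOf w = 2) (hv : orderOf v = 2) (hwo : QuotientGroup.mk' K w ∉ M0)
    (hvi : QuotientGroup.mk' K v ∈ M0) (hwv : Commute w v) {x y : M} (hx : Commute x w) (hy : Commute y w)
    (h : QuotientGroup.mk' K x = QuotientGroup.mk' K y) : x = y :=
  inv_mul_eq_one.1 (d.cent_outer hw hv hwo hvi hwv (QuotientGroup.eq.1 h) (hx.inv_left.mul_left hy))

/-- **`K` is the torus of an outer involution, and a long orbit follows** -/
theorem torus_and_orbit {t w : M} (ht : orderOf t = 2) (hti : QuotientGroup.mk' K t ∈ M0) (hw : orderOf w = 2)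
    (hwo : QuotientGroup.mk' K w ∉ M0) (hwt : Commute w t) {g : G} (hg : g⁻¹ * (t : G) * g = (w : G)) :
    Nat.card K = outerCard (Fintype.card F) / 2 ∧
      Nat.card M0 * M0.index ≤ (M.index - 1) * (2 * outerCard (Fintype.card F) * (diagPart M0 e).index) := by
  classical
  have hodd := d.odd_field
  set m := outerCard (Fintype.card F) / 2 with hm
  have hgM : g ∉ M := fun h => hwo (by
    rw [show w = (⟨g, h⟩ : M)⁻¹ * t * ⟨g, h⟩ from Subtype.ext hg.symm, map_mul, map_mul, map_inv]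
    exact ‹M0.Normal›.conj_mem' _ hti _)
  have hinv := fun {k : M} (hk : k ∈ K) => d.outer_inverts hw ht hwo hti hwt hk
  have hcomm : ∀ {k l : M}, k ∈ K → l ∈ K → Commute k l := fun hk hl => d.commute_of_outer hw ht hwo hti hwt hk hl
  obtain ⟨T, hTM, hTcyc, hTcard, hTw, hTmem, hTinv⟩ := outer_torus M0 e d.dih d.cent d.two_ne d.five
    (orderOf_mk_invol d.odd hw) hwo
  obtain ⟨C, hC⟩ := IsCyclic.exists_ofOrder_eq_natCard (α := T)
  have hCo : orderOf ((C : T) : M ⧸ K) = m := by rw [Subgroup.orderOf_coe, hC, hTcard]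
  obtain ⟨c, hcC, hcw⟩ := exists_comm_lift d.odd hw (hTw _ C.2)
  have hco : orderOf c = m := by
    refine Nat.dvd_antisymm (orderOf_dvd_of_pow_eq_one ?_) (hCo ▸ hcC ▸ orderOf_map_dvd _ c)
    exact d.cent_outer_inj hw ht hwo hti hwt (hcw.pow_left m) (Commute.one_left w)
      (by rw [map_pow, hcC, map_one, ← hCo, pow_orderOf_eq_one])
  have htinv : orderOf (QuotientGroup.mk' K t) = 2 := orderOf_mk_invol d.odd ht
  have htw' : Commute (t * c * t⁻¹) w := (hwt.symm.mul_left hcw).mul_left hwt.symm.inv_left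
  have htc : t * c * t⁻¹ = c⁻¹ := d.cent_outer_inj hw ht hwo hti hwt htw' hcw.inv_left (by
    rw [map_mul, map_mul, map_inv, hcC, map_inv, hcC]
    exact hTinv _ htinv hti (hwt.symm.map _) _ C.2)
  -- conjugation by `g`
  have hcg : ∀ {x y : G}, Commute x y → Commute (g * x * g⁻¹) (g * y * g⁻¹) := fun {x y} h => by
    have := h.map (MulAut.conj g).toMonoidHom
    simpa [MulAut.conj_apply] using this
  have hgw : g * (w : G) * g⁻¹ = (t : G) := by rw [← hg]; group
  have hconj : ∀ z : G, orderOf (g * z * g⁻¹) = orderOf z := fun z => by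
    rw [show g * z * g⁻¹ = MulAut.conj g z from rfl, MulEquiv.orderOf_eq]
  set k₀ : M := ⟨g * (c : G) * g⁻¹, d.mem_cent_le ht hti (hgw ▸ hcg (hcw.map M.subtype))⟩ with hk₀
  have hgt : Commute (g * (t : G) * g⁻¹) (t : G) := by
    have h := hcg (hwt.symm.map M.subtype)
    rwa [Subgroup.coe_subtype, hgw] at h
  set s : M := ⟨g * (t : G) * g⁻¹, d.mem_cent_le ht hti hgt⟩ with hs
  have hso : orderOf s = 2 := by rw [hs, Subgroup.orderOf_mk, hconj, Subgroup.orderOf_coe, ht]
  have hk₀o : orderOf k₀ = m := by rw [hk₀, Subgroup.orderOf_mk, hconj, Subgroup.orderOf_coe, hco]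
  have hk₀odd : Odd (orderOf k₀) := hk₀o ▸ odd_outerCard_half hodd
  have hsk₀ : s * k₀ * s⁻¹ = k₀⁻¹ := by
    refine Subtype.ext ?_
    have h1 : (t : G) * (c : G) * (t : G)⁻¹ = (c : G)⁻¹ := congrArg Subtype.val htc
    show g * (t : G) * g⁻¹ * (g * (c : G) * g⁻¹) * (g * (t : G) * g⁻¹)⁻¹ = (g * (c : G) * g⁻¹)⁻¹
    rw [conj_inv, conj_mul, conj_mul, conj_inv, h1]
  have hk₀t : Commute k₀ t := Subtype.ext (hgw ▸ hcg (hcw.map M.subtype)).eq
  have hk₀K : k₀ ∈ K := by
    refine (QuotientGroup.eq_one_iff k₀).1 (orderOf_eq_one_iff.1 (Nat.eq_one_of_dvd_coprimes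
      (outerCard_half_coprime hodd) (hm ▸ hk₀o ▸ orderOf_map_dvd (QuotientGroup.mk' K) k₀) ?_))
    exact orderOf_dvd_invCard M0 e hodd htinv hti (d.inner_of_inverted hso hk₀odd hsk₀) (hk₀t.map (QuotientGroup.mk' K))
  have hk₀1 : k₀ ≠ 1 := fun h => by
    rw [h, orderOf_one] at hk₀o
    have := three_le_outerCard_half hodd d.five
    omega
  have hci : QuotientGroup.mk' K c ∈ M0 := hcC ▸ hTM C.2
  -- both conjugates of `K` lie in `M`
  have hup : ∀ {k : M}, k ∈ K → g * (k : G) * g⁻¹ ∈ M := fun {k} hk =>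
    d.kcent_le k₀ hk₀K hk₀1 (Subgroup.mem_centralizer_singleton_iff.2
      (hcg ((d.inner_commute hcomm hci hk).symm.map M.subtype)).eq)
  have hupi : ∀ {k : M} (hk : k ∈ K), QuotientGroup.mk' K (⟨_, hup hk⟩ : M) ∈ M0 := fun {k} hk => by
    refine d.inner_of_inverted ht ?_ (Subtype.ext ?_)
    · rw [Subgroup.orderOf_mk, hconj, Subgroup.orderOf_coe]
      exact d.odd.of_dvd_nat (Subgroup.orderOf_dvd_natCard K hk)
    · have h1 : (w : G) * (k : G) * (w : G)⁻¹ = (k : G)⁻¹ := congrArg Subtype.val (hinv hk)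
      show (t : G) * (g * (k : G) * g⁻¹) * (t : G)⁻¹ = (g * (k : G) * g⁻¹)⁻¹
      rw [← hgw, conj_inv, conj_mul, conj_mul, conj_inv, h1]
  have hdown : ∀ {k : M}, k ∈ K → g⁻¹ * (k : G) * g ∈ M := fun {k} hk =>
    d.kcent_le k₀ hk₀K hk₀1 (Subgroup.mem_centralizer_singleton_iff.2 (by
      have h := ((d.inner_commute hcomm (hupi hk₀K) hk).map M.subtype).map (MulAut.conj g⁻¹).toMonoidHom
      have h' : Commute (k₀ : G) (g⁻¹ * (k : G) * g) := by simpa [MulAut.conj_apply, mul_assoc] using h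
      exact h'.eq.symm))
  -- the embedding of `K` into the torus
  have hsinv : ∀ {k : M}, k ∈ K → s * k * s⁻¹ = k⁻¹ := fun {k} hk => by
    refine d.outer_inverts hso ht (fun h => hgM ?_) hti (Subtype.ext hgt.eq) hk
    exact d.mem_of_inner_conj (u := s) (u' := t) hso h hti (show g⁻¹ * (g * (t : G) * g⁻¹) * g = (t : G) by group)
  have hdw : ∀ {k : M} (hk : k ∈ K), Commute (⟨_, hdown hk⟩ : M) w := fun {k} hk => by
    refine Subtype.ext ?_
    show g⁻¹ * (k : G) * g * (w : G) = (w : G) * (g⁻¹ * (k : G) * g)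
    have h : (k : G) * (t : G) = (t : G) * (k : G) := congrArg Subtype.val (d.inner_cent t ht hti k hk).eq.symm
    rw [← hg]
    calc g⁻¹ * (k : G) * g * (g⁻¹ * (t : G) * g) = g⁻¹ * ((k : G) * (t : G)) * g := by group
      _ = g⁻¹ * (t : G) * g * (g⁻¹ * (k : G) * g) := by rw [h]; group
  have hdT : ∀ {k : M} (hk : k ∈ K), QuotientGroup.mk' K (⟨_, hdown hk⟩ : M) ∈ T := fun {k} hk => by
    have ho : Odd (orderOf (⟨_, hdown hk⟩ : M)) := by
      rw [Subgroup.orderOf_mk, show g⁻¹ * (k : G) * g = MulAut.conj g⁻¹ (k : G) by simp [MulAut.conj_apply],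
        MulEquiv.orderOf_eq, Subgroup.orderOf_coe]
      exact d.odd.of_dvd_nat (Subgroup.orderOf_dvd_natCard K hk)
    refine hTmem _ (le_diagPart M0 e (d.inner_of_inverted ht ho (Subtype.ext ?_))) (ho.of_dvd_nat (orderOf_map_dvd _ _))
      ((hdw hk).map _)
    have h1 : g * (t : G) * g⁻¹ * (k : G) * (g * (t : G) * g⁻¹)⁻¹ = (k : G)⁻¹ := congrArg Subtype.val (hsinv hk)
    show (t : G) * (g⁻¹ * (k : G) * g) * (t : G)⁻¹ = (g⁻¹ * (k : G) * g)⁻¹
    calc (t : G) * (g⁻¹ * (k : G) * g) * (t : G)⁻¹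
        = g⁻¹ * (g * (t : G) * g⁻¹ * (k : G) * (g * (t : G) * g⁻¹)⁻¹) * g := by group
      _ = (g⁻¹ * (k : G) * g)⁻¹ := by rw [h1]; group
  let φ : K →* T := MonoidHom.mk' (fun k => ⟨_, hdT k.2⟩) fun k l => Subtype.ext (by
    show QuotientGroup.mk' K _ = QuotientGroup.mk' K _ * QuotientGroup.mk' K _
    rw [← map_mul]
    refine congrArg _ (Subtype.ext ?_)
    show g⁻¹ * (((k : M) : G) * ((l : M) : G)) * g = g⁻¹ * ((k : M) : G) * g * (g⁻¹ * ((l : M) : G) * g)
    group)
  have hφ : Function.Injective φ := (injective_iff_map_eq_one φ).2 fun k hk => by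
    have h1 : QuotientGroup.mk' K (⟨_, hdown k.2⟩ : M) = 1 := congrArg Subtype.val hk
    have h2 := d.cent_outer hw ht hwo hti hwt ((QuotientGroup.eq_one_iff _).1 h1) (hdw k.2)
    have h3 : g⁻¹ * ((k : M) : G) * g = 1 := congrArg Subtype.val h2
    refine Subtype.ext (Subtype.ext ?_)
    calc ((k : M) : G) = g * (g⁻¹ * ((k : M) : G) * g) * g⁻¹ := by group
      _ = 1 := by rw [h3]; group
  have hKm : Nat.card K = m := Nat.dvd_antisymm ((Subgroup.card_dvd_of_injective φ hφ).trans (dvd_of_eq hTcard))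
    (hk₀o ▸ Subgroup.orderOf_dvd_natCard K hk₀K)
  refine ⟨hKm, ?_⟩
  -- the orbit of `g M`
  set y : M := ⟨_, hup hk₀K⟩ with hy
  set Y := QuotientGroup.mk' K y with hYdef
  have hYi : Y ∈ M0 := hupi hk₀K
  have hyz : ∀ i : ℤ, ((y ^ i : M) : G) = g * ((k₀ ^ i : M) : G) * g⁻¹ := fun i => by
    rw [Subgroup.coe_zpow, Subgroup.coe_zpow, hy, conj_zpow]
  have hYo : orderOf Y = m := by
    refine Nat.dvd_antisymm ((orderOf_map_dvd _ y).trans (by rw [hy, Subgroup.orderOf_mk, hconj, Subgroup.orderOf_coe, hk₀o])) ?_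
    rw [← hk₀o]
    refine orderOf_dvd_of_pow_eq_one ?_
    have hyK : y ^ orderOf Y ∈ K := (QuotientGroup.eq_one_iff _).1 (by
      show QuotientGroup.mk' K (y ^ orderOf Y) = 1
      rw [map_pow, pow_orderOf_eq_one])
    have hy' : (⟨_, hdown hyK⟩ : M) = k₀ ^ orderOf Y := by
      refine Subtype.ext ?_
      show g⁻¹ * ((y ^ orderOf Y : M) : G) * g = ((k₀ ^ orderOf Y : M) : G)
      rw [Subgroup.coe_pow, Subgroup.coe_pow, hy, conj_pow]
      group
    exact d.cent_outer hw ht hwo hti hwt (pow_mem hk₀K _) (hy' ▸ hdw hyK)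
  set St := MulAction.stabilizer M ((g : G) : G ⧸ M) with hSt
  have hSt' : ∀ n : M, n ∈ St → g⁻¹ * (n : G) * g ∈ M := fun n hn => smul_coset_eq_iff.1 (MulAction.mem_stabilizer_iff.1 hn)
  have hgen : ∀ z : M, z ∈ K → z ∈ Subgroup.zpowers k₀ := fun z hz => by
    have : Subgroup.zpowers k₀ = K := Subgroup.eq_of_le_of_card_ge (Subgroup.zpowers_le.2 hk₀K)
      (by rw [Nat.card_zpowers, hk₀o, hKm])
    rwa [this]
  have hmove : ∀ n : M, n ∈ St → ∀ z ∈ Subgroup.zpowers Y, QuotientGroup.mk' K n * z * (QuotientGroup.mk' K n)⁻¹ ∈ Subgroup.zpowers Y := by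
    rintro n hn _ ⟨i, rfl⟩
    have hk' : (⟨_, hSt' n hn⟩ : M) * k₀ ^ i * (⟨_, hSt' n hn⟩ : M)⁻¹ ∈ K :=
      ‹K.Normal›.conj_mem _ (zpow_mem hk₀K i) _
    obtain ⟨j, hj⟩ := Subgroup.mem_zpowers_iff.1 (hgen _ hk')
    refine ⟨j, ?_⟩
    show Y ^ j = QuotientGroup.mk' K n * Y ^ i * (QuotientGroup.mk' K n)⁻¹
    rw [hYdef, ← map_zpow, ← map_zpow, ← map_inv, ← map_mul, ← map_mul]
    refine congrArg _ (Subtype.ext ?_)
    rw [Subgroup.coe_mul, Subgroup.coe_mul, Subgroup.coe_inv, hyz, hyz, hj, Subgroup.coe_mul, Subgroup.coe_mul,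
      Subgroup.coe_inv]
    group
  have hStle : St.map (QuotientGroup.mk' K) ≤ Subgroup.normalizer (Subgroup.zpowers Y : Set (M ⧸ K)) := by
    rintro _ ⟨n, hn, rfl⟩
    refine Subgroup.mem_normalizer_iff.2 fun z => ⟨hmove n hn z, fun h => ?_⟩
    have h' := hmove n⁻¹ (inv_mem hn) _ h
    rwa [map_inv, inv_inv, ← mul_assoc, ← mul_assoc, inv_mul_cancel, one_mul, mul_assoc, inv_mul_cancel, mul_one] at h'
  have hN := card_normalizer_torus M0 e d.cent d.two_ne hYi (fun h => by
    rw [h, orderOf_one] at hYo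
    have := three_le_outerCard_half hodd d.five
    omega) (hYo ▸ dvd_rfl)
  have hStcard : Nat.card St ≤ Nat.card K * (2 * outerCard (Fintype.card F) * (diagPart M0 e).index) := by
    rw [← (K.subgroupOf St).card_mul_index]
    refine Nat.mul_le_mul ?_ ?_
    · exact Nat.card_le_card_of_injective (fun z => (⟨((z : St) : M), z.2⟩ : K))
        fun a b h => Subtype.ext (Subtype.ext (congrArg (fun v : K => (v : M)) h))
    · refine le_trans (le_of_eq ?_) ((Nat.le_of_dvd Nat.card_pos (Subgroup.card_dvd_of_le hStle)).trans hN)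
      conv_lhs => rw [show K.subgroupOf St = ((QuotientGroup.mk' K).comp St.subtype).ker by
        ext z; rw [Subgroup.mem_subgroupOf, MonoidHom.mem_ker]; exact (QuotientGroup.eq_one_iff (N := K) (z : M)).symm]
      rw [Subgroup.index_ker, MonoidHom.range_comp, Subgroup.range_subtype]
  have horb : (MulAction.orbit M ((g : G) : G ⧸ M)).ncard ≤ M.index - 1 := by
    rw [Subgroup.index_eq_card, ← Set.ncard_univ (G ⧸ M), ← Set.ncard_sdiff_singleton_of_mem (Set.mem_univ ((1 : G) : G ⧸ M))]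
    refine Set.ncard_le_ncard ?_ (Set.toFinite _)
    rintro _ ⟨n, rfl⟩
    refine ⟨Set.mem_univ _, fun h => hgM ?_⟩
    have h' : ((n : G) * g : G ⧸ M) = ((1 : G) : G ⧸ M) := h
    rw [QuotientGroup.eq, mul_one, inv_mem_iff] at h'
    exact (Subgroup.mul_mem_cancel_left M n.2).1 h'
  have hM : Nat.card M = Nat.card K * (Nat.card M0 * M0.index) := by
    rw [M0.card_mul_index, ← Subgroup.index_eq_card, K.card_mul_index]
  have h1 : Nat.card M ≤ Nat.card K * ((M.index - 1) * (2 * outerCard (Fintype.card F) * (diagPart M0 e).index)) := by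
    rw [← St.card_mul_index, MulAction.index_stabilizer]
    calc Nat.card St * (MulAction.orbit M ((g : G) : G ⧸ M)).ncard
        ≤ (Nat.card K * (2 * outerCard (Fintype.card F) * (diagPart M0 e).index)) * (M.index - 1) :=
          Nat.mul_le_mul hStcard horb
      _ = _ := by ring
  rw [hM] at h1
  exact Nat.le_of_mul_le_mul_left h1 Nat.card_pos

/-- the centraliser of an element of `M` whose centraliser lies in `M` -/
theorem card_centralizer_of_le (S : Set M) (h : Subgroup.centralizer ((fun x : M => (x : G)) '' S) ≤ M) :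
    Nat.card (Subgroup.centralizer ((fun x : M => (x : G)) '' S)) = Nat.card (Subgroup.centralizer S) :=
  Nat.card_congr
    { toFun := fun x => ⟨⟨x.1, h x.2⟩, Subgroup.mem_centralizer_iff.2 fun s hs =>
        Subtype.ext (Subgroup.mem_centralizer_iff.1 x.2 (s : G) ⟨s, hs, rfl⟩)⟩
      invFun := fun x => ⟨(x.1 : G), Subgroup.mem_centralizer_iff.2 (by
        rintro _ ⟨s, hs, rfl⟩
        exact congrArg Subtype.val (Subgroup.mem_centralizer_iff.1 x.2 s hs))⟩
      left_inv := fun _ => rfl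
      right_inv := fun _ => rfl }

/-- **two classes of involutions over `PSL(2, q)` are impossible** -/
theorem false_of_frame (hidx : M0.index = 2 * (diagPart M0 e).index) {P : Sylow 2 G} {σ τ : G} {h : ℕ}
    (D : Frame P σ τ h) (hC : Subgroup.centralizer ({σ ^ h} : Set G) ≤ M)
    (horder : ∀ V W : ℕ, V = Nat.card (Subgroup.centralizer ({σ ^ h, τ} : Set G)) →
      W = Nat.card (Subgroup.centralizer ({σ ^ h, σ * τ} : Set G)) →
      ∃ r : ℤ, r ≠ 1 ∧ (4 * h : ℤ) ∣ r - 1 ∧ (Nat.card G : ℚ) = 2 * rho r *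
        (Nat.card (Subgroup.centralizer ({σ ^ h} : Set G)) : ℚ) ^ 3 * (1 / (V : ℚ) + 1 / (W : ℚ)) ^ 2) : False := by
  classical
  haveI : Fact (Nat.Prime 2) := ⟨Nat.prime_two⟩
  have hodd := d.odd_field
  have hPM : (P : Subgroup G) ≤ M := fun x hx => hC (Subgroup.mem_centralizer_singleton_iff.2 (D.J_comm hx).eq)
  set t : M := ⟨σ ^ h, hC (Subgroup.mem_centralizer_singleton_iff.2 rfl)⟩ with htdef
  have ht : orderOf t = 2 := by
    rw [htdef, Subgroup.orderOf_mk]
    exact orderOf_eq_prime (by rw [sq, D.sigma_h_sq]) D.sigma_h_ne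
  have hdiag : ∀ x : M, (x : G) ∈ (P : Subgroup G) → QuotientGroup.mk' K x ∈ diagPart M0 e := fun x hx => by
    obtain ⟨a, ha⟩ := P.2 ⟨(x : G), hx⟩
    obtain ⟨b, -, hb⟩ := (Nat.dvd_prime_pow Nat.prime_two).1 ((orderOf_map_dvd (QuotientGroup.mk' K) x).trans
      (orderOf_dvd_of_pow_eq_one (Subtype.ext (congrArg Subtype.val ha : (x : G) ^ 2 ^ a = 1))))
    exact two_mem_diagPart M0 e d.dih d.cent d.two_ne hb
  have hti : QuotientGroup.mk' K t ∈ M0 := by
    obtain ⟨j, hj⟩ := D.h_even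
    set x : M := ⟨σ ^ j, hPM (pow_mem D.memσ j)⟩
    have htx : t = x * x := Subtype.ext (by show σ ^ h = σ ^ j * σ ^ j; rw [hj, pow_add])
    rw [htx, map_mul]
    by_cases hx : QuotientGroup.mk' K x ∈ M0
    · exact mul_mem hx hx
    · exact mul_mem_of_not_mem M0 e d.cent d.two_ne (hdiag x (pow_mem D.memσ j)) (hdiag x (pow_mem D.memσ j)) hx hx
  set τ' : M := ⟨τ, hPM D.memτ⟩ with hτ'
  set στ : M := ⟨σ * τ, hPM (mul_mem D.memσ D.memτ)⟩ with hστ
  set σ' : M := ⟨σ, hPM D.memσ⟩
  have hτo : orderOf τ' = 2 := by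
    rw [hτ', Subgroup.orderOf_mk]
    exact orderOf_eq_prime (by rw [sq, D.sqτ]) fun h => D.not_zpow (h ▸ one_mem _)
  have hστo : orderOf στ = 2 := by
    rw [hστ, Subgroup.orderOf_mk]
    refine orderOf_eq_prime ?_ fun h => D.not_zpow ?_
    · rw [sq, show σ * τ * (σ * τ) = σ * (τ * σ * τ⁻¹) * (τ * τ) by group, D.rel, D.sqτ]
      group
    · rw [show τ = σ⁻¹ by exact eq_inv_of_mul_eq_one_right h]
      exact inv_mem (Subgroup.mem_zpowers σ)
  have hcomm : ∀ x : M, (x : G) ∈ (P : Subgroup G) → Commute x t := fun x hx => Subtype.ext (D.J_comm hx).eq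
  -- some reflection is outer
  have hout : QuotientGroup.mk' K τ' ∉ M0 ∨ QuotientGroup.mk' K στ ∉ M0 := by
    by_contra! hboth
    have hσi : QuotientGroup.mk' K σ' ∈ M0 := by
      rw [show σ' = στ * τ'⁻¹ from Subtype.ext (by show σ = σ * τ * τ⁻¹; group), map_mul, map_inv]
      exact mul_mem hboth.2 (inv_mem hboth.1)
    have hall : ∀ x : M, (x : G) ∈ (P : Subgroup G) → QuotientGroup.mk' K x ∈ M0 := fun x hx => by
      obtain ⟨l, hl | hl⟩ := D.cases _ hx
      · rw [show x = σ' ^ l from Subtype.ext hl, map_pow]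
        exact pow_mem hσi l
      · rw [show x = τ' * σ' ^ l from Subtype.ext hl, map_mul, map_pow]
        exact mul_mem hboth.1 (pow_mem hσi l)
    let ψ : (P : Subgroup G) →* M0 :=
      ((QuotientGroup.mk' K).comp (Subgroup.inclusion hPM)).codRestrict M0 fun x => hall _ x.2
    have hψ : Function.Injective ψ := (injective_iff_map_eq_one ψ).2 fun x hx => by
      obtain ⟨a, ha⟩ := P.2 x
      have hxK : Subgroup.inclusion hPM x ∈ K := (QuotientGroup.eq_one_iff _).1 (congrArg Subtype.val hx)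
      refine orderOf_eq_one_iff.1 (Nat.eq_one_of_dvd_coprimes (Nat.Coprime.pow_left a (Nat.coprime_two_left.2 d.odd))
        (orderOf_dvd_of_pow_eq_one ha) ?_)
      rw [← orderOf_injective _ (Subgroup.inclusion_injective hPM)]
      exact Subgroup.orderOf_dvd_natCard K hxK
    have h8 : Nat.card (P : Subgroup G) * 2 ∣ Nat.card G := by
      refine Dvd.dvd.trans ?_ (Subgroup.card_subgroup_dvd_card M)
      rw [← K.card_mul_index, Subgroup.index_eq_card, ← M0.card_mul_index, hidx]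
      exact Dvd.dvd.mul_left (mul_dvd_mul (Subgroup.card_dvd_of_injective ψ hψ) (dvd_mul_right 2 _)) _
    rw [← (P : Subgroup G).card_mul_index] at h8
    exact P.not_dvd_index ((Nat.mul_dvd_mul_iff_left Nat.card_pos).1 h8)
  -- some reflection is inner
  have hin : QuotientGroup.mk' K τ' ∈ M0 ∨ QuotientGroup.mk' K στ ∈ M0 := by
    by_contra! hboth
    obtain ⟨b, hb, hbi, hbt, hbc⟩ := d.exists_inner_four ht hti
    have hPC : (P : Subgroup G) ≤ Subgroup.centralizer ({σ ^ h} : Set G) := fun x hx =>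
      Subgroup.mem_centralizer_singleton_iff.2 (D.J_comm hx).eq
    set b₁ : Subgroup.centralizer ({σ ^ h} : Set G) :=
      ⟨(b : G), Subgroup.mem_centralizer_singleton_iff.2 (congrArg Subtype.val hbc.eq)⟩
    obtain ⟨c, hc⟩ := Invol.exists_conj_le_sylow (IsPGroup.of_card (n := 1)
      (show Nat.card (Subgroup.zpowers b₁) = 2 ^ 1 by
        rw [Nat.card_zpowers, Subgroup.orderOf_mk, Subgroup.orderOf_coe, hb]; rfl)) (P.subtype hPC)
    set c' : M := ⟨(c : G), hC c.2⟩
    set b' := c' * b * c'⁻¹ with hb'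
    have hb'P : (b' : G) ∈ (P : Subgroup G) := hc b₁ (Subgroup.mem_zpowers b₁)
    have hb'o : orderOf b' = 2 := by rw [hb', show c' * b * c'⁻¹ = MulAut.conj c' b from rfl, MulEquiv.orderOf_eq, hb]
    have hb'i : QuotientGroup.mk' K b' ∈ M0 := by
      rw [hb', map_mul, map_mul, map_inv]; exact ‹M0.Normal›.conj_mem _ hbi _
    obtain ⟨l, hl | hl⟩ := D.cases _ hb'P
    · refine hbt ?_
      have hne : σ ^ l ≠ 1 := fun h0 => CfsgLib.Invol.invol_ne_one hb'o (Subtype.ext (hl.trans h0))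
      have hsq : σ ^ l * σ ^ l = 1 := by
        rw [← hl]; exact congrArg Subtype.val (CfsgLib.Invol.invol_mul_self hb'o)
      have h1 : b' = t := Subtype.ext (hl.trans (D.eq_J hne (by by_contra hd; exact (D.sq_ne_iff l).2 hd hsq)))
      have hct : Commute c' t := Subtype.ext (Subgroup.mem_centralizer_singleton_iff.1 c.2)
      calc b = c'⁻¹ * b' * c' := by rw [hb']; group
        _ = t := by rw [h1, mul_assoc, ← hct.eq, inv_mul_cancel_left]
    · have hσi : QuotientGroup.mk' K σ' ∈ M0 := by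
        rw [show σ' = στ * τ' from Subtype.ext (by show σ = σ * τ * τ; rw [mul_assoc, D.sqτ, mul_one]), map_mul]
        exact mul_mem_of_not_mem M0 e d.cent d.two_ne (hdiag _ (mul_mem D.memσ D.memτ)) (hdiag _ D.memτ) hboth.2 hboth.1
      rw [show b' = τ' * σ' ^ l from Subtype.ext hl, map_mul, map_pow] at hb'i
      exact hboth.1 ((Subgroup.mul_mem_cancel_right M0 (pow_mem hσi l)).1 hb'i)
  obtain ⟨v, w, hv, hvi, hw, hwo, hvt, hwt, hvw⟩ : ∃ v w : M, orderOf v = 2 ∧ QuotientGroup.mk' K v ∈ M0 ∧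
      orderOf w = 2 ∧ QuotientGroup.mk' K w ∉ M0 ∧ Commute v t ∧ Commute w t ∧
      ((v, w) = (τ', στ) ∨ (v, w) = (στ, τ')) := by
    rcases hin with hi | hi
    · exact ⟨τ', στ, hτo, hi, hστo, hout.resolve_left (not_not_intro hi), hcomm _ D.memτ,
        hcomm _ (mul_mem D.memσ D.memτ), Or.inl rfl⟩
    · exact ⟨στ, τ', hστo, hi, hτo, hout.resolve_right (not_not_intro hi), hcomm _ (mul_mem D.memσ D.memτ),
        hcomm _ D.memτ, Or.inr rfl⟩
  obtain ⟨g, hg⟩ := d.one_class (s := (w : G)) (t := (t : G)) (by rw [Subgroup.orderOf_coe, hw]) (by rw [Subgroup.orderOf_coe, ht])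
  obtain ⟨hKm, horb⟩ := d.torus_and_orbit ht hti hw hwo hwt (g := g) (by rw [← hg]; group)
  -- centraliser orders
  have hfix : ∀ u : M, orderOf u = 2 → QuotientGroup.mk' K u ∈ M0 → fixIn K u = K := fun u hu hui =>
    le_antisymm inf_le_left fun k hk => ⟨hk, Subgroup.mem_centralizer_singleton_iff.2 (d.inner_cent u hu hui k hk).eq.symm⟩
  have hfw : fixIn K w = ⊥ := (Subgroup.eq_bot_iff_forall _).2 fun x hx =>
    d.cent_outer hw ht hwo hti hwt hx.1 (Subgroup.mem_centralizer_singleton_iff.1 hx.2)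
  have hCt : Nat.card (Subgroup.centralizer ({σ ^ h} : Set G)) =
      Nat.card K * (invCard (Fintype.card F) * M0.index) := by
    have h1 := d.card_centralizer_of_le {t} (by rw [Set.image_singleton]; exact hC)
    rw [Set.image_singleton] at h1
    rw [← card_cent_invol M0 e hodd (orderOf_mk_invol d.odd ht) hti]
    exact h1.trans ((card_centralizer_quotient_odd d.odd (CfsgLib.Invol.invol_mul_self ht)).trans (by rw [hfix t ht hti]; rfl))
  have hfour : ∀ u : M, orderOf u = 2 → u ≠ t → Commute u t →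
      Nat.card (Subgroup.centralizer ({σ ^ h, (u : G)} : Set G)) =
        Nat.card (fixIn K t ⊓ fixIn K u : Subgroup M) * (4 * (diagPart M0 e).index) := by
    intro u hu hut hc
    have h1 := d.card_centralizer_of_le {t, u} (le_trans (Subgroup.centralizer_le (by simp [Set.image_pair, htdef])) hC)
    rw [Set.image_pair] at h1
    rw [← card_cent_four M0 e d.dih d.cent d.two_ne (orderOf_mk_invol d.odd ht) (orderOf_mk_invol d.odd hu)
      (fun h => hut (d.inner_unique ht hu hti h).symm) (hc.symm.map _)]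
    exact h1.trans ((card_centralizer_four_odd d.odd (CfsgLib.Invol.invol_mul_self ht) (CfsgLib.Invol.invol_mul_self hu) hc.symm).trans rfl)
  have hne : ∀ u : M, QuotientGroup.mk' K u ∉ M0 → u ≠ t := fun u h h' => h (h' ▸ hti)
  have hvne : v ≠ t := by
    rintro rfl
    rcases hvw with h | h
    · have := congrArg (fun p : M × M => ((p.1 : M) : G)) h
      exact D.not_zpow ((show σ ^ _ = τ from this) ▸ Subgroup.npow_mem_zpowers σ _)
    · have := congrArg (fun p : M × M => ((p.1 : M) : G)) h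
      refine D.not_zpow ((Subgroup.mul_mem_cancel_left _ (Subgroup.mem_zpowers σ)).1 ?_)
      exact (show σ ^ _ = σ * τ from this) ▸ Subgroup.npow_mem_zpowers σ _
  have hV := hfour v hv hvne hvt
  have hW := hfour w hw (hne w hwo) hwt
  rw [hfix t ht hti, hfix v hv hvi, inf_idem] at hV
  rw [hfw, inf_bot_eq, Subgroup.card_bot, one_mul] at hW
  obtain ⟨r, hr1, hrd, hG⟩ := horder _ _ rfl rfl
  have hsum : (1 / (Nat.card (Subgroup.centralizer ({σ ^ h, τ} : Set G)) : ℚ) +
      1 / (Nat.card (Subgroup.centralizer ({σ ^ h, σ * τ} : Set G)) : ℚ)) =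
      1 / ((Nat.card K : ℚ) * (4 * (diagPart M0 e).index)) + 1 / (4 * ((diagPart M0 e).index : ℚ)) := by
    rcases hvw with h | h <;> obtain ⟨rfl, rfl⟩ := Prod.mk.inj h
    · rw [show (τ : G) = (τ' : G) from rfl, show σ * (τ' : G) = (στ : G) from rfl, hV, hW]; push_cast; ring
    · rw [show (τ : G) = (τ' : G) from rfl, show σ * (τ' : G) = (στ : G) from rfl, hV, hW]; push_cast; ring
  rw [hCt, hsum, hidx] at hG
  -- the index
  have hM0 : 2 * Nat.card M0 = Fintype.card F * ((Fintype.card F - 1) * (Fintype.card F + 1)) := by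
    have h0 := CfsgLib.Perm.Dickson.card_psl F
    rw [CfsgLib.Perm.Dickson.gcd_odd (odd_of_two_ne d.two_ne), Nat.card_eq_fintype_card (α := F)] at h0
    rw [Nat.card_congr e.toEquiv, Nat.card_congr (CfsgLib.Perm.Dickson.pslEquiv F).toEquiv]
    exact h0
  have hGn : Nat.card G = Nat.card K * (Nat.card M0 * M0.index) * M.index := by
    rw [M0.card_mul_index, ← Subgroup.index_eq_card, K.card_mul_index, M.card_mul_index]
  have hMo : Odd M.index := by
    rw [← Nat.not_even_iff_odd, even_iff_two_dvd]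
    exact fun hd => P.not_dvd_index (hd.trans (Subgroup.index_dvd_of_le hPM))
  have hm2 := two_mul_outerCard_half (q := Fintype.card F) hodd
  rw [← hKm] at hm2
  rw [hGn, hidx] at hG
  have hfpos : (0 : ℕ) < (diagPart M0 e).index := Nat.pos_of_ne_zero Subgroup.FiniteIndex.index_ne_zero
  rw [hidx] at horb
  have horb' : Nat.card M0 ≤ (M.index - 1) * outerCard (Fintype.card F) := by
    refine Nat.le_of_mul_le_mul_right (c := 2 * (diagPart M0 e).index) (horb.trans (le_of_eq (by ring))) (by omega)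
  obtain ⟨ε, hε, hε4, hinvc, houtc⟩ : ∃ ε : ℤ, (ε = 1 ∨ ε = -1) ∧ (4 : ℤ) ∣ (Fintype.card F : ℤ) - ε ∧
      (invCard (Fintype.card F) : ℤ) = Fintype.card F - ε ∧ (outerCard (Fintype.card F) : ℤ) = Fintype.card F + ε := by
    obtain ⟨j, hj⟩ := hodd
    by_cases h4 : Fintype.card F % 4 = 1
    · refine ⟨1, Or.inl rfl, by omega, ?_, ?_⟩ <;> simp [invCard, outerCard, h4]
      omega
    · refine ⟨-1, Or.inr rfl, by omega, ?_, ?_⟩ <;> simp [invCard, outerCard, h4]
      omega
  have hq5 : (5 : ℚ) ≤ Fintype.card F := by exact_mod_cast d.five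
  have hinvq : (invCard (Fintype.card F) : ℚ) = (Fintype.card F : ℚ) - ε := by exact_mod_cast hinvc
  have houtq : (outerCard (Fintype.card F) : ℚ) = (Fintype.card F : ℚ) + ε := by exact_mod_cast houtc
  have hKq : 2 * (Nat.card K : ℚ) = (Fintype.card F : ℚ) + ε := by
    rw [← houtq]; exact_mod_cast hm2
  have hM0q : 2 * (Nat.card M0 : ℚ) = (Fintype.card F : ℚ) * (((Fintype.card F : ℚ) - 1) * ((Fintype.card F : ℚ) + 1)) := by
    have : ((2 * Nat.card M0 : ℕ) : ℚ) = _ := congrArg Nat.cast hM0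
    push_cast [Nat.cast_sub (show 1 ≤ Fintype.card F by have := d.five; omega)] at this
    exact this
  have hpos : (0 : ℚ) < ((Fintype.card F : ℚ) + ε) ∧ (0 : ℚ) < ((Fintype.card F : ℚ) - ε) := by
    rcases hε with rfl | rfl <;> push_cast <;> constructor <;> linarith
  have hprod : ((Fintype.card F : ℚ) - 1) * ((Fintype.card F : ℚ) + 1) =
      ((Fintype.card F : ℚ) - ε) * ((Fintype.card F : ℚ) + ε) := by
    rcases hε with rfl | rfl <;> push_cast <;> ring
  rw [hprod] at hM0q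
  refine two_class_torus (r := Fintype.card F) (n := M.index) D.two_le hr1 D.h_even hrd hε d.five hε4 hMo ?_ ?_
  · push_cast at hG
    rw [hinvq] at hG
    have hK0 : (0 : ℚ) < Nat.card K := by exact_mod_cast Nat.card_pos
    have hf0 : (0 : ℚ) < (diagPart M0 e).index := by exact_mod_cast hfpos
    rw [eq_div_iff (by have := hpos.1; positivity)]
    field_simp at hG
    -- `|G| = |M| n`
    have key : (M.index : ℚ) * (Fintype.card F * (((Fintype.card F : ℚ) + ε))) =
        rho r * ((Fintype.card F : ℚ) - ε) ^ 2 * (1 + (Nat.card K : ℚ)) ^ 2 := by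
      rw [show (Nat.card M0 : ℚ) = (Fintype.card F : ℚ) * ((((Fintype.card F : ℚ) - ε)) * ((Fintype.card F : ℚ) + ε)) / 2 by
        linarith] at hG
      apply mul_left_cancel₀ hpos.2.ne'
      linear_combination hG / 8
    linear_combination 4 * key + rho r * ((Fintype.card F : ℚ) - ε) ^ 2 *
      ((Fintype.card F : ℚ) + ε + 2 + (2 + 2 * (Nat.card K : ℚ))) * hKq
  · have h1 : (Nat.card M0 : ℚ) ≤ ((M.index : ℚ) - 1) * ((Fintype.card F : ℚ) + ε) := by
      rw [← houtq]
      have : ((Nat.card M0 : ℕ) : ℚ) ≤ (((M.index - 1) * outerCard (Fintype.card F) : ℕ) : ℚ) := by exact_mod_cast horb'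
      rw [Nat.cast_mul, Nat.cast_sub hMo.pos, Nat.cast_one] at this
      exact this
    refine le_of_mul_le_mul_right ?_ hpos.1
    nlinarith

end TwoData

end CfsgLib.GW
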