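import Cfsg.Agent.S4481
import Cfsg.Agent.S4482
import Cfsg.Agent.Lib.Block.FreeElementary.Moments
import Cfsg.Agent.Lib.Block.Local
import Cfsg.Agent.Lib.Block.Cartan

/-!
# The order formula for dihedral Sylow two-subgroups with fused involutions

With `e = δ χ₁(1)` for the distinguished character of the principal block, `e ≡ 1` modulo the order of the
Sylow group and the group order is given by `e` and three centraliser orders.
-/

set_option autoImplicit false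
set_option linter.all false

namespace CfsgLib.GW

open Cfsg CfsgLib.Block CfsgLib.Block.Dihedral

universe u

variable {G : Type u} [Group G] [Finite G]

/-- the ratio in the order formula -/
def rho (e : ℤ) : ℚ := (e : ℚ) * ((e : ℚ) + 1) / ((e : ℚ) - 1) ^ 2

theorem frame_hP {P : Sylow 2 G} {σ τ : G} {h : ℕ} (D : Frame P σ τ h) :
    Subgroup.closure ({σ, τ} : Set G) = (P : Subgroup G) := by
  refine le_antisymm ((Subgroup.closure_le _).2 ?_) fun x hx => ?_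
  · rintro x (rfl | rfl)
    exacts [D.memσ, D.memτ]
  · obtain ⟨l, e | e⟩ := D.cases x hx <;> rw [e]
    · exact pow_mem (Subgroup.subset_closure (Set.mem_insert _ _)) l
    · exact mul_mem (Subgroup.subset_closure (Set.mem_insert_of_mem _ rfl))
        (pow_mem (Subgroup.subset_closure (Set.mem_insert _ _)) l)

/-- **the order formula** -/
theorem order_formula {P : Sylow 2 G} {σ τ : G} {h : ℕ} (D : Frame P σ τ h)
    (hdih : Nonempty ((P : Subgroup G) ≃* DihedralGroup (2 * h)))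
    (hτ : IsConj (σ ^ h) τ) (hτσ : IsConj (σ ^ h) (σ * τ)) :
    ∃ e : ℤ, e ≠ 1 ∧ e ≠ -1 ∧ (4 * h : ℤ) ∣ e - 1 ∧ e.natAbs ∣ Nat.card G ∧
      (Nat.card G : ℚ) = 2 * rho e * (Nat.card (Subgroup.centralizer ({σ ^ h} : Set G)) : ℚ) ^ 3 *
        (1 / (Nat.card (Subgroup.centralizer ({σ ^ h, τ} : Set G)) : ℚ) +
          1 / (Nat.card (Subgroup.centralizer ({σ ^ h, σ * τ} : Set G)) : ℚ)) ^ 2 := by
  classical
  obtain ⟨k, hk0, hk⟩ := D.pow2
  obtain ⟨M, hM⟩ := exists_pModular Nat.prime_two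
  have hn : 3 ≤ k + 2 := by omega
  have hN : 2 ^ (k + 2 - 1) = 2 * h := by rw [show k + 2 - 1 = k + 1 by omega, pow_succ, hk, mul_comm]
  have hJ : 2 ^ (k + 2 - 2) = h := by rw [show k + 2 - 2 = k by omega, hk]
  obtain ⟨-, χ₁, _, _, _, δ₁, _, _, hδ, -, -, -, hne, -, -, -, -, -, -, hset, hval, -⟩ :=
    Cfsg.Agent.S4481.result M hM (k + 2) hn P (by rw [hN]; exact hdih) σ D.memσ (by rw [hN]; exact D.orderσ)
      (Complex.exp (2 * Real.pi * Complex.I / (2 ^ (k + 2 - 1) : ℕ)))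
      (Complex.isPrimitiveRoot_exp _ (by positivity))
  have hχ : χ₁ ∈ principalBlock M G := by rw [hset]; exact Or.inr (Or.inl rfl)
  have hτo : orderOf τ = 2 := orderOf_eq_prime (by rw [pow_two, D.sqτ]) fun e =>
    D.not_zpow (e ▸ one_mem _)
  obtain ⟨hxd, hform⟩ := Cfsg.Agent.S4482.result M hM (k + 2) hn P σ τ D.memσ D.memτ
    (by rw [hN]; exact D.orderσ) hτo D.rel (frame_hP D) (by rw [hJ]; exact ⟨hτ, hτσ⟩) χ₁ hχ hne δ₁ hδ
    fun l h0 h1 => (hval l h0 h1).1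
  rw [hJ] at hform
  obtain ⟨x, hx⟩ : ∃ x, x = charDegree (χ₁ : G → ℂ) := ⟨_, rfl⟩
  rw [← hx] at hxd hform
  have hδsq : δ₁ * δ₁ = 1 := by rcases hδ with rfl | rfl <;> norm_num
  have hx1 : (χ₁ : G → ℂ) 1 = (x : ℂ) := hx ▸ (charDegree_eq χ₁).1
  have hx0 : x ≠ 0 := hx ▸ (charDegree_eq χ₁).2
  have hτσ' : IsConj (σ ^ h) (τ * σ) := hτσ.trans (isConj_iff.2 ⟨τ, by rw [D.τ_inv, mul_assoc, mul_assoc, D.sqτ, mul_one]⟩)
  have hvalP : ∀ y ∈ (P : Subgroup G), y ≠ 1 → (χ₁ : G → ℂ) y = δ₁ := by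
    intro y hy hy1
    have hh2 := D.two_le
    have hrot : ∀ l, σ ^ l ≠ 1 → (χ₁ : G → ℂ) (σ ^ l) = δ₁ := fun l hl => by
      rw [← pow_mod_orderOf, D.orderσ]
      refine (hval (l % (2 * h)) (Nat.pos_of_ne_zero fun e => hl (D.pow_eq_one.2 (Nat.dvd_of_mod_eq_zero e))) ?_).1
      rw [hN]
      exact Nat.mod_lt _ (by omega)
    by_cases hsq : y * y = 1
    · obtain ⟨c, hc⟩ := isConj_iff.1 ((D.isConj_J hτ hτσ').2 ⟨hsq, hy1⟩)
      rw [← hc, ← CfsgLib.Char.classFun_isConj (CfsgLib.Char.isClassFunction_irr χ₁) (isConj_iff.2 ⟨c, rfl⟩)]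
      exact hrot h D.sigma_h_ne
    · obtain ⟨l, rfl⟩ := D.rot_of_sq hy hsq
      exact hrot l hy1
  -- the multiplicity of the trivial character on the Sylow group
  haveI := Fintype.ofFinite G
  haveI := Fintype.ofFinite (IrrCharacter G)
  haveI := Fintype.ofFinite (P : Subgroup G)
  obtain ⟨m, hm⟩ := CfsgLib.Block.FreeElementary.exists_sum_subgroup χ₁ (P : Subgroup G)
  have hsum : ∑ y : (P : Subgroup G), (χ₁ : G → ℂ) y = (x : ℂ) + ((4 * h : ℕ) - 1 : ℂ) * δ₁ := by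
    rw [← Finset.add_sum_erase _ _ (Finset.mem_univ (1 : (P : Subgroup G))), OneMemClass.coe_one, hx1,
      Finset.sum_congr rfl (g := fun _ => (δ₁ : ℂ)) fun y hy => hvalP _ y.2 fun e =>
        Finset.ne_of_mem_erase hy (Subtype.ext e),
      Finset.sum_const, Finset.card_erase_of_mem (Finset.mem_univ _), Finset.card_univ, ← Nat.card_eq_fintype_card,
      D.card, nsmul_eq_mul, Nat.cast_sub (by have := D.two_le; omega), Nat.cast_one]
  rw [hsum, D.card] at hm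
  have hmz : (x : ℤ) + ((4 * h : ℕ) - 1 : ℤ) * δ₁ = ((4 * h : ℕ) : ℤ) * m := by exact_mod_cast hm
  refine ⟨δ₁ * x, ?_, ?_, ?_, ?_, ?_⟩
  · intro e
    exact hxd (by rw [← mul_one δ₁, ← e, ← mul_assoc, hδsq, one_mul])
  · intro e
    have hx' : (x : ℤ) = -δ₁ := by rw [← mul_one (-δ₁), neg_mul, ← mul_neg, ← e, ← mul_assoc, hδsq, one_mul]
    have hz : (x : ℚ) + δ₁ = 0 := by
      have : (x : ℤ) + δ₁ = 0 := by rw [hx', neg_add_cancel]
      exact_mod_cast this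
    rw [hz, mul_zero, zero_mul, zero_mul] at hform
    rcases mul_eq_zero.1 hform with h' | h'
    · exact Nat.card_pos.ne' (by exact_mod_cast h')
    · rw [pow_eq_zero_iff two_ne_zero, sub_eq_zero] at h'
      exact hxd (by exact_mod_cast h')
  · refine ⟨δ₁ * m - 1, ?_⟩
    push_cast at hmz
    linear_combination δ₁ * hmz - (4 * (h : ℤ) - 1) * hδsq
  · rw [Int.natAbs_mul, show δ₁.natAbs = 1 by rcases hδ with rfl | rfl <;> rfl, one_mul, Int.natAbs_natCast, hx]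
    exact charDegree_dvd χ₁
  · have hd : ((x : ℚ) - δ₁) ^ 2 ≠ 0 := pow_ne_zero _ (sub_ne_zero.2 fun e => hxd (by exact_mod_cast e))
    have hq : (δ₁ : ℚ) * δ₁ = 1 := by exact_mod_cast hδsq
    have hr : rho (δ₁ * x) = (x : ℚ) * ((x : ℚ) + δ₁) / ((x : ℚ) - δ₁) ^ 2 := by
      rw [rho]
      push_cast
      rw [show (δ₁ : ℚ) * x * ((δ₁ : ℚ) * x + 1) = x * (x + δ₁) by linear_combination (x : ℚ) ^ 2 * hq,
        show ((δ₁ : ℚ) * x - 1) ^ 2 = (x - δ₁) ^ 2 by linear_combination ((x : ℚ) ^ 2 - 1) * hq]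
    rw [hr, mul_div_assoc', div_mul_eq_mul_div, div_mul_eq_mul_div, eq_div_iff hd]
    linear_combination hform

end CfsgLib.GW
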