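import Cfsg.Agent.Lib.GW.CaseCCent
import Cfsg.Agent.Lib.GW.CaseCTwo
import Cfsg.Agent.Lib.GW.CaseCOne
import Cfsg.Agent.Lib.GW.Formula

/-!
# Case C outside the solvable types: contradiction

A proper subgroup over an involution centraliser is not of type `PSL(2, q)` or `A7` modulo its odd core, provided
its inner involutions centralise the odd core when there are two classes.
-/

set_option autoImplicit false
set_option linter.style.haveILetI false
set_option linter.unusedSectionVars false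

namespace CfsgLib.GW

open CfsgLib.Invol CfsgLib.Block.Dihedral

universe u

variable {G : Type u} [Group G] [Finite G]

namespace Min

/-- a frame with a given central involution -/
theorem exists_frame (hG : Min G) (h8 : 8 ∣ Nat.card G) {t : G} (ht : orderOf t = 2) :
    ∃ (P : Sylow 2 G) (σ τ : G) (h : ℕ), Frame P σ τ h ∧ σ ^ h = t ∧
      Nonempty ((P : Subgroup G) ≃* DihedralGroup (2 * h)) := by
  haveI : Fact (Nat.Prime 2) := ⟨Nat.prime_two⟩
  obtain ⟨P⟩ : Nonempty (Sylow 2 G) := inferInstance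
  obtain ⟨n, hn, ⟨e⟩⟩ := hG.dih P
  obtain ⟨j, hj⟩ := P.2.exists_card_eq
  have hdvd : 2 ^ 3 ∣ Nat.card (P : Subgroup G) := P.pow_dvd_card_of_pow_dvd_card h8
  rw [hj, Nat.pow_dvd_pow_iff_le_right one_lt_two] at hdvd
  obtain ⟨i, rfl⟩ : ∃ i, j = i + 2 := ⟨j - 2, by omega⟩
  have hn' : n = 2 * 2 ^ i := by
    rw [Nat.card_congr e.toEquiv, DihedralGroup.nat_card, pow_add] at hj
    omega
  subst hn'
  haveI : NeZero (2 * 2 ^ i) := ⟨by positivity⟩
  set σ₀ : (P : Subgroup G) := e.symm (DihedralGroup.r 1)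
  have hσo : orderOf (σ₀ : G) = 2 * 2 ^ i := by
    rw [Subgroup.orderOf_coe, MulEquiv.orderOf_eq, DihedralGroup.orderOf_r_one]
  obtain ⟨τ₀, D₀⟩ := Cfsg.Agent.S4481.Aux.exists_frame ⟨i, by omega, rfl⟩ e σ₀.2 hσo
  obtain ⟨g, hg⟩ := hG.isConj_invol
    (orderOf_eq_prime (by rw [sq, D₀.sigma_h_sq]) D₀.sigma_h_ne : orderOf ((σ₀ : G) ^ 2 ^ i) = 2) ht
  set P' : Sylow 2 G := g • P
  have hmem : g * (σ₀ : G) * g⁻¹ ∈ (P' : Subgroup G) := by
    rw [Sylow.coe_subgroup_smul]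
    exact ⟨(σ₀ : G), σ₀.2, rfl⟩
  have hord : orderOf (g * (σ₀ : G) * g⁻¹) = 2 * 2 ^ i := by
    rw [show g * (σ₀ : G) * g⁻¹ = MulAut.conj g (σ₀ : G) from rfl, MulEquiv.orderOf_eq, hσo]
  let e' := (Sylow.equiv P' P).trans e
  obtain ⟨τ, D⟩ := Cfsg.Agent.S4481.Aux.exists_frame ⟨i, by omega, rfl⟩ e' hmem hord
  exact ⟨P', _, τ, _, D, by rw [conj_pow]; exact hg, ⟨e'⟩⟩

/-- **no overgroup of an involution centraliser has type `PSL(2, q)`, `q ≥ 5`, or `A7`** -/
theorem false_of_typeC (hG : Min G) (h8 : 8 ∣ Nat.card G) {t : G} (ht : orderOf t = 2) {M : Subgroup G}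
    (hM : M ≠ ⊤) (hC : Subgroup.centralizer ({t} : Set G) ≤ M) (hMc : IsTypeC M)
    (hns : ¬ IsFourType (M ⧸ Cfsg.oddCore M))
    (hinner : ∀ M0 : Subgroup (M ⧸ Cfsg.oddCore M), M0.Normal → IsSimpleGroup M0 →
      (∃ x : M ⧸ Cfsg.oddCore M, orderOf x = 2 ∧ x ∉ M0) →
      ∀ u : M, orderOf u = 2 → QuotientGroup.mk' (Cfsg.oddCore M) u ∈ M0 → ∀ k ∈ Cfsg.oddCore M, Commute u k) :
    False := by
  classical
  haveI : Fact (Nat.Prime 2) := ⟨Nat.prime_two⟩
  rcases hMc with h4 | ⟨M0, hM0n, hM0s, -, hM0d, hC0, hM0t⟩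
  · exact hns h4
  haveI := hM0n
  obtain ⟨P, σ, τ, h, D, hσ, hdih⟩ := hG.exists_frame h8 ht
  subst hσ
  have hPM : (P : Subgroup G) ≤ M := fun x hx => hC (Subgroup.mem_centralizer_singleton_iff.2 (D.J_comm hx).eq)
  have hτo : orderOf τ = 2 := orderOf_eq_prime (by rw [sq, D.sqτ]) fun h => D.not_zpow (h ▸ one_mem _)
  have hστo : orderOf (σ * τ) = 2 := by
    refine orderOf_eq_prime ?_ fun h => D.not_zpow ?_
    · rw [sq, show σ * τ * (σ * τ) = σ * (τ * σ * τ⁻¹) * (τ * τ) by group, D.rel, D.sqτ]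
      group
    · rw [show τ = σ⁻¹ by exact eq_inv_of_mul_eq_one_right h]
      exact inv_mem (Subgroup.mem_zpowers σ)
  obtain ⟨r, hr1, -, hrd, -, hform⟩ := order_formula D hdih (isConj_iff.2 (hG.isConj_invol ht hτo))
    (isConj_iff.2 (hG.isConj_invol ht hστo))
  have hK := odd_oddCore M
  have hDM : DihTwo M := by
    rcases (hG.dihLE.subgroup M).cyclic_or_dihTwo with ⟨R, hR⟩ | h
    · exfalso
      refine no_four_of_cyclic_sylow (fun R' => ?_) (u := (⟨σ ^ h, hC (Subgroup.mem_centralizer_singleton_iff.2 rfl)⟩ : M))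
        (v := ⟨τ, hPM D.memτ⟩) (by rw [Subgroup.orderOf_mk, ht]) (by rw [Subgroup.orderOf_mk, hτo]) ?_
        (Subtype.ext (D.J_comm D.memτ).eq.symm)
      · exact (Sylow.equiv R' R).isCyclic.2 hR
      · intro e
        refine D.not_zpow ?_
        rw [← (show σ ^ h = τ from congrArg Subtype.val e)]
        exact Subgroup.npow_mem_zpowers σ h
    · exact h
  have hX : DihTwo (M ⧸ Cfsg.oddCore M) := dihTwo_quotient hDM _ hK.not_two_dvd_nat
  rcases hM0t with ⟨F, iF, iFt, hF, hF3, ⟨e⟩⟩ | ⟨⟨e⟩⟩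
  · have h2 : (2 : F) ≠ 0 := CfsgLib.Perm.Dickson.two_ne_zero_of_odd (by rwa [Nat.card_eq_fintype_card])
    have h5 : 5 ≤ Fintype.card F := by obtain ⟨j, hj⟩ := hF; omega
    rcases index_cases M0 e hC0 h2 with hidx | hidx
    · exact false_one_class_psl hM hK M0 e hX hC0 h2 h5 hidx D hC hr1 hrd hform
    have hout : ∃ x : M ⧸ Cfsg.oddCore M, orderOf x = 2 ∧ x ∉ M0 := by
      have h1 := card_outer_invol M0 e hX hC0 h2 hidx
      have h3 : 0 < Fintype.card F * invCard (Fintype.card F) := by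
        refine Nat.mul_pos (by omega) ?_
        unfold invCard
        split_ifs <;> omega
      obtain ⟨⟨x, hx⟩⟩ : Nonempty {x : M ⧸ Cfsg.oddCore M // orderOf x = 2 ∧ x ∉ M0} :=
        (Nat.card_pos_iff.1 (by omega)).1
      exact ⟨x, hx⟩
    set t : M := ⟨σ ^ h, hC (Subgroup.mem_centralizer_singleton_iff.2 rfl)⟩
    have hto : orderOf t = 2 := by rw [Subgroup.orderOf_mk, ht]
    have hti : QuotientGroup.mk' (Cfsg.oddCore M) t ∈ M0 := by
      obtain ⟨j, hj⟩ := D.h_even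
      set x : M := ⟨σ ^ j, hPM (pow_mem D.memσ j)⟩
      have hxd : QuotientGroup.mk' (Cfsg.oddCore M) x ∈ diagPart M0 e := by
        obtain ⟨a, ha⟩ := P.2 ⟨σ ^ j, pow_mem D.memσ j⟩
        obtain ⟨b, -, hb⟩ := (Nat.dvd_prime_pow Nat.prime_two).1 ((orderOf_map_dvd (QuotientGroup.mk' (Cfsg.oddCore M)) x).trans
          (orderOf_dvd_of_pow_eq_one (Subtype.ext (congrArg Subtype.val ha : (σ ^ j) ^ 2 ^ a = 1))))
        exact two_mem_diagPart M0 e hX hC0 h2 hb
      rw [show t = x * x from Subtype.ext (by show σ ^ h = σ ^ j * σ ^ j; rw [hj, pow_add]), map_mul]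
      by_cases hx : QuotientGroup.mk' (Cfsg.oddCore M) x ∈ M0
      · exact mul_mem hx hx
      · exact mul_mem_of_not_mem M0 e hC0 h2 hxd hxd hx hx
    have hin := hinner M0 hM0n hM0s hout
    have hd : InnerData M (Cfsg.oddCore M) M0 e := by
      refine ⟨hG.isConj_invol, hK, hX, hC0, hM0s, h2, h5, hin, fun u hu hui g hg => ?_⟩
      obtain ⟨x, -, hx⟩ := isConj_of_invol_mem M0 e (orderOf_mk_invol hK hto) (orderOf_mk_invol hK hu) hti hui
      obtain ⟨m, -, hm⟩ := exists_conj_lift hK hto hu hx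
      have hm' : (m : G) * σ ^ h * (m : G)⁻¹ = (u : G) := congrArg Subtype.val hm
      have hg' := Subgroup.mem_centralizer_singleton_iff.1 hg
      have hmem : (m : G)⁻¹ * g * (m : G) ∈ M := hC (Subgroup.mem_centralizer_singleton_iff.2 (by
        calc (m : G)⁻¹ * g * m * σ ^ h = (m : G)⁻¹ * (g * ((m : G) * σ ^ h * (m : G)⁻¹)) * m := by group
          _ = (m : G)⁻¹ * ((m : G) * σ ^ h * (m : G)⁻¹ * g) * m := by rw [hm', hg']
          _ = σ ^ h * ((m : G)⁻¹ * g * m) := by group))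
      simpa [mul_assoc] using M.mul_mem (M.mul_mem m.2 hmem) (M.inv_mem m.2)
    refine (hd.twoData hG).false_of_frame hidx D hC fun V W hV hW => ⟨r, hr1, hrd, ?_⟩
    rw [hV, hW]
    exact hform
  · have htop := eq_top_of_alt7 hX M0 e hC0
    subst htop
    exact false_one_class_seven hM hK (Subgroup.topEquiv.symm.trans e) D hC hr1 hrd hform

end Min

end CfsgLib.GW
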