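import Cfsg.Agent.Lib.GW.XCount
import Cfsg.Agent.Lib.GW.OuterTori
import Cfsg.Agent.Lib.Classical.PslBin.Seven

/-!
# The torus centralised by an outer involution
-/

set_option autoImplicit false
set_option linter.style.haveILetI false
set_option linter.unusedSectionVars false

namespace CfsgLib.GW

open Matrix CfsgLib.Invol CfsgLib.AutPSL CfsgLib.Perm.Dickson

universe u

theorem two_mul_outerCard_half {q : ℕ} (hq : Odd q) : 2 * (outerCard q / 2) = outerCard q := by
  obtain ⟨j, rfl⟩ := hq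
  unfold outerCard
  split_ifs <;> omega

theorem odd_outerCard_half {q : ℕ} (hq : Odd q) : Odd (outerCard q / 2) := by
  obtain ⟨j, rfl⟩ := hq
  unfold outerCard
  rw [Nat.odd_iff]
  split_ifs <;> omega

theorem three_le_outerCard_half {q : ℕ} (hq : Odd q) (h5 : 5 ≤ q) : 3 ≤ outerCard q / 2 := by
  obtain ⟨j, rfl⟩ := hq
  unfold outerCard
  split_ifs <;> omega

theorem outerCard_half_coprime {q : ℕ} (hq : Odd q) :
    Nat.Coprime (outerCard q / 2) (invCard q) := by
  have h2 := two_mul_outerCard_half hq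
  have ho := odd_outerCard_half hq
  have hd : Nat.gcd (outerCard q / 2) (invCard q) ∣ 2 := by
    have ha : Nat.gcd (outerCard q / 2) (invCard q) ∣ outerCard q := by
      refine (Nat.gcd_dvd_left _ _).trans ⟨2, ?_⟩
      rw [mul_comm, h2]
    have hb : Nat.gcd (outerCard q / 2) (invCard q) ∣ invCard q := Nat.gcd_dvd_right _ _
    obtain ⟨j, rfl⟩ := hq
    revert ha hb
    unfold outerCard invCard
    generalize Nat.gcd _ _ = d
    intro ha hb
    split_ifs at ha hb with h
    · have := Nat.dvd_sub ha hb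
      rwa [show 2 * j + 1 + 1 - (2 * j + 1 - 1) = 2 by omega] at this
    · have := Nat.dvd_sub hb ha
      rwa [show 2 * j + 1 + 1 - (2 * j + 1 - 1) = 2 by omega] at this
  rcases (Nat.dvd_prime Nat.prime_two).1 hd with h | h
  · exact h
  · have h' := Nat.gcd_dvd_left (outerCard q / 2) (invCard q)
    rw [h] at h'
    exact absurd h' ho.not_two_dvd_nat

variable {X : Type u} [Group X] [Finite X] {F : Type*} [Field F] [Fintype F]
  (M : Subgroup X) [M.Normal] (e : M ≃* Matrix.ProjectiveSpecialLinearGroup (Fin 2) F)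

include e in
/-- the elements of `M` centralising an involution of `M` have order dividing `q - ε` -/
theorem orderOf_dvd_invCard (h2 : Odd (Fintype.card F)) {t x : X} (ht : orderOf t = 2) (htM : t ∈ M) (hx : x ∈ M)
    (hc : Commute x t) : orderOf x ∣ invCard (Fintype.card F) := by
  have hmem : e ⟨x, hx⟩ ∈ Subgroup.centralizer {e ⟨t, htM⟩} := by
    rw [Subgroup.mem_centralizer_singleton_iff, ← map_mul, ← map_mul]
    exact congrArg e (Subtype.ext hc.eq)
  have h := Subgroup.orderOf_dvd_natCard _ hmem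
  rwa [card_cent_psl h2 _ (by rw [MulEquiv.orderOf_eq, Subgroup.orderOf_mk, ht]), MulEquiv.orderOf_eq,
    Subgroup.orderOf_mk] at h

include e in
/-- **the torus of an outer involution**: cyclic of order `(q + ε) / 2`, inverted by the inner involutions -/
theorem outer_torus (hX : DihTwo X) (hC : Subgroup.centralizer (M : Set X) = ⊥) (h2 : (2 : F) ≠ 0)
    (h5 : 5 ≤ Fintype.card F) {w : X} (hw : orderOf w = 2) (hwM : w ∉ M) :
    ∃ T : Subgroup X, T ≤ M ∧ IsCyclic T ∧ Nat.card T = outerCard (Fintype.card F) / 2 ∧ (∀ x ∈ T, Commute x w) ∧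
      (∀ x ∈ diagPart M e, Odd (orderOf x) → Commute x w → x ∈ T) ∧
      (∀ u : X, orderOf u = 2 → u ∈ M → Commute u w → ∀ x ∈ T, u * x * u⁻¹ = x⁻¹) := by
  classical
  haveI := finite_G2 (F := F)
  obtain ⟨p, hchar⟩ := CharP.exists F
  haveI := hchar
  haveI : Fact p.Prime := ⟨CharP.char_is_prime F p⟩
  have ho : Odd (Nat.card F) := odd_of_two_ne h2
  have hD : ∀ x : X, orderOf x = 2 → x ∈ diagPart M e := fun x hx =>
    two_mem_diagPart M e hX hC h2 (k := 1) (by rw [hx]; norm_num)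
  have hidx : M.index = 2 * (diagPart M e).index := by
    refine (index_cases M e hC h2).resolve_left fun h => hwM ?_
    have h1 := Subgroup.relIndex_mul_index (le_diagPart M e)
    rw [h] at h1
    exact Subgroup.relIndex_eq_one.1 ((Nat.mul_eq_right Subgroup.FiniteIndex.index_ne_zero).1 h1) (hD w hw)
  have hbij := toG_bijective M e hC h2 hidx
  set α := toG M e ⟨w, hD w hw⟩ with hαdef
  have hαo : orderOf α = 2 := by rw [hαdef, orderOf_injective _ hbij.1, Subgroup.orderOf_mk, hw]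
  have hαn : α ∉ psl F := fun h => hwM ((mem_iff_toG M e hC h2 ⟨w, hD w hw⟩).2 h)
  obtain ⟨a, b, c, hab, hαP, hcp, hcP, -, hcodd, hcm, -⟩ :=
    exists_torus ho (by rwa [Nat.card_eq_fintype_card]) hαo hαn
  have hα1 : α ≠ 1 := invol_ne_one hαo
  set T0 := pairFix a b ⊓ psl F with hT0
  have hgood : GoodPair a b := goodPair_of_fix p hα1 hab (mem_pairFix.1 hαP).1 (mem_pairFix.1 hαP).2
  haveI := isCyclic_pairFix (F := F) hab
  haveI : IsCyclic T0 := isCyclic_of_injective _ (Subgroup.inclusion_injective (inf_le_left : T0 ≤ pairFix a b))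
  have hdvd : orderOf c ∣ Nat.card T0 := Subgroup.orderOf_dvd_natCard _ ⟨hcP, hcp⟩
  have hcardT := card_pairFix_psl hgood
  rw [gcd_odd ho] at hcardT
  have h5' : 5 ≤ Nat.card F := by rwa [Nat.card_eq_fintype_card]
  have hodd : Odd (Nat.card T0) := by
    rw [← Nat.not_even_iff_odd, even_iff_two_dvd]
    intro hd
    have h2c : 2 * orderOf c ∣ Nat.card T0 :=
      Nat.Coprime.mul_dvd_of_dvd_of_dvd (Nat.coprime_two_left.2 hcodd) hd hdvd
    have := Nat.le_of_dvd Nat.card_pos h2c
    rcases card_pairFix hgood with ⟨-, h⟩ | ⟨-, h⟩ <;> rw [← hT0] at hcardT <;> omega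
  have hTcard : Nat.card T0 = outerCard (Fintype.card F) / 2 := by
    rw [← Nat.card_eq_fintype_card]
    obtain ⟨j, hj⟩ := ho
    have := Nat.odd_iff.1 hodd
    unfold outerCard
    rcases card_pairFix hgood with ⟨-, h⟩ | ⟨-, h⟩ <;> rw [← hT0] at hcardT <;> split_ifs <;> omega
  set T : Subgroup X := (T0.comap (toG M e)).map (diagPart M e).subtype with hT
  have hmemT : ∀ x ∈ T, ∃ h : x ∈ diagPart M e, toG M e ⟨x, h⟩ ∈ T0 := by
    rintro x ⟨y, hy, rfl⟩
    exact ⟨y.2, hy⟩
  let E : T0.comap (toG M e) ≃* T0 := MulEquiv.ofBijective ((toG M e).subgroupComap T0)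
    ⟨fun x y h => Subtype.ext (hbij.1 (congrArg Subtype.val h)),
      fun y => by obtain ⟨x, hx⟩ := hbij.2 y; exact ⟨⟨x, show toG M e x ∈ T0 from hx ▸ y.2⟩, Subtype.ext hx⟩⟩
  let E' : T ≃* T0 := ((T0.comap (toG M e)).equivMapOfInjective _ (diagPart M e).subtype_injective).symm.trans E
  refine ⟨T, ?_, E'.isCyclic.2 inferInstance, (Nat.card_congr E'.toEquiv).trans hTcard, ?_, ?_, ?_⟩
  · intro x hx
    obtain ⟨hxD, hx'⟩ := hmemT x hx
    exact (mem_iff_toG M e hC h2 ⟨x, hxD⟩).2 hx'.2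
  · intro x hx
    obtain ⟨hxD, hx'⟩ := hmemT x hx
    have hcm' : toG M e ⟨x, hxD⟩ * α = α * toG M e ⟨x, hxD⟩ := congrArg Subtype.val
      (IsCyclic.commGroup.mul_comm (⟨_, hx'.1⟩ : pairFix a b) ⟨α, hαP⟩)
    rw [hαdef, ← map_mul, ← map_mul] at hcm'
    exact congrArg Subtype.val (hbij.1 hcm')
  · intro x hxD hxo hxw
    refine ⟨⟨x, hxD⟩, ⟨?_, ?_⟩, rfl⟩
    · have hps : toG M e ⟨x, hxD⟩ ∈ pairSet a b := CfsgLib.Classical.PslBin.mem_pairSet_of_comm hab hαP hα1 (by
        rw [hαdef, ← map_mul, ← map_mul]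
        exact congrArg _ (Subtype.ext hxw.eq.symm))
      by_contra hn
      have hsq := sq_of_swap hab hps hn
      have h1 : orderOf x ∣ 2 := by
        rw [← Subgroup.orderOf_mk x hxD, ← orderOf_injective _ hbij.1]
        exact orderOf_dvd_of_pow_eq_one (by rw [sq, hsq])
      rcases (Nat.dvd_prime Nat.prime_two).1 h1 with h | h
      · rw [orderOf_eq_one_iff] at h
        subst h
        exact hn (by rw [show (⟨1, hxD⟩ : diagPart M e) = 1 from rfl, map_one]; exact one_mem _)
      · exact absurd (h ▸ hxo) (by decide)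
    · exact (mem_iff_toG M e hC h2 ⟨x, hxD⟩).1 (mem_of_odd M e hC h2 hxD hxo)
  · intro u hu huM huw x hx
    obtain ⟨hxD, hx'⟩ := hmemT x hx
    set v := toG M e ⟨u, hD u hu⟩
    set z := toG M e ⟨x, hxD⟩
    have hvo : orderOf v = 2 := by rw [orderOf_injective _ hbij.1, Subgroup.orderOf_mk, hu]
    have hvn : v ∉ pairFix a b := fun h => by
      have := Subgroup.orderOf_dvd_natCard T0 ⟨h, (mem_iff_toG M e hC h2 ⟨u, hD u hu⟩).1 huM⟩
      rw [hvo] at this
      exact hodd.not_two_dvd_nat this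
    have hvs : v ∈ pairSet a b := CfsgLib.Classical.PslBin.mem_pairSet_of_comm hab hαP hα1 (by
      rw [hαdef, ← map_mul, ← map_mul]
      exact congrArg _ (Subtype.ext huw.eq.symm))
    have hvz : v * z * (v * z) = 1 := sq_of_swap hab (mul_mem hvs (pairFix_le_pairSet a b hx'.1))
      fun h => hvn ((Subgroup.mul_mem_cancel_right _ hx'.1).1 h)
    have hvi : v⁻¹ = v := inv_eq_of_mul_eq_one_right (invol_mul_self hvo)
    have key : v * z * v⁻¹ = z⁻¹ := by
      rw [hvi]
      exact eq_inv_of_mul_eq_one_left (by rw [← hvz]; group)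
    rw [← map_inv, ← map_inv, ← map_mul, ← map_mul] at key
    exact congrArg Subtype.val (hbij.1 key)

end CfsgLib.GW
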