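import Cfsg.Agent.Lib.GW.XCount
import Cfsg.Agent.Lib.GW.AltSevenCent
import Cfsg.Agent.Lib.GW.Setting

/-!
# `p`-subgroups normalised by an involution centraliser in groups of type c
-/

set_option autoImplicit false
set_option linter.style.haveILetI false
set_option linter.unusedSectionVars false

namespace CfsgLib.GW

open CfsgLib.Invol CfsgLib.AutPSL CfsgLib.Perm.Dickson

universe u

theorem orderOf_odd_of_pGroup {X : Type*} [Group X] [Finite X] {p : ℕ} [Fact p.Prime] (hp : p ≠ 2) {R : Subgroup X}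
    (hR : IsPGroup p R) {r : X} (hr : r ∈ R) : Odd (orderOf r) := by
  obtain ⟨k, hk⟩ := hR ⟨r, hr⟩
  exact ((Fact.out : p.Prime).odd_of_ne_two hp).pow.of_dvd_nat
    (orderOf_dvd_of_pow_eq_one (congrArg Subtype.val hk : r ^ p ^ k = 1))

variable {X : Type u} [Group X] [Finite X]

/-- the types `A4`, `S4`: odd invariant subgroups are trivial -/
theorem invariant_four_type (hX : IsFourType X) {p : ℕ} [Fact p.Prime] (hp : p ≠ 2) {R : Subgroup X}
    (hR : IsPGroup p R) {t a : X} (ht : orderOf t = 2) (ha : orderOf a = 2) (hne : a ≠ t) (hc : Commute t a)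
    (hn : Subgroup.centralizer ({t} : Set X) ≤ Subgroup.normalizer (R : Set X)) : R = ⊥ := by
  classical
  obtain ⟨V, hVn, hV, hVC, hcard⟩ := hX
  haveI := hVn
  haveI hW : IsKleinFour (Subgroup.closure ({t, a} : Set X)) := isKleinFour_closure_pair ht ha (Ne.symm hne) hc
  set W := Subgroup.closure ({t, a} : Set X)
  have hWC : W ≤ Subgroup.centralizer ({t} : Set X) := (Subgroup.closure_le _).2 (by
    rintro v (rfl | rfl)
    · exact Subgroup.mem_centralizer_singleton_iff.2 rfl
    · exact Subgroup.mem_centralizer_singleton_iff.2 hc.symm.eq)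
  obtain ⟨v, hvV, hvW, hv1⟩ : ∃ v, v ∈ V ∧ v ∈ W ∧ v ≠ 1 := by
    by_contra! hcon
    have hinj : Function.Injective (fun x : V × W => (x.1 : X) * x.2) := by
      rintro ⟨v₁, w₁⟩ ⟨v₂, w₂⟩ h
      simp only at h
      have h1 : (v₂ : X)⁻¹ * v₁ = w₂ * (w₁ : X)⁻¹ := by
        rw [eq_mul_inv_iff_mul_eq, mul_assoc, h, inv_mul_cancel_left]
      have h2 := hcon _ (mul_mem (inv_mem v₂.2) v₁.2) (h1 ▸ mul_mem w₂.2 (inv_mem w₁.2))
      have h3 : (v₁ : X) = v₂ := (inv_mul_eq_one.1 h2).symm
      rw [h3] at h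
      exact Prod.ext (Subtype.ext h3) (Subtype.ext (mul_left_cancel h))
    have h16 : Nat.card (↥(V ⊔ W)) ∣ Nat.card X := Subgroup.card_subgroup_dvd_card _
    have hle : 16 ≤ Nat.card (↥(V ⊔ W)) := by
      have := Nat.card_le_card_of_injective (fun x : V × W => (⟨(x.1 : X) * x.2,
        mul_mem (Subgroup.mem_sup_left x.1.2) (Subgroup.mem_sup_right x.2.2)⟩ : ↥(V ⊔ W)))
        (fun x y h => hinj (congrArg Subtype.val h))
      rwa [Nat.card_prod, hV.card_four, hW.card_four] at this
    have h2p : IsPGroup 2 (↥(V ⊔ W)) :=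
      (IsPGroup.of_card (n := 2) (by rw [hV.card_four]; norm_num) : IsPGroup 2 V).to_sup_of_normal_left
        (IsPGroup.of_card (n := 2) (by rw [hW.card_four]; norm_num) : IsPGroup 2 W)
    haveI : Fact (Nat.Prime 2) := ⟨Nat.prime_two⟩
    obtain ⟨k, hk⟩ := h2p.exists_card_eq
    rw [hk] at h16 hle
    have hk4 : 4 ≤ k := by
      by_contra hk4
      interval_cases k <;> omega
    have h24 : 16 ∣ Nat.card X := ((pow_dvd_pow 2 hk4).trans h16)
    rcases hcard with h | h <;> rw [h] at h24 <;> norm_num at h24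
  haveI : IsMulCommutative V := ⟨⟨fun a b => by
    haveI := hV
    exact mul_comm_of_exponent_two IsKleinFour.exponent_two a b⟩⟩
  refine (Subgroup.eq_bot_iff_forall R).2 fun r hr => ?_
  have hodd := orderOf_odd_of_pGroup hp hR hr
  have hV2 : ∀ w ∈ V, w * w = 1 := fun w hw => congrArg Subtype.val (IsKleinFour.mul_self (G := V) ⟨w, hw⟩)
  have hcoprime : ∀ w ∈ V, w ∈ R → w = 1 := fun w hw hwR => by
    have ho := orderOf_odd_of_pGroup hp hR hwR
    have h2 : orderOf w ∣ 2 := orderOf_dvd_of_pow_eq_one (by rw [sq]; exact hV2 w hw)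
    rcases (Nat.dvd_prime Nat.prime_two).1 h2 with e | e
    · exact orderOf_eq_one_iff.1 e
    · rw [e] at ho; exact absurd ho (by decide)
  -- `r` centralises `v`
  have hrv : r * v * r⁻¹ = v := by
    refine mul_inv_eq_one.1 (hcoprime _ (mul_mem (hVn.conj_mem v hvV r) (inv_mem hvV)) ?_)
    rw [show r * v * r⁻¹ * v⁻¹ = r * (v * r⁻¹ * v⁻¹) by group]
    exact mul_mem hr ((Subgroup.mem_normalizer_iff.1 (hn (hWC hvW)) r⁻¹).1 (inv_mem hr))
  -- so it centralises the four group
  have hrV : r ∈ Subgroup.centralizer (V : Set X) := by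
    refine Subgroup.mem_centralizer_iff.2 fun w hw => ?_
    haveI := hV
    rcases eq_or_ne w 1 with rfl | hw1
    · simp
    rcases eq_or_ne w v with rfl | hwv
    · exact (mul_inv_eq_iff_eq_mul.1 hrv).symm
    have hvo : orderOf v = 2 := invol_iff.2 ⟨hV2 v hvV, hv1⟩
    have hwo : orderOf w = 2 := invol_iff.2 ⟨hV2 w hw, hw1⟩
    have hvw : Commute v w := congrArg Subtype.val (IsMulCommutative.is_comm.comm (⟨v, hvV⟩ : V) ⟨w, hw⟩)
    have hVcl : Subgroup.closure ({v, w} : Set X) = V := Subgroup.eq_of_le_of_card_ge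
      ((Subgroup.closure_le _).2 (by rintro z (rfl | rfl); exacts [hvV, hw]))
      (by rw [hV.card_four, (isKleinFour_closure_pair hvo hwo (Ne.symm hwv) hvw).card_four])
    have hmem : r * w * r⁻¹ ∈ Subgroup.closure ({v, w} : Set X) := hVcl ▸ hVn.conj_mem w hw r
    rcases mem_klein hvo hwo (Ne.symm hwv) hvw hmem with h | h | h | h
    · exact absurd (conj_eq_one_iff.1 h) hw1
    · exact absurd ((MulAut.conj r).injective (h.trans hrv.symm)) hwv
    · exact (mul_inv_eq_iff_eq_mul.1 h).symm
    · -- an odd element cannot move `w` to `v w`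
      exfalso
      have h2' : r ^ 2 * w * (r ^ 2)⁻¹ = w := by
        calc r ^ 2 * w * (r ^ 2)⁻¹ = r * (r * w * r⁻¹) * r⁻¹ := by rw [sq]; group
          _ = r * (v * w) * r⁻¹ := by rw [h]
          _ = (r * v * r⁻¹) * (r * w * r⁻¹) := by group
          _ = w := by rw [hrv, h, ← mul_assoc, hV2 v hvV, one_mul]
      obtain ⟨j, hj⟩ := hodd
      have h3 : Commute (r ^ 2) w := mul_inv_eq_iff_eq_mul.1 h2'
      have h4 : r = (r ^ 2) ^ (j + 1) := by
        rw [← pow_mul, show 2 * (j + 1) = (2 * j + 1) + 1 by ring, pow_succ, ← hj, pow_orderOf_eq_one, one_mul]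
      have h5 : Commute r w := h4 ▸ h3.pow_left _
      rw [h5.eq, mul_inv_cancel_right] at h
      exact hv1 (mul_eq_right.1 h.symm)
  rw [hVC] at hrV
  exact hcoprime r hrV hr

variable {F : Type*} [Field F] [Fintype F] (M : Subgroup X) [M.Normal]
  (e : M ≃* Matrix.ProjectiveSpecialLinearGroup (Fin 2) F)

include e in
/-- a nontrivial odd element of the diagonal part centralises at most one involution -/
theorem invol_unique_of_cent (hX : DihTwo X) (hC : Subgroup.centralizer (M : Set X) = ⊥) (h2 : (2 : F) ≠ 0)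
    {x u w : X} (hx : x ∈ diagPart M e) (hx1 : x ≠ 1) (ho : Odd (orderOf x)) (hu : orderOf u = 2)
    (hw : orderOf w = 2) (hxu : Commute x u) (hxw : Commute x w) : u = w := by
  have hinj := conjVia_injective M e hC
  have hord : ∀ v : X, orderOf (conjVia M e v) = orderOf v := fun v => orderOf_injective _ hinj v
  by_contra hne
  obtain ⟨gx, hgx⟩ := (mem_diagPart M e).1 hx
  obtain ⟨gu, hgu⟩ := (mem_diagPart M e).1 (two_mem_diagPart M e hX hC h2 (k := 1) (by rw [hu]; norm_num))
  obtain ⟨gw, hgw⟩ := (mem_diagPart M e).1 (two_mem_diagPart M e hX hC h2 (k := 1) (by rw [hw]; norm_num))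
  have hx1' : indHom gx ≠ 1 := by rw [← hgx]; exact fun h => hx1 (hinj (h.trans (map_one _).symm))
  have hxo : Odd (orderOf (indHom gx)) := by rw [← hgx, hord]; exact ho
  have hxu' : Commute (indHom gx) (indHom gu) := by rw [← hgx, ← hgu]; exact hxu.map _
  have hxw' : Commute (indHom gx) (indHom gw) := by rw [← hgx, ← hgw]; exact hxw.map _
  refine hx1' (Two.cent_four h2 (by rw [← hgu, hord, hu]) (by rw [← hgw, hord, hw])
    (by rw [← hgu, ← hgw]; exact fun h => hne (hinj h)) ?_ hxo hxu' hxw')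
  exact Two.commute_indHom (Two.commute_of_commute (Two.not_scalar hx1') (Two.commute_of_odd hxo hxu').symm
    (Two.commute_of_odd hxo hxw').symm)

include e in
/-- an involution outside `M` commutes with an element of order at least three of the diagonal part -/
theorem exists_big_cent (hX : DihTwo X) (hC : Subgroup.centralizer (M : Set X) = ⊥) (h2 : (2 : F) ≠ 0)
    (h5 : 5 ≤ Fintype.card F) {t : X} (ht : orderOf t = 2) (htM : t ∉ M) :
    ∃ g ∈ M, Commute g t ∧ g * g ≠ 1 := by
  classical
  haveI := finite_G2 (F := F)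
  have ho := odd_of_two_ne h2
  have h5' : 5 ≤ Nat.card F := by rwa [Nat.card_eq_fintype_card]
  have htD := two_mem_diagPart M e hX hC h2 (k := 1) (by rw [ht]; norm_num)
  set t' := toG M e ⟨t, htD⟩
  have hto : orderOf t' = 2 := by rw [orderOf_injective _ (toG_injective M e hC), Subgroup.orderOf_mk, ht]
  have htn : t' ∉ psl F := fun h => htM ((mem_iff_toG M e hC h2 ⟨t, htD⟩).2 h)
  obtain ⟨a, b, c, hab, htP, hcp, hcP, hct, hcodd, hcm, -⟩ := exists_torus ho h5' hto htn
  have himg : (M.subgroupOf (diagPart M e)).map (toG M e) = psl F := by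
    refine Subgroup.eq_of_le_of_card_ge ?_ ?_
    · rintro _ ⟨x, hx, rfl⟩
      exact (mem_iff_toG M e hC h2 x).1 hx
    · rw [Subgroup.card_map_of_injective (toG_injective M e hC),
        Nat.card_congr (Subgroup.subgroupOfEquivOfLe (le_diagPart M e)).toEquiv, Nat.card_congr e.toEquiv,
        Nat.card_congr (pslEquiv F).toEquiv]
  obtain ⟨x, hx, hxc⟩ : c ∈ (M.subgroupOf (diagPart M e)).map (toG M e) := himg ▸ hcp
  refine ⟨x, hx, congrArg Subtype.val (toG_injective M e hC (show toG M e (x * ⟨t, htD⟩) = toG M e (⟨t, htD⟩ * x) by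
    rw [map_mul, map_mul, hxc]; exact hct.eq)), fun h => ?_⟩
  have h1 : c * c = 1 := by
    rw [← hxc, ← map_mul, show x * x = 1 from Subtype.ext h, map_one]
  have h3 : orderOf c ∣ 2 := orderOf_dvd_of_pow_eq_one (by rw [sq, h1])
  have := Nat.le_of_dvd two_pos h3
  obtain ⟨j, hj⟩ := hcodd
  omega

include e in
/-- the projective types -/
theorem invariant_psl (hX : DihTwo X) (hC : Subgroup.centralizer (M : Set X) = ⊥) (ho : Odd (Fintype.card F))
    (h3 : 3 < Fintype.card F) {p : ℕ} [Fact p.Prime] (hp : p ≠ 2) {R : Subgroup X}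
    (hR : IsPGroup p R) {t a : X} (ht : orderOf t = 2) (ha : orderOf a = 2) (hne : a ≠ t) (hc : Commute t a)
    (hn : Subgroup.centralizer ({t} : Set X) ≤ Subgroup.normalizer (R : Set X)) : ∀ r ∈ R, Commute r t := by
  classical
  have h2 : (2 : F) ≠ 0 := CfsgLib.Perm.Dickson.two_ne_zero_of_odd (by rwa [Nat.card_eq_fintype_card])
  have h5 : 5 ≤ Fintype.card F := by obtain ⟨j, hj⟩ := ho; omega
  have htD := two_mem_diagPart M e hX hC h2 (k := 1) (by rw [ht]; norm_num)
  have htn : t ∈ Subgroup.normalizer (R : Set X) := hn (Subgroup.mem_centralizer_singleton_iff.2 rfl)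
  have han : a ∈ Subgroup.normalizer (R : Set X) := hn (Subgroup.mem_centralizer_singleton_iff.2 hc.symm.eq)
  set R₀ := R ⊓ diagPart M e
  have hnR₀ : ∀ c ∈ Subgroup.normalizer (R : Set X), ∀ x ∈ R₀, c * x * c⁻¹ ∈ R₀ := fun c hcn x hx =>
    ⟨(Subgroup.mem_normalizer_iff.1 hcn x).1 hx.1, (diagPart_normal M e).conj_mem x hx.2 c⟩
  have hR₀n : ∀ c ∈ Subgroup.normalizer (R : Set X), c ∈ Subgroup.normalizer (R₀ : Set X) := fun c hcn => by
    refine Subgroup.mem_normalizer_iff.2 fun x => ⟨hnR₀ c hcn x, fun h => ?_⟩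
    have := hnR₀ _ (inv_mem hcn) _ h
    rwa [show c⁻¹ * (c * x * c⁻¹) * c⁻¹⁻¹ = x by group] at this
  -- the part in the diagonal part centralises `t`
  have key : ∀ x ∈ R₀, Commute x t := by
    intro x hx
    by_cases hx1 : x = 1
    · rw [hx1]; exact Commute.one_left t
    have hodd := orderOf_odd_of_pGroup hp hR hx.1
    obtain ⟨v, hvo, hvt, hvR⟩ : ∃ v : X, orderOf v = 2 ∧ Commute t v ∧ ∀ r ∈ R₀, Commute r v := by
      rcases (four_invariant M e hX hC h2 ht ha (Ne.symm hne) hc hp (hR.to_le inf_le_left) inf_le_right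
        (hR₀n t htn) (hR₀n a han)).2 with h | h | h
      · exact ⟨t, ht, Commute.refl t, h⟩
      · exact ⟨a, ha, hc, h⟩
      · exact ⟨t * a, invol_mul_of_commute ht ha (Ne.symm hne) hc, (Commute.refl t).mul_right hc, h⟩
    by_cases hvt' : v = t
    · exact hvt' ▸ hvR x hx
    exfalso
    -- `C(t)` centralises `v`
    have hle : Subgroup.centralizer ({t} : Set X) ≤ Subgroup.centralizer ({t, v} : Set X) := by
      intro c hcC
      have hcn := hn hcC
      have hconj : c⁻¹ * x * c⁻¹⁻¹ ∈ R₀ := hnR₀ _ (inv_mem hcn) x hx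
      have hcomm : Commute x (c * v * c⁻¹) := by
        have := (hvR _ hconj).map (MulAut.conj c).toMonoidHom
        change Commute (c * (c⁻¹ * x * c⁻¹⁻¹) * c⁻¹) (c * v * c⁻¹) at this
        rwa [show c * (c⁻¹ * x * c⁻¹⁻¹) * c⁻¹ = x by group] at this
      have heq := invol_unique_of_cent M e hX hC h2 hx.2 hx1 hodd hvo
        (w := c * v * c⁻¹) (by rw [show c * v * c⁻¹ = MulAut.conj c v from rfl, MulEquiv.orderOf_eq, hvo])
        (hvR x hx) hcomm
      refine Subgroup.mem_centralizer_iff.2 ?_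
      rintro w (rfl | rfl)
      · exact (Subgroup.mem_centralizer_singleton_iff.1 hcC).symm
      · exact (mul_inv_eq_iff_eq_mul.1 heq.symm).symm
    by_cases htM : t ∈ M
    · have h1 := card_cent_invol M e ho ht htM
      have h4 := card_cent_four M e hX hC h2 ht hvo (Ne.symm hvt') hvt
      have hCC : Subgroup.centralizer ({t} : Set X) = Subgroup.centralizer ({t, v} : Set X) :=
        le_antisymm hle (Subgroup.centralizer_le (by simp))
      rw [hCC, h4] at h1
      have hidx := index_cases M e hC h2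
      have hf : 0 < (diagPart M e).index := Nat.pos_of_ne_zero Subgroup.FiniteIndex.index_ne_zero
      have hinv : 4 ≤ invCard (Fintype.card F) := by unfold invCard; split_ifs <;> omega
      have hMD : M.index = (diagPart M e).index := by
        rcases hidx with e1 | e1
        · exact e1
        · rw [e1] at h1; nlinarith
      have hvM : v ∈ M := by
        have hd := two_mem_diagPart M e hX hC h2 (k := 1) (show orderOf v = 2 ^ 1 by rw [hvo]; norm_num)
        have : M = diagPart M e := Subgroup.eq_of_le_of_card_ge (le_diagPart M e) (by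
          have h5 := M.card_mul_index
          rw [hMD, ← (diagPart M e).card_mul_index] at h5
          exact (Nat.eq_of_mul_eq_mul_right hf h5).ge)
        exact this ▸ hd
      have h5 := card_cent_invol M e ho hvo hvM
      have hCv : Subgroup.centralizer ({t, v} : Set X) = Subgroup.centralizer ({v} : Set X) := by
        refine Subgroup.eq_of_le_of_card_ge (Subgroup.centralizer_le (by simp)) ?_
        rw [h4, h5, ← h1]
      have hxv : x ∈ Subgroup.centralizer ({t, v} : Set X) :=
        hCv.symm ▸ Subgroup.mem_centralizer_singleton_iff.2 (hvR x hx).eq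
      have hxt : Commute x t := (Subgroup.mem_centralizer_iff.1 hxv t (by simp)).symm
      exact hvt' (invol_unique_of_cent M e hX hC h2 hx.2 hx1 hodd hvo ht (hvR x hx) hxt)
    · obtain ⟨g, hgM, hgt, hg2⟩ := exists_big_cent M e hX hC h2 h5 ht htM
      have hg := hle (Subgroup.mem_centralizer_singleton_iff.2 hgt.eq)
      have hgv : Commute g v := (Subgroup.mem_centralizer_iff.1 hg v (by simp)).symm
      apply hg2
      rcases diag_cent_four M e hX hC h2 ht hvo (Ne.symm hvt') hvt (le_diagPart M e hgM) hgt hgv with h | h | h | h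
      · rw [h, mul_one]
      · rw [h, invol_mul_self ht]
      · rw [h, invol_mul_self hvo]
      · rw [h, invol_mul_self (invol_mul_of_commute ht hvo (Ne.symm hvt') hvt)]
  intro r hr
  have htt := invol_mul_self ht
  have hti : t⁻¹ = t := inv_eq_of_mul_eq_one_right htt
  set d := r * t * r⁻¹ * t
  have hdR : d ∈ R := by
    rw [show d = r * (t * r⁻¹ * t⁻¹) by simp only [d, hti]; group]
    exact mul_mem hr ((Subgroup.mem_normalizer_iff.1 htn r⁻¹).1 (inv_mem hr))
  have hdD : d ∈ diagPart M e := mul_mem ((diagPart_normal M e).conj_mem t htD r) htD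
  have hdt := key d ⟨hdR, hdD⟩
  have hinv : t * d * t⁻¹ = d⁻¹ := by
    simp only [d, _root_.mul_inv_rev, inv_inv, hti]
    rw [show t * (r * t * r⁻¹ * t) * t = t * r * t * r⁻¹ * (t * t) by group, htt]
    group
  rw [show t * d * t⁻¹ = d by rw [hdt.symm.eq, mul_inv_cancel_right]] at hinv
  have hd2 : d ^ 2 = 1 := by
    rw [sq]; nth_rewrite 2 [hinv]; exact mul_inv_cancel d
  have hd1 : d = 1 := by
    obtain ⟨j, hj⟩ := orderOf_odd_of_pGroup hp hR hdR
    have h := pow_orderOf_eq_one d
    rwa [hj, pow_succ, pow_mul, hd2, one_pow, one_mul] at h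
  have h := eq_inv_of_mul_eq_one_left (show r * t * r⁻¹ * t = 1 from hd1)
  rw [hti] at h
  exact mul_inv_eq_iff_eq_mul.1 h

/-- **`p`-subgroups normalised by an involution centraliser** in groups of type c -/
theorem commute_of_invariant {X : Type u} [Group X] [Finite X] (hD : DihTwo X) (hX : TypeC X) {p : ℕ}
    [Fact p.Prime] (hp : p ≠ 2) {R : Subgroup X} (hR : IsPGroup p R) {t a : X} (ht : orderOf t = 2)
    (ha : orderOf a = 2) (hne : a ≠ t) (hc : Commute t a)
    (hn : Subgroup.centralizer ({t} : Set X) ≤ Subgroup.normalizer (R : Set X)) : ∀ r ∈ R, Commute r t := by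
  rcases hX with h | ⟨M, hM, -, -, -, hC, hT⟩
  · intro r hr
    rw [invariant_four_type h hp hR ht ha hne hc hn, Subgroup.mem_bot] at hr
    rw [hr]
    exact Commute.one_left t
  haveI := hM
  rcases hT with ⟨F, i, j, ho, h3, ⟨e⟩⟩ | ⟨⟨e⟩⟩
  · exact invariant_psl M e hD hC ho h3 hp hR ht ha hne hc hn
  · have htop := eq_top_of_alt7 hD M e hC
    set φ : X ≃* alternatingGroup (Fin 7) :=
      (Subgroup.topEquiv.symm.trans (MulEquiv.subgroupCongr htop.symm)).trans e
    intro r hr
    refine φ.injective ?_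
    rw [map_mul, map_mul]
    refine (alt_seven_commute hp (R := R.map φ.toMonoidHom) (hR.map _) (t := φ t) (by rw [MulEquiv.orderOf_eq, ht])
      (fun x hx => ?_) (φ r) ⟨r, hr, rfl⟩).eq
    obtain ⟨y, rfl⟩ := φ.surjective x
    refine Subgroup.le_normalizer_map φ.toMonoidHom ⟨y, hn (Subgroup.mem_centralizer_singleton_iff.2 (φ.injective ?_)), rfl⟩
    rw [map_mul, map_mul]
    exact Subgroup.mem_centralizer_singleton_iff.1 hx

end CfsgLib.GW
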