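import Cfsg.Agent.Lib.GW.FieldPart

/-!
# Groups with dihedral Sylow 2-subgroups over `PSL(2, F)`

`M` is a normal subgroup isomorphic to `PSL(2, F)` with trivial centraliser.  `diagPart M e` consists of the
elements inducing inner-diagonal automorphisms: it has odd index `f`, and `M` has index at most two in it.
-/

set_option autoImplicit false
set_option linter.style.haveILetI false
set_option linter.unusedSectionVars false

namespace CfsgLib.GW

open Matrix CfsgLib.Invol CfsgLib.AutPSL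

universe u

variable {X : Type u} [Group X] [Finite X] {F : Type*} [Field F] [Fintype F]
  (M : Subgroup X) [M.Normal] (e : M ≃* Matrix.ProjectiveSpecialLinearGroup (Fin 2) F)

theorem invol_mul_of_commute {G : Type*} [Group G] {a b : G} (ha : orderOf a = 2) (hb : orderOf b = 2)
    (hab : a ≠ b) (hc : Commute a b) : orderOf (a * b) = 2 := by
  haveI : Fact (Nat.Prime 2) := ⟨Nat.prime_two⟩
  refine orderOf_eq_prime ?_ fun h => hab ?_
  · rw [hc.mul_pow, ← ha, pow_orderOf_eq_one, ha, ← hb, pow_orderOf_eq_one, mul_one]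
  · rw [eq_inv_of_mul_eq_one_left h, inv_eq_of_mul_eq_one_right (invol_mul_self hb)]

/-- the field part -/
noncomputable def fieldOn : X →* RingAut F := (fieldPartHom (F := F)).comp (conjVia M e)

/-- the elements inducing inner-diagonal automorphisms -/
noncomputable def diagPart : Subgroup X := (fieldOn M e).ker

instance diagPart_normal : (diagPart M e).Normal := MonoidHom.normal_ker _

theorem mem_diagPart {x : X} : x ∈ diagPart M e ↔ ∃ g : GL (Fin 2) F, conjVia M e x = indHom g := by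
  rw [diagPart, MonoidHom.mem_ker]
  exact mem_ker_fieldPartHom

theorem le_diagPart : M ≤ diagPart M e := fun x hx => by
  obtain ⟨s, hs⟩ := (mem_inn_iff (β := conjVia M e x)).1 ⟨e ⟨x, hx⟩, (conjVia_mem M e ⟨x, hx⟩).symm⟩
  exact (mem_diagPart M e).2 ⟨_, hs⟩

theorem mem_of_inn (hC : Subgroup.centralizer (M : Set X) = ⊥) {x : X}
    (hx : conjVia M e x ∈ Cfsg.Inn (Matrix.ProjectiveSpecialLinearGroup (Fin 2) F)) : x ∈ M := by
  obtain ⟨t, ht⟩ := hx
  have h1 : conjVia M e ((e.symm t : M) : X) = conjVia M e x := by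
    rw [conjVia_mem, MulEquiv.apply_symm_apply, ht]
  exact conjVia_injective M e hC h1 ▸ (e.symm t).2

theorem mem_iff_isSquare (hC : Subgroup.centralizer (M : Set X) = ⊥) (h2 : (2 : F) ≠ 0) {x : X}
    {g : GL (Fin 2) F} (hg : conjVia M e x = indHom g) : x ∈ M ↔ IsSquare g.1.det := by
  rw [← indHom_mem_inn_iff h2, ← hg]
  exact ⟨fun hx => ⟨e ⟨x, hx⟩, (conjVia_mem M e ⟨x, hx⟩).symm⟩, mem_of_inn M e hC⟩

/-- two elements outside `M` in the diagonal part multiply into `M` -/
theorem mul_mem_of_not_mem (hC : Subgroup.centralizer (M : Set X) = ⊥) (h2 : (2 : F) ≠ 0) {x y : X}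
    (hx : x ∈ diagPart M e) (hy : y ∈ diagPart M e) (hx' : x ∉ M) (hy' : y ∉ M) : x * y ∈ M := by
  obtain ⟨g, hg⟩ := (mem_diagPart M e).1 hx
  obtain ⟨h, hh⟩ := (mem_diagPart M e).1 hy
  rw [mem_iff_isSquare M e hC h2 hg] at hx'
  rw [mem_iff_isSquare M e hC h2 hh] at hy'
  rw [mem_iff_isSquare M e hC h2 (g := g * h) (by rw [map_mul, map_mul, hg, hh]), Units.val_mul, Matrix.det_mul]
  exact isSquare_mul_nonsquare h2 hx' hy'

/-- elements of odd order in the diagonal part lie in `M` -/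
theorem mem_of_odd (hC : Subgroup.centralizer (M : Set X) = ⊥) (h2 : (2 : F) ≠ 0) {x : X}
    (hx : x ∈ diagPart M e) (ho : Odd (orderOf x)) : x ∈ M := by
  by_contra hxM
  obtain ⟨k, hk⟩ := ho
  have h1 : (x * x) ^ k * x ∉ M := fun h =>
    hxM ((Subgroup.mul_mem_cancel_left M (pow_mem (mul_mem_of_not_mem M e hC h2 hx hx hxM hxM) k)).1 h)
  rw [← sq, ← pow_mul, ← pow_succ, ← hk, pow_orderOf_eq_one] at h1
  exact h1 M.one_mem

include e in
/-- an element of a Sylow 2-subgroup outside `M` can be moved to an involution by `M` -/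
theorem exists_invol_mul (hX : DihTwo X) (h2 : (2 : F) ≠ 0) {x : X} (hx2 : ∃ k : ℕ, orderOf x = 2 ^ k)
    (hxM : x ∉ M) : ∃ m ∈ M, orderOf (x * m) = 2 := by
  classical
  haveI : Fact (Nat.Prime 2) := ⟨Nat.prime_two⟩
  obtain ⟨k, hk⟩ := hx2
  obtain ⟨S, hS⟩ := (IsPGroup.of_card (n := k) (by rw [Nat.card_zpowers, hk]) :
    IsPGroup 2 (Subgroup.zpowers x)).exists_le_sylow
  have hxS : x ∈ (S : Subgroup X) := hS (Subgroup.mem_zpowers x)
  obtain ⟨n, hn, ⟨φ⟩⟩ := hX S
  haveI : NeZero n := ⟨by omega⟩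
  -- a four group of `M` inside `S`
  obtain ⟨a₀, b₀, ha₀, hb₀, hne₀, hc₀, -, -⟩ := exists_fixed_four h2 (1 : RingAut F)
  set a : X := ((e.symm a₀ : M) : X) with ha'
  set b : X := ((e.symm b₀ : M) : X) with hb'
  have ha : orderOf a = 2 := by rw [ha', Subgroup.orderOf_coe, MulEquiv.orderOf_eq, ha₀]
  have hb : orderOf b = 2 := by rw [hb', Subgroup.orderOf_coe, MulEquiv.orderOf_eq, hb₀]
  have hab : a ≠ b := fun h => hne₀ (e.symm.injective (Subtype.ext h))
  have hc : Commute a b := congrArg Subtype.val (hc₀.map e.symm.toMonoidHom)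
  have hV : IsPGroup 2 (Subgroup.closure ({a, b} : Set X)) := IsPGroup.of_card (n := 2) (by
    rw [(isKleinFour_closure_pair ha hb hab hc).card_four]; norm_num)
  obtain ⟨T, hT⟩ := hV.exists_le_sylow
  obtain ⟨g, hg⟩ := MulAction.exists_smul_eq X T S
  have hin : ∀ v ∈ Subgroup.closure ({a, b} : Set X), MulAut.conj g v ∈ (S : Subgroup X) := fun v hv => by
    rw [← hg, Sylow.coe_subgroup_smul]
    exact ⟨v, hT hv, rfl⟩
  set a' := MulAut.conj g a
  set b' := MulAut.conj g b
  have haS : a' ∈ (S : Subgroup X) := hin a (Subgroup.subset_closure (by simp))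
  have hbS : b' ∈ (S : Subgroup X) := hin b (Subgroup.subset_closure (by simp))
  have haM : a' ∈ M := ‹M.Normal›.conj_mem a (e.symm a₀).2 g
  have hbM : b' ∈ M := ‹M.Normal›.conj_mem b (e.symm b₀).2 g
  have hordS : ∀ (v : X) (hv : v ∈ (S : Subgroup X)), orderOf (φ ⟨v, hv⟩) = orderOf v := fun v hv => by
    rw [MulEquiv.orderOf_eq, Subgroup.orderOf_mk]
  have hoa : orderOf a' = 2 := by rw [show a' = MulAut.conj g a from rfl, MulEquiv.orderOf_eq, ha]
  have hob : orderOf b' = 2 := by rw [show b' = MulAut.conj g b from rfl, MulEquiv.orderOf_eq, hb]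
  -- one of them is a reflection
  obtain ⟨s, hsS, hsM, i, hsi⟩ : ∃ (s : X) (hs : s ∈ (S : Subgroup X)), s ∈ M ∧
      ∃ i : ZMod n, φ ⟨s, hs⟩ = DihedralGroup.sr i := by
    rcases hai : φ ⟨a', haS⟩ with i | i
    · rcases hbi : φ ⟨b', hbS⟩ with j | j
      · exfalso
        refine hab ((MulAut.conj g).injective ?_)
        have hinv : ∀ v : ZMod n, orderOf (DihedralGroup.r v) = 2 → v + v = 0 ∧ v ≠ 0 := by
          intro v hv
          refine ⟨?_, fun e0 => ?_⟩
          · have h1 := pow_orderOf_eq_one (DihedralGroup.r v)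
            rw [hv, sq, DihedralGroup.r_mul_r, DihedralGroup.one_def, DihedralGroup.r.injEq] at h1
            exact h1
          · rw [e0, DihedralGroup.r_zero, orderOf_one] at hv; omega
        obtain ⟨hi1, hi0⟩ := hinv i (by rw [← hai, hordS, hoa])
        obtain ⟨hj1, hj0⟩ := hinv j (by rw [← hbi, hordS, hob])
        have hij : i = j := CfsgLib.Invol.add_self_eq_zero_unique hi1 hj1 hi0 hj0
        have hab' : φ ⟨a', haS⟩ = φ ⟨b', hbS⟩ := by rw [hai, hbi, hij]
        exact congrArg Subtype.val (φ.injective hab')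
      · exact ⟨b', hbS, hbM, j, hbi⟩
    · exact ⟨a', haS, haM, i, hai⟩
  rcases hxi : φ ⟨x, hxS⟩ with j | j
  · refine ⟨s, hsM, ?_⟩
    rw [← hordS (x * s) (mul_mem hxS hsS), show (⟨x * s, mul_mem hxS hsS⟩ : (S : Subgroup X)) = ⟨x, hxS⟩ * ⟨s, hsS⟩
      from rfl, map_mul, hxi, hsi, DihedralGroup.r_mul_sr]
    exact DihedralGroup.orderOf_sr _
  · refine ⟨1, M.one_mem, ?_⟩
    rw [mul_one, ← hordS x hxS, hxi]
    exact DihedralGroup.orderOf_sr _

/-- **the field part has odd order** -/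
theorem field_odd (hX : DihTwo X) (hC : Subgroup.centralizer (M : Set X) = ⊥) (h2 : (2 : F) ≠ 0) :
    ¬ 2 ∣ (diagPart M e).index := by
  classical
  haveI : Fact (Nat.Prime 2) := ⟨Nat.prime_two⟩
  intro hd
  rw [diagPart, Subgroup.index_ker] at hd
  haveI : Finite (RingAut F) := Finite.of_injective _ DFunLike.coe_injective
  obtain ⟨⟨σ, x, rfl⟩, hσ⟩ := exists_prime_orderOf_dvd_card' 2 hd
  rw [← Subgroup.orderOf_coe] at hσ
  change orderOf (fieldOn M e x) = 2 at hσ
  -- a 2-element over the same field automorphism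
  obtain ⟨k, m, hm, hkm⟩ := Nat.exists_eq_two_pow_mul_odd (orderOf_pos x).ne'
  have hx' : orderOf (x ^ m) = 2 ^ k := by
    rw [orderOf_pow_of_dvd hm.pos.ne' ⟨2 ^ k, by rw [hkm, mul_comm]⟩, hkm, Nat.mul_div_cancel _ hm.pos]
  have hfx : fieldOn M e (x ^ m) = fieldOn M e x := by
    obtain ⟨j, hj⟩ := hm
    rw [map_pow, hj, pow_succ, pow_mul, ← hσ, pow_orderOf_eq_one, one_pow, one_mul]
  have hxM : x ^ m ∉ M := fun h => by
    have h1 := le_diagPart M e h
    rw [diagPart, MonoidHom.mem_ker, hfx] at h1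
    rw [h1, orderOf_one] at hσ
    omega
  obtain ⟨m₁, hm₁, hy⟩ := exists_invol_mul M e hX h2 ⟨k, hx'⟩ hxM
  set y := x ^ m * m₁
  have hfy : fieldOn M e y = fieldOn M e x := by
    rw [map_mul, hfx, (MonoidHom.mem_ker.1 (le_diagPart M e hm₁)), mul_one]
  obtain ⟨τ, g, hg⟩ := exists_ind (conjVia M e y)
  have hτ : τ = fieldOn M e x := by
    rw [← hfy]
    show τ = fieldPartHom (conjVia M e y)
    rw [hg, fieldPartHom_ind]
  subst hτ
  set σ := fieldOn M e x
  have hyy : y * y = 1 := by rw [← sq, ← hy]; exact pow_orderOf_eq_one y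
  have hg2 : ind g σ * ind g σ = 1 := by rw [← hg, ← map_mul, hyy, map_one]
  have hdet := det_isSquare_of_invol h2 hσ hg2
  -- move `y` onto the standard field automorphism
  obtain ⟨t, ht⟩ := (indHom_mem_inn_iff h2 g).2 hdet
  set z := ((e.symm t : M) : X)⁻¹ * y
  have hz : conjVia M e z = ind (1 : GL (Fin 2) F) σ := by
    rw [map_mul, map_inv, conjVia_mem, MulEquiv.apply_symm_apply, ht, hg, ← ind_mul_fieldHom g σ]
    exact inv_mul_cancel_left (indHom g) _
  have hzo : orderOf z = 2 := by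
    rw [← orderOf_injective (conjVia M e) (conjVia_injective M e hC) z, hz]
    exact (CfsgLib.AutPSL.orderOf_fieldHom le_rfl σ).trans hσ
  obtain ⟨a₀, b₀, ha₀, hb₀, hne₀, hc₀, hfa, hfb⟩ := exists_fixed_four h2 σ
  set a : X := ((e.symm a₀ : M) : X) with ha'
  set b : X := ((e.symm b₀ : M) : X) with hb'
  have ha : orderOf a = 2 := by rw [ha', Subgroup.orderOf_coe, MulEquiv.orderOf_eq, ha₀]
  have hb : orderOf b = 2 := by rw [hb', Subgroup.orderOf_coe, MulEquiv.orderOf_eq, hb₀]
  have hab : a ≠ b := fun h => hne₀ (e.symm.injective (Subtype.ext h))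
  have hc : Commute a b := congrArg Subtype.val (hc₀.map e.symm.toMonoidHom)
  have hcz : ∀ v : Matrix.ProjectiveSpecialLinearGroup (Fin 2) F, ind (1 : GL (Fin 2) F) σ v = v →
      Commute z ((e.symm v : M) : X) := by
    intro v hv
    rw [← hz, conjVia_apply, ← MulEquiv.eq_symm_apply] at hv
    have h1 := congrArg Subtype.val hv
    rw [MulAut.conjNormal_apply] at h1
    exact mul_inv_eq_iff_eq_mul.1 h1
  have hzM : z ∉ M := fun h => by
    have h1 := le_diagPart M e h
    rw [diagPart, MonoidHom.mem_ker] at h1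
    have h3 : fieldOn M e z = σ := by
      show fieldPartHom (conjVia M e z) = σ
      rw [hz, fieldPartHom_ind]
    rw [h1] at h3
    rw [← h3, orderOf_one] at hσ
    omega
  rcases hX.four ha hb hab hc (hcz a₀ hfa) (hcz b₀ hfb) ⟨1, by rw [hzo]; norm_num⟩ with h | h | h | h
  · exact invol_ne_one hzo h
  · exact hzM (h ▸ (e.symm a₀).2)
  · exact hzM (h ▸ (e.symm b₀).2)
  · exact hzM (h ▸ mul_mem (e.symm a₀).2 (e.symm b₀).2)

/-- 2-elements lie in the diagonal part -/
theorem two_mem_diagPart (hX : DihTwo X) (hC : Subgroup.centralizer (M : Set X) = ⊥) (h2 : (2 : F) ≠ 0)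
    {x : X} {k : ℕ} (hx : orderOf x = 2 ^ k) : x ∈ diagPart M e := by
  rw [← QuotientGroup.eq_one_iff, ← QuotientGroup.mk'_apply]
  refine orderOf_eq_one_iff.1 (Nat.eq_one_of_dvd_coprimes ?_ (hx ▸ orderOf_map_dvd _ x) (orderOf_dvd_natCard _))
  rw [← Subgroup.index_eq_card]
  exact Nat.Coprime.pow_left k (Nat.prime_two.coprime_iff_not_dvd.2 (field_odd M e hX hC h2))

include e in
/-- one of three involutions of a four group lies in `M` -/
theorem four_meets (hX : DihTwo X) (hC : Subgroup.centralizer (M : Set X) = ⊥) (h2 : (2 : F) ≠ 0) {a b : X}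
    (ha : orderOf a = 2) (hb : orderOf b = 2) : a ∈ M ∨ b ∈ M ∨ a * b ∈ M := by
  by_cases h1 : a ∈ M
  · exact Or.inl h1
  by_cases h3 : b ∈ M
  · exact Or.inr (Or.inl h3)
  refine Or.inr (Or.inr (mul_mem_of_not_mem M e hC h2 ?_ ?_ h1 h3))
  · exact two_mem_diagPart M e hX hC h2 (k := 1) (by rw [ha]; norm_num)
  · exact two_mem_diagPart M e hX hC h2 (k := 1) (by rw [hb]; norm_num)

/-- a four group is its own centraliser in the diagonal part -/
theorem diag_cent_four (hX : DihTwo X) (hC : Subgroup.centralizer (M : Set X) = ⊥) (h2 : (2 : F) ≠ 0)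
    {a b x : X} (ha : orderOf a = 2) (hb : orderOf b = 2) (hab : a ≠ b) (hc : Commute a b)
    (hx : x ∈ diagPart M e) (hxa : Commute x a) (hxb : Commute x b) : x = 1 ∨ x = a ∨ x = b ∨ x = a * b := by
  obtain ⟨k, m, hm, hkm⟩ := Nat.exists_eq_two_pow_mul_odd (orderOf_pos x).ne'
  have hinj := conjVia_injective M e hC
  have hord : ∀ v : X, orderOf (conjVia M e v) = orderOf v := fun v => orderOf_injective _ hinj v
  have hodd : x ^ 2 ^ k = 1 := by
    have hxo : orderOf (x ^ 2 ^ k) = m := by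
      rw [orderOf_pow_of_dvd (by positivity) ⟨m, hkm⟩, hkm, Nat.mul_div_cancel_left _ (by positivity)]
    obtain ⟨ga, hga⟩ := (mem_diagPart M e).1 (two_mem_diagPart M e hX hC h2 (k := 1) (by rw [ha]; norm_num : orderOf a = 2 ^ 1))
    obtain ⟨gb, hgb⟩ := (mem_diagPart M e).1 (two_mem_diagPart M e hX hC h2 (k := 1) (by rw [hb]; norm_num : orderOf b = 2 ^ 1))
    obtain ⟨gx, hgx⟩ := (mem_diagPart M e).1 (pow_mem hx (2 ^ k))
    refine hinj ((map_one (conjVia M e)).symm ▸ ?_)
    rw [hgx]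
    refine Two.cent_four h2 (a := ga) (b := gb) ?_ ?_ ?_ ?_ ?_ ?_ ?_
    · rw [← hga, hord, ha]
    · rw [← hgb, hord, hb]
    · rw [← hga, ← hgb]; exact fun h => hab (hinj h)
    · rw [← hga, ← hgb]; exact hc.map _
    · rw [← hgx, hord, hxo]; exact hm
    · rw [← hgx, ← hga]; exact (hxa.pow_left _).map _
    · rw [← hgx, ← hgb]; exact (hxb.pow_left _).map _
  haveI : Fact (Nat.Prime 2) := ⟨Nat.prime_two⟩
  obtain ⟨i, -, hi⟩ := (Nat.dvd_prime_pow Nat.prime_two).1 (orderOf_dvd_of_pow_eq_one hodd)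
  exact hX.four ha hb hab hc hxa hxb ⟨i, hi⟩

include e in
/-- the involutions of `M` form one class under `M` -/
theorem isConj_of_invol_mem {t u : X} (ht : orderOf t = 2) (hu : orderOf u = 2) (htM : t ∈ M) (huM : u ∈ M) :
    ∃ m ∈ M, m * t * m⁻¹ = u := by
  obtain ⟨g, hg⟩ := isConj_iff.1 (CfsgLib.OddProdPSL.isConj_of_invol (x := e ⟨t, htM⟩) (y := e ⟨u, huM⟩)
    (by rw [MulEquiv.orderOf_eq, Subgroup.orderOf_mk, ht]) (by rw [MulEquiv.orderOf_eq, Subgroup.orderOf_mk, hu]))
  refine ⟨((e.symm g : M) : X), (e.symm g).2, ?_⟩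
  have h := congrArg (fun v => ((e.symm v : M) : X)) hg
  simpa using h

include e in
/-- the centraliser of an involution of `M` covers the quotient -/
theorem cent_sup_eq_top {t : X} (ht : orderOf t = 2) (htM : t ∈ M) (x : X) :
    ∃ c ∈ Subgroup.centralizer ({t} : Set X), ∃ m ∈ M, x = m * c := by
  obtain ⟨m, hm, hmt⟩ := isConj_of_invol_mem M e ht (u := x * t * x⁻¹)
    (by rw [show x * t * x⁻¹ = MulAut.conj x t from rfl, MulEquiv.orderOf_eq, ht]) htM (‹M.Normal›.conj_mem t htM x)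
  refine ⟨m⁻¹ * x, Subgroup.mem_centralizer_singleton_iff.2 ?_, m, hm, (mul_inv_cancel_left m x).symm⟩
  calc m⁻¹ * x * t = m⁻¹ * (x * t * x⁻¹) * x := by group
    _ = t * (m⁻¹ * x) := by rw [← hmt]; group

include e in
/-- **centralisers of involutions of `M`** -/
theorem card_cent_invol (h2 : Odd (Fintype.card F)) {t : X} (ht : orderOf t = 2) (htM : t ∈ M) :
    Nat.card (Subgroup.centralizer ({t} : Set X)) = invCard (Fintype.card F) * M.index := by
  classical
  set C := Subgroup.centralizer ({t} : Set X)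
  have h1 := card_cent_psl h2 (e ⟨t, htM⟩) (by rw [MulEquiv.orderOf_eq, Subgroup.orderOf_mk, ht])
  let q := (QuotientGroup.mk' M).comp C.subtype
  have hsurj : Function.Surjective q := fun y => by
    obtain ⟨x, rfl⟩ := QuotientGroup.mk'_surjective M y
    obtain ⟨c, hc, m, hm, rfl⟩ := cent_sup_eq_top M e ht htM x
    refine ⟨⟨c, hc⟩, ?_⟩
    show QuotientGroup.mk' M c = QuotientGroup.mk' M (m * c)
    rw [map_mul, show QuotientGroup.mk' M m = 1 from (QuotientGroup.eq_one_iff m).2 hm, one_mul]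
  rw [← q.ker.card_mul_index, Subgroup.index_ker, MonoidHom.range_eq_top.2 hsurj,
    Nat.card_congr Subgroup.topEquiv.toEquiv, ← Subgroup.index_eq_card, ← h1]
  congr 1
  have hmemM : ∀ (x : C), x ∈ q.ker → (x : X) ∈ M := fun x hx => (QuotientGroup.eq_one_iff _).1 hx
  refine Nat.card_congr (Equiv.ofBijective
    (fun x : q.ker => ⟨e ⟨((x : C) : X), hmemM _ x.2⟩, Subgroup.mem_centralizer_singleton_iff.2 (by
      rw [← map_mul, ← map_mul]
      exact congrArg e (Subtype.ext (Subgroup.mem_centralizer_singleton_iff.1 (x : C).2)))⟩) ⟨?_, ?_⟩)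
  · intro x y hxy
    have := congrArg Subtype.val (e.injective (congrArg Subtype.val hxy))
    exact Subtype.ext (Subtype.ext this)
  · rintro ⟨y, hy⟩
    refine ⟨⟨⟨((e.symm y : M) : X), Subgroup.mem_centralizer_singleton_iff.2 ?_⟩,
      (QuotientGroup.eq_one_iff _).2 (e.symm y).2⟩, Subtype.ext (by simp)⟩
    have := congrArg (fun v => ((e.symm v : M) : X)) (Subgroup.mem_centralizer_singleton_iff.1 hy)
    simpa using this

/-- a four group centraliser covers the field part -/
theorem cent_four_sup (hX : DihTwo X) (hC : Subgroup.centralizer (M : Set X) = ⊥) (h2 : (2 : F) ≠ 0)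
    {a b : X} (ha : orderOf a = 2) (hb : orderOf b = 2) (hc : Commute a b) (haM : a ∈ M) (x : X) :
    ∃ c ∈ Subgroup.centralizer ({a, b} : Set X), fieldOn M e c = fieldOn M e x := by
  classical
  obtain ⟨c, hca, m, hm, rfl⟩ := cent_sup_eq_top M e ha haM x
  have hfc : fieldOn M e (m * c) = fieldOn M e c := by
    rw [map_mul, MonoidHom.mem_ker.1 (le_diagPart M e hm), one_mul]
  rw [hfc]
  -- the odd part of the centraliser of `a`
  obtain ⟨N, hNn, hNodd, k, hk⟩ :=
    (S0514' hX ha : ∃ N : Subgroup (Subgroup.centralizer ({a} : Set X)), N.Normal ∧ Odd (Nat.card N) ∧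
      ∃ k : ℕ, N.index = 2 ^ k)
  let C := Subgroup.centralizer ({a} : Set X)
  haveI := hNn
  have hodd := field_odd M e hX hC h2
  have hr : ∃ n ∈ N, fieldOn M e (n : X) = fieldOn M e c := by
    have hco : (2 ^ k).Coprime (orderOf (fieldOn M e c)) := by
      refine Nat.Coprime.pow_left k (Nat.prime_two.coprime_iff_not_dvd.2 fun hd => hodd (hd.trans ?_))
      rw [diagPart, Subgroup.index_ker]
      exact Subgroup.orderOf_dvd_natCard _ ⟨c, rfl⟩
    obtain ⟨j, hj⟩ := exists_pow_eq_self_of_coprime hco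
    refine ⟨((⟨c, hca⟩ : C) ^ 2 ^ k) ^ j, pow_mem (hk ▸ N.pow_index_mem _) j, ?_⟩
    rw [SubgroupClass.coe_pow, SubgroupClass.coe_pow, map_pow, map_pow]
    exact hj
  obtain ⟨n, hn, hfn⟩ := hr
  have hbC : b ∈ C := Subgroup.mem_centralizer_singleton_iff.2 hc.symm.eq
  set β : C := ⟨b, hbC⟩
  have hββ : β * β = 1 := Subtype.ext (by rw [Subgroup.coe_mul, ← sq, ← hb]; exact pow_orderOf_eq_one b)
  have hβi : β⁻¹ = β := inv_eq_of_mul_eq_one_right hββ
  set d := n⁻¹ * (β * n * β⁻¹)
  have hdN : d ∈ N := mul_mem (inv_mem hn) (hNn.conj_mem n hn β)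
  have hbd : β * d * β⁻¹ = d⁻¹ := by
    show β * (n⁻¹ * (β * n * β⁻¹)) * β⁻¹ = (n⁻¹ * (β * n * β⁻¹))⁻¹
    simp only [_root_.mul_inv_rev, inv_inv, hβi, mul_assoc, hββ, mul_one]
  obtain ⟨j, hj⟩ : Odd (orderOf d) := hNodd.of_dvd_nat (Subgroup.orderOf_dvd_natCard N hdN)
  set s := d ^ (j + 1)
  have hss : s * s = d := by
    rw [← pow_add, show j + 1 + (j + 1) = (2 * j + 1) + 1 by ring, pow_succ, ← hj, pow_orderOf_eq_one, one_mul]
  have hbs : β * s * β⁻¹ = s⁻¹ := by
    rw [← MulAut.conj_apply, map_pow, MulAut.conj_apply, hbd, inv_pow]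
  refine ⟨((n * s : C) : X), ?_, ?_⟩
  · have hfix : β * (n * s) = n * s * β := by
      have h1 : β * (n * s) * β⁻¹ = n * s := by
        calc β * (n * s) * β⁻¹ = (β * n * β⁻¹) * (β * s * β⁻¹) := by group
          _ = n * d * s⁻¹ := by rw [hbs]; show _ = n * (n⁻¹ * (β * n * β⁻¹)) * s⁻¹; rw [mul_inv_cancel_left]
          _ = n * s := by rw [← hss, mul_assoc, mul_inv_cancel_right]
      exact mul_inv_eq_iff_eq_mul.1 h1
    refine Subgroup.mem_centralizer_iff.2 ?_
    rintro v (rfl | rfl)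
    · exact (Subgroup.mem_centralizer_singleton_iff.1 (n * s : C).2).symm
    · exact congrArg Subtype.val hfix
  · have hb0 : fieldOn M e b = 1 := MonoidHom.mem_ker.1 (two_mem_diagPart M e hX hC h2 (k := 1) (by rw [hb]; norm_num))
    have hd0 : fieldOn M e (d : X) = 1 := by
      show fieldOn M e ((n : X)⁻¹ * (b * (n : X) * b⁻¹)) = 1
      rw [map_mul, map_mul, map_mul, map_inv, map_inv, hb0]
      simp
    rw [Subgroup.coe_mul, map_mul, hfn, SubgroupClass.coe_pow, map_pow, hd0, one_pow, mul_one]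

/-- **centralisers of four groups**: order `4 f`, meeting the diagonal part in the four group -/
theorem card_cent_four (hX : DihTwo X) (hC : Subgroup.centralizer (M : Set X) = ⊥) (h2 : (2 : F) ≠ 0)
    {a b : X} (ha : orderOf a = 2) (hb : orderOf b = 2) (hab : a ≠ b) (hc : Commute a b) :
    Nat.card (Subgroup.centralizer ({a, b} : Set X)) = 4 * (diagPart M e).index := by
  classical
  -- reduce to `a ∈ M`
  obtain ⟨a', b', ha'M, ha', hb', hab', hc', heq⟩ : ∃ a' b' : X, a' ∈ M ∧ orderOf a' = 2 ∧ orderOf b' = 2 ∧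
      a' ≠ b' ∧ Commute a' b' ∧ Subgroup.centralizer ({a, b} : Set X) = Subgroup.centralizer ({a', b'} : Set X) := by
    have hcl : ∀ s : Set X, Subgroup.centralizer s = Subgroup.centralizer (Subgroup.closure s : Set X) :=
      fun s => (Subgroup.centralizer_closure s).symm
    rcases four_meets M e hX hC h2 ha hb with h | h | h
    · exact ⟨a, b, h, ha, hb, hab, hc, rfl⟩
    · exact ⟨b, a, h, hb, ha, hab.symm, hc.symm, by rw [Set.pair_comm]⟩
    · refine ⟨a * b, b, h, (invol_mul_of_commute ha hb hab hc), hb, fun h1 => invol_ne_one ha (mul_eq_right.1 h1),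
        hc.mul_left (Commute.refl b), ?_⟩
      ext x
      simp only [Subgroup.mem_centralizer_iff, Set.mem_insert_iff, Set.mem_singleton_iff, forall_eq_or_imp, forall_eq]
      constructor
      · rintro ⟨h1, h3⟩
        exact ⟨((show Commute x a from h1.symm).mul_right h3.symm).eq.symm, h3⟩
      · rintro ⟨h1, h3⟩
        refine ⟨?_, h3⟩
        have h4 : Commute x (a * b * b⁻¹) :=
          (show Commute x (a * b) from h1.symm).mul_right ((show Commute x b from h3.symm).inv_right)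
        rw [mul_inv_cancel_right] at h4
        exact h4.eq.symm
  rw [heq]
  clear heq hab hc ha hb
  set C := Subgroup.centralizer ({a', b'} : Set X)
  let q := (fieldOn M e).comp C.subtype
  have hrange : q.range = (fieldOn M e).range := by
    refine le_antisymm (fun y ⟨x, hx⟩ => ⟨x, hx⟩) ?_
    rintro _ ⟨x, rfl⟩
    obtain ⟨c, hcC, hfc⟩ := cent_four_sup M e hX hC h2 ha' hb' hc' ha'M x
    exact ⟨⟨c, hcC⟩, hfc⟩
  rw [← q.ker.card_mul_index, Subgroup.index_ker, hrange, diagPart, Subgroup.index_ker]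
  congr 1
  haveI hK := isKleinFour_closure_pair ha' hb' hab' hc'
  rw [← hK.card_four]
  refine Nat.card_congr (Equiv.ofBijective (fun x : q.ker => (⟨((x : C) : X), ?_⟩ : Subgroup.closure ({a', b'} : Set X))) ⟨?_, ?_⟩)
  · have hcom := Subgroup.mem_centralizer_iff.1 (x : C).2
    rcases diag_cent_four M e hX hC h2 ha' hb' hab' hc' (x := ((x : C) : X)) (MonoidHom.mem_ker.2 x.2)
      (hcom a' (by simp)).symm (hcom b' (by simp)).symm with h | h | h | h <;> rw [h]
    · exact one_mem _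
    · exact Subgroup.subset_closure (by simp)
    · exact Subgroup.subset_closure (by simp)
    · exact mul_mem (Subgroup.subset_closure (by simp)) (Subgroup.subset_closure (by simp))
  · intro x y hxy
    exact Subtype.ext (Subtype.ext (congrArg (fun v : Subgroup.closure ({a', b'} : Set X) => (v : X)) hxy))
  · rintro ⟨v, hv⟩
    have hk : ∀ (w : X), w ∈ Subgroup.closure ({a', b'} : Set X) → w ∈ C ∧ fieldOn M e w = 1 := fun w hw => by
      refine ⟨?_, ?_⟩
      · rcases mem_klein ha' hb' hab' hc' hw with rfl | rfl | rfl | rfl <;>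
          refine Subgroup.mem_centralizer_iff.2 ?_ <;> rintro v (rfl | rfl)
        · simp
        · simp
        · rfl
        · exact hc'.eq.symm
        · exact hc'.eq
        · rfl
        · exact ((Commute.refl v).mul_right hc').eq
        · exact (hc'.symm.mul_right (Commute.refl v)).eq
      · have hfa : fieldOn M e a' = 1 := MonoidHom.mem_ker.1 (le_diagPart M e ha'M)
        have hfb : fieldOn M e b' = 1 :=
          MonoidHom.mem_ker.1 (two_mem_diagPart M e hX hC h2 (k := 1) (by rw [hb']; norm_num))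
        rcases mem_klein ha' hb' hab' hc' hw with rfl | rfl | rfl | rfl <;> simp [hfa, hfb]
    exact ⟨⟨⟨v, (hk v hv).1⟩, (hk v hv).2⟩, rfl⟩

/-- **a `p`-subgroup normalised by a four group lies in the centraliser of one of its involutions** -/
theorem four_invariant (hX : DihTwo X) (hC : Subgroup.centralizer (M : Set X) = ⊥) (h2 : (2 : F) ≠ 0)
    {a b : X} (ha : orderOf a = 2) (hb : orderOf b = 2) (hab : a ≠ b) (hc : Commute a b) {p : ℕ} [Fact p.Prime]
    (hp : p ≠ 2) {R : Subgroup X} (hR : IsPGroup p R) (hRD : R ≤ diagPart M e)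
    (han : a ∈ Subgroup.normalizer (R : Set X)) (hbn : b ∈ Subgroup.normalizer (R : Set X)) :
    IsMulCommutative R ∧ ((∀ r ∈ R, Commute r a) ∨ (∀ r ∈ R, Commute r b) ∨ ∀ r ∈ R, Commute r (a * b)) := by
  classical
  have hinj := conjVia_injective M e hC
  have hord : ∀ v : X, orderOf (conjVia M e v) = orderOf v := fun v => orderOf_injective _ hinj v
  have hodd : ∀ r ∈ R, Odd (orderOf r) := fun r hr => by
    obtain ⟨k, hk⟩ := hR ⟨r, hr⟩
    exact ((Fact.out : p.Prime).odd_of_ne_two hp).pow.of_dvd_nat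
      (orderOf_dvd_of_pow_eq_one (congrArg Subtype.val hk : r ^ p ^ k = 1))
  -- commuting with a nontrivial element of `R` transfers centralisers
  have key : ∀ w : X, orderOf w = 2 → ∀ x ∈ R, x ≠ 1 → Commute x w → ∀ r ∈ R, Commute r x → Commute r w := by
    intro w hw x hx hx1 hxw r hr hrx
    obtain ⟨gw, hgw⟩ := (mem_diagPart M e).1 (two_mem_diagPart M e hX hC h2 (k := 1) (by rw [hw]; norm_num))
    obtain ⟨gx, hgx⟩ := (mem_diagPart M e).1 (hRD hx)
    obtain ⟨gr, hgr⟩ := (mem_diagPart M e).1 (hRD hr)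
    have h := Two.commute_trans (a := gw) (x := gx) (y := gr)
      (by rw [← hgx]; exact fun h => hx1 (hinj (h.trans (map_one _).symm)))
      (by rw [← hgx, hord]; exact hodd x hx) (by rw [← hgr, hord]; exact hodd r hr)
      (by rw [← hgx, ← hgw]; exact hxw.map _) (by rw [← hgr, ← hgx]; exact hrx.map _)
    rw [← hgr, ← hgw] at h
    exact hinj (by rw [map_mul, map_mul]; exact h.eq)
  have hcomm : ∀ w : X, orderOf w = 2 → (∀ r ∈ R, Commute r w) → IsMulCommutative R := by
    intro w hw h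
    refine ⟨⟨fun r s => Subtype.ext ?_⟩⟩
    obtain ⟨gw, hgw⟩ := (mem_diagPart M e).1 (two_mem_diagPart M e hX hC h2 (k := 1) (by rw [hw]; norm_num))
    obtain ⟨gr, hgr⟩ := (mem_diagPart M e).1 (hRD r.2)
    obtain ⟨gs, hgs⟩ := (mem_diagPart M e).1 (hRD s.2)
    have h' := Two.commute_of_cent (a := gw) (b := gr) (c := gs)
      (by rw [← hgw]; exact fun h => invol_ne_one hw (hinj (h.trans (map_one _).symm)))
      (by rw [← hgr, hord]; exact hodd _ r.2) (by rw [← hgs, hord]; exact hodd _ s.2)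
      (by rw [← hgr, ← hgw]; exact (h _ r.2).map _) (by rw [← hgs, ← hgw]; exact (h _ s.2).map _)
    rw [← hgr, ← hgs] at h'
    exact hinj (by rw [Subgroup.coe_mul, Subgroup.coe_mul, map_mul, map_mul]; exact h'.eq)
  by_cases hR1 : R = ⊥
  · have hall : ∀ r ∈ R, Commute r a := fun r hr => by
      rw [hR1, Subgroup.mem_bot] at hr; rw [hr]; exact Commute.one_left a
    exact ⟨hcomm a ha hall, Or.inl hall⟩
  -- some involution centralises a nontrivial central element
  haveI : Nontrivial R := (Subgroup.nontrivial_iff_ne_bot R).2 hR1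
  haveI := hR.center_nontrivial
  obtain ⟨⟨z, hz⟩, hz1⟩ := exists_ne (1 : Subgroup.center R)
  have hz1' : (z : X) ≠ 1 := fun h => hz1 (Subtype.ext (Subtype.ext h))
  have hzc : ∀ r ∈ R, Commute r (z : X) := fun r hr =>
    congrArg Subtype.val (Subgroup.mem_center_iff.1 hz ⟨r, hr⟩)
  have hzconj : ∀ {w : X}, w ∈ Subgroup.normalizer (R : Set X) → orderOf w = 2 → ∀ x ∈ R,
      (∀ r ∈ R, Commute r x) → (w * x * w⁻¹ ∈ R ∧ ∀ r ∈ R, Commute r (w * x * w⁻¹)) := by
    intro w hw hw2 x hx hxc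
    refine ⟨(Subgroup.mem_normalizer_iff.1 hw x).1 hx, fun r hr => ?_⟩
    have hr' : w⁻¹ * r * w⁻¹⁻¹ ∈ R := (Subgroup.mem_normalizer_iff.1 (inv_mem hw) r).1 hr
    have h1 := (hxc _ hr').map (MulAut.conj w).toMonoidHom
    have h3 : w * (w⁻¹ * r * w⁻¹⁻¹) * w⁻¹ = r := by group
    change Commute (w * (w⁻¹ * r * w⁻¹⁻¹) * w⁻¹) (w * x * w⁻¹) at h1
    rwa [h3] at h1
  obtain ⟨w, hwo, hwcases, x, hx, hx1, hxw, hxc⟩ : ∃ w : X, orderOf w = 2 ∧ (w = a ∨ w = b ∨ w = a * b) ∧
      ∃ x ∈ R, x ≠ 1 ∧ Commute x w ∧ ∀ r ∈ R, Commute r x := by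
    have hinvol : ∀ w : X, orderOf w = 2 → w⁻¹ = w := fun w hw =>
      inv_eq_of_mul_eq_one_right (by rw [← sq, ← hw]; exact pow_orderOf_eq_one w)
    have hai := hinvol a ha
    have hbi := hinvol b hb
    by_cases h1 : (z : X) * (a * z * a⁻¹) = 1
    · by_cases h3 : (z : X) * (b * z * b⁻¹) = 1
      · refine ⟨a * b, (invol_mul_of_commute ha hb hab hc), Or.inr (Or.inr rfl), z, z.2, hz1', ?_, hzc⟩
        have e1 : a * (z : X) * a⁻¹ = (z : X)⁻¹ := (inv_eq_of_mul_eq_one_right h1).symm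
        have e2 : b * (z : X) * b⁻¹ = (z : X)⁻¹ := (inv_eq_of_mul_eq_one_right h3).symm
        have e3 : (a * b) * (z : X) * (a * b)⁻¹ = z := by
          calc (a * b) * (z : X) * (a * b)⁻¹ = a * (b * z * b⁻¹) * a⁻¹ := by group
            _ = (a * z * a⁻¹)⁻¹ := by rw [e2]; group
            _ = z := by rw [e1, inv_inv]
        exact (mul_inv_eq_iff_eq_mul.1 e3).symm
      · obtain ⟨hzR, hzC⟩ := hzconj hbn hb z z.2 hzc
        refine ⟨b, hb, Or.inr (Or.inl rfl), _, mul_mem z.2 hzR, h3, ?_, fun r hr =>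
          (hzc r hr).mul_right (hzC r hr)⟩
        have e3 : b * ((z : X) * (b * z * b⁻¹)) * b⁻¹ = (b * z * b⁻¹) * z := by
          have hbb : b * b = 1 := by rw [← sq, ← hb]; exact pow_orderOf_eq_one b
          simp only [hbi, mul_assoc, hbb, mul_one]
          try rw [← mul_assoc b b, hbb, one_mul]
        rw [((hzC z z.2).eq).symm] at e3
        exact (mul_inv_eq_iff_eq_mul.1 e3).symm
    · obtain ⟨hzR, hzC⟩ := hzconj han ha z z.2 hzc
      refine ⟨a, ha, Or.inl rfl, _, mul_mem z.2 hzR, h1, ?_, fun r hr => (hzc r hr).mul_right (hzC r hr)⟩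
      have e3 : a * ((z : X) * (a * z * a⁻¹)) * a⁻¹ = (a * z * a⁻¹) * z := by
        have haa : a * a = 1 := by rw [← sq, ← ha]; exact pow_orderOf_eq_one a
        simp only [hai, mul_assoc, haa, mul_one]
        try rw [← mul_assoc a a, haa, one_mul]
      rw [((hzC z z.2).eq).symm] at e3
      exact (mul_inv_eq_iff_eq_mul.1 e3).symm
  have hall : ∀ r ∈ R, Commute r w := fun r hr => key w hwo x hx hx1 hxw r hr (hxc r hr)
  refine ⟨hcomm w hwo hall, ?_⟩
  rcases hwcases with rfl | rfl | rfl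
  · exact Or.inl hall
  · exact Or.inr (Or.inl hall)
  · exact Or.inr (Or.inr hall)

/-- the index of `M` is `f` or `2 f` -/
theorem index_cases (hC : Subgroup.centralizer (M : Set X) = ⊥) (h2 : (2 : F) ≠ 0) :
    M.index = (diagPart M e).index ∨ M.index = 2 * (diagPart M e).index := by
  classical
  rw [← Subgroup.relIndex_mul_index (le_diagPart M e)]
  by_cases h : diagPart M e ≤ M
  · exact Or.inl (by rw [Subgroup.relIndex_eq_one.2 h, one_mul])
  · refine Or.inr (congrArg (· * _) ?_)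
    obtain ⟨x, hx, hxM⟩ := SetLike.not_le_iff_exists.1 h
    refine Subgroup.index_eq_two_iff.2 ⟨⟨x, hx⟩, fun b => ?_⟩
    by_cases hbM : (b : X) ∈ M
    · exact Or.inr ⟨hbM, fun hh => hxM ((Subgroup.mul_mem_cancel_left M hbM).1 hh)⟩
    · exact Or.inl ⟨mul_mem_of_not_mem M e hC h2 b.2 hx hbM hxM, hbM⟩

/-- the field part has order dividing the number of field automorphisms -/
theorem index_diagPart_dvd : (diagPart M e).index ∣ Nat.card (RingAut F) := by
  rw [diagPart, Subgroup.index_ker]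
  exact Subgroup.card_subgroup_dvd_card _

end CfsgLib.GW
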