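import Cfsg.Agent.Lib.GW.CentMax
import Cfsg.Agent.Lib.GW.AltSevenCent
import Cfsg.Agent.Lib.GW.XFacts
import Cfsg.Agent.Lib.Invol.SmallSimple
import Cfsg.Agent.Lib.Invol.AltEightSubgroups

/-!
# Perfect subgroups and subgroups over involution centralisers in groups of type c
-/

set_option autoImplicit false
set_option linter.style.haveILetI false
set_option linter.unusedSectionVars false

namespace CfsgLib.GW

universe u

section

variable {X : Type u} [Group X] [Finite X] {F : Type*} [Field F] [Fintype F]
  (M : Subgroup X) [M.Normal]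

/-- **perfect subgroups lie in `M`** -/
theorem perfect_le (e : M ≃* Matrix.ProjectiveSpecialLinearGroup (Fin 2) F)
    (hC : Subgroup.centralizer (M : Set X) = ⊥) (P : Subgroup X) [Group.IsPerfect P] : P ≤ M := by
  intro x hx
  obtain ⟨t, ht⟩ := conj_of_perfect_psl ((conjVia M e).comp P.subtype) ⟨x, hx⟩
  exact mem_of_inn M e hC ⟨t, ht.symm⟩

theorem perfect_le_alt7 (e : M ≃* alternatingGroup (Fin 7))
    (hC : Subgroup.centralizer (M : Set X) = ⊥) (P : Subgroup X) [Group.IsPerfect P] : P ≤ M := by
  intro x hx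
  obtain ⟨t, ht⟩ := conj_of_perfect_alt ((conjVia M e).comp P.subtype) ⟨x, hx⟩
  have h1 : conjVia M e x = conjVia M e ((e.symm t : M) : X) := by
    rw [conjVia_mem, MulEquiv.apply_symm_apply]
    exact ht
  exact conjVia_injective M e hC h1 ▸ (e.symm t).2

end

theorem solvable_of_small {G : Type*} [Group G] [Finite G] (h : Nat.card G < 60) : Group.IsSolvable G :=
  CfsgLib.Invol.AltEightSubgroups.solvable_of_card_lt_sixty _ rfl h

/-- a proper subgroup of a nonabelian simple group has index at least five -/
theorem card_dvd_factorial_index {G : Type*} [Group G] [Finite G] [IsSimpleGroup G] (hG : ¬ IsMulCommutative G)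
    {U : Subgroup G} (hU : U ≠ ⊤) : 2 * Nat.card G ∣ U.index.factorial := by
  rw [Subgroup.index_eq_card]
  refine CfsgLib.Invol.two_mul_card_dvd_factorial hG ?_
  obtain ⟨g, -, hg⟩ := SetLike.exists_of_lt (lt_top_iff_ne_top.2 hU)
  refine ⟨g, ((1 : G) : G ⧸ U), fun h => hg ?_⟩
  have h1 : ((g * 1 : G) : G ⧸ U) = ((1 : G) : G ⧸ U) := h
  rw [mul_one, QuotientGroup.eq, mul_one] at h1
  exact inv_mem_iff.1 h1

/-- **subgroups of `PSL(2, q)` over an involution centraliser** -/
theorem psl_eq_top_of_cent {F : Type*} [Field F] [Fintype F]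
    (U : Subgroup (Matrix.ProjectiveSpecialLinearGroup (Fin 2) F)) (ho : Odd (Fintype.card F))
    (h5 : 5 ≤ Fintype.card F) {t : Matrix.ProjectiveSpecialLinearGroup (Fin 2) F} (ht : orderOf t = 2)
    (hU : Subgroup.centralizer {t} ≤ U) (hns : ¬ Group.IsSolvable U) : U = ⊤ := by
  classical
  have hC := card_cent_psl ho t ht
  by_cases h11 : 11 ≤ Fintype.card F
  · rcases eq_or_lt_of_le hU with h | h
    · exfalso
      refine hns ?_
      rw [← h]
      -- the centraliser has a cyclic normal subgroup of index at most two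
      obtain ⟨p, hchar⟩ := CharP.exists F
      haveI := hchar
      haveI : Fact p.Prime := ⟨CharP.char_is_prime F p⟩
      have hto : orderOf (CfsgLib.Perm.Dickson.incl t) = 2 := by
        rw [orderOf_injective _ CfsgLib.Perm.Dickson.incl_injective, ht]
      have ht1 := CfsgLib.Invol.invol_ne_one hto
      obtain ⟨a, b, hg, htm⟩ := CfsgLib.Perm.Dickson.exists_torus p ht1 (fun h => by
        rw [hto] at h
        subst h
        exact CfsgLib.Perm.Dickson.two_ne_zero_of_odd (F := F) (by rwa [Nat.card_eq_fintype_card])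
          (CharTwo.two_eq_zero (R := F)))
      set C := Subgroup.centralizer ({t} : Set (Matrix.ProjectiveSpecialLinearGroup (Fin 2) F))
      let j : C →* CfsgLib.Perm.Dickson.pairSet a b :=
        (CfsgLib.Perm.Dickson.incl.comp C.subtype).codRestrict _ fun c => by
          refine CfsgLib.Classical.PslBin.mem_pairSet_of_comm hg.1 htm ht1 ?_
          show CfsgLib.Perm.Dickson.incl t * CfsgLib.Perm.Dickson.incl (c : _) =
            CfsgLib.Perm.Dickson.incl (c : _) * CfsgLib.Perm.Dickson.incl t
          rw [← map_mul, ← map_mul, Subgroup.mem_centralizer_singleton_iff.1 c.2]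
      have hj : Function.Injective j := fun x y h =>
        Subtype.ext (CfsgLib.Perm.Dickson.incl_injective (congrArg Subtype.val h))
      haveI := CfsgLib.Perm.Dickson.finite_G2 (F := F)
      haveI hcyc : IsCyclic (CfsgLib.Perm.Dickson.pairFix a b) := CfsgLib.Perm.Dickson.isCyclic_pairFix hg.1
      haveI : Group.IsSolvable (CfsgLib.Perm.Dickson.pairSet a b) := by
        set P := (CfsgLib.Perm.Dickson.pairFix a b).subgroupOf (CfsgLib.Perm.Dickson.pairSet a b)
        by_cases hle : CfsgLib.Perm.Dickson.pairSet a b ≤ CfsgLib.Perm.Dickson.pairFix a b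
        · haveI : IsCyclic (CfsgLib.Perm.Dickson.pairSet a b) :=
            isCyclic_of_injective _ (Subgroup.inclusion_injective hle)
          infer_instance
        obtain ⟨h0, h01, h02⟩ := SetLike.not_le_iff_exists.1 hle
        have hidx : P.index = 2 := Subgroup.index_eq_two_iff.2 ⟨⟨h0, h01⟩, fun x => by
          by_cases hx : (x : CfsgLib.Perm.Dickson.G2 F) ∈ CfsgLib.Perm.Dickson.pairFix a b
          · exact Or.inr ⟨hx, fun hh => h02 ((Subgroup.mul_mem_cancel_left _ hx).1 hh)⟩
          · exact Or.inl ⟨CfsgLib.Perm.Dickson.mul_mem_of_swap x.2 hx h01 h02, hx⟩⟩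
        haveI := Subgroup.normal_of_index_eq_two hidx
        haveI : IsCyclic P := (Subgroup.subgroupOfEquivOfLe
          (CfsgLib.Perm.Dickson.pairFix_le_pairSet a b)).isCyclic.2 hcyc
        haveI : Group.IsSolvable (CfsgLib.Perm.Dickson.pairSet a b ⧸ P) :=
          solvable_of_small (by rw [← Subgroup.index_eq_card, hidx]; norm_num)
        exact solvable_of_ker_le_range P.subtype (QuotientGroup.mk' P) (by rw [QuotientGroup.ker_mk', Subgroup.range_subtype])
      exact solvable_of_solvable_injective hj
    · exact cent_maximal ho h11 ht U h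
  -- the small fields
  by_contra hU'
  have hU60 : 60 ≤ Nat.card U := by
    by_contra hlt
    exact hns (solvable_of_small (by omega))
  have hdC : invCard (Fintype.card F) ∣ Nat.card U := hC ▸ Subgroup.card_dvd_of_le hU
  have hd := Subgroup.card_subgroup_dvd_card U
  have hcard := CfsgLib.Classical.PslBin.card_psl_two (F := F)
    (CfsgLib.Perm.Dickson.two_ne_zero_of_odd (by rwa [Nat.card_eq_fintype_card]))
  rw [← CfsgLib.Perm.Dickson.card_S2P, Nat.card_eq_fintype_card (α := F)] at hcard
  obtain ⟨hs, hna⟩ := CfsgLib.Perm.Dickson.psl_simple_noncomm (F := F) (by rw [Nat.card_eq_fintype_card]; omega)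
  haveI := hs
  have hlt : Nat.card U < Nat.card (Matrix.ProjectiveSpecialLinearGroup (Fin 2) F) :=
    lt_of_le_of_ne (Subgroup.card_le_card_group U) fun h => hU' (Subgroup.eq_top_of_card_eq U h)
  obtain ⟨j, hj⟩ := ho
  have hq : Fintype.card F = 5 ∨ Fintype.card F = 7 ∨ Fintype.card F = 9 := by omega
  have hidx := U.card_mul_index
  rcases hq with h | h | h <;> rw [h] at hcard hdC <;> change 2 * _ = _ at hcard
  · rw [show invCard 5 = 4 from rfl] at hdC
    have : Nat.card (Matrix.ProjectiveSpecialLinearGroup (Fin 2) F) = 60 := Nat.eq_of_mul_eq_mul_left two_pos (hcard.trans (by norm_num))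
    omega
  · rw [show invCard 7 = 8 from rfl] at hdC
    rw [show Nat.card (Matrix.ProjectiveSpecialLinearGroup (Fin 2) F) = 168 from Nat.eq_of_mul_eq_mul_left two_pos (hcard.trans (by norm_num))] at hd hlt hidx
    have := Nat.le_of_dvd (by norm_num) hd
    interval_cases hk : Nat.card U <;> omega
  · rw [show invCard 9 = 8 from rfl] at hdC
    have hP : Nat.card (Matrix.ProjectiveSpecialLinearGroup (Fin 2) F) = 360 := Nat.eq_of_mul_eq_mul_left two_pos (hcard.trans (by norm_num))
    have hf := card_dvd_factorial_index hna hU'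
    rw [hP] at hd hlt hidx hf
    have h5i : U.index ≤ 5 := by
      have : U.index * 60 ≤ 360 := hidx ▸ (by rw [mul_comm]; exact Nat.mul_le_mul_right _ hU60)
      by_contra hgt
      have h6 : U.index = 6 := by omega
      rw [h6] at hidx
      omega
    interval_cases hi : U.index <;> norm_num [Nat.factorial] at hf

/-- **subgroups of `A7` over an involution centraliser** -/
theorem alt_seven_eq_top_of_cent (U : Subgroup (alternatingGroup (Fin 7))) {t : alternatingGroup (Fin 7)}
    (ht : orderOf t = 2) (hU : Subgroup.centralizer {t} ≤ U) (hns : ¬ Group.IsSolvable U) : U = ⊤ := by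
  classical
  obtain ⟨φ, hφ⟩ := exists_aut_altInvol ht
  set U' := U.map φ.toMonoidHom
  have hU' : Subgroup.centralizer {altInvol} ≤ U' := by
    intro x hx
    obtain ⟨y, rfl⟩ := φ.surjective x
    refine ⟨y, hU (Subgroup.mem_centralizer_singleton_iff.2 (φ.injective ?_)), rfl⟩
    rw [map_mul, map_mul, hφ]
    exact Subgroup.mem_centralizer_singleton_iff.1 hx
  rcases alt_seven_cent_cases U' hU' with h | h
  · exact Subgroup.map_injective φ.injective (h.trans (Subgroup.map_top_of_surjective _ φ.surjective).symm)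
  refine absurd ?_ hns
  have hiff : ∀ (g : U') (i : Fin 7), ((g : alternatingGroup (Fin 7)).1 i).val < 4 ↔ i.val < 4 := by
    intro g i
    refine ⟨fun hi => ?_, h g g.2 i⟩
    have := h _ (inv_mem g.2) _ hi
    rwa [Subgroup.coe_inv, Equiv.Perm.inv_def, Equiv.symm_apply_apply] at this
  have hiff' : ∀ (g : U') (i : Fin 7), ¬ ((g : alternatingGroup (Fin 7)).1 i).val < 4 ↔ ¬ i.val < 4 :=
    fun g i => not_congr (hiff g i)
  let f₁ : U' →* Equiv.Perm {i : Fin 7 // i.val < 4} :=
    { toFun := fun g => (g : alternatingGroup (Fin 7)).1.subtypePerm (hiff g)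
      map_one' := Equiv.ext fun i => Subtype.ext rfl
      map_mul' := fun g k => Equiv.ext fun i => Subtype.ext rfl }
  let f₂ : f₁.ker →* Equiv.Perm {i : Fin 7 // ¬ i.val < 4} :=
    { toFun := fun g => (((g : U') : alternatingGroup (Fin 7))).1.subtypePerm (hiff' g)
      map_one' := Equiv.ext fun i => Subtype.ext rfl
      map_mul' := fun g k => Equiv.ext fun i => Subtype.ext rfl }
  have hf₂ : Function.Injective f₂ := by
    intro g k hgk
    refine Subtype.ext (Subtype.ext (Subtype.ext (Equiv.ext fun i => ?_)))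
    by_cases hi : i.val < 4
    · have hg := congrArg Subtype.val (DFunLike.congr_fun (MonoidHom.mem_ker.1 g.2) ⟨i, hi⟩)
      have hk := congrArg Subtype.val (DFunLike.congr_fun (MonoidHom.mem_ker.1 k.2) ⟨i, hi⟩)
      exact hg.trans hk.symm
    · exact congrArg Subtype.val (DFunLike.congr_fun hgk ⟨i, hi⟩)
  haveI : Group.IsSolvable (Equiv.Perm {i : Fin 7 // ¬ i.val < 4}) := solvable_of_small (by
    rw [Nat.card_eq_fintype_card, Fintype.card_perm]
    decide)
  haveI : Group.IsSolvable (Equiv.Perm {i : Fin 7 // i.val < 4}) := solvable_of_small (by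
    rw [Nat.card_eq_fintype_card, Fintype.card_perm]
    decide)
  haveI : Group.IsSolvable f₁.ker := solvable_of_solvable_injective hf₂
  haveI : Group.IsSolvable U' := solvable_of_ker_le_range f₁.ker.subtype f₁ (by rw [Subgroup.range_subtype])
  exact solvable_of_solvable_injective (f := (U.equivMapOfInjective φ.toMonoidHom φ.injective).toMonoidHom)
    (MulEquiv.injective _)

end CfsgLib.GW
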