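import Cfsg.Agent.Lib.GW.CaseCFrame
import Cfsg.Agent.Lib.GW.Setting
import Cfsg.Agent.Lib.GW.XSub
import Cfsg.Agent.Lib.GW.PairGenerate

/-!
# In case C the centralisers of the elements of `K` lie in `M`

The perfect group generated by the inner involutions centralises `K`; a proper subgroup containing it has a socle
generated by it and by centralisers of involutions lying in `M`.
-/

set_option autoImplicit false
set_option linter.style.haveILetI false
set_option linter.unusedSectionVars false

namespace CfsgLib.GW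

open CfsgLib.Invol

universe u

/-- a perfect subgroup lies in every normal subgroup with soluble quotient -/
theorem perfect_le_of_solvable_quotient {H : Type*} [Group H] (N : Subgroup H) [N.Normal] [Group.IsSolvable (H ⧸ N)]
    (P : Subgroup H) [Group.IsPerfect P] : P ≤ N := by
  intro x hx
  by_contra hxN
  haveI : Group.IsPerfect ((QuotientGroup.mk' N).comp P.subtype).range :=
    Group.IsPerfect.ofSurjective (MonoidHom.rangeRestrict_surjective _)
  haveI : Nontrivial ((QuotientGroup.mk' N).comp P.subtype).range := by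
    refine ⟨⟨⟨(x : H ⧸ N), ⟨⟨x, hx⟩, rfl⟩⟩, 1, fun h => hxN ((QuotientGroup.eq_one_iff x).1 ?_)⟩⟩
    exact congrArg Subtype.val h
  exact Group.IsPerfect.not_isSolvable ((QuotientGroup.mk' N).comp P.subtype).range inferInstance

/-- groups of type `A4` or `S4` are soluble -/
theorem solvable_of_isFourType {X : Type u} [Group X] [Finite X] (h : IsFourType X) : Group.IsSolvable X := by
  obtain ⟨_, -, -, -, hc⟩ := h
  exact solvable_of_small (by omega)

variable {G : Type u} [Group G] [Finite G] {F : Type*} [Field F] [Fintype F]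

namespace InnerData

variable {M : Subgroup G} {K : Subgroup M} [K.Normal] {M0 : Subgroup (M ⧸ K)} [M0.Normal]
  {e : M0 ≃* Matrix.ProjectiveSpecialLinearGroup (Fin 2) F} (d : InnerData M K M0 e)
include d

/-- the inner involutions -/
theorem closure_inner_map : (Subgroup.closure {u : M | orderOf u = 2 ∧ QuotientGroup.mk' K u ∈ M0}).map
    (QuotientGroup.mk' K) = M0 := by
  set S := {u : M | orderOf u = 2 ∧ QuotientGroup.mk' K u ∈ M0}
  refine le_antisymm ((Subgroup.map_le_iff_le_comap).2 ((Subgroup.closure_le _).2 fun u hu => hu.2)) ?_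
  set N := ((Subgroup.closure S).map (QuotientGroup.mk' K)).subgroupOf M0 with hN
  haveI : (Subgroup.closure S).Normal := ⟨fun x hx g => by
    refine (Subgroup.closure_le ((Subgroup.closure S).comap (MulAut.conj g).toMonoidHom)).2 (fun u hu => ?_) hx
    refine Subgroup.subset_closure ⟨(MulEquiv.orderOf_eq (MulAut.conj g) u).trans hu.1, ?_⟩
    show QuotientGroup.mk' K (g * u * g⁻¹) ∈ M0
    rw [map_mul, map_mul, map_inv]
    exact ‹M0.Normal›.conj_mem _ hu.2 _⟩
  haveI : ((Subgroup.closure S).map (QuotientGroup.mk' K)).Normal :=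
    Subgroup.Normal.map inferInstance _ (QuotientGroup.mk'_surjective K)
  haveI := d.simple
  rcases IsSimpleGroup.eq_bot_or_eq_top_of_normal N inferInstance with h | h
  · exfalso
    obtain ⟨a₀, b₀, ha₀, -, -, -, -, -⟩ := exists_fixed_four d.two_ne (1 : RingAut F)
    have hA : orderOf ((e.symm a₀ : M0) : M ⧸ K) = 2 := by rw [Subgroup.orderOf_coe, MulEquiv.orderOf_eq, ha₀]
    obtain ⟨u, hu, huA⟩ := exists_invol_lift d.odd hA
    have hmem : e.symm a₀ ∈ N := ⟨u, Subgroup.subset_closure ⟨hu, huA ▸ (e.symm a₀).2⟩, huA⟩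
    rw [h, Subgroup.mem_bot] at hmem
    rw [hmem, OneMemClass.coe_one, orderOf_one] at hA
    omega
  · exact Subgroup.subgroupOf_eq_top.1 h

/-- **they generate a perfect group** -/
theorem perfect_closure_inner :
    Group.IsPerfect (Subgroup.closure {u : M | orderOf u = 2 ∧ QuotientGroup.mk' K u ∈ M0}) := by
  set S := {u : M | orderOf u = 2 ∧ QuotientGroup.mk' K u ∈ M0}
  set L := Subgroup.closure S
  rw [Subgroup.isPerfect_iff]
  refine le_antisymm (Subgroup.commutator_le.2 fun a ha b hb => ?_) ((Subgroup.closure_le _).2 fun u hu => ?_)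
  · exact L.mul_mem (L.mul_mem (L.mul_mem ha hb) (L.inv_mem ha)) (L.inv_mem hb)
  have hna : ¬ IsMulCommutative M0 := fun h => by
    obtain ⟨hs, hna⟩ := CfsgLib.Perm.Dickson.psl_simple_noncomm (F := F) (by
      rw [Nat.card_eq_fintype_card]; have := d.five; omega)
    refine hna ⟨⟨fun a b => e.symm.injective ?_⟩⟩
    rw [map_mul, map_mul]
    exact h.is_comm.comm _ _
  haveI := d.simple
  haveI : Group.IsPerfect M0 := by
    rw [Group.isPerfect_def]
    refine (IsSimpleGroup.eq_bot_or_eq_top_of_normal (commutator M0) inferInstance).resolve_left fun h => hna ?_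
    refine ⟨⟨fun a b => commutatorElement_eq_one_iff_mul_comm.1 ?_⟩⟩
    have := Subgroup.commutator_mem_commutator (Subgroup.mem_top a) (Subgroup.mem_top b)
    rwa [← commutator_def, h, Subgroup.mem_bot] at this
  have himg : ⁅L, L⁆.map (QuotientGroup.mk' K) = M0 := by
    rw [Subgroup.map_commutator, d.closure_inner_map]
    exact Subgroup.commutator_eq_self
  have hmem : QuotientGroup.mk' K u ∈ ⁅L, L⁆.map (QuotientGroup.mk' K) := himg.symm ▸ hu.2
  obtain ⟨c, hc, hcu⟩ := hmem
  obtain ⟨m, hm, hme⟩ := exists_invol_pow d.odd (hcu ▸ orderOf_mk_invol d.odd hu.1)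
  rw [SetLike.mem_coe, d.inner_unique hu.1 hm hu.2 (by rw [hme, hcu])]
  exact pow_mem hc m

/-- **centralisers of the elements of `K`** -/
theorem kcent_le (hG : Min G) {k : M} (hk : k ∈ K) (hk1 : k ≠ 1) : Subgroup.centralizer ({(k : G)} : Set G) ≤ M := by
  classical
  haveI : Fact (Nat.Prime 2) := ⟨Nat.prime_two⟩
  set H := Subgroup.centralizer ({(k : G)} : Set G) with hH
  have hHtop : H ≠ ⊤ := fun h => hk1 (Subtype.ext (Subgroup.mem_bot.1 (hG.center_eq_bot ▸
    Subgroup.mem_center_iff.2 fun g => Subgroup.mem_centralizer_singleton_iff.1 (h ▸ Subgroup.mem_top g : g ∈ H))))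
  set S := {u : M | orderOf u = 2 ∧ QuotientGroup.mk' K u ∈ M0}
  set L := Subgroup.closure S
  haveI : Group.IsPerfect L := d.perfect_closure_inner
  have hL : L ≤ Subgroup.centralizer ({k} : Set M) := (Subgroup.closure_le _).2 fun u hu =>
    Subgroup.mem_centralizer_singleton_iff.2 (d.inner_cent u hu.1 hu.2 k hk).eq
  let ι : L →* H := (M.subtype.comp L.subtype).codRestrict H fun x =>
    Subgroup.mem_centralizer_singleton_iff.2 (congrArg Subtype.val (Subgroup.mem_centralizer_singleton_iff.1 (hL x.2)))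
  set P := ι.range
  haveI : Group.IsPerfect P := Group.IsPerfect.ofSurjective (MonoidHom.rangeRestrict_surjective ι)
  -- an inner four group
  obtain ⟨A₀, B₀, hA₀, -, -, -, -, -⟩ := exists_fixed_four d.two_ne (1 : RingAut F)
  obtain ⟨a, ha, haA⟩ := exists_invol_lift d.odd (x := ((e.symm A₀ : M0) : M ⧸ K))
    (by rw [Subgroup.orderOf_coe, MulEquiv.orderOf_eq, hA₀])
  have hai : QuotientGroup.mk' K a ∈ M0 := haA ▸ (e.symm A₀).2
  obtain ⟨b, hb, hbi, hba, hbc⟩ := d.exists_inner_four ha hai
  set a' : H := ι ⟨a, Subgroup.subset_closure ⟨ha, hai⟩⟩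
  set b' : H := ι ⟨b, Subgroup.subset_closure ⟨hb, hbi⟩⟩
  have ha'o : orderOf a' = 2 := by
    rw [← Subgroup.orderOf_coe, show (a' : G) = (a : G) from rfl, Subgroup.orderOf_coe, ha]
  have hb'o : orderOf b' = 2 := by
    rw [← Subgroup.orderOf_coe, show (b' : G) = (b : G) from rfl, Subgroup.orderOf_coe, hb]
  have hab' : a' ≠ b' := fun h => hba (Subtype.ext (congrArg (fun z : H => (z : G)) h.symm : (b : G) = a))
  have hcab : Commute a' b' := Subtype.ext (congrArg Subtype.val hbc.eq.symm : (a : G) * b = b * a)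
  -- centralisers in `H` of inner involutions lie in `M`
  have hcM : ∀ (u : M) (u' : H), orderOf u = 2 → QuotientGroup.mk' K u ∈ M0 → (u' : G) = u →
      ∀ x : H, Commute x u' → (x : G) ∈ M := fun u u' hu hui he x hx =>
    d.mem_cent_le hu hui (he ▸ (congrArg Subtype.val hx.eq : (x : G) * u' = u' * x))
  set O := Cfsg.oddCore H
  have hO : Odd (Nat.card O) := odd_oddCore H
  have hPO : ¬ P ≤ O := fun h => by
    have := Subgroup.orderOf_dvd_natCard O (h ⟨_, rfl⟩ : a' ∈ O)
    rw [ha'o] at this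
    exact hO.not_two_dvd_nat this
  -- the odd core lies in `M`
  have hOM : ∀ x ∈ O, (x : G) ∈ M := by
    set O' := O ⊓ M.subgroupOf H
    have hO' : Odd (Nat.card O') := hO.of_dvd_nat (Subgroup.card_dvd_of_le inf_le_left)
    have hab'o : orderOf (a' * b') = 2 := invol_mul_of_commute ha'o hb'o hab' hcab
    have hnorm : ∀ (z : H), (z : G) ∈ M → ∀ x ∈ O', z * x * z⁻¹ ∈ O' := fun z hz x hx =>
      ⟨Subgroup.Normal.conj_mem inferInstance x hx.1 z, M.mul_mem (M.mul_mem hz hx.2) (M.inv_mem hz)⟩
    have hN : ∀ (z : H), ∀ x ∈ O, z * x * z⁻¹ ∈ O := fun z x hx => Subgroup.Normal.conj_mem inferInstance x hx z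
    have h1 := card_four_formula hO (invol_mul_self ha'o) (invol_mul_self hb'o) hcab (hN a') (hN b')
    have h2 := card_four_formula hO' (invol_mul_self ha'o) (invol_mul_self hb'o) hcab (hnorm a' a.2) (hnorm b' b.2)
    have hf : ∀ (u : M) (u' : H), orderOf u = 2 → QuotientGroup.mk' K u ∈ M0 → (u' : G) = u →
        fixIn O' u' = fixIn O u' := fun u u' hu hui he => le_antisymm (inf_le_inf_right _ inf_le_left) fun x hx =>
      ⟨⟨hx.1, hcM u u' hu hui he x (Subgroup.mem_centralizer_singleton_iff.1 hx.2)⟩, hx.2⟩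
    rw [hf a a' ha hai rfl, hf b b' hb hbi rfl, hf (a * b) (a' * b') (invol_mul_of_commute ha hb hba.symm hbc.symm)
      (by rw [map_mul]; exact mul_mem hai hbi) rfl, ← h1] at h2
    have h3 : O' = O := Subgroup.eq_of_le_of_card_ge inf_le_left
      (Nat.eq_of_mul_eq_mul_right (pow_pos Nat.card_pos 2) h2).ge
    intro x hx
    exact (h3.symm ▸ hx : x ∈ O').2
  rcases hG.proper_cases hHtop with ⟨j, hj⟩ | hX
  · exfalso
    haveI : Group.IsSolvable (H ⧸ O) := by
      haveI := (IsPGroup.of_card (p := 2) (n := j) (by rw [← Subgroup.index_eq_card]; exact hj) :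
        IsPGroup 2 (H ⧸ O)).isNilpotent
      infer_instance
    exact hPO (perfect_le_of_solvable_quotient O P)
  rcases hX with h4 | ⟨S, hSn, -, -, -, hSC, hS⟩
  · exfalso
    haveI : Group.IsSolvable (H ⧸ O) := solvable_of_isFourType h4
    exact hPO (perfect_le_of_solvable_quotient O P)
  haveI := hSn
  haveI : Group.IsPerfect (P.map (QuotientGroup.mk' O)) :=
    Group.IsPerfect.ofSurjective ((QuotientGroup.mk' O).subgroupMap_surjective P)
  set π := QuotientGroup.mk' O
  set A := π a'
  have hA : orderOf A = 2 := orderOf_mk_invol hO ha'o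
  -- the image of `M ∩ H`
  set U := ((M.subgroupOf H).map π).subgroupOf S
  have hUcent : ∀ x : H ⧸ O, Commute x A → x ∈ (M.subgroupOf H).map π := fun x hx => by
    obtain ⟨m, hm, hmc⟩ := exists_comm_lift hO ha'o hx
    exact ⟨m, hcM a a' ha hai rfl m hmc, hm⟩
  have hPU : P.map π ≤ (M.subgroupOf H).map π := Subgroup.map_mono (by
    rintro _ ⟨x, rfl⟩
    exact ((x : M)).2)
  suffices key : ∀ x : H ⧸ O, x ∈ (M.subgroupOf H).map π by
    intro g hg
    obtain ⟨m, hm, hmx⟩ := key (π ⟨g, hg⟩)
    have h := M.mul_mem (Subgroup.mem_subgroupOf.1 hm) (hOM _ (QuotientGroup.eq.1 hmx))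
    rwa [show ((m : H) : G) * ((m⁻¹ * ⟨g, hg⟩ : H) : G) = g by
      rw [Subgroup.coe_mul, Subgroup.coe_inv, mul_inv_cancel_left]] at h
  have hns : ∀ (hPS : P.map π ≤ S), ¬ Group.IsSolvable U := fun hPS hs => by
    haveI := hs
    haveI : Group.IsSolvable (P.map π) := Group.isSolvable_of_isSolvable_injective
      (f := (MonoidHom.codRestrict (Subgroup.inclusion hPS) U fun x => hPU x.2)) fun x y h =>
        Subgroup.inclusion_injective hPS (congrArg Subtype.val h)
    haveI : Nontrivial (P.map π) := ⟨⟨⟨A, a', ⟨_, rfl⟩, rfl⟩, 1, fun h => invol_ne_one hA (congrArg Subtype.val h)⟩⟩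
    exact Group.IsPerfect.not_isSolvable (P.map π) inferInstance
  rcases hS with ⟨E, i, j, hE, hE3, ⟨f⟩⟩ | ⟨⟨f⟩⟩
  · have hPS := perfect_le S f hSC (P.map π)
    have hAS : A ∈ S := hPS ⟨a', ⟨_, rfl⟩, rfl⟩
    have htop : U.map f.toMonoidHom = ⊤ := by
      refine psl_eq_top_of_cent _ hE (by obtain ⟨r, hr⟩ := hE; omega) (t := f ⟨A, hAS⟩)
        (by rw [MulEquiv.orderOf_eq, Subgroup.orderOf_mk, hA]) ?_ fun hs => hns hPS ?_
      · intro x hx
        obtain ⟨⟨y, hy⟩, rfl⟩ := f.surjective x
        refine ⟨⟨y, hy⟩, hUcent y ?_, rfl⟩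
        have h1 := f.injective ((map_mul f _ _).trans ((Subgroup.mem_centralizer_singleton_iff.1 hx).trans (map_mul f _ _).symm))
        exact congrArg Subtype.val h1
      · haveI := hs
        exact Group.isSolvable_of_isSolvable_injective (f := (U.equivMapOfInjective f.toMonoidHom f.injective).toMonoidHom)
          (MulEquiv.injective _)
    have hSU : ∀ y ∈ S, y ∈ (M.subgroupOf H).map π := fun y hy => by
      obtain ⟨z, hz, hzy⟩ := (htop.symm ▸ Subgroup.mem_top (f ⟨y, hy⟩) : f ⟨y, hy⟩ ∈ U.map f.toMonoidHom)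
      rw [f.injective hzy] at hz
      exact hz
    intro x
    obtain ⟨c, hc, m, hm, rfl⟩ := cent_sup_eq_top S f hA hAS x
    exact mul_mem (hSU m hm) (hUcent c (Subgroup.mem_centralizer_singleton_iff.1 hc))
  · have hD : DihTwo H := by
      rcases (hG.dihLE.subgroup H).cyclic_or_dihTwo with ⟨R, hR⟩ | h
      · exfalso
        refine no_four_of_cyclic_sylow (fun R' => ?_) ha'o hb'o hab' hcab
        exact (Sylow.equiv R' R).isCyclic.2 hR
      · exact h
    have hS' := eq_top_of_alt7 (dihTwo_quotient hD O hO.not_two_dvd_nat) S f hSC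
    have hPS : P.map π ≤ S := hS' ▸ le_top
    have hAS : A ∈ S := hS' ▸ Subgroup.mem_top A
    have htop : U.map f.toMonoidHom = ⊤ := by
      refine alt_seven_eq_top_of_cent _ (t := f ⟨A, hAS⟩)
        (by rw [MulEquiv.orderOf_eq, Subgroup.orderOf_mk, hA]) ?_ fun hs => hns hPS ?_
      · intro x hx
        obtain ⟨⟨y, hy⟩, rfl⟩ := f.surjective x
        refine ⟨⟨y, hy⟩, hUcent y ?_, rfl⟩
        have h1 := f.injective ((map_mul f _ _).trans ((Subgroup.mem_centralizer_singleton_iff.1 hx).trans (map_mul f _ _).symm))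
        exact congrArg Subtype.val h1
      · haveI := hs
        exact Group.isSolvable_of_isSolvable_injective (f := (U.equivMapOfInjective f.toMonoidHom f.injective).toMonoidHom)
          (MulEquiv.injective _)
    intro x
    have hx : x ∈ S := hS' ▸ Subgroup.mem_top x
    obtain ⟨z, hz, hzy⟩ := (htop.symm ▸ Subgroup.mem_top (f ⟨x, hx⟩) : f ⟨x, hx⟩ ∈ U.map f.toMonoidHom)
    rw [f.injective hzy] at hz
    exact hz

/-- the full data of case C with two classes -/
theorem twoData (hG : Min G) : TwoData M K M0 e :=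
  { d with kcent_le := fun _ hk hk1 => d.kcent_le hG hk hk1 }

end InnerData

end CfsgLib.GW
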