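import Cfsg.Agent.Lib.GW.FourQuotient
import Cfsg.Agent.Lib.GW.OddLift
import Cfsg.Agent.Lib.GW.OrbitCount
import Cfsg.Agent.Lib.GW.CaseCOne
import Cfsg.Agent.Lib.GW.Setting

/-!
# Case C over `S4`: the points of `G / M`

`M` is maximal over an involution centraliser, `M / K ≅ S4` and the inner involutions centralise `K`.
Inner involutions are not fused into `M` from outside; an outer one has a centraliser on `K` which is centralised
by an inner four group outside `M`.
-/

set_option autoImplicit false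
set_option linter.style.haveILetI false
set_option linter.unusedSectionVars false

namespace CfsgLib.GW

open CfsgLib.Invol

universe u

theorem card_cent_s4 {X : Type u} [Group X] [Finite X] (e : X ≃* Equiv.Perm (Fin 4)) (S : Set X)
    (p : Equiv.Perm (Fin 4) → Prop) [DecidablePred p] (h : ∀ x, x ∈ Subgroup.centralizer S ↔ p (e x)) :
    Nat.card (Subgroup.centralizer S) = (Finset.univ.filter p).card := by
  rw [← Fintype.card_subtype, ← Nat.card_eq_fintype_card]
  exact Nat.card_congr (e.toEquiv.subtypeEquiv h)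

theorem s4_inn_conj : ∀ a : Equiv.Perm (Fin 4), InnS4 a → a ≠ 1 → ∀ b : Equiv.Perm (Fin 4), InnS4 b → b ≠ 1 →
    ∃ c : Equiv.Perm (Fin 4), c * a * c⁻¹ = b := by decide +kernel
theorem s4_inn_mul : ∀ a : Equiv.Perm (Fin 4), InnS4 a → ∀ b : Equiv.Perm (Fin 4), InnS4 b → InnS4 (a * b) := by
  decide +kernel
theorem s4_out_conj : ∀ a : Equiv.Perm (Fin 4), OutS4 a → ∀ b : Equiv.Perm (Fin 4), OutS4 b →
    ∃ c : Equiv.Perm (Fin 4), c * a * c⁻¹ = b := by decide +kernel
theorem s4_cent_inn_pow : ∀ a : Equiv.Perm (Fin 4), InnS4 a → a ≠ 1 → ∀ p : Equiv.Perm (Fin 4),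
    p * a = a * p → p * p * (p * p) = 1 := by decide +kernel
theorem s4_cent_all_inn : ∀ p : Equiv.Perm (Fin 4), (∀ a : Equiv.Perm (Fin 4), InnS4 a → p * a = a * p) → InnS4 p := by
  decide +kernel
theorem s4_inn_not_invert : ∀ a : Equiv.Perm (Fin 4), InnS4 a → ∀ p : Equiv.Perm (Fin 4), p * p * p = 1 →
    a * p * a = p⁻¹ → p = 1 := by decide +kernel
theorem s4_out_mul : ∀ a : Equiv.Perm (Fin 4), OutS4 a → ∀ p : Equiv.Perm (Fin 4), p * p * p = 1 →
    a * p * a = p⁻¹ → OutS4 (a * p) := by decide +kernel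
theorem s4_invol_card : (Finset.univ.filter fun p : Equiv.Perm (Fin 4) => InnS4 p ∧ p ≠ 1).card = 3 := by
  decide +kernel

/-- the four group of `S4` as a subgroup -/
def innSubgroup : Subgroup (Equiv.Perm (Fin 4)) where
  carrier := {p | InnS4 p}
  mul_mem' := fun {a b} ha hb => s4_inn_mul a ha b hb
  one_mem' := ⟨one_mul 1, map_one _⟩
  inv_mem' := fun {a} ha => by
    show InnS4 a⁻¹
    rw [inv_eq_of_mul_eq_one_right ha.1]
    exact ha

theorem card_innSubgroup : Nat.card innSubgroup = 4 := by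
  classical
  refine Eq.trans ?_ s4_card_inn
  rw [← Set.ncard_coe_finset]
  refine (Nat.card_coe_set_eq (innSubgroup : Set (Equiv.Perm (Fin 4)))).trans ?_
  congr 1
  ext p
  simp [innSubgroup]

variable {G : Type u} [Group G] [Finite G]

/-- the map of `M` onto `S4` -/
noncomputable def toS4 {M : Subgroup G} (K : Subgroup M) [K.Normal] (e : (M ⧸ K) ≃* Equiv.Perm (Fin 4)) :
    M →* Equiv.Perm (Fin 4) := e.toMonoidHom.comp (QuotientGroup.mk' K)

/-- the situation over `S4` -/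
structure FourData (M : Subgroup G) (K : Subgroup M) [K.Normal] (e : (M ⧸ K) ≃* Equiv.Perm (Fin 4)) : Prop where
  min : Min G
  odd : Odd (Nat.card K)
  inner_cent : ∀ u : M, orderOf u = 2 → InnS4 (toS4 K e u) → ∀ k ∈ K, Commute u k
  cent_le : ∀ u : M, orderOf u = 2 → InnS4 (toS4 K e u) → Subgroup.centralizer ({(u : G)} : Set G) ≤ M
  maximal : ∀ H : Subgroup G, M ≤ H → H ≠ ⊤ → H = M
  not16 : ¬ 16 ∣ Nat.card G

namespace FourData

variable {M : Subgroup G} {K : Subgroup M} [K.Normal] {e : (M ⧸ K) ≃* Equiv.Perm (Fin 4)} (d : FourData M K e)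
include d

theorem mem_ker_iff {x : M} : toS4 K e x = 1 ↔ x ∈ K := by
  rw [toS4, MonoidHom.comp_apply, MulEquiv.coe_toMonoidHom, MulEquiv.map_eq_one_iff]
  exact QuotientGroup.eq_one_iff x

theorem toS4_invol {u : M} (hu : orderOf u = 2) : toS4 K e u * toS4 K e u = 1 ∧ toS4 K e u ≠ 1 :=
  ⟨by rw [← map_mul, invol_mul_self hu, map_one],
    fun h => invol_ne_one hu (eq_one_of_mem_of_sq d.odd (d.mem_ker_iff.1 h) (invol_mul_self hu))⟩

theorem inner_or_outer {u : M} (hu : orderOf u = 2) : InnS4 (toS4 K e u) ∨ OutS4 (toS4 K e u) :=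
  (s4_inner_cases _ (d.toS4_invol hu).1).imp (fun h => ⟨(d.toS4_invol hu).1, h⟩) fun h => ⟨(d.toS4_invol hu).1, h⟩

theorem exists_lift {p : Equiv.Perm (Fin 4)} (h : p * p = 1) (h1 : p ≠ 1) :
    ∃ u : M, orderOf u = 2 ∧ toS4 K e u = p := by
  haveI : Fact (Nat.Prime 2) := ⟨Nat.prime_two⟩
  obtain ⟨u, hu, hup⟩ := exists_invol_lift d.odd (x := e.symm p)
    (by rw [MulEquiv.orderOf_eq]; exact orderOf_eq_prime (by rw [sq, h]) h1)
  exact ⟨u, hu, by rw [toS4, MonoidHom.comp_apply, hup]; exact e.apply_symm_apply p⟩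

theorem mk_eq_of_toS4_eq {u v : M} (h : toS4 K e u = toS4 K e v) : QuotientGroup.mk' K u = QuotientGroup.mk' K v :=
  e.injective h

theorem inner_unique {u v : M} (hu : orderOf u = 2) (hv : orderOf v = 2) (hi : InnS4 (toS4 K e u))
    (h : toS4 K e u = toS4 K e v) : u = v :=
  invol_lift_unique d.odd hu hv (d.inner_cent u hu hi) (d.mk_eq_of_toS4_eq h)

theorem mem_cent_le {u : M} (hu : orderOf u = 2) (hi : InnS4 (toS4 K e u)) {g : G}
    (hg : Commute g (u : G)) : g ∈ M :=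
  d.cent_le u hu hi (Subgroup.mem_centralizer_singleton_iff.2 hg.eq)

/-- **no fusion of inner involutions outside `M`** -/
theorem mem_of_inner_conj {u u' : M} (hu : orderOf u = 2) (hi : InnS4 (toS4 K e u)) (hi' : InnS4 (toS4 K e u'))
    {g : G} (hg : g⁻¹ * (u : G) * g = (u' : G)) : g ∈ M := by
  have hu' : orderOf u' = 2 := by
    rw [← Subgroup.orderOf_coe, ← hg, show g⁻¹ * (u : G) * g = MulAut.conj g⁻¹ (u : G) by simp [MulAut.conj_apply],
      MulEquiv.orderOf_eq, Subgroup.orderOf_coe, hu]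
  obtain ⟨c, hc⟩ := s4_inn_conj _ hi' (d.toS4_invol hu').2 _ hi (d.toS4_invol hu).2
  obtain ⟨m, -, hm⟩ := exists_conj_lift d.odd hu' hu (x := e.symm c) (e.injective (by
    rw [map_mul, map_mul, map_inv, MulEquiv.apply_symm_apply]
    exact hc))
  have hm' : (m : G) * (u' : G) * (m : G)⁻¹ = (u : G) := congrArg Subtype.val hm
  have hmem : g * (m : G)⁻¹ ∈ M := d.mem_cent_le hu hi (by
    show g * (m : G)⁻¹ * (u : G) = (u : G) * (g * (m : G)⁻¹)
    calc g * (m : G)⁻¹ * (u : G) = g * (m : G)⁻¹ * ((m : G) * (u' : G) * (m : G)⁻¹) := by rw [hm']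
      _ = g * (u' : G) * (m : G)⁻¹ := by group
      _ = g * (g⁻¹ * (u : G) * g) * (m : G)⁻¹ := by rw [hg]
      _ = (u : G) * (g * (m : G)⁻¹) := by group)
  simpa using M.mul_mem hmem m.2

/-- the inner involutions commute -/
theorem inner_comm {a b : M} (ha : orderOf a = 2) (hb : orderOf b = 2) (hai : InnS4 (toS4 K e a))
    (hbi : InnS4 (toS4 K e b)) : Commute a b := by
  have h := d.inner_unique hb (v := a * b * a⁻¹)
    (by rw [show a * b * a⁻¹ = MulAut.conj a b from rfl, MulEquiv.orderOf_eq, hb]) hbi (by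
      rw [map_mul, map_mul, map_inv, s4_inn_inn _ hai _ hbi, mul_inv_cancel_right])
  exact mul_inv_eq_iff_eq_mul.1 h.symm

/-- **an element outside `M` moves no two inner involutions into `M`** -/
theorem mem_of_four_conj {a b : M} (ha : orderOf a = 2) (hb : orderOf b = 2) (hai : InnS4 (toS4 K e a))
    (hbi : InnS4 (toS4 K e b)) (hab : a ≠ b) {g : G}
    (hga : g * (a : G) * g⁻¹ ∈ M) (hgb : g * (b : G) * g⁻¹ ∈ M) : g ∈ M := by
  have hc := d.inner_comm ha hb hai hbi
  have key : ∀ (v : M) (hv : g * (v : G) * g⁻¹ ∈ M), orderOf v = 2 → InnS4 (toS4 K e v) →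
      InnS4 (toS4 K e ⟨_, hv⟩) → g ∈ M := fun v hv ho hi hi' => by
    refine d.mem_of_inner_conj (u := ⟨_, hv⟩) (u' := v) ?_ hi' hi (by group)
    rw [Subgroup.orderOf_mk, show g * (v : G) * g⁻¹ = MulAut.conj g (v : G) from rfl, MulEquiv.orderOf_eq,
      Subgroup.orderOf_coe, ho]
  have hgab : g * ((a * b : M) : G) * g⁻¹ ∈ M := by
    have := M.mul_mem hga hgb
    rwa [conj_mul] at this
  have hmul : (⟨_, hga⟩ : M) * ⟨_, hgb⟩ = ⟨_, hgab⟩ := Subtype.ext conj_mul
  have hsq : ∀ (v : M) (hv : g * (v : G) * g⁻¹ ∈ M), v * v = 1 →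
      toS4 K e ⟨_, hv⟩ * toS4 K e ⟨_, hv⟩ = 1 := fun v hv hvv => by
    rw [← map_mul, show (⟨_, hv⟩ : M) * ⟨_, hv⟩ = 1 from Subtype.ext ?_, map_one]
    show g * (v : G) * g⁻¹ * (g * (v : G) * g⁻¹) = 1
    rw [conj_mul, show (v : G) * (v : G) = 1 from congrArg Subtype.val hvv, mul_one, mul_inv_cancel]
  rcases s4_four_meets _ _ (hsq a hga (invol_mul_self ha)) (hsq b hgb (invol_mul_self hb)) (by
    rw [← map_mul, ← map_mul]
    refine congrArg _ (Subtype.ext ?_)
    show g * (a : G) * g⁻¹ * (g * (b : G) * g⁻¹) = g * (b : G) * g⁻¹ * (g * (a : G) * g⁻¹)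
    rw [conj_mul, conj_mul, show (a : G) * (b : G) = (b : G) * (a : G) from congrArg Subtype.val hc.eq]) with h | h | h
  · exact key a hga ha hai h
  · exact key b hgb hb hbi h
  · refine key (a * b) hgab (invol_mul_of_commute ha hb hab hc) (by rw [map_mul]; exact s4_inn_mul _ hai _ hbi) ?_
    rw [← map_mul, hmul] at h
    exact h

theorem one_class {s t : G} (hs : orderOf s = 2) (ht : orderOf t = 2) : ∃ g : G, g * s * g⁻¹ = t :=
  d.min.isConj_invol hs ht

theorem cube_of_odd {x : M} (hx : Odd (orderOf x)) : toS4 K e x * toS4 K e x * toS4 K e x = 1 := by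
  have h24 : orderOf (toS4 K e x) ∣ 2 ^ 3 * 3 := by
    have h := orderOf_dvd_natCard (G := Equiv.Perm (Fin 4)) (toS4 K e x)
    rwa [Nat.card_perm, Nat.card_eq_fintype_card, Fintype.card_fin] at h
  have hodd := hx.of_dvd_nat (orderOf_map_dvd (toS4 K e) x)
  rw [← pow_three']
  exact orderOf_dvd_iff_pow_eq_one.1
    ((Nat.Coprime.pow_right 3 (Nat.coprime_two_right.2 hodd)).dvd_of_dvd_mul_left h24)

theorem mem_of_odd_inn {x : M} (hx : Odd (orderOf x)) (h : InnS4 (toS4 K e x)) : x ∈ K := by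
  refine d.mem_ker_iff.1 (orderOf_eq_one_iff.1 ?_)
  exact Nat.eq_one_of_dvd_coprimes (Nat.coprime_two_right.2 (hx.of_dvd_nat (orderOf_map_dvd _ x)))
    dvd_rfl (orderOf_dvd_of_pow_eq_one (by rw [sq]; exact h.1))

/-- odd elements commuting with an inner involution lie in `K` -/
theorem mem_of_odd_comm {x a : M} (hx : Odd (orderOf x)) (ha : orderOf a = 2) (hai : InnS4 (toS4 K e a))
    (hxa : Commute x a) : x ∈ K := by
  refine d.mem_ker_iff.1 (orderOf_eq_one_iff.1 ?_)
  refine Nat.eq_one_of_dvd_coprimes (Nat.Coprime.pow_right 2 (Nat.coprime_two_right.2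
    (hx.of_dvd_nat (orderOf_map_dvd _ x)))) dvd_rfl (orderOf_dvd_of_pow_eq_one ?_)
  rw [show (2 : ℕ) ^ 2 = 2 * 2 from rfl, pow_mul, sq, sq]
  exact s4_cent_inn_pow _ hai (d.toS4_invol ha).2 _ (hxa.map (toS4 K e)).eq

theorem exists_inner_pair : ∃ a b : M, orderOf a = 2 ∧ orderOf b = 2 ∧ InnS4 (toS4 K e a) ∧ InnS4 (toS4 K e b) ∧
    a ≠ b ∧ Commute a b := by
  obtain ⟨A, hA, hA1⟩ : ∃ A : Equiv.Perm (Fin 4), InnS4 A ∧ A ≠ 1 :=
    ⟨Equiv.swap 0 1 * Equiv.swap 2 3, by decide, by decide⟩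
  obtain ⟨B, hB, hB1, hBA, -⟩ := s4_other_inn A hA hA1
  obtain ⟨a, ha, haA⟩ := d.exists_lift hA.1 hA1
  obtain ⟨b, hb, hbB⟩ := d.exists_lift hB.1 hB1
  exact ⟨a, b, ha, hb, haA ▸ hA, hbB ▸ hB, fun h => hBA (by rw [← hbB, ← h, haA]),
    d.inner_comm ha hb (haA ▸ hA) (hbB ▸ hB)⟩

theorem out_ne_one {p : Equiv.Perm (Fin 4)} (hp : OutS4 p) : p ≠ 1 := fun h => by
  have h2 := hp.2
  rw [h, map_one] at h2
  exact absurd h2 (by decide)

theorem exists_outer : ∃ w : M, orderOf w = 2 ∧ OutS4 (toS4 K e w) := by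
  have hp : OutS4 (Equiv.swap (0 : Fin 4) 1) := by decide
  obtain ⟨w, hw, hwp⟩ := d.exists_lift hp.1 (d.out_ne_one hp)
  exact ⟨w, hw, hwp ▸ hp⟩

/-- the outer involutions are conjugate -/
theorem outer_conj {v w : M} (hv : orderOf v = 2) (hw : orderOf w = 2) (hvo : OutS4 (toS4 K e v))
    (hwo : OutS4 (toS4 K e w)) : ∃ m : M, m * v * m⁻¹ = w := by
  obtain ⟨c, hc⟩ := s4_out_conj _ hvo _ hwo
  obtain ⟨m, -, hm⟩ := exists_conj_lift d.odd hv hw (x := e.symm c) (e.injective (by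
    rw [map_mul, map_mul, map_inv, MulEquiv.apply_symm_apply]
    exact hc))
  exact ⟨m, hm⟩

theorem outer_conj_mem {w : M} (hw : orderOf w = 2) (hwo : OutS4 (toS4 K e w)) (m : M) :
    orderOf (m * w * m⁻¹) = 2 ∧ OutS4 (toS4 K e (m * w * m⁻¹)) := by
  have ho : orderOf (m * w * m⁻¹) = 2 := by rw [show m * w * m⁻¹ = MulAut.conj m w from rfl, MulEquiv.orderOf_eq, hw]
  refine ⟨ho, (d.toS4_invol ho).1, ?_⟩
  rw [map_mul, map_mul, map_inv, map_mul, map_mul, map_inv, hwo.2]
  simp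

theorem odd_orderOf {k : M} (hk : k ∈ K) : Odd (orderOf k) :=
  d.odd.of_dvd_nat (Subgroup.orderOf_dvd_natCard K hk)

theorem invol_self_inv {u : M} (hu : orderOf u = 2) : u⁻¹ = u := inv_eq_of_mul_eq_one_right (invol_mul_self hu)

/-- **the fixed points of an outer involution have an inner four group outside `M` centralising them** -/
theorem exists_moved {w : M} (hw : orderOf w = 2) (hwo : OutS4 (toS4 K e w)) :
    ∃ g : G, g ∉ M ∧ ∀ k ∈ K, Commute k w → ∀ b : M, orderOf b = 2 → InnS4 (toS4 K e b) →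
      Commute (k : G) (g * (b : G) * g⁻¹) := by
  obtain ⟨a, -, ha, -, hai, -, -, -⟩ := d.exists_inner_pair
  obtain ⟨g, hg⟩ := d.one_class (s := (a : G)) (t := (w : G)) (by rw [Subgroup.orderOf_coe, ha])
    (by rw [Subgroup.orderOf_coe, hw])
  refine ⟨g, fun h => ?_, fun k hk hkw b hb hbi => ?_⟩
  · have h2 := hwo.2
    rw [show w = ⟨g, h⟩ * a * (⟨g, h⟩ : M)⁻¹ from Subtype.ext hg.symm, map_mul, map_mul, map_inv, map_mul, map_mul,
      map_inv, hai.2] at h2
    simp at h2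
  · have hga : g⁻¹ * (w : G) * g = (a : G) := by rw [← hg]; group
    have hc : Commute (g⁻¹ * (k : G) * g) (a : G) := by
      have h := (hkw.map M.subtype).map (MulAut.conj g⁻¹).toMonoidHom
      simpa [MulAut.conj_apply, hga] using h
    set y : M := ⟨_, d.mem_cent_le ha hai hc⟩ with hy
    have hyo : Odd (orderOf y) := by
      rw [hy, Subgroup.orderOf_mk, show g⁻¹ * (k : G) * g = MulAut.conj g⁻¹ (k : G) by simp [MulAut.conj_apply],
        MulEquiv.orderOf_eq, Subgroup.orderOf_coe]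
      exact d.odd_orderOf hk
    have hyK : y ∈ K := d.mem_of_odd_comm hyo ha hai (Subtype.ext hc.eq)
    have h := ((d.inner_cent b hb hbi y hyK).symm.map M.subtype).map (MulAut.conj g).toMonoidHom
    simpa [hy, MulAut.conj_apply, mul_assoc] using h

/-- fixed points of an outer involution have centralisers outside `M` -/
theorem fixed_not_le {w : M} (hw : orderOf w = 2) (hwo : OutS4 (toS4 K e w)) {S : Set M}
    (hS : ∀ k ∈ S, k ∈ K ∧ Commute k w) : ¬ Subgroup.centralizer ((fun x : M => (x : G)) '' S) ≤ M := by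
  obtain ⟨g, hg, hgc⟩ := d.exists_moved hw hwo
  obtain ⟨a, b, ha, hb, hai, hbi, hab, -⟩ := d.exists_inner_pair
  refine fun hle => hg (d.mem_of_four_conj ha hb hai hbi hab (hle ?_) (hle ?_)) <;>
    refine Subgroup.mem_centralizer_iff.2 ?_ <;> rintro _ ⟨k, hk, rfl⟩
  · exact (hgc k (hS k hk).1 (hS k hk).2 a ha hai).eq
  · exact (hgc k (hS k hk).1 (hS k hk).2 b hb hbi).eq

theorem fixed_cent_not_le {w : M} (hw : orderOf w = 2) (hwo : OutS4 (toS4 K e w)) {k : M} (hk : k ∈ K)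
    (hkw : Commute k w) : ¬ Subgroup.centralizer ({(k : G)} : Set G) ≤ M := by
  have h := d.fixed_not_le hw hwo (S := {k}) fun x hx => by rw [Set.mem_singleton_iff.1 hx]; exact ⟨hk, hkw⟩
  rwa [Set.image_singleton] at h

/-- **centralisers of normal subgroups of `M` inside `K`** -/
theorem cent_normal_le {B : Subgroup M} [B.Normal] (hB : B ≠ ⊥) (hBK : B ≤ K) :
    Subgroup.centralizer ((fun x : M => (x : G)) '' (B : Set M)) ≤ M := by
  set B' := B.map M.subtype with hB'
  have hMN : M ≤ Subgroup.normalizer (B' : Set G) := by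
    intro g hg
    refine Subgroup.mem_normalizer_iff.2 fun x => ⟨?_, ?_⟩
    · rintro ⟨y, hy, rfl⟩
      exact ⟨⟨g, hg⟩ * y * (⟨g, hg⟩ : M)⁻¹, ‹B.Normal›.conj_mem y hy _, rfl⟩
    · rintro ⟨y, hy, hyx⟩
      refine ⟨(⟨g, hg⟩ : M)⁻¹ * y * ⟨g, hg⟩, ‹B.Normal›.conj_mem' y hy _, ?_⟩
      show g⁻¹ * (y : G) * g = x
      rw [show (y : G) = g * x * g⁻¹ from hyx]
      group
  have hne : Subgroup.normalizer (B' : Set G) ≠ ⊤ := by
    intro h
    haveI hn : B'.Normal := Subgroup.normalizer_eq_top_iff.1 h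
    rcases d.min.eq_bot_or_top hn with h1 | h1
    · exact hB ((Subgroup.map_eq_bot_iff_of_injective B M.subtype_injective).1 h1)
    · obtain ⟨a, -, ha, -, -, -, -, -⟩ := d.exists_inner_pair
      obtain ⟨y, hy, hya⟩ : (a : G) ∈ B' := h1 ▸ Subgroup.mem_top _
      rw [M.subtype_injective hya] at hy
      exact invol_ne_one ha (eq_one_of_mem_of_sq d.odd (hBK hy) (invol_mul_self ha))
  rw [show ((fun x : M => (x : G)) '' (B : Set M)) = (B' : Set G) from rfl, ← d.maximal _ hMN hne]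
  exact Subgroup.centralizer_le_normalizer _

/-- no normal subgroup of `M` in `K` is centralised by an outer involution -/
theorem eq_bot_of_fixed {w : M} (hw : orderOf w = 2) (hwo : OutS4 (toS4 K e w)) {B : Subgroup M} [B.Normal]
    (hBK : B ≤ K) (hBw : ∀ k ∈ B, Commute k w) : B = ⊥ := by
  by_contra hB
  exact d.fixed_not_le hw hwo (fun k hk => ⟨hBK hk, hBw k hk⟩) (d.cent_normal_le hB hBK)

/-- the centraliser of an inner involution has order `8 |K|` -/
theorem card_cent_inner {u : M} (hu : orderOf u = 2) (hi : InnS4 (toS4 K e u)) :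
    Nat.card (Subgroup.centralizer ({(u : G)} : Set G)) = 8 * Nat.card K := by
  classical
  have h2 := card_cent_of_le {u} (by rw [Set.image_singleton]; exact d.cent_le u hu hi)
  rw [Set.image_singleton] at h2
  refine h2.trans ((card_centralizer_quotient_odd d.odd (invol_mul_self hu)).trans ?_)
  have hfix : fixIn K u = K := le_antisymm inf_le_left fun k hk =>
    ⟨hk, Subgroup.mem_centralizer_singleton_iff.2 (d.inner_cent u hu hi k hk).eq.symm⟩
  rw [hfix, mul_comm, show (↑u : M ⧸ K) = QuotientGroup.mk' K u from rfl,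
    card_cent_s4 e _ (fun c => c * toS4 K e u = toS4 K e u * c) fun x => by
      rw [Subgroup.mem_centralizer_singleton_iff, show toS4 K e u = e (QuotientGroup.mk' K u) from rfl, ← map_mul,
        ← map_mul, e.injective.eq_iff],
    s4_cent_inn _ hi (d.toS4_invol hu).2]

theorem card_M : Nat.card M = 24 * Nat.card K := by
  rw [← K.card_mul_index, Subgroup.index_eq_card, Nat.card_congr e.toEquiv, Nat.card_perm,
    Nat.card_eq_fintype_card (α := Fin 4), Fintype.card_fin, mul_comm]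
  rfl

end FourData

end CfsgLib.GW
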