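import Cfsg.Agent.Lib.GW.CaseCFour
import Cfsg.Agent.Lib.GW.CaseC

/-!
# Case C over `S4`: the order formula

With `δ = |K : C_K(w)|` for an outer involution `w` the index of `M` is `8/3 ρ (1 + δ)²`.
-/

set_option autoImplicit false
set_option linter.style.haveILetI false
set_option linter.unusedSectionVars false

namespace CfsgLib.GW

open CfsgLib.Invol CfsgLib.Block.Dihedral

universe u

variable {G : Type u} [Group G] [Finite G]

namespace FourData

variable {M : Subgroup G} {K : Subgroup M} [K.Normal] {e : (M ⧸ K) ≃* Equiv.Perm (Fin 4)} (d : FourData M K e)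
include d

theorem eight_dvd : 8 ∣ Nat.card G :=
  (show 8 ∣ Nat.card M from ⟨3 * Nat.card K, by rw [d.card_M]; ring⟩).trans (Subgroup.card_subgroup_dvd_card M)

theorem odd_index : Odd M.index := by
  rw [← Nat.not_even_iff_odd, even_iff_two_dvd]
  intro h2
  refine d.not16 ?_
  rw [← M.card_mul_index, show (16 : ℕ) = 8 * 2 from rfl]
  exact Nat.mul_dvd_mul ⟨3 * Nat.card K, by rw [d.card_M]; ring⟩ h2

/-- **the index of `M`** -/
theorem index_formula {w : M} (hw : orderOf w = 2) (hwo : OutS4 (toS4 K e w)) {δ : ℕ}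
    (hδ : δ * Nat.card (fixIn K w) = Nat.card K) :
    ∃ r : ℤ, r ≠ 1 ∧ (8 : ℤ) ∣ r - 1 ∧ (M.index : ℚ) = 8 / 3 * rho r * (1 + δ) ^ 2 := by
  classical
  haveI : Fact (Nat.Prime 2) := ⟨Nat.prime_two⟩
  obtain ⟨t, -, hto, -, hfti, -, -, -⟩ := d.exists_inner_pair
  have ht : orderOf (t : G) = 2 := by rw [Subgroup.orderOf_coe, hto]
  obtain ⟨P, σ, τ, h, D, hσ, hdih⟩ := d.min.exists_frame d.eight_dvd ht
  have hC := d.cent_le t hto hfti
  have hPM : (P : Subgroup G) ≤ M := fun x hx =>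
    hC (hσ ▸ Subgroup.mem_centralizer_singleton_iff.2 (D.J_comm hx).eq)
  set a : M := ⟨τ, hPM D.memτ⟩ with hadef
  set b : M := ⟨σ * τ, hPM (mul_mem D.memσ D.memτ)⟩ with hbdef
  have hτo : orderOf a = 2 := by
    rw [hadef, Subgroup.orderOf_mk]
    exact orderOf_eq_prime (by rw [sq, D.sqτ]) fun h => D.not_zpow (h ▸ one_mem _)
  have hbo : orderOf b = 2 := by
    rw [hbdef, Subgroup.orderOf_mk]
    refine orderOf_eq_prime ?_ fun h => D.not_zpow ?_
    · rw [sq, show σ * τ * (σ * τ) = σ * (τ * σ * τ⁻¹) * (τ * τ) by group, D.rel, D.sqτ]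
      group
    · rw [show τ = σ⁻¹ by exact eq_inv_of_mul_eq_one_right h]
      exact inv_mem (Subgroup.mem_zpowers σ)
  have hat : Commute a t := Subtype.ext (show τ * (t : G) = t * τ by rw [← hσ]; exact (D.J_comm D.memτ).eq)
  have hbt : Commute b t := Subtype.ext (show σ * τ * (t : G) = t * (σ * τ) by
    rw [← hσ]; exact (D.J_comm (mul_mem D.memσ D.memτ)).eq)
  have hker : ∀ x : M, (x : G) ∈ (P : Subgroup G) → toS4 K e x = 1 → x = 1 := fun x hx h1 => by
    obtain ⟨i, hi⟩ := P.2 ⟨(x : G), hx⟩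
    exact orderOf_eq_one_iff.1 (Nat.eq_one_of_dvd_coprimes (Nat.Coprime.pow_left i (Nat.coprime_two_left.2 d.odd))
      (orderOf_dvd_of_pow_eq_one (Subtype.ext (congrArg Subtype.val hi : (x : G) ^ 2 ^ i = 1)))
      (Subgroup.orderOf_dvd_natCard K (d.mem_ker_iff.1 h1)))
  have hab : toS4 K e a * toS4 K e b ≠ toS4 K e b * toS4 K e a := fun heq => by
    have hz : a * b * (b * a)⁻¹ = 1 := hker _ (mul_mem (mul_mem D.memτ (mul_mem D.memσ D.memτ))
      (inv_mem (mul_mem (mul_mem D.memσ D.memτ) D.memτ))) (by rw [map_mul, map_inv, map_mul, map_mul, heq, mul_inv_cancel])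
    have h' : τ * (σ * τ) = σ * τ * τ := congrArg Subtype.val (mul_inv_eq_one.1 hz)
    rw [mul_assoc σ, D.sqτ, mul_one] at h'
    have h2 : σ⁻¹ = σ := by
      rw [← D.rel]
      calc τ * σ * τ⁻¹ = τ * (σ * τ) * (τ * τ)⁻¹ := by group
        _ = σ := by rw [h', D.sqτ, inv_one, mul_one]
    have h4 : σ ^ 2 = 1 := by
      rw [sq]
      nth_rewrite 1 [← h2]
      exact inv_mul_cancel σ
    have := Nat.le_of_dvd two_pos (orderOf_dvd_of_pow_eq_one h4)
    rw [D.orderσ] at this
    have := D.two_le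
    omega
  have hcases := s4_frame hfti (d.toS4_invol hto).2 (d.toS4_invol hτo).1 (hat.symm.map (toS4 K e)).eq
    (d.toS4_invol hbo).1 (hbt.symm.map (toS4 K e)).eq hab
  -- centraliser orders
  have hfixI : ∀ u : M, orderOf u = 2 → InnS4 (toS4 K e u) → fixIn K u = K := fun u hu hui =>
    le_antisymm inf_le_left fun k hk => ⟨hk, Subgroup.mem_centralizer_singleton_iff.2 (d.inner_cent u hu hui k hk).eq.symm⟩
  have hfixO : ∀ u : M, orderOf u = 2 → OutS4 (toS4 K e u) → Nat.card (fixIn K u) = Nat.card (fixIn K w) :=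
    fun u hu huo => by
      obtain ⟨m, rfl⟩ := d.outer_conj hw hu hwo huo
      exact card_fixIn_conj K m w
  have hfour : ∀ u : M, orderOf u = 2 → Commute u t → toS4 K e u ≠ toS4 K e t →
      Nat.card (Subgroup.centralizer ({σ ^ h, (u : G)} : Set G)) = Nat.card (fixIn K t ⊓ fixIn K u : Subgroup M) * 4 := by
    intro u hu hc hne'
    rw [hσ]
    have h2 := card_cent_of_le {t, u} (le_trans (Subgroup.centralizer_le (by simp [Set.image_pair])) hC)
    rw [Set.image_pair] at h2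
    refine h2.trans ((card_centralizer_four_odd d.odd (invol_mul_self hto) (invol_mul_self hu) hc.symm).trans ?_)
    rw [show (↑t : M ⧸ K) = QuotientGroup.mk' K t from rfl, show (↑u : M ⧸ K) = QuotientGroup.mk' K u from rfl,
      card_cent_s4 e _ (fun c => c * toS4 K e t = toS4 K e t * c ∧ c * toS4 K e u = toS4 K e u * c) fun x => by
        simp only [Subgroup.mem_centralizer_iff, Set.mem_insert_iff, Set.mem_singleton_iff, forall_eq_or_imp, forall_eq,
          show ∀ v : M, toS4 K e v = e (QuotientGroup.mk' K v) from fun v => rfl, ← map_mul, e.injective.eq_iff]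
        exact and_congr eq_comm eq_comm,
      s4_cent_four _ (d.toS4_invol hto).1 (d.toS4_invol hto).2 _ (d.toS4_invol hu).1 (d.toS4_invol hu).2 hne'.symm
        (hc.symm.map (toS4 K e)).eq]
  have hane : toS4 K e a ≠ toS4 K e t := fun h1 => hab (by rw [h1]; exact (hbt.symm.map (toS4 K e)).eq)
  have hbne : toS4 K e b ≠ toS4 K e t := fun h1 => hab (by rw [h1]; exact (hat.map (toS4 K e)).eq)
  obtain ⟨r, hr1, -, hrd, -, hform⟩ := order_formula D hdih
    (isConj_iff.2 (d.min.isConj_invol (hσ.symm ▸ ht) (by rw [← Subgroup.orderOf_mk τ (hPM D.memτ)]; exact hτo)))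
    (isConj_iff.2 (d.min.isConj_invol (hσ.symm ▸ ht)
      (by rw [← Subgroup.orderOf_mk (σ * τ) (hPM (mul_mem D.memσ D.memτ))]; exact hbo)))
  have hsum : (1 / (Nat.card (Subgroup.centralizer ({σ ^ h, τ} : Set G)) : ℚ) +
      1 / (Nat.card (Subgroup.centralizer ({σ ^ h, σ * τ} : Set G)) : ℚ)) =
      1 / (4 * (Nat.card K : ℚ)) + 1 / (4 * (Nat.card (fixIn K w) : ℚ)) := by
    rw [show (τ : G) = (a : G) from rfl, show σ * (a : G) = (b : G) from rfl, hfour a hτo hat hane, hfour b hbo hbt hbne]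
    rcases hcases with ⟨h1, h2⟩ | ⟨h1, h2⟩
    · rw [hfixI t hto hfti, hfixI a hτo h1, inf_idem, inf_eq_right.2 (show fixIn K b ≤ K from inf_le_left), hfixO b hbo h2]
      push_cast
      ring
    · rw [hfixI t hto hfti, hfixI b hbo h2, inf_idem, inf_eq_right.2 (show fixIn K a ≤ K from inf_le_left), hfixO a hτo h1]
      push_cast
      ring
  refine ⟨r, hr1, ?_, ?_⟩
  · obtain ⟨j, hj⟩ := D.h_even
    obtain ⟨m, hm⟩ := hrd
    exact ⟨j * m, by rw [hm, hj]; push_cast; ring⟩
  rw [hsum, hσ, d.card_cent_inner hto hfti, ← M.card_mul_index, d.card_M] at hform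
  have hK0 : (Nat.card K : ℚ) ≠ 0 := by exact_mod_cast Nat.card_pos.ne'
  have hE0 : (Nat.card (fixIn K w) : ℚ) ≠ 0 := by exact_mod_cast Nat.card_pos.ne'
  have hδ' : (δ : ℚ) = Nat.card K / Nat.card (fixIn K w) := by
    rw [eq_div_iff hE0]
    exact_mod_cast hδ
  rw [hδ']
  push_cast at hform
  field_simp at hform ⊢
  apply mul_left_cancel₀ hK0
  linear_combination (Nat.card K : ℚ) / 128 * hform

/-- the upper bound for the order -/
theorem card_le {w : M} (hw : orderOf w = 2) (hwo : OutS4 (toS4 K e w)) {δ : ℕ}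
    (hδ : δ * Nat.card (fixIn K w) = Nat.card K) : Nat.card G ≤ 90 * Nat.card K * (1 + δ) ^ 2 := by
  obtain ⟨r, hr1, hr8, hn⟩ := d.index_formula hw hwo hδ
  have hrho := rho_le (h := 2) le_rfl hr1 (by simpa using hr8)
  have h : (Nat.card G : ℚ) ≤ 90 * Nat.card K * (1 + δ) ^ 2 := by
    rw [← M.card_mul_index, d.card_M]
    push_cast
    rw [hn]
    have hmul := mul_le_mul_of_nonneg_right hrho
      (show (0 : ℚ) ≤ 64 * ((Nat.card K : ℚ) * (1 + (δ : ℚ)) ^ 2) by positivity)
    linarith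
  exact_mod_cast h

end FourData

end CfsgLib.GW
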