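import Cfsg.Agent.Lib.GW.CaseCFourCent
import Cfsg.Agent.Lib.GW.CaseCFourFormula

/-!
# Case C over `S4`: abelian normal subgroups in `K` are inverted

An element of `K` inverted by an outer involution which centralises a normal subgroup has its centraliser in `M`.
An abelian normal subgroup with a fixed point of an outer involution would have order nine and lead to a group
`C(e)` of type `A7` with too many conjugates of `e`.
-/

set_option autoImplicit false
set_option linter.style.haveILetI false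
set_option linter.unusedSectionVars false

namespace CfsgLib.GW

open CfsgLib.Invol
open scoped commutatorElement

universe u

section

variable {X : Type*} [Group X] [Finite X]

theorem mem_three {S : Subgroup X} (hS : Nat.card S = 3) {z y : X} (hz : z ∈ S) (hz1 : z ≠ 1) (hy : y ∈ S) :
    y = 1 ∨ y = z ∨ y = z⁻¹ := by
  haveI : Fact (Nat.Prime 3) := ⟨Nat.prime_three⟩
  have hzo : orderOf z = 3 := ((Nat.dvd_prime Nat.prime_three).1 (hS ▸ Subgroup.orderOf_dvd_natCard S hz)).resolve_left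
    fun h => hz1 (orderOf_eq_one_iff.1 h)
  have hSz : S = Subgroup.zpowers z := (Subgroup.eq_of_le_of_card_ge (Subgroup.zpowers_le.2 hz)
    (by rw [Nat.card_zpowers, hzo, hS])).symm
  classical
  rw [hSz, mem_zpowers_iff_mem_range_orderOf, hzo, Finset.mem_image] at hy
  obtain ⟨i, hi, rfl⟩ := hy
  rw [Finset.mem_range] at hi
  interval_cases i
  · exact Or.inl (pow_zero z)
  · exact Or.inr (Or.inl (pow_one z))
  · refine Or.inr (Or.inr (eq_inv_of_mul_eq_one_left ?_))
    rw [← pow_succ, show 2 + 1 = orderOf z from hzo.symm, pow_orderOf_eq_one]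

/-- an element of odd order does not invert a non-trivial element of odd order -/
theorem commute_of_conj_inv {x z : X} (hx : Odd (orderOf x)) (hz : Odd (orderOf z)) (h : x * z * x⁻¹ = z⁻¹) :
    z = 1 := by
  have h2 : Commute (x ^ 2) z := mul_inv_eq_iff_eq_mul.1 (by
    calc x ^ 2 * z * (x ^ 2)⁻¹ = x * (x * z * x⁻¹) * x⁻¹ := by rw [sq]; group
      _ = z := by rw [h, ← conj_inv, h, inv_inv])
  obtain ⟨j, hj⟩ := hx
  have h3 : x = (x ^ 2) ^ (j + 1) := by
    rw [← pow_mul, show 2 * (j + 1) = (2 * j + 1) + 1 by ring, pow_succ, ← hj, pow_orderOf_eq_one, one_mul]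
  have h4 : Commute x z := h3 ▸ h2.pow_left _
  rw [h4.eq, mul_inv_cancel_right] at h
  have h5 : z ^ 2 = 1 := by rw [sq]; exact mul_eq_one_iff_eq_inv.2 h
  exact orderOf_eq_one_iff.1 (Nat.eq_one_of_dvd_coprimes (Nat.coprime_two_right.2 hz) dvd_rfl
    (orderOf_dvd_of_pow_eq_one h5))

theorem inf_eq_bot_of_three {S T : Subgroup X} (hS : Nat.card S = 3) (h : ¬ S ≤ T) : S ⊓ T = ⊥ := by
  refine Subgroup.eq_bot_of_card_eq _ (((Nat.dvd_prime Nat.prime_three).1
    (hS ▸ Subgroup.card_dvd_of_le inf_le_left)).resolve_right fun h3 => h ?_)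
  exact inf_eq_left.1 (Subgroup.eq_of_le_of_card_ge inf_le_left (by rw [hS, h3]))

/-- four distinct subgroups of order three cover a group of order nine -/
theorem cover_nine {A : Subgroup X} (hA : Nat.card A = 9) (S : Fin 4 → Subgroup X) (hS : ∀ i, Nat.card (S i) = 3)
    (hle : ∀ i, S i ≤ A) (hne : ∀ i j, i ≠ j → ¬ S i ≤ S j) {x : X} (hx : x ∈ A) : ∃ i, x ∈ S i := by
  classical
  haveI := Fintype.ofFinite X
  by_contra! hcon
  let T : Fin 4 → Finset X := fun i => (Finset.univ.filter fun y => y ∈ S i).erase 1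
  have hT : ∀ i, (T i).card = 2 := fun i => by
    rw [Finset.card_erase_of_mem (Finset.mem_filter.2 ⟨Finset.mem_univ _, one_mem _⟩), ← Fintype.card_subtype,
      ← Nat.card_eq_fintype_card]
    exact congrArg (· - 1) (hS i)
  have hd : ((Finset.univ : Finset (Fin 4)) : Set (Fin 4)).PairwiseDisjoint T := fun i _ j _ hij => by
    refine Finset.disjoint_left.2 fun y hy hy' => ?_
    obtain ⟨hy1, hyi⟩ := Finset.mem_erase.1 hy
    have h : y ∈ S i ⊓ S j := ⟨(Finset.mem_filter.1 hyi).2, (Finset.mem_filter.1 (Finset.mem_erase.1 hy').2).2⟩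
    rw [inf_eq_bot_of_three (hS i) (hne i j hij), Subgroup.mem_bot] at h
    exact hy1 h
  have hsub : Finset.univ.biUnion T ⊂ (Finset.univ.filter fun y => y ∈ A).erase 1 := by
    refine (Finset.ssubset_iff_of_subset fun y hy => ?_).2 ⟨x, Finset.mem_erase.2
      ⟨fun h => hcon 0 (h ▸ one_mem _), Finset.mem_filter.2 ⟨Finset.mem_univ _, hx⟩⟩, fun hy => ?_⟩
    · obtain ⟨i, -, hyi⟩ := Finset.mem_biUnion.1 hy
      obtain ⟨hy1, hyS⟩ := Finset.mem_erase.1 hyi
      exact Finset.mem_erase.2 ⟨hy1, Finset.mem_filter.2 ⟨Finset.mem_univ _, hle i (Finset.mem_filter.1 hyS).2⟩⟩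
    · obtain ⟨i, -, hyi⟩ := Finset.mem_biUnion.1 hy
      exact hcon i (Finset.mem_filter.1 (Finset.mem_erase.1 hyi).2).2
  have h := Finset.card_lt_card hsub
  rw [Finset.card_biUnion hd, Finset.card_erase_of_mem (Finset.mem_filter.2 ⟨Finset.mem_univ _, one_mem _⟩),
    ← Fintype.card_subtype, ← Nat.card_eq_fintype_card] at h
  simp only [hT, Finset.sum_const, Finset.card_univ, Fintype.card_fin, smul_eq_mul] at h
  change 4 * 2 < Nat.card A - 1 at h
  omega

end

variable {G : Type u} [Group G] [Finite G]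

namespace FourData

variable {M : Subgroup G} {K : Subgroup M} [K.Normal] {e : (M ⧸ K) ≃* Equiv.Perm (Fin 4)} (d : FourData M K e)
include d

theorem cent_conj_le {x : M} (h : Subgroup.centralizer ({(x : G)} : Set G) ≤ M) (m : M) :
    Subgroup.centralizer ({((m * x * m⁻¹ : M) : G)} : Set G) ≤ M := by
  intro g hg
  rw [Subgroup.coe_mul, Subgroup.coe_mul, Subgroup.coe_inv, ← map_conj_centralizer] at hg
  obtain ⟨y, hy, rfl⟩ := hg
  exact M.mul_mem (M.mul_mem m.2 (h hy)) (M.inv_mem m.2)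

/-- **inverted elements centralising a normal subgroup** -/
theorem cent_inverted_le {w k : M} (hw : orderOf w = 2) (hk : k ∈ K) (hk1 : k ≠ 1) (hwk : w * k * w⁻¹ = k⁻¹)
    {A : Subgroup M} [A.Normal] (hA : A ≠ ⊥) (hAK : A ≤ K) (hAk : ∀ a ∈ A, Commute a k) :
    Subgroup.centralizer ({(k : G)} : Set G) ≤ M := by
  by_contra hH
  have hAc : A ≤ centK K k := fun a ha => ⟨hAK ha, Subgroup.mem_centralizer_singleton_iff.2 (hAk a ha).eq⟩
  rcases d.cent_cases hk hk1 with h | ⟨hcard, -⟩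
  · exact hA (d.eq_bot_of_le_core hk hH (hAc.trans h))
  -- a real element has no full Sylow subgroup in its centraliser
  set H := Subgroup.centralizer ({(k : G)} : Set G) with hHdef
  have hwk' : (w : G) * k * (w : G)⁻¹ = (k : G)⁻¹ := congrArg Subtype.val hwk
  let N : Subgroup G :=
    { carrier := {g | g * (k : G) * g⁻¹ = k ∨ g * (k : G) * g⁻¹ = (k : G)⁻¹}
      mul_mem' := fun {a b} ha hb => by
        have h : a * b * (k : G) * (a * b)⁻¹ = a * (b * (k : G) * b⁻¹) * a⁻¹ := by group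
        show a * b * (k : G) * (a * b)⁻¹ = k ∨ a * b * (k : G) * (a * b)⁻¹ = (k : G)⁻¹
        rw [h]
        rcases hb with hb | hb <;> rw [hb]
        · exact ha
        · rw [← conj_inv]
          rcases ha with ha | ha <;> rw [ha]
          · exact Or.inr rfl
          · exact Or.inl (inv_inv _)
      one_mem' := Or.inl (by simp)
      inv_mem' := fun {a} ha => by
        show a⁻¹ * (k : G) * a⁻¹⁻¹ = k ∨ a⁻¹ * (k : G) * a⁻¹⁻¹ = (k : G)⁻¹
        rcases ha with ha | ha
        · left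
          calc a⁻¹ * (k : G) * a⁻¹⁻¹ = a⁻¹ * (a * (k : G) * a⁻¹) * a := by rw [ha, inv_inv]
            _ = k := by group
        · right
          calc a⁻¹ * (k : G) * a⁻¹⁻¹ = (a⁻¹ * (a * (k : G) * a⁻¹) * a⁻¹⁻¹)⁻¹ := by rw [ha]; group
            _ = (k : G)⁻¹ := by group }
  have hiff : ∀ g : G, g ∈ H ↔ g * (k : G) * g⁻¹ = k := fun g => by
    rw [hHdef, Subgroup.mem_centralizer_singleton_iff, mul_inv_eq_iff_eq_mul]
  have hHN : H ≤ N := fun g hg => Or.inl ((hiff g).1 hg)
  have hwH : (w : G) ∉ H := fun h => by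
    have h1 := (hiff _).1 h
    rw [hwk'] at h1
    exact hk1 (eq_one_of_mem_of_sq d.odd hk (Subtype.ext (by
      show (k : G) * k = 1
      nth_rewrite 1 [← h1]
      exact inv_mul_cancel _)))
  have hidx : (H.subgroupOf N).index = 2 := by
    refine Subgroup.index_eq_two_iff.2 ⟨⟨(w : G), Or.inr hwk'⟩, fun b => ?_⟩
    have hb2 : (b : G) * w * k * ((b : G) * w)⁻¹ = ((b : G) * k * (b : G)⁻¹)⁻¹ := by
      rw [conj_inv, ← hwk']
      group
    have hkk : (k : G) ≠ (k : G)⁻¹ := fun h => hwH ((hiff _).2 (hwk'.trans h.symm))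
    rcases b.2 with hb | hb
    · refine Or.inr ⟨(hiff _).2 hb, fun h => hkk ?_⟩
      have h1 : (b : G) * w * k * ((b : G) * w)⁻¹ = k := (hiff _).1 h
      rw [hb2, hb] at h1
      exact h1.symm
    · refine Or.inl ⟨(hiff _).2 ?_, fun h => hkk ?_⟩
      · show (b : G) * w * k * ((b : G) * w)⁻¹ = k
        rw [hb2, hb, inv_inv]
      · have h1 : (b : G) * k * (b : G)⁻¹ = k := (hiff _).1 h
        rw [← hb, h1]
  refine d.not16 (Dvd.dvd.trans ?_ (Subgroup.card_subgroup_dvd_card N))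
  rw [← (H.subgroupOf N).card_mul_index, Nat.card_congr (Subgroup.subgroupOfEquivOfLe hHN).toEquiv, hidx, hcard]
  exact ⟨315 * Nat.card (coreIn k), by ring⟩

/-- fixed points of a conjugate involution -/
theorem commute_conj {k w : M} (h : Commute k w) (m : M) : Commute (m * k * m⁻¹) (m * w * m⁻¹) := by
  show m * k * m⁻¹ * (m * w * m⁻¹) = m * w * m⁻¹ * (m * k * m⁻¹)
  rw [conj_mul, conj_mul, h.eq]

variable {A : Subgroup M} [A.Normal] (hAK : A ≤ K) (hAc : ∀ {x y : M}, x ∈ A → y ∈ A → Commute x y)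
include hAK hAc

theorem good_of_inverted {w x : M} (hw : orderOf w = 2) (hx : x ∈ A) (hx1 : x ≠ 1) (hwx : w * x * w⁻¹ = x⁻¹) :
    Subgroup.centralizer ({(x : G)} : Set G) ≤ M :=
  d.cent_inverted_le hw (hAK hx) hx1 hwx (fun h => hx1 (Subgroup.mem_bot.1 (h ▸ hx))) hAK fun _ ha => hAc ha hx

/-- the fixed points of an outer involution in `A` form the core part of each of them -/
theorem fix_eq_core {w k : M} (hw : orderOf w = 2) (hwo : OutS4 (toS4 K e w)) (hk : k ∈ fixIn A w) (hk1 : k ≠ 1) :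
    fixIn A w = A ⊓ coreIn k ∧ Nat.card (invSet A w) = 3 ∧ Nat.card A = 3 * Nat.card (fixIn A w) ∧
      Nat.card (Subgroup.centralizer ({(k : G)} : Set G)) = 2520 * Nat.card (coreIn k) ∧
      Nat.card (centK K k) ≤ 3 * Nat.card (coreIn k) := by
  obtain ⟨hkA, hkw⟩ := hk
  have hkw' : Commute k w := Subgroup.mem_centralizer_singleton_iff.1 hkw
  have hAne : A ≠ ⊥ := fun h => hk1 (Subgroup.mem_bot.1 (h ▸ hkA))
  have hH := d.fixed_cent_not_le hw hwo (hAK hkA) hkw'
  have hAle : A ≤ centK K k := fun a ha => ⟨hAK ha, Subgroup.mem_centralizer_singleton_iff.2 (hAc ha hkA).eq⟩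
  obtain ⟨hcard, h3⟩ := (d.cent_cases (hAK hkA) hk1).resolve_left fun h =>
    hAne (d.eq_bot_of_le_core (hAK hkA) hH (hAle.trans h))
  have hww := invol_mul_self hw
  have hAodd : Odd (Nat.card A) := d.odd.of_dvd_nat (Subgroup.card_dvd_of_le hAK)
  -- the core part is fixed
  have hQ : A ⊓ coreIn k ≤ fixIn A w := by
    rintro q ⟨hqA, hqc⟩
    refine mem_fixIn.2 ⟨hqA, ?_⟩
    have hwq : w * q * w⁻¹ ∈ A := ‹A.Normal›.conj_mem q hqA w
    set i := q⁻¹ * (w * q * w⁻¹) with hi
    have hiA : i ∈ A := A.mul_mem (A.inv_mem hqA) hwq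
    have hic : i ∈ coreIn k := mul_mem (inv_mem hqc) (d.coreIn_conj hkw'.symm hqc)
    have hinv : w * i * w⁻¹ = i⁻¹ := by
      calc w * i * w⁻¹ = (w * q * w⁻¹)⁻¹ * (w * (w * q * w⁻¹) * w⁻¹) := by rw [hi]; group
        _ = i⁻¹ := by rw [conj_conj_self hww, hi, mul_inv_rev q⁻¹, inv_inv]
    by_contra hne
    exact d.core_bad (hAK hkA) hH hic (d.good_of_inverted hAK hAc hw hiA
      (fun h => hne (inv_mul_eq_one.1 h).symm) hinv)
  -- the index
  have hle : Nat.card A ≤ 3 * Nat.card (A ⊓ coreIn k : Subgroup M) := by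
    have h1 := ((coreIn k).subgroupOf A).card_mul_index
    have h2 := ((coreIn k).subgroupOf (centK K k)).card_mul_index
    rw [Nat.card_congr (Subgroup.subgroupOfEquivOfLe (d.coreIn_le_centK (hAK hkA))).toEquiv] at h2
    have hcA : Nat.card ((coreIn k).subgroupOf A) = Nat.card (A ⊓ coreIn k : Subgroup M) := by
      rw [← Subgroup.inf_subgroupOf_left, Nat.card_congr (Subgroup.subgroupOfEquivOfLe inf_le_left).toEquiv]
    have hi : ((coreIn k).subgroupOf A).index ≤ ((coreIn k).subgroupOf (centK K k)).index :=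
      Subgroup.relIndex_le_of_le_right hAle Subgroup.FiniteIndex.index_ne_zero
    have hi3 : ((coreIn k).subgroupOf (centK K k)).index ≤ 3 := by
      rw [← h2, mul_comm 3] at h3
      exact Nat.le_of_mul_le_mul_left h3 Nat.card_pos
    rw [← h1, hcA, mul_comm]
    exact Nat.mul_le_mul_right _ (hi.trans hi3)
  have hfi := card_fix_mul_inv hAodd hww (fun x hx => ‹A.Normal›.conj_mem x hx w)
  have hQle := Subgroup.card_le_of_le hQ
  have hfpos : 0 < Nat.card (fixIn A w) := Nat.card_pos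
  have hinv3 : Nat.card (invSet A w) = 3 := by
    have hle3 : Nat.card (invSet A w) ≤ 3 := by nlinarith
    have hne1 : Nat.card (invSet A w) ≠ 1 := by
      intro h1
      rw [h1, mul_one] at hfi
      have hall : fixIn A w = A := Subgroup.eq_of_le_of_card_ge inf_le_left hfi.le
      exact hAne (d.eq_bot_of_fixed hw hwo hAK fun a ha =>
        Subgroup.mem_centralizer_singleton_iff.1 (hall.symm ▸ ha : a ∈ fixIn A w).2)
    obtain ⟨j, hj⟩ : Odd (Nat.card (invSet A w)) := (Nat.odd_mul.1 (hfi ▸ hAodd)).2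
    omega
  rw [hinv3] at hfi
  refine ⟨(Subgroup.eq_of_le_of_card_ge hQ (by omega)).symm, hinv3, by omega, hcard, h3⟩

/-- a non-inverted abelian normal subgroup: order nine, the fixed points move -/
theorem mixed_cases {w k : M} (hw : orderOf w = 2) (hwo : OutS4 (toS4 K e w)) (hk : k ∈ fixIn A w) (hk1 : k ≠ 1) :
    Nat.card A = 9 ∧ Nat.card (fixIn A w) = 3 ∧ ∃ m : M, m * k * m⁻¹ ∉ fixIn A w := by
  obtain ⟨-, -, hA3, -, -⟩ := d.fix_eq_core hAK hAc hw hwo hk hk1
  -- some conjugate of a fixed point is not fixed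
  obtain ⟨m₀, x, hx, hxm⟩ : ∃ m : M, ∃ x ∈ fixIn A w, m * x * m⁻¹ ∉ fixIn A w := by
    by_contra! hcon
    haveI : (fixIn A w).Normal := ⟨fun x hx m => hcon m x hx⟩
    refine hk1 (Subgroup.mem_bot.1 ?_)
    rw [← d.eq_bot_of_fixed (B := fixIn A w) hw hwo ((show fixIn A w ≤ A from inf_le_left).trans hAK)
      fun a ha => Subgroup.mem_centralizer_singleton_iff.1 ha.2]
    exact hk
  obtain ⟨hw', hwo'⟩ := d.outer_conj_mem hw hwo m₀
  set w' := m₀ * w * m₀⁻¹
  have hx' : m₀ * x * m₀⁻¹ ∈ fixIn A w' := ⟨‹A.Normal›.conj_mem x hx.1 m₀, Subgroup.mem_centralizer_singleton_iff.2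
    (d.commute_conj (Subgroup.mem_centralizer_singleton_iff.1 hx.2) m₀).eq⟩
  have hx'1 : m₀ * x * m₀⁻¹ ≠ 1 := fun h => hxm (h.symm ▸ one_mem _)
  obtain ⟨-, -, hA3', -, -⟩ := d.fix_eq_core hAK hAc hw' hwo' hx' hx'1
  have hdisj : fixIn A w ⊓ fixIn A w' = ⊥ := (Subgroup.eq_bot_iff_forall _).2 fun z hz => by
    by_contra hz1
    refine hxm ?_
    rw [(d.fix_eq_core hAK hAc hw hwo hz.1 hz1).1, ← (d.fix_eq_core hAK hAc hw' hwo' hz.2 hz1).1]
    exact hx'
  have hprod : Nat.card (fixIn A w) * Nat.card (fixIn A w') ≤ Nat.card A := by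
    rw [← Nat.card_prod]
    refine Nat.card_le_card_of_injective (fun p : fixIn A w × fixIn A w' =>
      (⟨(p.1 : M) * p.2, A.mul_mem p.1.2.1 p.2.2.1⟩ : A)) fun p q h => ?_
    have h1 : (p.1 : M) * p.2 = q.1 * q.2 := congrArg Subtype.val h
    have h2 : (q.1 : M)⁻¹ * p.1 ∈ fixIn A w ⊓ fixIn A w' := Subgroup.mem_inf.2 ⟨(fixIn A w).mul_mem ((fixIn A w).inv_mem q.1.2) p.1.2, by
      rw [show (q.1 : M)⁻¹ * p.1 = q.2 * (p.2 : M)⁻¹ by
        rw [eq_mul_inv_iff_mul_eq, mul_assoc, h1, inv_mul_cancel_left]]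
      exact (fixIn A w').mul_mem q.2.2 ((fixIn A w').inv_mem p.2.2)⟩
    rw [hdisj, Subgroup.mem_bot] at h2
    have h3 : (p.1 : M) = q.1 := (inv_mul_eq_one.1 h2).symm
    rw [h3] at h1
    exact Prod.ext (Subtype.ext h3) (Subtype.ext (mul_left_cancel h1))
  have hpos : 1 < Nat.card (fixIn A w) := by
    haveI : Nontrivial (fixIn A w) := ⟨⟨⟨k, hk⟩, 1, fun h => hk1 (congrArg Subtype.val h)⟩⟩
    exact Finite.one_lt_card
  have hodd : Odd (Nat.card (fixIn A w)) :=
    d.odd.of_dvd_nat (Subgroup.card_dvd_of_le ((inf_le_left : fixIn A w ≤ A).trans hAK))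
  have heq : Nat.card (fixIn A w') = Nat.card (fixIn A w) := by omega
  rw [heq] at hprod
  obtain ⟨j, hj⟩ := hodd
  have h3 : Nat.card (fixIn A w) = 3 := by
    have : Nat.card (fixIn A w) ≤ 3 := by nlinarith
    omega
  refine ⟨by omega, h3, m₀, fun hmem => hxm ?_⟩
  rcases mem_three h3 hk hk1 hx with rfl | rfl | rfl
  · simp
  · exact hmem
  · rw [← conj_inv]
    exact inv_mem hmem

/-- **abelian normal subgroups in `K` are inverted by the outer involutions** -/
theorem abelian_inverted {w : M} (hw : orderOf w = 2) (hwo : OutS4 (toS4 K e w)) {a : M} (ha : a ∈ A) :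
    w * a * w⁻¹ = a⁻¹ := by
  classical
  have hww := invol_mul_self hw
  have hAodd : Odd (Nat.card A) := d.odd.of_dvd_nat (Subgroup.card_dvd_of_le hAK)
  by_cases hfix : fixIn A w = ⊥
  · have h := card_fix_mul_inv hAodd hww (fun x hx => ‹A.Normal›.conj_mem x hx w)
    rw [hfix, Subgroup.card_bot, one_mul] at h
    have hset : invSet A w = (A : Set M) := Set.eq_of_subset_of_ncard_le (fun x hx => hx.1)
      (by rw [← Nat.card_coe_set_eq, ← Nat.card_coe_set_eq]; exact h.le) (Set.toFinite _)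
    exact (show a ∈ invSet A w by rw [hset]; exact ha).2
  exfalso
  obtain ⟨⟨k, hk⟩, hk1'⟩ := Subgroup.ne_bot_iff_exists_ne_one.1 hfix
  have hk1 : k ≠ 1 := fun h => hk1' (Subtype.ext h)
  have hkA := hk.1
  have hkK := hAK hkA
  have hkw : Commute k w := Subgroup.mem_centralizer_singleton_iff.1 hk.2
  obtain ⟨hA9, hS3, m, hm⟩ := d.mixed_cases hAK hAc hw hwo hk hk1
  obtain ⟨hQ, hI3, -, hcard, hD3⟩ := d.fix_eq_core hAK hAc hw hwo hk hk1
  have hH := d.fixed_cent_not_le hw hwo hkK hkw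
  set k' := m * k * m⁻¹ with hk'
  set w₁ := m * w * m⁻¹
  obtain ⟨hw₁, hwo₁⟩ := d.outer_conj_mem hw hwo m
  set k'' := w * k' * w⁻¹ with hk''
  set w₂ := w * w₁ * w⁻¹
  obtain ⟨hw₂, hwo₂⟩ := d.outer_conj_mem hw₁ hwo₁ w
  have hk'f : k' ∈ fixIn A w₁ := ⟨‹A.Normal›.conj_mem k hkA m,
    Subgroup.mem_centralizer_singleton_iff.2 (d.commute_conj hkw m).eq⟩
  have hk''f : k'' ∈ fixIn A w₂ := ⟨‹A.Normal›.conj_mem k' hk'f.1 w,
    Subgroup.mem_centralizer_singleton_iff.2 (d.commute_conj (d.commute_conj hkw m) w).eq⟩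
  have hk'1 : k' ≠ 1 := fun h => hm (h.symm ▸ one_mem _)
  have hk''1 : k'' ≠ 1 := fun h => hk'1 (conj_eq_one_iff.1 h)
  -- elements with centralisers outside `M`
  have hbad : ∀ {u x : M}, orderOf u = 2 → OutS4 (toS4 K e u) → x ∈ fixIn A u →
      ¬ Subgroup.centralizer ({(x : G)} : Set G) ≤ M := fun hu huo hx =>
    d.fixed_cent_not_le hu huo (hAK hx.1) (Subgroup.mem_centralizer_singleton_iff.1 hx.2)
  let I : Subgroup M :=
    { carrier := invSet A w
      mul_mem' := fun {x y} hx hy => ⟨A.mul_mem hx.1 hy.1, by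
        rw [← conj_mul, hx.2, hy.2, mul_inv_rev, (hAc (A.inv_mem hy.1) (A.inv_mem hx.1)).eq]⟩
      one_mem' := ⟨A.one_mem, by simp⟩
      inv_mem' := fun {x} hx => ⟨A.inv_mem hx.1, by rw [← conj_inv, hx.2]⟩ }
  have hIc : Nat.card I = 3 := hI3
  have hgood : ∀ {x : M}, x ∈ I → x ≠ 1 → Subgroup.centralizer ({(x : G)} : Set G) ≤ M := fun hx hx1 =>
    d.good_of_inverted hAK hAc hw hx.1 hx1 hx.2
  -- the four subgroups of order three
  have hc₁ : Nat.card (fixIn A w₁) = 3 := (d.mixed_cases hAK hAc hw₁ hwo₁ hk'f hk'1).2.1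
  have hc₂ : Nat.card (fixIn A w₂) = 3 := (d.mixed_cases hAK hAc hw₂ hwo₂ hk''f hk''1).2.1
  let S : Fin 4 → Subgroup M := ![fixIn A w, fixIn A w₁, fixIn A w₂, I]
  have hSc : ∀ i, Nat.card (S i) = 3 := fun i => by fin_cases i <;> assumption
  have hSle : ∀ i, S i ≤ A := fun i => by
    fin_cases i
    exacts [inf_le_left, inf_le_left, inf_le_left, fun x hx => hx.1]
  have hk''w : k'' ∉ fixIn A w := fun h => hm (by
    have h2 := (mem_fixIn.1 h).2
    rw [hk'', conj_conj_self hww] at h2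
    change k' ∈ fixIn A w
    rw [h2]
    exact h)
  have hk''w₁ : k'' ∉ fixIn A w₁ := fun h => by
    rcases mem_three hc₁ hk'f hk'1 h with h | h | h
    · exact hk''1 h
    · exact hm (mem_fixIn.2 ⟨hk'f.1, h⟩)
    · exact hbad hw₁ hwo₁ hk'f (hgood (x := k') ⟨hk'f.1, h⟩ hk'1)
  have hnI : ∀ {u x : M}, orderOf u = 2 → OutS4 (toS4 K e u) → x ∈ fixIn A u → x ≠ 1 → x ∉ I :=
    fun hu huo hx hx1 h => hbad hu huo hx (hgood h hx1)
  have hswap : ∀ {P Q : Subgroup M}, Nat.card P = 3 → Nat.card Q = 3 → ¬ P ≤ Q → ¬ Q ≤ P := fun hP hQ h hle =>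
    h (Subgroup.eq_of_le_of_card_ge hle (hP.trans hQ.symm).le).ge
  have hne : ∀ i j, i ≠ j → ¬ S i ≤ S j := by
    have h10 : ¬ fixIn A w₁ ≤ fixIn A w := fun h => hm (h hk'f)
    have h20 : ¬ fixIn A w₂ ≤ fixIn A w := fun h => hk''w (h hk''f)
    have h21 : ¬ fixIn A w₂ ≤ fixIn A w₁ := fun h => hk''w₁ (h hk''f)
    have h03 : ¬ fixIn A w ≤ I := fun h => hnI hw hwo hk hk1 (h hk)
    have h13 : ¬ fixIn A w₁ ≤ I := fun h => hnI hw₁ hwo₁ hk'f hk'1 (h hk'f)
    have h23 : ¬ fixIn A w₂ ≤ I := fun h => hnI hw₂ hwo₂ hk''f hk''1 (h hk''f)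
    intro i j hij
    fin_cases i <;> fin_cases j <;> first
      | exact absurd rfl hij
      | assumption
      | exact hswap hc₁ hS3 h10
      | exact hswap hc₂ hS3 h20
      | exact hswap hc₂ hc₁ h21
      | exact hswap hS3 hIc h03
      | exact hswap hc₁ hIc h13
      | exact hswap hc₂ hIc h23
  have hsplit : ∀ {x : M}, x ∈ A → x ∈ fixIn A w ∨ x ∈ fixIn A w₁ ∨ x ∈ fixIn A w₂ ∨ x ∈ I := fun hx => by
    obtain ⟨i, hi⟩ := cover_nine hA9 S hSc hSle hne hx
    fin_cases i
    exacts [Or.inl hi, Or.inr (Or.inl hi), Or.inr (Or.inr (Or.inl hi)), Or.inr (Or.inr (Or.inr hi))]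
  obtain ⟨⟨z, hz⟩, hz1'⟩ := Subgroup.ne_bot_iff_exists_ne_one.1
    (show I ≠ ⊥ from fun h => by rw [h, Subgroup.card_bot] at hIc; omega)
  have hz1 : z ≠ 1 := fun h => hz1' (Subtype.ext h)
  -- the centraliser of `k` in `K` centralises `A`
  have hDA : ∀ x ∈ centK K k, ∀ a ∈ A, Commute x a := by
    intro x hx
    have hxo := d.odd_orderOf hx.1
    have hxz : Commute x z := by
      have hz' : x * z * x⁻¹ ∈ A := ‹A.Normal›.conj_mem z hz.1 x
      have hg := d.cent_conj_le (hgood hz hz1) x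
      rcases hsplit hz' with h | h | h | h
      · exact absurd hg (hbad hw hwo h)
      · exact absurd hg (hbad hw₁ hwo₁ h)
      · exact absurd hg (hbad hw₂ hwo₂ h)
      · rcases mem_three hIc hz hz1 h with h' | h' | h'
        · exact absurd (conj_eq_one_iff.1 h') hz1
        · exact mul_inv_eq_iff_eq_mul.1 h'
        · exact absurd (commute_of_conj_inv hxo (d.odd_orderOf (hAK hz.1)) h') hz1
    have hxk : Commute x k := Subgroup.mem_centralizer_singleton_iff.1 hx.2
    intro a ha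
    set C := A ⊓ Subgroup.centralizer ({x} : Set M)
    have hC1 : fixIn A w ≤ C := fun y hy => by
      refine ⟨hy.1, Subgroup.mem_centralizer_singleton_iff.2 ?_⟩
      rcases mem_three hS3 hk hk1 hy with rfl | rfl | rfl
      · simp
      · exact hxk.eq.symm
      · exact hxk.inv_right.eq.symm
    have hzC : z ∈ C := ⟨hz.1, Subgroup.mem_centralizer_singleton_iff.2 hxz.eq.symm⟩
    have hCA : C = A := by
      refine Subgroup.eq_of_le_of_card_ge inf_le_left ?_
      have hd := Subgroup.card_dvd_of_le (inf_le_left : C ≤ A)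
      have h3 : 3 < Nat.card C := by
        by_contra hcon
        have heq := Subgroup.eq_of_le_of_card_ge hC1 (by omega)
        exact hnI hw hwo (heq.symm ▸ hzC) hz1 hz
      rw [hA9, show (9 : ℕ) = 3 ^ 2 by norm_num] at hd
      obtain ⟨j, hj2, hj⟩ := (Nat.dvd_prime_pow Nat.prime_three).1 hd
      rw [hj] at h3 ⊢
      rw [hA9]
      interval_cases j <;> first | omega | (norm_num at h3; done) | norm_num
    exact (Subgroup.mem_centralizer_singleton_iff.1 (hCA.symm ▸ ha : a ∈ C).2).symm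
  -- it is abelian and normal, hence equal to `A`
  set D := centK K k with hDdef
  have hDeq : D = K ⊓ Subgroup.centralizer (A : Set M) :=
    le_antisymm (fun x hx => ⟨hx.1, Subgroup.mem_centralizer_iff.2 fun a ha => (hDA x hx a ha).eq.symm⟩)
      fun x hx => ⟨hx.1, Subgroup.mem_centralizer_singleton_iff.2 (Subgroup.mem_centralizer_iff.1 hx.2 k hkA).symm⟩
  haveI : D.Normal := by rw [hDeq]; infer_instance
  have hcore : coreIn k ≤ D := d.coreIn_le_centK hkK
  have hDD : ⁅D, D⁆ ≤ coreIn k := by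
    haveI hn : ((coreIn k).subgroupOf D).Normal := ⟨fun x hx y =>
      d.coreIn_conj (Subgroup.mem_centralizer_singleton_iff.1 y.2.2) hx⟩
    have h1 := ((coreIn k).subgroupOf D).card_mul_index
    rw [Nat.card_congr (Subgroup.subgroupOfEquivOfLe hcore).toEquiv] at h1
    have hi3 : ((coreIn k).subgroupOf D).index ≤ 3 := by
      rw [← h1, mul_comm 3] at hD3
      exact Nat.le_of_mul_le_mul_left hD3 Nat.card_pos
    have hodd : Odd ((coreIn k).subgroupOf D).index :=
      (d.odd.of_dvd_nat (Subgroup.card_dvd_of_le (inf_le_left : D ≤ K))).of_dvd_nat (Subgroup.index_dvd_card _)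
    haveI : IsCyclic (D ⧸ (coreIn k).subgroupOf D) := by
      obtain ⟨j, hj⟩ := hodd
      rcases (show ((coreIn k).subgroupOf D).index = 1 ∨ ((coreIn k).subgroupOf D).index = 3 by omega) with h | h
      · haveI : Subsingleton (D ⧸ (coreIn k).subgroupOf D) :=
          (Nat.card_eq_one_iff_unique.1 (by rw [← Subgroup.index_eq_card, h])).1
        exact isCyclic_of_subsingleton
      · haveI : Fact (Nat.Prime 3) := ⟨Nat.prime_three⟩
        exact isCyclic_of_prime_card (p := 3) (by rw [← Subgroup.index_eq_card, h])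
    refine Subgroup.commutator_le.2 fun x hx y hy => ?_
    have hc : (⁅(⟨x, hx⟩ : D), ⟨y, hy⟩⁆ : D) ∈ (coreIn k).subgroupOf D := by
      rw [← QuotientGroup.eq_one_iff, ← QuotientGroup.mk'_apply, map_commutatorElement]
      exact commutatorElement_eq_one_iff_mul_comm.2 (IsCyclic.isMulCommutative.is_comm.comm _ _)
    exact hc
  have hDbot : ⁅D, D⁆ = ⊥ := d.eq_bot_of_le_core hkK hH hDD
  have hDc : ∀ {x y : M}, x ∈ D → y ∈ D → Commute x y := fun hx hy =>
    commutatorElement_eq_one_iff_mul_comm.1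
      (Subgroup.mem_bot.1 (hDbot ▸ Subgroup.commutator_mem_commutator hx hy))
  have hAD : A ≤ D := fun a ha => ⟨hAK ha, Subgroup.mem_centralizer_singleton_iff.2 (hAc ha hkA).eq⟩
  obtain ⟨hD9, hDS, -⟩ := d.mixed_cases (A := D) inf_le_left hDc hw hwo (k := k) ⟨hAD hkA, hk.2⟩ hk1
  have hDA' : D = A := (Subgroup.eq_of_le_of_card_ge hAD (by rw [hD9, hA9])).symm
  have hcore3 : Nat.card (coreIn k) = 3 := by
    rw [← hS3, hQ, inf_eq_right.2 (hDA' ▸ hcore)]
  -- conjugates of `k` in `K`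
  set m₁ := (D.subgroupOf K).index with hm₁
  have hKcard : Nat.card K = 9 * m₁ := by
    rw [hm₁, ← (D.subgroupOf K).card_mul_index,
      Nat.card_congr (Subgroup.subgroupOfEquivOfLe (show D ≤ K from inf_le_left)).toEquiv, hD9]
  let φ : K ⧸ D.subgroupOf K → M := Quotient.lift (fun x : K => (x : M) * k * (x : M)⁻¹) fun x y hxy => by
    have h : ((x : M)⁻¹ * y) ∈ D := (QuotientGroup.leftRel_apply.1 hxy :)
    have h2 : Commute ((x : M)⁻¹ * y) k := Subgroup.mem_centralizer_singleton_iff.1 h.2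
    calc (x : M) * k * (x : M)⁻¹ = (x : M) * (((x : M)⁻¹ * y) * k * ((x : M)⁻¹ * y)⁻¹) * (x : M)⁻¹ := by
          rw [h2.eq, mul_inv_cancel_right]
      _ = (y : M) * k * (y : M)⁻¹ := by group
  have hφ : ∀ q, ∃ x : K, φ q = (x : M) * k * (x : M)⁻¹ := fun q => by
    induction q using QuotientGroup.induction_on with
    | H x => exact ⟨x, rfl⟩
  have hφi : Function.Injective φ := by
    intro q r hqr
    induction q using QuotientGroup.induction_on with
    | H x =>
      induction r using QuotientGroup.induction_on with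
      | H y =>
        refine QuotientGroup.eq.2 (Subgroup.mem_subgroupOf.2 ⟨(x⁻¹ * y).2, Subgroup.mem_centralizer_singleton_iff.2 ?_⟩)
        have h : (x : M) * k * (x : M)⁻¹ = (y : M) * k * (y : M)⁻¹ := hqr
        calc ((x⁻¹ * y : K) : M) * k = (x : M)⁻¹ * ((y : M) * k * (y : M)⁻¹) * y := by
              rw [Subgroup.coe_mul, Subgroup.coe_inv]; group
          _ = k * ((x⁻¹ * y : K) : M) := by rw [← h, Subgroup.coe_mul, Subgroup.coe_inv]; group
  have hm3 : m₁ ≤ 3 := by
    haveI := Fintype.ofFinite M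
    haveI := Fintype.ofFinite (K ⧸ D.subgroupOf K)
    set O₁ : Finset M := Finset.univ.image φ
    set O₂ : Finset M := Finset.univ.image fun q => (φ q)⁻¹
    set T : Finset M := Finset.univ.filter fun x => x ∈ A ∧ x ∉ I
    have hT : T.card = 6 := by
      have hsub : (Finset.univ.filter fun x : M => x ∈ I) ⊆ Finset.univ.filter fun x : M => x ∈ A := fun x hx =>
        Finset.mem_filter.2 ⟨Finset.mem_univ _, (Finset.mem_filter.1 hx).2.1⟩
      have : T = (Finset.univ.filter fun x : M => x ∈ A) \ Finset.univ.filter fun x : M => x ∈ I := by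
        ext x; simp [T]
      rw [this, Finset.card_sdiff_of_subset hsub, ← Fintype.card_subtype, ← Fintype.card_subtype,
        ← Nat.card_eq_fintype_card, ← Nat.card_eq_fintype_card]
      change Nat.card A - Nat.card I = 6
      omega
    have hin : ∀ q, φ q ∈ A ∧ φ q ∉ I := fun q => by
      obtain ⟨x, hx⟩ := hφ q
      rw [hx]
      exact ⟨‹A.Normal›.conj_mem k hkA _, hnI (d.outer_conj_mem hw hwo x).1 (d.outer_conj_mem hw hwo x).2
        ⟨‹A.Normal›.conj_mem k hkA _, Subgroup.mem_centralizer_singleton_iff.2 (d.commute_conj hkw x).eq⟩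
        fun h => hk1 (conj_eq_one_iff.1 h)⟩
    have hsub : O₁ ∪ O₂ ⊆ T := by
      intro y hy
      rcases Finset.mem_union.1 hy with hy | hy <;> obtain ⟨q, -, rfl⟩ := Finset.mem_image.1 hy
      · exact Finset.mem_filter.2 ⟨Finset.mem_univ _, hin q⟩
      · exact Finset.mem_filter.2 ⟨Finset.mem_univ _, inv_mem (hin q).1, fun h => (hin q).2 (inv_mem_iff.1 h)⟩
    have hdisj : Disjoint O₁ O₂ := Finset.disjoint_left.2 fun y h1 h2 => by
      obtain ⟨q, -, rfl⟩ := Finset.mem_image.1 h1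
      obtain ⟨r, -, hr⟩ := Finset.mem_image.1 h2
      obtain ⟨x, hx⟩ := hφ q
      obtain ⟨y, hy⟩ := hφ r
      rw [hx, hy, conj_inv] at hr
      refine hk1 (commute_of_conj_inv (x := (y : M)⁻¹ * x) (d.odd_orderOf (K.mul_mem (K.inv_mem y.2) x.2))
        (d.odd_orderOf hkK) ?_)
      calc (y : M)⁻¹ * x * k * ((y : M)⁻¹ * x)⁻¹ = (y : M)⁻¹ * ((x : M) * k * (x : M)⁻¹) * y := by group
        _ = k⁻¹ := by rw [← hr]; group
    have hc := Finset.card_le_card hsub
    have hc₁ : O₁.card = Nat.card (K ⧸ D.subgroupOf K) := by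
      rw [Finset.card_image_of_injective _ hφi, Finset.card_univ, Nat.card_eq_fintype_card]
    have hc₂ : O₂.card = Nat.card (K ⧸ D.subgroupOf K) := by
      rw [Finset.card_image_of_injective _ (show Function.Injective fun q => (φ q)⁻¹ from
        fun q r h => hφi (inv_injective h)), Finset.card_univ, Nat.card_eq_fintype_card]
    rw [Finset.card_union_of_disjoint hdisj, hT, hc₁, hc₂] at hc
    rw [hm₁, Subgroup.index_eq_card]
    omega
  -- the conjugates of `k` by `C(k)`
  set H := Subgroup.centralizer ({(k : G)} : Set G) with hHdef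
  set H' := Subgroup.centralizer ({(k' : G)} : Set G) with hH'
  have hinter : H ⊓ H' ≤ M := by
    intro g hg
    refine d.cent_normal_le (fun h => hk1 (Subgroup.mem_bot.1 (h ▸ hkA))) hAK (Subgroup.mem_centralizer_iff.2 ?_)
    rintro _ ⟨a, haA, rfl⟩
    set C := A ⊓ (Subgroup.centralizer ({g} : Set G)).subgroupOf M
    have hkC : k ∈ C := ⟨hkA, Subgroup.mem_centralizer_singleton_iff.2
      (Subgroup.mem_centralizer_singleton_iff.1 hg.1).symm⟩
    have hk'C : k' ∈ C := ⟨hk'f.1, Subgroup.mem_centralizer_singleton_iff.2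
      (Subgroup.mem_centralizer_singleton_iff.1 hg.2).symm⟩
    have hS0 : fixIn A w ≤ C := fun y hy => by
      rcases mem_three hS3 hk hk1 hy with rfl | rfl | rfl
      exacts [one_mem _, hkC, inv_mem hkC]
    have hCA : C = A := by
      refine Subgroup.eq_of_le_of_card_ge inf_le_left ?_
      have hd := Subgroup.card_dvd_of_le (inf_le_left : C ≤ A)
      have h3 : 3 < Nat.card C := by
        by_contra hcon
        exact hm ((Subgroup.eq_of_le_of_card_ge hS0 (by omega)).symm ▸ hk'C)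
      rw [hA9, show (9 : ℕ) = 3 ^ 2 by norm_num] at hd
      obtain ⟨j, hj2, hj⟩ := (Nat.dvd_prime_pow Nat.prime_three).1 hd
      rw [hj] at h3 ⊢
      rw [hA9]
      interval_cases j <;> first | omega | (norm_num at h3; done) | norm_num
    exact Subgroup.mem_centralizer_singleton_iff.1 (hCA.symm ▸ haA : a ∈ C).2
  have hconj : H' = H.map (MulAut.conj (m : G)).toMonoidHom := by
    rw [hHdef, map_conj_centralizer]
    rfl
  have hcH' : Nat.card H' = Nat.card H := by
    rw [hconj, ← Nat.card_congr (Subgroup.equivMapOfInjective _ _ (MulAut.conj (m : G)).injective).toEquiv]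
  have hCM : Nat.card (M.subgroupOf H) ≤ 216 := by
    let f : M.subgroupOf H →* M := MonoidHom.mk' (fun x => (⟨((x : H) : G), x.2⟩ : M)) fun x y => Subtype.ext rfl
    let g := (toS4 K e).comp f
    rw [← g.ker.card_mul_index, Subgroup.index_ker]
    have h1 : Nat.card g.range ≤ 24 := by
      refine (Subgroup.card_le_card_group _).trans ?_
      rw [Nat.card_perm, Nat.card_eq_fintype_card (α := Fin 4), Fintype.card_fin]
      rfl
    have h2 : Nat.card g.ker ≤ 9 := by
      rw [← hD9]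
      refine Nat.card_le_card_of_injective (fun x : g.ker => (⟨f x, d.mem_ker_iff.1 x.2,
        Subgroup.mem_centralizer_singleton_iff.2 (Subtype.ext
          (Subgroup.mem_centralizer_singleton_iff.1 (x : M.subgroupOf H).1.2))⟩ : D)) fun x y h => ?_
      exact Subtype.ext (Subtype.ext (Subtype.ext (congrArg (fun z : D => ((z : M) : G)) h)))
    calc _ ≤ 9 * 24 := Nat.mul_le_mul h2 h1
      _ = 216 := rfl
  have hlow : 264600 ≤ Nat.card G := by
    have hI : (H'.subgroupOf H).index ≤ H'.index := by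
      rw [← Subgroup.relIndex, ← Subgroup.relIndex_top_right]
      exact Subgroup.relIndex_le_of_le_right le_top (by rw [Subgroup.relIndex_top_right]; exact Subgroup.FiniteIndex.index_ne_zero)
    have h1 : Nat.card H ≤ 216 * H'.index := by
      rw [← (H'.subgroupOf H).card_mul_index]
      refine Nat.mul_le_mul (le_trans ?_ hCM) hI
      exact Subgroup.card_le_of_le fun x hx => hinter ⟨x.2, hx⟩
    rw [hcard, hcore3] at h1
    rw [← H'.card_mul_index, hcH', hcard, hcore3]
    omega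
  have hfix3 : 3 ≤ Nat.card (fixIn K w) := hS3 ▸ Subgroup.card_le_of_le (inf_le_inf_right _ hAK)
  obtain ⟨δ, hδ⟩ := Subgroup.card_dvd_of_le (show fixIn K w ≤ K from inf_le_left)
  have hup := d.card_le hw hwo (δ := δ) (by rw [hδ, mul_comm])
  have hδ9 : δ ≤ 9 := by
    by_contra hcon
    have h1 : 3 * δ ≤ Nat.card (fixIn K w) * δ := Nat.mul_le_mul_right δ hfix3
    omega
  have h2 : 90 * Nat.card K * (1 + δ) ^ 2 ≤ 90 * 27 * (1 + 9) ^ 2 :=
    Nat.mul_le_mul (Nat.mul_le_mul_left _ (by omega)) (Nat.pow_le_pow_left (by omega) 2)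
  omega

end FourData

end CfsgLib.GW
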