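import Cfsg.Agent.Lib.GW.CaseCFour
import Cfsg.Agent.Lib.GW.CaseCCent
import Cfsg.Agent.Lib.GW.TypeCInvariant
import Cfsg.Agent.Lib.AutPSL.Field

/-!
# Case C over `S4`: centralisers of elements of `K`

For `k ∈ K` the odd core of `C(k)` lies in `K`; it contains `C_K(k)` unless `C(k)` is of type `A7`, then with index
at most three.  If `C(k)` is not in `M` its core has a centraliser outside `M`.
-/

set_option autoImplicit false
set_option linter.style.haveILetI false
set_option linter.unusedSectionVars false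

namespace CfsgLib.GW

open CfsgLib.Invol

universe u

/-- a group with a prime-power order dividing `8` for the torus: small field -/
theorem field_small {q : ℕ} (hodd : Odd q) (h5 : 5 ≤ q) (h : invCard q ≤ 8) : q = 5 ∨ q = 7 ∨ q = 9 := by
  obtain ⟨j, hj⟩ := hodd
  unfold invCard at h
  split_ifs at h <;> omega

theorem card_ringAut_small {F : Type*} [Field F] [Fintype F]
    (h : Fintype.card F = 5 ∨ Fintype.card F = 7 ∨ Fintype.card F = 9) : Nat.card (RingAut F) ≤ 2 := by
  rcases h with h | h | h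
  · haveI : Fact (Nat.Prime 5) := ⟨by norm_num⟩
    rw [CfsgLib.AutPSL.card_ringAut (p := 5) (f := 1) (by rw [h]; rfl)]
    norm_num
  · haveI : Fact (Nat.Prime 7) := ⟨by norm_num⟩
    rw [CfsgLib.AutPSL.card_ringAut (p := 7) (f := 1) (by rw [h]; rfl)]
    norm_num
  · haveI : Fact (Nat.Prime 3) := ⟨Nat.prime_three⟩
    rw [CfsgLib.AutPSL.card_ringAut (p := 3) (f := 2) (by rw [h]; rfl)]

variable {G : Type u} [Group G] [Finite G]

/-- the odd core of `C(k)`, as a subgroup of `M` -/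
def coreIn {M : Subgroup G} (k : M) : Subgroup M :=
  ((Cfsg.oddCore (Subgroup.centralizer ({(k : G)} : Set G))).map
    (Subgroup.centralizer ({(k : G)} : Set G)).subtype).subgroupOf M

/-- `C_K(k)` -/
def centK {M : Subgroup G} (K : Subgroup M) (k : M) : Subgroup M := K ⊓ Subgroup.centralizer ({k} : Set M)

theorem mem_coreIn {M : Subgroup G} {k x : M} :
    x ∈ coreIn k ↔ ∃ h : (x : G) ∈ Subgroup.centralizer ({(k : G)} : Set G),
      (⟨x, h⟩ : Subgroup.centralizer ({(k : G)} : Set G)) ∈ Cfsg.oddCore (Subgroup.centralizer ({(k : G)} : Set G)) := by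
  rw [coreIn, Subgroup.mem_subgroupOf, Subgroup.mem_map]
  constructor
  · rintro ⟨⟨z, hz⟩, hy, hyx⟩
    obtain rfl : z = (x : G) := hyx
    exact ⟨hz, hy⟩
  · rintro ⟨h, hx⟩
    exact ⟨_, hx, rfl⟩

namespace FourData

variable {M : Subgroup G} {K : Subgroup M} [K.Normal] {e : (M ⧸ K) ≃* Equiv.Perm (Fin 4)} (d : FourData M K e)
include d

theorem cent_ne_top {k : M} (hk1 : k ≠ 1) : Subgroup.centralizer ({(k : G)} : Set G) ≠ ⊤ := fun h =>
  hk1 (Subtype.ext (Subgroup.mem_bot.1 (d.min.center_eq_bot ▸ Subgroup.mem_center_iff.2 fun g =>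
    Subgroup.mem_centralizer_singleton_iff.1 (h ▸ Subgroup.mem_top g))))

theorem inner_mem_cent {k a : M} (hk : k ∈ K) (ha : orderOf a = 2) (hai : InnS4 (toS4 K e a)) :
    (a : G) ∈ Subgroup.centralizer ({(k : G)} : Set G) :=
  Subgroup.mem_centralizer_singleton_iff.2 (congrArg Subtype.val (d.inner_cent a ha hai k hk).eq)

/-- **the odd core of `C(k)` lies in `M`** -/
theorem core_mem {k : M} (hk : k ∈ K) {x : Subgroup.centralizer ({(k : G)} : Set G)}
    (hx : x ∈ Cfsg.oddCore (Subgroup.centralizer ({(k : G)} : Set G))) : (x : G) ∈ M := by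
  set H := Subgroup.centralizer ({(k : G)} : Set G)
  obtain ⟨a, b, ha, hb, hai, hbi, hab, hc⟩ := d.exists_inner_pair
  set a' : H := ⟨a, d.inner_mem_cent hk ha hai⟩
  set b' : H := ⟨b, d.inner_mem_cent hk hb hbi⟩
  have ha'o : orderOf a' = 2 := by rw [Subgroup.orderOf_mk, Subgroup.orderOf_coe, ha]
  have hb'o : orderOf b' = 2 := by rw [Subgroup.orderOf_mk, Subgroup.orderOf_coe, hb]
  have hcab : Commute a' b' := Subtype.ext (congrArg (fun z : M => (z : G)) hc.eq :)
  have hcM : ∀ (u : M) (u' : H), orderOf u = 2 → InnS4 (toS4 K e u) → (u' : G) = u →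
      ∀ x : H, Commute x u' → (x : G) ∈ M := fun u u' hu hui he x hx =>
    d.mem_cent_le hu hui (he ▸ (congrArg Subtype.val hx.eq : (x : G) * u' = u' * x))
  set O := Cfsg.oddCore H
  set O' := O ⊓ M.subgroupOf H
  have hO : Odd (Nat.card O) := odd_oddCore H
  have hO' : Odd (Nat.card O') := hO.of_dvd_nat (Subgroup.card_dvd_of_le inf_le_left)
  have hnorm : ∀ (z : H), (z : G) ∈ M → ∀ x ∈ O', z * x * z⁻¹ ∈ O' := fun z hz x hx =>
    ⟨Subgroup.Normal.conj_mem inferInstance x hx.1 z, M.mul_mem (M.mul_mem hz hx.2) (M.inv_mem hz)⟩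
  have hN : ∀ (z : H), ∀ x ∈ O, z * x * z⁻¹ ∈ O := fun z x hx => Subgroup.Normal.conj_mem inferInstance x hx z
  have h1 := card_four_formula hO (invol_mul_self ha'o) (invol_mul_self hb'o) hcab (hN a') (hN b')
  have h2 := card_four_formula hO' (invol_mul_self ha'o) (invol_mul_self hb'o) hcab (hnorm a' a.2) (hnorm b' b.2)
  have hf : ∀ (u : M) (u' : H), orderOf u = 2 → InnS4 (toS4 K e u) → (u' : G) = u →
      fixIn O' u' = fixIn O u' := fun u u' hu hui he => le_antisymm (inf_le_inf_right _ inf_le_left) fun x hx =>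
    ⟨⟨hx.1, hcM u u' hu hui he x (Subgroup.mem_centralizer_singleton_iff.1 hx.2)⟩, hx.2⟩
  rw [hf a a' ha hai rfl, hf b b' hb hbi rfl, hf (a * b) (a' * b') (invol_mul_of_commute ha hb hab hc)
    (by rw [map_mul]; exact s4_inn_mul _ hai _ hbi) rfl, ← h1] at h2
  have h3 : O' = O := Subgroup.eq_of_le_of_card_ge inf_le_left
    (Nat.eq_of_mul_eq_mul_right (pow_pos Nat.card_pos 2) h2).ge
  rw [← h3] at hx
  exact hx.2

theorem card_coreIn {k : M} (hk : k ∈ K) :
    Nat.card (coreIn k) = Nat.card (Cfsg.oddCore (Subgroup.centralizer ({(k : G)} : Set G))) := by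
  rw [coreIn, Nat.card_congr (Subgroup.subgroupOfEquivOfLe ?_).toEquiv,
    ← Nat.card_congr (Subgroup.equivMapOfInjective _ _ (Subgroup.subtype_injective _)).toEquiv]
  rintro _ ⟨x, hx, rfl⟩
  exact d.core_mem hk hx

theorem coreIn_conj {k m x : M} (hm : Commute m k) (hx : x ∈ coreIn k) : m * x * m⁻¹ ∈ coreIn k := by
  obtain ⟨h, hx⟩ := mem_coreIn.1 hx
  have hm' : (m : G) ∈ Subgroup.centralizer ({(k : G)} : Set G) :=
    Subgroup.mem_centralizer_singleton_iff.2 (congrArg Subtype.val hm.eq)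
  exact mem_coreIn.2 ⟨mul_mem (mul_mem hm' h) (inv_mem hm'),
    Subgroup.Normal.conj_mem inferInstance _ hx (⟨m, hm'⟩ : Subgroup.centralizer ({(k : G)} : Set G))⟩

/-- **the odd core of `C(k)` lies in `K`** -/
theorem coreIn_le {k : M} (hk : k ∈ K) : coreIn k ≤ K := by
  intro x hx
  have hodd : Odd (Nat.card (coreIn k)) := d.card_coreIn hk ▸ odd_oddCore _
  have hxo : Odd (orderOf x) := hodd.of_dvd_nat (Subgroup.orderOf_dvd_natCard _ hx)
  refine d.mem_of_odd_inn hxo (s4_cent_all_inn _ fun A hA => ?_)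
  by_cases hA1 : A = 1
  · simp [hA1]
  obtain ⟨a, ha, haA⟩ := d.exists_lift hA.1 hA1
  subst haA
  have hc : a * x * a⁻¹ * x⁻¹ ∈ coreIn k :=
    mul_mem (d.coreIn_conj (d.inner_cent a ha hA k hk) hx) (inv_mem hx)
  have hci : InnS4 (toS4 K e (a * x * a⁻¹ * x⁻¹)) := by
    rw [show a * x * a⁻¹ * x⁻¹ = a * (x * a⁻¹ * x⁻¹) by group, map_mul]
    refine s4_inn_mul _ hA _ ⟨?_, ?_⟩
    · simp only [map_mul, map_inv]
      rw [conj_mul, ← mul_inv_rev, hA.1]
      simp
    · simp only [map_mul, map_inv, hA.2]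
      simp
  have hck := d.mem_of_odd_inn (hodd.of_dvd_nat (Subgroup.orderOf_dvd_natCard _ hc)) hci
  have hac := d.inner_cent a ha hA _ hck
  have haa := invol_mul_self ha
  have hsq : (a * x * a⁻¹ * x⁻¹) * (a * x * a⁻¹ * x⁻¹) = 1 := by
    calc (a * x * a⁻¹ * x⁻¹) * (a * x * a⁻¹ * x⁻¹) = a * (a * x * a⁻¹ * x⁻¹) * a⁻¹ * (a * x * a⁻¹ * x⁻¹) := by
          rw [hac.eq, mul_inv_cancel_right]
      _ = (a * a) * x * (a * a)⁻¹ * x⁻¹ := by group
      _ = 1 := by rw [haa]; group
  have h1 := eq_one_of_mem_of_sq d.odd hck hsq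
  rw [← map_mul, ← map_mul, mul_inv_eq_iff_eq_mul.1 (mul_inv_eq_one.1 h1)]

theorem coreIn_le_centK {k : M} (hk : k ∈ K) : coreIn k ≤ centK K k := fun x hx => by
  refine ⟨d.coreIn_le hk hx, Subgroup.mem_centralizer_singleton_iff.2 (Subtype.ext ?_)⟩
  exact Subgroup.mem_centralizer_singleton_iff.1 (mem_coreIn.1 hx).1

/-- **the core has a centraliser outside `M`** -/
theorem core_cent_not_le {k : M} (hk : k ∈ K) (hH : ¬ Subgroup.centralizer ({(k : G)} : Set G) ≤ M) {S : Set M}
    (hS : S ⊆ (coreIn k : Set M)) : ¬ Subgroup.centralizer ((fun x : M => (x : G)) '' S) ≤ M := by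
  intro hle
  obtain ⟨h, hh, hhM⟩ := SetLike.not_le_iff_exists.1 hH
  obtain ⟨a, b, ha, hb, hai, hbi, hab, -⟩ := d.exists_inner_pair
  refine hhM (d.mem_of_four_conj ha hb hai hbi hab (hle ?_) (hle ?_)) <;>
    refine Subgroup.mem_centralizer_iff.2 ?_ <;> rintro _ ⟨x, hx, rfl⟩ <;>
    obtain ⟨hxH, hxO⟩ := mem_coreIn.1 (hS hx) <;>
    have hy := Subgroup.Normal.conj_mem inferInstance _ hxO
      (⟨h, hh⟩ : Subgroup.centralizer ({(k : G)} : Set G))⁻¹ <;>
    have hyM := d.core_mem hk hy <;>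
    have hyK : (⟨_, hyM⟩ : M) ∈ K := d.coreIn_le hk (mem_coreIn.2 ⟨_, hy⟩)
  · have h' := ((d.inner_cent a ha hai _ hyK).symm.map M.subtype).map (MulAut.conj h).toMonoidHom
    simpa [MulAut.conj_apply, mul_assoc] using h'.eq
  · have h' := ((d.inner_cent b hb hbi _ hyK).symm.map M.subtype).map (MulAut.conj h).toMonoidHom
    simpa [MulAut.conj_apply, mul_assoc] using h'.eq

theorem eq_bot_of_le_core {k : M} (hk : k ∈ K) (hH : ¬ Subgroup.centralizer ({(k : G)} : Set G) ≤ M)
    {B : Subgroup M} [B.Normal] (hB : B ≤ coreIn k) : B = ⊥ := by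
  by_contra hne
  exact d.core_cent_not_le hk hH (fun x hx => hB hx) (d.cent_normal_le hne (hB.trans (d.coreIn_le hk)))

theorem core_bad {k : M} (hk : k ∈ K) (hH : ¬ Subgroup.centralizer ({(k : G)} : Set G) ≤ M) {x : M}
    (hx : x ∈ coreIn k) : ¬ Subgroup.centralizer ({(x : G)} : Set G) ≤ M := by
  have h := d.core_cent_not_le hk hH (S := {x}) (Set.singleton_subset_iff.2 hx)
  rwa [Set.image_singleton] at h

/-- **the two types of `C(k)`** -/
theorem cent_cases {k : M} (hk : k ∈ K) (hk1 : k ≠ 1) :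
    centK K k ≤ coreIn k ∨
      (Nat.card (Subgroup.centralizer ({(k : G)} : Set G)) = 2520 * Nat.card (coreIn k) ∧
        Nat.card (centK K k) ≤ 3 * Nat.card (coreIn k)) := by
  classical
  haveI : Fact (Nat.Prime 2) := ⟨Nat.prime_two⟩
  rw [d.card_coreIn hk]
  set H := Subgroup.centralizer ({(k : G)} : Set G) with hH
  set O := Cfsg.oddCore H
  have hO : Odd (Nat.card O) := odd_oddCore H
  set π := QuotientGroup.mk' O
  -- the image of `C_K(k)`
  let ι : centK K k →* H := MonoidHom.mk'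
    (fun x => (⟨((x : M) : G), Subgroup.mem_centralizer_singleton_iff.2
      (congrArg Subtype.val (Subgroup.mem_centralizer_singleton_iff.1 x.2.2))⟩ : H))
    (fun x y => Subtype.ext rfl)
  let f := π.comp ι
  set R := f.range
  have hker : ∀ x : centK K k, f x = 1 ↔ (x : M) ∈ coreIn k := fun x => by
    rw [MonoidHom.comp_apply, QuotientGroup.mk'_apply, QuotientGroup.eq_one_iff, mem_coreIn]
    exact ⟨fun h => ⟨_, h⟩, fun ⟨_, h⟩ => h⟩
  have hkerc : Nat.card f.ker = Nat.card O := by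
    rw [← d.card_coreIn hk, ← Nat.card_congr (Subgroup.subgroupOfEquivOfLe (d.coreIn_le_centK hk)).toEquiv]
    refine Nat.card_congr (Equiv.subtypeEquivRight fun x => ?_)
    rw [MonoidHom.mem_ker, hker, Subgroup.mem_subgroupOf]
  have hcard : Nat.card (centK K k) = Nat.card O * Nat.card R := by
    rw [← f.ker.card_mul_index, Subgroup.index_ker, hkerc]
  have hKodd : Odd (Nat.card (centK K k)) := d.odd.of_dvd_nat (Subgroup.card_dvd_of_le inf_le_left)
  have hRodd : Odd (Nat.card R) := hKodd.of_dvd_nat ⟨_, by rw [hcard, mul_comm]⟩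
  have hbot : R = ⊥ → centK K k ≤ coreIn k := fun h x hx => (hker ⟨x, hx⟩).1 (by
    have : f ⟨x, hx⟩ ∈ R := ⟨_, rfl⟩
    rwa [h, Subgroup.mem_bot] at this)
  obtain ⟨a, b, ha, hb, hai, hbi, hab, hc⟩ := d.exists_inner_pair
  set a' : H := ⟨a, d.inner_mem_cent hk ha hai⟩
  set b' : H := ⟨b, d.inner_mem_cent hk hb hbi⟩
  have ha'o : orderOf a' = 2 := by rw [Subgroup.orderOf_mk, Subgroup.orderOf_coe, ha]
  have hb'o : orderOf b' = 2 := by rw [Subgroup.orderOf_mk, Subgroup.orderOf_coe, hb]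
  have hab' : a' ≠ b' := fun h => hab (Subtype.ext (congrArg (fun z : H => (z : G)) h))
  have hcab : Commute a' b' := Subtype.ext (congrArg (fun z : M => (z : G)) hc.eq :)
  have hD : DihTwo H := by
    rcases (d.min.dihLE.subgroup H).cyclic_or_dihTwo with ⟨S, hS⟩ | h
    · exfalso
      refine no_four_of_cyclic_sylow (fun S' => ?_) ha'o hb'o hab' hcab
      exact (Sylow.equiv S' S).isCyclic.2 hS
    · exact h
  have hDX := dihTwo_quotient hD O hO.not_two_dvd_nat
  set A := π a'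
  set B := π b'
  have hA : orderOf A = 2 := orderOf_mk_invol hO ha'o
  have hB : orderOf B = 2 := orderOf_mk_invol hO hb'o
  have hcAB : Commute A B := hcab.map π
  have hAB : A ≠ B := fun h => by
    have hm : a'⁻¹ * b' ∈ O := QuotientGroup.eq.1 h
    rw [invol_self_inv' ha'o] at hm
    exact invol_ne_one (invol_mul_of_commute ha'o hb'o hab' hcab) (eq_one_of_mem_of_sq hO hm
      (invol_mul_self (invol_mul_of_commute ha'o hb'o hab' hcab)))
  have hRA : ∀ r ∈ R, Commute r A ∧ Commute r B := by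
    rintro _ ⟨x, rfl⟩
    exact ⟨Commute.map (Subtype.ext (congrArg (fun z : M => (z : G)) (d.inner_cent a ha hai _ x.2.1).eq.symm :) :
        Commute (ι x) a') π,
      Commute.map (Subtype.ext (congrArg (fun z : M => (z : G)) (d.inner_cent b hb hbi _ x.2.1).eq.symm :) :
        Commute (ι x) b') π⟩
  -- lifts of the centraliser of an inner involution
  have hlift : ∀ (u : M) (u' : H), orderOf u = 2 → InnS4 (toS4 K e u) → (u' : G) = u → ∀ y : H ⧸ O,
      Commute y (π u') → ∃ m : M, ∃ hm : (m : G) ∈ H, π ⟨m, hm⟩ = y ∧ Commute m u ∧ Commute m k := by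
    intro u u' hu hui he y hy
    have hu'o : orderOf u' = 2 := by rw [← Subgroup.orderOf_coe, he, Subgroup.orderOf_coe, hu]
    obtain ⟨m, hm, hmc⟩ := exists_comm_lift hO hu'o hy
    have h1 : Commute (m : G) (u : G) := he ▸ (congrArg Subtype.val hmc.eq : (m : G) * u' = u' * m)
    exact ⟨⟨m, d.mem_cent_le hu hui h1⟩, m.2, hm, Subtype.ext h1.eq,
      Subtype.ext (Subgroup.mem_centralizer_singleton_iff.1 m.2)⟩
  have hRn : Subgroup.centralizer ({A} : Set (H ⧸ O)) ≤ Subgroup.normalizer (R : Set (H ⧸ O)) := by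
    have key : ∀ y : H ⧸ O, Commute y A → ∀ r ∈ R, y * r * y⁻¹ ∈ R := by
      rintro y hy _ ⟨x, rfl⟩
      obtain ⟨m, hmH, rfl, -, hmk⟩ := hlift a a' ha hai rfl y hy
      refine ⟨⟨m * (x : M) * m⁻¹, ‹K.Normal›.conj_mem _ x.2.1 m, Subgroup.mem_centralizer_singleton_iff.2 ?_⟩, ?_⟩
      · exact ((hmk.mul_left (Subgroup.mem_centralizer_singleton_iff.1 x.2.2)).mul_left hmk.inv_left).eq
      · show π _ = π ⟨m, hmH⟩ * π (ι x) * (π ⟨m, hmH⟩)⁻¹
        rw [← map_inv, ← map_mul, ← map_mul]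
        rfl
    intro y hy
    have hy' : Commute y A := Subgroup.mem_centralizer_singleton_iff.1 hy
    refine Subgroup.mem_normalizer_iff.2 fun r => ⟨fun hr => key y hy' r hr, fun hr => ?_⟩
    have := key y⁻¹ hy'.inv_left _ hr
    rwa [show y⁻¹ * (y * r * y⁻¹) * y⁻¹⁻¹ = r by group] at this
  rcases d.min.proper_cases (d.cent_ne_top hk1) with ⟨j, hj⟩ | hX
  · left
    refine hbot (Subgroup.eq_bot_of_card_eq R ?_)
    refine Nat.eq_one_of_dvd_coprimes (Nat.Coprime.pow_right j (Nat.coprime_two_right.2 hRodd)) dvd_rfl ?_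
    rw [← hj, Subgroup.index_eq_card]
    exact Subgroup.card_subgroup_dvd_card R
  rcases hX with h4 | ⟨S, hSn, -, -, -, hSC, hS⟩
  · left
    haveI : Fact (Nat.Prime 3) := ⟨Nat.prime_three⟩
    have hR3 : Nat.card R ∣ 3 := by
      have h := Subgroup.card_subgroup_dvd_card R
      obtain ⟨_, -, -, -, hX'⟩ := h4
      refine (Nat.Coprime.pow_right 3 (Nat.coprime_two_right.2 hRodd)).dvd_of_dvd_mul_left (h.trans ?_)
      rcases hX' with h' | h' <;> rw [h'] <;> decide
    have hRp : IsPGroup 3 R := by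
      rcases (Nat.dvd_prime Nat.prime_three).1 hR3 with h | h
      · exact IsPGroup.of_card (n := 0) h
      · exact IsPGroup.of_card (n := 1) h
    exact hbot (invariant_four_type h4 (by norm_num) hRp hA hB hAB.symm hcAB hRn)
  haveI := hSn
  rcases hS with ⟨E, i, jE, hE, hE3, ⟨φ⟩⟩ | ⟨⟨φ⟩⟩
  · left
    have h2 : (2 : E) ≠ 0 := CfsgLib.Perm.Dickson.two_ne_zero_of_odd (by rwa [Nat.card_eq_fintype_card])
    have hdiag : ∀ r ∈ R, r ∈ diagPart S φ → r = 1 := fun r hr hrd => by
      have hro : Odd (orderOf r) := hRodd.of_dvd_nat (Subgroup.orderOf_dvd_natCard R hr)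
      refine orderOf_eq_one_iff.1 (Nat.eq_one_of_dvd_coprimes (Nat.coprime_two_right.2 hro) dvd_rfl ?_)
      rcases diag_cent_four S φ hDX hSC h2 hA hB hAB hcAB hrd (hRA r hr).1 (hRA r hr).2 with h | h | h | h <;> rw [h]
      · rw [orderOf_one]; exact one_dvd _
      · rw [hA]
      · rw [hB]
      · rw [invol_mul_of_commute hA hB hAB hcAB]
    -- an inner involution in the socle
    obtain ⟨u, u', hu, hui, he, huS⟩ : ∃ (u : M) (u' : H), orderOf u = 2 ∧ InnS4 (toS4 K e u) ∧ (u' : G) = u ∧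
        π u' ∈ S := by
      rcases four_meets S φ hDX hSC h2 hA hB with h | h | h
      · exact ⟨a, a', ha, hai, rfl, h⟩
      · exact ⟨b, b', hb, hbi, rfl, h⟩
      · exact ⟨a * b, a' * b', invol_mul_of_commute ha hb hab hc, by rw [map_mul]; exact s4_inn_mul _ hai _ hbi, rfl,
          by rw [map_mul]; exact h⟩
    have hu'o : orderOf (π u') = 2 := orderOf_mk_invol hO (by rw [← Subgroup.orderOf_coe, he, Subgroup.orderOf_coe, hu])
    set C := Subgroup.centralizer ({φ ⟨_, huS⟩} : Set (Matrix.ProjectiveSpecialLinearGroup (Fin 2) E))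
    have hCcard : Nat.card C = invCard (Fintype.card E) :=
      card_cent_psl hE _ (by rw [MulEquiv.orderOf_eq, Subgroup.orderOf_mk, hu'o])
    have htwo : ∀ p : ℕ, p.Prime → p ∣ Nat.card C → p = 2 := by
      intro p hp hpd
      by_contra hp2
      haveI : Fact p.Prime := ⟨hp⟩
      obtain ⟨⟨y, hyC⟩, hy⟩ := exists_prime_orderOf_dvd_card' p hpd
      rw [Subgroup.orderOf_mk] at hy
      set Y : H ⧸ O := ((φ.symm y : S) : H ⧸ O) with hYdef
      have hYo : orderOf Y = p := by rw [hYdef, Subgroup.orderOf_coe, MulEquiv.orderOf_eq, hy]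
      have hYu : Commute Y (π u') := by
        have h1 := congrArg φ.symm (Subgroup.mem_centralizer_singleton_iff.1 hyC)
        rw [map_mul, map_mul, MulEquiv.symm_apply_apply] at h1
        exact congrArg Subtype.val h1
      obtain ⟨m, hmH, hmY, hmu, hmk⟩ := hlift u u' hu hui he Y hYu
      obtain ⟨i', l, hl, hil⟩ := Nat.exists_eq_two_pow_mul_odd (orderOf_pos m).ne'
      have hm'o : Odd (orderOf (m ^ 2 ^ i')) := by
        rw [orderOf_pow_of_dvd (by positivity) ⟨l, hil⟩, hil, Nat.mul_div_cancel_left _ (by positivity)]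
        exact hl
      have hm'K : m ^ 2 ^ i' ∈ centK K k :=
        ⟨d.mem_of_odd_comm hm'o hu hui (hmu.pow_left _),
          Subgroup.mem_centralizer_singleton_iff.2 (hmk.pow_left _).eq⟩
      have hYR : Y ^ 2 ^ i' ∈ R := ⟨⟨_, hm'K⟩, by rw [← hmY, ← map_pow]; rfl⟩
      have h1 := hdiag _ hYR (le_diagPart S φ (pow_mem (φ.symm y).2 _))
      have hd := orderOf_dvd_of_pow_eq_one h1
      rw [hYo] at hd
      exact hp2 ((Nat.prime_dvd_prime_iff_eq hp Nat.prime_two).1 (hp.dvd_of_dvd_pow hd))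
    obtain ⟨j, hj⟩ : ∃ j, Nat.card C = 2 ^ j :=
      ⟨_, Nat.eq_prime_pow_of_unique_prime_dvd Nat.card_pos.ne' fun {q} hq hqd => htwo q hq hqd⟩
    have hj3 : j ≤ 3 := by
      by_contra hj4
      refine d.not16 (((pow_dvd_pow 2 (show 4 ≤ j by omega)).trans (dvd_of_eq hj.symm)).trans ?_)
      refine (Subgroup.card_subgroup_dvd_card C).trans ?_
      rw [← Nat.card_congr φ.toEquiv]
      exact (Subgroup.card_subgroup_dvd_card S).trans ((Subgroup.card_quotient_dvd_card O).trans
        (Subgroup.card_subgroup_dvd_card H))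
    have h8 : invCard (Fintype.card E) ≤ 8 := by
      rw [← hCcard, hj]
      exact (Nat.pow_le_pow_right two_pos hj3)
    have hq := field_small hE (by obtain ⟨r, hr⟩ := hE; omega) h8
    have hidx : (diagPart S φ).index = 1 := by
      have h1 := index_diagPart_dvd S φ
      have h2' := field_odd S φ hDX hSC h2
      have h3 := card_ringAut_small hq
      haveI : Finite (RingAut E) := Finite.of_injective _ DFunLike.coe_injective
      have h4 := Nat.le_of_dvd Nat.card_pos h1
      have h5 : 0 < (diagPart S φ).index := Nat.pos_of_ne_zero Subgroup.FiniteIndex.index_ne_zero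
      omega
    exact hbot ((Subgroup.eq_bot_iff_forall R).2 fun r hr =>
      hdiag r hr (Subgroup.index_eq_one.1 hidx ▸ Subgroup.mem_top r))
  · right
    have htop := eq_top_of_alt7 hDX S φ hSC
    set ψ : (H ⧸ O) ≃* alternatingGroup (Fin 7) :=
      (Subgroup.topEquiv.symm.trans (MulEquiv.subgroupCongr htop.symm)).trans φ
    constructor
    · rw [← O.card_mul_index, Subgroup.index_eq_card, Nat.card_congr ψ.toEquiv, nat_card_alternatingGroup,
        Nat.card_eq_fintype_card (α := Fin 7), Fintype.card_fin, mul_comm]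
      norm_num [Nat.factorial]
    · rw [hcard, mul_comm]
      refine Nat.mul_le_mul_right _ (Nat.le_of_dvd (by norm_num) ?_)
      have hd : Nat.card R ∣ 24 := by
        rw [← alt_seven_card_cent (a := ψ A) (by rw [MulEquiv.orderOf_eq, hA]),
          ← Subgroup.card_map_of_injective (K := R) (f := ψ.toMonoidHom) ψ.injective]
        refine Subgroup.card_dvd_of_le ?_
        rintro _ ⟨r, hr, rfl⟩
        refine Subgroup.mem_centralizer_singleton_iff.2 ?_
        show ψ r * ψ A = ψ A * ψ r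
        rw [← map_mul, ← map_mul, (hRA r hr).1.eq]
      exact (Nat.Coprime.pow_right 3 (Nat.coprime_two_right.2 hRodd)).dvd_of_dvd_mul_left (m := 2 ^ 3) hd
where
  invol_self_inv' {H' : Type u} [Group H'] {x : H'} (hx : orderOf x = 2) : x⁻¹ = x :=
    inv_eq_of_mul_eq_one_right (by rw [← sq, ← hx, pow_orderOf_eq_one])

end FourData

end CfsgLib.GW
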