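import Cfsg.Agent.Lib.GW.CaseCFourStructure
import Cfsg.Agent.Lib.GW.CaseC
import Cfsg.Agent.Lib.Perm.Small.OrdersRange
import Cfsg.Agent.S0495
import Cfsg.Agent.S0497
import Cfsg.Agent.S0254
import Cfsg.Agent.S0984
import Mathlib.FieldTheory.Finite.GaloisField

/-!
# Case C over `S4`: the groups `PSL(2, 7)`, `PSL(2, 9)` and `A7`
-/

set_option autoImplicit false
set_option linter.style.haveILetI false
set_option linter.unusedSectionVars false

namespace CfsgLib.GW

open CfsgLib.Invol CfsgLib.Block.Dihedral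

universe u

variable {G : Type u} [Group G] [Finite G]

/-- the groups that remain -/
theorem Min.isPSLTwoOrA7_of_order (hG : Min G) (h : Nat.card G = 168 ∨ Nat.card G = 360 ∨ Nat.card G = 2520 ∨
    Nat.card G = 3672) : IsPSLTwoOrA7 G := by
  classical
  haveI := hG.simple
  have hna : ¬ IsMulCommutative G := fun hc => hG.not_solvable (Group.isSolvable_of_comm fun a b => hc.is_comm.comm a b)
  rcases h with h | h | h | h
  · haveI : Fact (Nat.Prime 7) := ⟨by norm_num⟩
    exact Or.inl ⟨ZMod 7, inferInstance, inferInstance, by rw [ZMod.card]; decide, by rw [ZMod.card]; norm_num,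
      Cfsg.Agent.S0495.result h (ZMod.card 7)⟩
  · haveI : Fact (Nat.Prime 3) := ⟨Nat.prime_three⟩
    haveI : Fintype (GaloisField 3 2) := Fintype.ofFinite _
    have h9 : Fintype.card (GaloisField 3 2) = 9 := by
      rw [← Nat.card_eq_fintype_card, GaloisField.card 3 2 two_ne_zero]
      norm_num
    obtain ⟨f⟩ := Cfsg.Agent.S0497.result h
    obtain ⟨g⟩ := Cfsg.Agent.S0254.result h9
    exact Or.inl ⟨GaloisField 3 2, inferInstance, inferInstance, by rw [h9]; decide, by rw [h9]; norm_num,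
      ⟨f.trans g.symm⟩⟩
  · exact Or.inr (Cfsg.Agent.S0984.result h)
  · exfalso
    rcases CfsgLib.Perm.OrdersRange.card_mem_range hna (by omega) (by omega) with h' | h' | h' | h' <;> omega

/-- **case C over `S4`** -/
theorem Min.isPSLTwoOrA7_of_fourType (hG : Min G) (h8 : 8 ∣ Nat.card G) {t : G} (ht : orderOf t = 2) {M : Subgroup G}
    (hC : Subgroup.centralizer ({t} : Set G) ≤ M) (hmax : ∀ H : Subgroup G, M ≤ H → H ≠ ⊤ → H = M)
    (V : Subgroup (M ⧸ Cfsg.oddCore M))
    (hVn : V.Normal) (hVK : IsKleinFour V) (hVC : Subgroup.centralizer (V : Set (M ⧸ Cfsg.oddCore M)) = V)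
    (hX : Nat.card (M ⧸ Cfsg.oddCore M) = 12 ∨ Nat.card (M ⧸ Cfsg.oddCore M) = 24)
    (hinner : ∀ u : M, orderOf u = 2 → QuotientGroup.mk' (Cfsg.oddCore M) u ∈ V → ∀ k ∈ Cfsg.oddCore M, Commute u k) :
    IsPSLTwoOrA7 G := by
  classical
  haveI : Fact (Nat.Prime 2) := ⟨Nat.prime_two⟩
  obtain ⟨P, σ, τ, h, D, hσ, hdih⟩ := hG.exists_frame h8 ht
  subst hσ
  have hPM : (P : Subgroup G) ≤ M := fun x hx => hC (Subgroup.mem_centralizer_singleton_iff.2 (D.J_comm hx).eq)
  have hK := odd_oddCore M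
  set K := Cfsg.oddCore M
  -- the order of the quotient
  have h24 : Nat.card (M ⧸ K) = 24 := by
    refine hX.resolve_left fun h12 => ?_
    have hMc : Nat.card M = 12 * Nat.card K := by
      rw [← K.card_mul_index, Subgroup.index_eq_card, h12, mul_comm]
    have h8' : 2 ^ 3 ∣ Nat.card (P : Subgroup G) := P.pow_dvd_card_of_pow_dvd_card h8
    have h2 := h8'.trans (Subgroup.card_dvd_of_le hPM)
    rw [hMc, show 12 * Nat.card K = 2 ^ 2 * (3 * Nat.card K) by ring, pow_succ] at h2
    have h3 := (Nat.mul_dvd_mul_iff_left (by norm_num)).1 h2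
    exact ((Nat.odd_mul.2 ⟨by decide, hK⟩ : Odd (3 * Nat.card K))).not_two_dvd_nat h3
  obtain ⟨e, he⟩ := exists_s4_equiv hVn hVK hVC h24
  have hf : ∀ u : M, toS4 K e u = e (QuotientGroup.mk' K u) := fun u => rfl
  -- two-elements
  have hker : ∀ x : M, (x : G) ∈ (P : Subgroup G) → toS4 K e x = 1 → x = 1 := fun x hx h1 => by
    obtain ⟨a, ha⟩ := P.2 ⟨(x : G), hx⟩
    rw [hf, MulEquiv.map_eq_one_iff, QuotientGroup.mk'_apply, QuotientGroup.eq_one_iff] at h1
    exact orderOf_eq_one_iff.1 (Nat.eq_one_of_dvd_coprimes (Nat.Coprime.pow_left a (Nat.coprime_two_left.2 hK))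
      (orderOf_dvd_of_pow_eq_one (Subtype.ext (congrArg Subtype.val ha : (x : G) ^ 2 ^ a = 1)))
      (Subgroup.orderOf_dvd_natCard K h1))
  have hMc : Nat.card M = 24 * Nat.card K := by
    rw [← K.card_mul_index, Subgroup.index_eq_card, h24, mul_comm]
  have not16 : ¬ 16 ∣ Nat.card G := fun h16 => by
    have h1 : 2 ^ 4 ∣ Nat.card (P : Subgroup G) := P.pow_dvd_card_of_pow_dvd_card h16
    have h2 := h1.trans (Subgroup.card_dvd_of_le hPM)
    rw [hMc, show 24 * Nat.card K = 2 ^ 3 * (3 * Nat.card K) by ring, pow_succ] at h2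
    exact ((Nat.odd_mul.2 ⟨by decide, hK⟩ : Odd (3 * Nat.card K))).not_two_dvd_nat
      ((Nat.mul_dvd_mul_iff_left (by norm_num)).1 h2)
  set t : M := ⟨σ ^ h, hC (Subgroup.mem_centralizer_singleton_iff.2 rfl)⟩ with htdef
  have hto : orderOf t = 2 := by rw [htdef, Subgroup.orderOf_mk, ht]
  have htP : (t : G) ∈ (P : Subgroup G) := pow_mem D.memσ h
  have hft1 : toS4 K e t ≠ 1 := fun h1 => invol_ne_one hto (hker t htP h1)
  have hfti : InnS4 (toS4 K e t) := by
    obtain ⟨j, hj⟩ := D.h_even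
    set x : M := ⟨σ ^ j, hPM (pow_mem D.memσ j)⟩
    have htx : t = x * x := Subtype.ext (by show σ ^ h = σ ^ j * σ ^ j; rw [hj, pow_add])
    rw [htx, map_mul]
    refine s4_sq_inn _ ?_
    rw [← map_mul, ← htx, ← map_mul, invol_mul_self hto, map_one]
  have d : FourData M K e := by
    refine ⟨hG, hK, fun u hu hi => hinner u hu ((he _).2 hi), fun u hu hi g hg => ?_, hmax, not16⟩
    obtain ⟨c, hc⟩ := s4_inn_conj _ hfti hft1 _ hi (fun h1 => by
      rw [hf, MulEquiv.map_eq_one_iff] at h1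
      exact invol_ne_one hu (eq_one_of_mem_of_sq hK ((QuotientGroup.eq_one_iff u).1 h1) (invol_mul_self hu)))
    obtain ⟨m, -, hm⟩ := exists_conj_lift hK hto hu (x := e.symm c) (e.injective (by
      rw [map_mul, map_mul, map_inv, MulEquiv.apply_symm_apply]
      exact hc))
    have hm' : (m : G) * σ ^ h * (m : G)⁻¹ = (u : G) := congrArg Subtype.val hm
    have hg' := Subgroup.mem_centralizer_singleton_iff.1 hg
    have hmem : (m : G)⁻¹ * g * (m : G) ∈ M := hC (Subgroup.mem_centralizer_singleton_iff.2 (by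
      calc (m : G)⁻¹ * g * m * σ ^ h = (m : G)⁻¹ * (g * ((m : G) * σ ^ h * (m : G)⁻¹)) * m := by group
        _ = (m : G)⁻¹ * ((m : G) * σ ^ h * (m : G)⁻¹ * g) * m := by rw [hm', hg']
        _ = σ ^ h * ((m : G)⁻¹ * g * m) := by group))
    simpa [mul_assoc] using M.mul_mem (M.mul_mem m.2 hmem) (M.inv_mem m.2)
  obtain ⟨w, hw, hwo⟩ := d.exists_outer
  have hKo := d.card_cases
  have hfix : fixIn K w = ⊥ := by
    by_contra hne
    have hall : fixIn K w = K := by
      refine Subgroup.eq_of_le_of_card_ge inf_le_left ?_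
      rcases hKo with h1 | h3
      · rw [h1]; exact Nat.card_pos
      · rw [h3]
        have h1 : Nat.card (fixIn K w) ≠ 1 := fun h => hne (Subgroup.eq_bot_of_card_eq _ h)
        obtain ⟨j, hj⟩ := hK.of_dvd_nat (Subgroup.card_dvd_of_le (show fixIn K w ≤ K from inf_le_left))
        omega
    exact hne (hall.trans (d.eq_bot_of_fixed hw hwo le_rfl fun k hk =>
      Subgroup.mem_centralizer_singleton_iff.1 (hall.symm ▸ hk : k ∈ fixIn K w).2))
  obtain ⟨r, hr1, h8r, hn⟩ := d.index_formula hw hwo (δ := Nat.card K) (by rw [hfix, Subgroup.card_bot, mul_one])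
  have hGn : Nat.card G = 24 * Nat.card K * M.index := by rw [← M.card_mul_index, hMc]
  refine hG.isPSLTwoOrA7_of_order ?_
  rcases two_class_four hr1 h8r hK d.odd_index hn (fun h5 => by omega) with ⟨hk, hn7 | hn15⟩ | ⟨hk, hn35 | hn51⟩
  · left; rw [hGn, hk, hn7]
  · right; left; rw [hGn, hk, hn15]
  · right; right; left; rw [hGn, hk, hn35]
  · right; right; right; rw [hGn, hk, hn51]

end CfsgLib.GW
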