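import Cfsg.Agent.Lib.GW.OddLift
import Cfsg.Agent.Lib.GW.TorusCent
import Cfsg.Agent.Lib.Block.DihedralFrame

/-!
# Two classes of involutions over an involution centraliser: the layer

`M` is a subgroup containing the centralisers of its inner involutions, `K` a normal subgroup of odd order of `M`
centralised by them, and `M / K` has a normal `PSL(2, F)`.
-/

set_option autoImplicit false
set_option linter.style.haveILetI false
set_option linter.unusedSectionVars false

namespace CfsgLib.GW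

open CfsgLib.Invol

universe u

variable {G : Type u} [Group G] [Finite G] {F : Type*} [Field F] [Fintype F]

/-- the inner involutions centralise `K` and have their centralisers in `M` -/
structure InnerData (M : Subgroup G) (K : Subgroup M) [K.Normal] (M0 : Subgroup (M ⧸ K)) [M0.Normal]
    (e : M0 ≃* Matrix.ProjectiveSpecialLinearGroup (Fin 2) F) : Prop where
  one_class : ∀ {s t : G}, orderOf s = 2 → orderOf t = 2 → ∃ g : G, g * s * g⁻¹ = t
  odd : Odd (Nat.card K)
  dih : DihTwo (M ⧸ K)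
  cent : Subgroup.centralizer (M0 : Set (M ⧸ K)) = ⊥
  simple : IsSimpleGroup M0
  two_ne : (2 : F) ≠ 0
  five : 5 ≤ Fintype.card F
  inner_cent : ∀ u : M, orderOf u = 2 → QuotientGroup.mk' K u ∈ M0 → ∀ k ∈ K, Commute u k
  cent_le : ∀ u : M, orderOf u = 2 → QuotientGroup.mk' K u ∈ M0 → Subgroup.centralizer ({(u : G)} : Set G) ≤ M

/-- the situation of case C with two classes -/
structure TwoData (M : Subgroup G) (K : Subgroup M) [K.Normal] (M0 : Subgroup (M ⧸ K)) [M0.Normal]
    (e : M0 ≃* Matrix.ProjectiveSpecialLinearGroup (Fin 2) F) : Prop extends InnerData M K M0 e where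
  kcent_le : ∀ k : M, k ∈ K → k ≠ 1 → Subgroup.centralizer ({(k : G)} : Set G) ≤ M

namespace InnerData

variable {M : Subgroup G} {K : Subgroup M} [K.Normal] {M0 : Subgroup (M ⧸ K)} [M0.Normal]
  {e : M0 ≃* Matrix.ProjectiveSpecialLinearGroup (Fin 2) F} (d : InnerData M K M0 e)
include d

theorem mem_cent_le {u : M} (hu : orderOf u = 2) (hi : QuotientGroup.mk' K u ∈ M0) {g : G}
    (hg : Commute g (u : G)) : g ∈ M :=
  d.cent_le u hu hi (Subgroup.mem_centralizer_singleton_iff.2 hg.eq)

theorem inner_unique {u v : M} (hu : orderOf u = 2) (hv : orderOf v = 2) (hi : QuotientGroup.mk' K u ∈ M0)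
    (h : QuotientGroup.mk' K u = QuotientGroup.mk' K v) : u = v :=
  invol_lift_unique d.odd hu hv (d.inner_cent u hu hi) h

/-- **no fusion of inner involutions outside `M`** -/
theorem mem_of_inner_conj {u u' : M} (hu : orderOf u = 2) (hi : QuotientGroup.mk' K u ∈ M0)
    (hi' : QuotientGroup.mk' K u' ∈ M0) {g : G} (hg : g⁻¹ * (u : G) * g = (u' : G)) : g ∈ M := by
  have hu' : orderOf u' = 2 := by
    rw [← Subgroup.orderOf_coe, ← hg, show g⁻¹ * (u : G) * g = MulAut.conj g⁻¹ (u : G) by simp [MulAut.conj_apply],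
      MulEquiv.orderOf_eq, Subgroup.orderOf_coe, hu]
  obtain ⟨x, -, hx⟩ := isConj_of_invol_mem M0 e (orderOf_mk_invol d.odd hu') (orderOf_mk_invol d.odd hu) hi' hi
  obtain ⟨m, -, hm⟩ := exists_conj_lift d.odd hu' hu hx
  have hm' : (m : G) * (u' : G) * (m : G)⁻¹ = (u : G) := congrArg Subtype.val hm
  have hmem : g * (m : G)⁻¹ ∈ M := d.mem_cent_le hu hi (by
    show g * (m : G)⁻¹ * (u : G) = (u : G) * (g * (m : G)⁻¹)
    calc g * (m : G)⁻¹ * (u : G) = g * (m : G)⁻¹ * ((m : G) * (u' : G) * (m : G)⁻¹) := by rw [hm']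
      _ = g * (u' : G) * (m : G)⁻¹ := by group
      _ = g * (g⁻¹ * (u : G) * g) * (m : G)⁻¹ := by rw [hg]
      _ = (u : G) * (g * (m : G)⁻¹) := by group)
  simpa using M.mul_mem hmem m.2

/-- an inner four group through a given inner involution -/
theorem exists_inner_four {t : M} (ht : orderOf t = 2) (hti : QuotientGroup.mk' K t ∈ M0) :
    ∃ b : M, orderOf b = 2 ∧ QuotientGroup.mk' K b ∈ M0 ∧ b ≠ t ∧ Commute b t := by
  obtain ⟨a₀, b₀, ha₀, hb₀, hne₀, hc₀, -, -⟩ := exists_fixed_four d.two_ne (1 : RingAut F)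
  set A : M ⧸ K := ((e.symm a₀ : M0) : M ⧸ K) with hA'
  set B : M ⧸ K := ((e.symm b₀ : M0) : M ⧸ K) with hB'
  have hA : orderOf A = 2 := by rw [hA', Subgroup.orderOf_coe, MulEquiv.orderOf_eq, ha₀]
  have hB : orderOf B = 2 := by rw [hB', Subgroup.orderOf_coe, MulEquiv.orderOf_eq, hb₀]
  have hAB : A ≠ B := fun h => hne₀ (e.symm.injective (Subtype.ext h))
  have hc : Commute A B := congrArg Subtype.val (hc₀.map e.symm.toMonoidHom)
  obtain ⟨x, -, hx⟩ := isConj_of_invol_mem M0 e hA (orderOf_mk_invol d.odd ht) (e.symm a₀).2 hti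
  set B' : M ⧸ K := MulAut.conj x B with hB''
  have hB'o : orderOf B' = 2 := by rw [hB'', MulEquiv.orderOf_eq, hB]
  have hB'M : B' ∈ M0 := ‹M0.Normal›.conj_mem B (e.symm b₀).2 x
  have hB't : Commute (QuotientGroup.mk' K t) B' := by rw [← hx]; exact hc.map (MulAut.conj x).toMonoidHom
  obtain ⟨b, hb, hbB⟩ := exists_invol_lift d.odd hB'o
  have hne : B' ≠ QuotientGroup.mk' K t := fun h => hAB ((MulAut.conj x).injective (hx.trans h.symm))
  refine ⟨b, hb, hbB ▸ hB'M, fun h => hne (by rw [← hbB, h]), ?_⟩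
  have ho : orderOf (t * b * t⁻¹) = 2 := by rw [show t * b * t⁻¹ = MulAut.conj t b from rfl, MulEquiv.orderOf_eq, hb]
  have h := d.inner_unique hb ho (hbB ▸ hB'M) (by
    rw [map_mul, map_mul, map_inv, hbB, hB't.eq, mul_inv_cancel_right])
  exact (mul_inv_eq_iff_eq_mul.1 h.symm).symm

/-- **an element outside `M` moves no inner four group into `M`** -/
theorem mem_of_four_conj {a b : M} (ha : orderOf a = 2) (hb : orderOf b = 2)
    (hai : QuotientGroup.mk' K a ∈ M0) (hbi : QuotientGroup.mk' K b ∈ M0) (hab : a ≠ b) (hc : Commute a b) {g : G}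
    (hga : g * (a : G) * g⁻¹ ∈ M) (hgb : g * (b : G) * g⁻¹ ∈ M) : g ∈ M := by
  have hord : ∀ (v : M) (hv : g * (v : G) * g⁻¹ ∈ M), orderOf (⟨_, hv⟩ : M) = orderOf v := fun v hv => by
    rw [Subgroup.orderOf_mk, show g * (v : G) * g⁻¹ = MulAut.conj g (v : G) from rfl, MulEquiv.orderOf_eq,
      Subgroup.orderOf_coe]
  have key : ∀ (v : M) (hv : g * (v : G) * g⁻¹ ∈ M), orderOf v = 2 → QuotientGroup.mk' K v ∈ M0 →
      QuotientGroup.mk' K (⟨_, hv⟩ : M) ∈ M0 → g ∈ M := fun v hv ho hi hi' =>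
    d.mem_of_inner_conj (u := ⟨_, hv⟩) (u' := v) ((hord v hv).trans ho) hi' hi (by group)
  rcases four_meets M0 e d.dih d.cent d.two_ne (orderOf_mk_invol d.odd ((hord a hga).trans ha))
    (orderOf_mk_invol d.odd ((hord b hgb).trans hb)) with h | h | h
  · exact key a hga ha hai h
  · exact key b hgb hb hbi h
  · have hgab : g * ((a * b : M) : G) * g⁻¹ ∈ M := by
      have := M.mul_mem hga hgb
      rwa [conj_mul] at this
    refine key (a * b) hgab (invol_mul_of_commute ha hb hab hc) (by rw [map_mul]; exact mul_mem hai hbi) ?_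
    rw [← map_mul] at h
    convert h using 3
    exact conj_mul.symm

end InnerData

namespace TwoData

variable {M : Subgroup G} {K : Subgroup M} [K.Normal] {M0 : Subgroup (M ⧸ K)} [M0.Normal]
  {e : M0 ≃* Matrix.ProjectiveSpecialLinearGroup (Fin 2) F} (d : TwoData M K M0 e)
include d

/-- **an outer involution centralising an inner one is fixed point free on `K`** -/
theorem cent_outer {w v : M} (hw : orderOf w = 2) (hv : orderOf v = 2) (hwo : QuotientGroup.mk' K w ∉ M0)
    (hvi : QuotientGroup.mk' K v ∈ M0) (hwv : Commute w v) {k : M} (hk : k ∈ K) (hkw : Commute k w) : k = 1 := by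
  by_contra hk1
  -- an element of prime order
  obtain ⟨p, hp, hpd⟩ := Nat.exists_prime_and_dvd (fun h => hk1 (orderOf_eq_one_iff.1 h))
  set k' := k ^ (orderOf k / p) with hk'def
  have hk'o : orderOf k' = p := orderOf_pow_orderOf_div (orderOf_pos k).ne' hpd
  have hk' : k' ∈ K := pow_mem hk _
  have hk'w : Commute k' w := hkw.pow_left _
  have hp2 : p ≠ 2 := fun h => by
    have := Subgroup.orderOf_dvd_natCard K hk'
    rw [hk'o, h] at this
    exact d.odd.not_two_dvd_nat this
  have hk'1 : k' ≠ 1 := fun h => by rw [h, orderOf_one] at hk'o; exact hp.one_lt.ne hk'o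
  clear_value k'
  clear hk'def hpd hkw hk hk1 k
  obtain ⟨g, hg⟩ := d.one_class (s := (v : G)) (t := (w : G)) (by rw [Subgroup.orderOf_coe, hv]) (by rw [Subgroup.orderOf_coe, hw])
  have hgM : g ∉ M := fun h => hwo (by
    rw [show w = ⟨g, h⟩ * v * (⟨g, h⟩ : M)⁻¹ from Subtype.ext hg.symm, map_mul, map_mul, map_inv]
    exact ‹M0.Normal›.conj_mem _ hvi _)
  have hgv : g⁻¹ * (w : G) * g = (v : G) := by rw [← hg]; group
  have hcg : ∀ {x y : G}, Commute x y → Commute (g⁻¹ * x * g) (g⁻¹ * y * g) := fun {x y} h => by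
    have := h.map (MulAut.conj g⁻¹).toMonoidHom
    simpa [MulAut.conj_apply] using this
  have hyv : Commute (g⁻¹ * (k' : G) * g) (v : G) := hgv ▸ hcg (hk'w.map M.subtype)
  have hv'v : Commute (g⁻¹ * (v : G) * g) (v : G) := by
    have := hcg ((hwv.symm).map M.subtype)
    rwa [Subgroup.coe_subtype, hgv] at this
  set y : M := ⟨_, d.mem_cent_le hv hvi hyv⟩ with hy
  set v' : M := ⟨_, d.mem_cent_le hv hvi hv'v⟩ with hv'
  have hconj : ∀ (z : G), orderOf (g⁻¹ * z * g) = orderOf z := fun z => by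
    rw [show g⁻¹ * z * g = MulAut.conj g⁻¹ z by simp [MulAut.conj_apply], MulEquiv.orderOf_eq]
  have hyo : orderOf y = p := by rw [hy, Subgroup.orderOf_mk, hconj, Subgroup.orderOf_coe, hk'o]
  have hv'o : orderOf v' = 2 := by rw [hv', Subgroup.orderOf_mk, hconj, Subgroup.orderOf_coe, hv]
  have hv'n : QuotientGroup.mk' K v' ∉ M0 := fun h => hgM (d.mem_of_inner_conj hv hvi h rfl)
  have hyv' : Commute y v' := Subtype.ext (hcg (((d.inner_cent v hv hvi k' hk').symm).map M.subtype)).eq
  have hyv0 : Commute y v := Subtype.ext hyv.eq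
  have hvv' : Commute v v' := Subtype.ext hv'v.eq.symm
  -- no inner four group centralises `y`
  have hno : ∀ a b : M, orderOf a = 2 → orderOf b = 2 → QuotientGroup.mk' K a ∈ M0 → QuotientGroup.mk' K b ∈ M0 →
      a ≠ b → Commute a b → Commute y a → Commute y b → False := by
    intro a b ha hb hai hbi hab hc hya hyb
    refine hgM (d.mem_of_four_conj ha hb hai hbi hab hc ?_ ?_) <;>
      refine d.kcent_le k' hk' hk'1 (Subgroup.mem_centralizer_singleton_iff.2 ?_)
    · have h := (hya.symm.map M.subtype).map (MulAut.conj g).toMonoidHom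
      simpa [hy, MulAut.conj_apply, mul_assoc] using h.eq
    · have h := (hyb.symm.map M.subtype).map (MulAut.conj g).toMonoidHom
      simpa [hy, MulAut.conj_apply, mul_assoc] using h.eq
  set Y := QuotientGroup.mk' K y with hY
  have hYd : orderOf Y ∣ p := hyo ▸ orderOf_map_dvd _ y
  by_cases hY1 : Y = 1
  · have hyK : y ∈ K := (QuotientGroup.eq_one_iff y).1 hY1
    obtain ⟨b, hb, hbi, hbv, hbc⟩ := d.exists_inner_four hv hvi
    exact hno v b hv hb hvi hbi hbv.symm hbc.symm hyv0 (d.inner_cent b hb hbi y hyK).symm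
  have hYo : orderOf Y = p := ((Nat.dvd_prime hp).1 hYd).resolve_left fun h => hY1 (orderOf_eq_one_iff.1 h)
  by_cases hYM : Y ∈ M0
  · rcases diag_cent_four M0 e d.dih d.cent d.two_ne (orderOf_mk_invol d.odd hv) (orderOf_mk_invol d.odd hv'o)
      (fun h => hv'n (h ▸ hvi)) (hvv'.map _) (le_diagPart M0 e hYM) (hyv0.map _) (hyv'.map _) with h | h | h | h
    · exact hY1 h
    · rw [h, orderOf_mk_invol d.odd hv] at hYo; exact hp2 hYo.symm
    · rw [h, orderOf_mk_invol d.odd hv'o] at hYo; exact hp2 hYo.symm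
    · rw [h, invol_mul_of_commute (orderOf_mk_invol d.odd hv) (orderOf_mk_invol d.odd hv'o)
        (fun h => hv'n (h ▸ hvi)) (hvv'.map _)] at hYo
      exact hp2 hYo.symm
  · obtain ⟨A, B, hA, hB, hAo, hBo, hAB, hc, hYA, hYB⟩ := odd_outer_cent_four M0 e d.cent d.two_ne hYM
      (hYo ▸ hp) (hYo ▸ hp2)
    obtain ⟨a, ha, haA⟩ := exists_invol_lift d.odd hAo
    obtain ⟨b, hb, hbB⟩ := exists_invol_lift d.odd hBo
    have hlift : ∀ (z u : M), orderOf u = 2 → QuotientGroup.mk' K u ∈ M0 →
        Commute (QuotientGroup.mk' K z) (QuotientGroup.mk' K u) → Commute z u := by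
      intro z u hu hui hzu
      have h := d.inner_unique hu (v := z * u * z⁻¹)
        (by rw [show z * u * z⁻¹ = MulAut.conj z u from rfl, MulEquiv.orderOf_eq, hu]) hui
        (by rw [map_mul, map_mul, map_inv, hzu.eq, mul_inv_cancel_right])
      exact mul_inv_eq_iff_eq_mul.1 h.symm
    refine hno a b ha hb (haA ▸ hA) (hbB ▸ hB) (fun h => hAB (by rw [← haA, ← hbB, h])) ?_ ?_ ?_
    · exact hlift a b hb (hbB ▸ hB) (by rw [haA, hbB]; exact hc)
    · exact hlift y a ha (haA ▸ hA) (by rw [haA]; exact hYA)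
    · exact hlift y b hb (hbB ▸ hB) (by rw [hbB]; exact hYB)

/-- an outer involution centralising an inner one inverts `K` -/
theorem outer_inverts {w v : M} (hw : orderOf w = 2) (hv : orderOf v = 2) (hwo : QuotientGroup.mk' K w ∉ M0)
    (hvi : QuotientGroup.mk' K v ∈ M0) (hwv : Commute w v) {k : M} (hk : k ∈ K) : w * k * w⁻¹ = k⁻¹ := by
  have hww : w * w = 1 := invol_mul_self hw
  have han : ∀ x ∈ K, w * x * w⁻¹ ∈ K := fun x hx => ‹K.Normal›.conj_mem x hx w
  have h := card_fix_mul_inv d.odd hww han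
  have hfix : fixIn K w = ⊥ := (Subgroup.eq_bot_iff_forall _).2 fun x hx =>
    d.cent_outer hw hv hwo hvi hwv hx.1 (Subgroup.mem_centralizer_singleton_iff.1 hx.2)
  rw [hfix, Subgroup.card_bot, one_mul] at h
  have hset : invSet K w = (K : Set M) := Set.eq_of_subset_of_ncard_le (fun x hx => hx.1)
    (by rw [← Nat.card_coe_set_eq, ← Nat.card_coe_set_eq]; exact h.le) (Set.toFinite _)
  exact (show k ∈ invSet K w by rw [hset]; exact hk).2

/-- `K` is commutative if some outer involution centralises an inner one -/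
theorem commute_of_outer {w v : M} (hw : orderOf w = 2) (hv : orderOf v = 2) (hwo : QuotientGroup.mk' K w ∉ M0)
    (hvi : QuotientGroup.mk' K v ∈ M0) (hwv : Commute w v) {k l : M} (hk : k ∈ K) (hl : l ∈ K) : Commute k l := by
  have h := fun x (hx : x ∈ K) => d.outer_inverts hw hv hwo hvi hwv hx
  have h1 := h _ (K.mul_mem (K.inv_mem hk) (K.inv_mem hl))
  rw [← conj_mul, h _ (K.inv_mem hk), h _ (K.inv_mem hl), inv_inv, inv_inv, mul_inv_rev, inv_inv, inv_inv] at h1
  exact h1

/-- the elements over `M0` centralise `K` -/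
theorem inner_commute (hcomm : ∀ {k l : M}, k ∈ K → l ∈ K → Commute k l) {x : M}
    (hx : QuotientGroup.mk' K x ∈ M0) {k : M} (hk : k ∈ K) : Commute x k := by
  set C := Subgroup.centralizer (K : Set M) with hC
  haveI : C.Normal := by rw [hC]; infer_instance
  haveI hn : (C.map (QuotientGroup.mk' K)).Normal := Subgroup.Normal.map inferInstance _ (QuotientGroup.mk'_surjective K)
  haveI := d.simple
  have hle : M0 ≤ C.map (QuotientGroup.mk' K) := by
    rcases IsSimpleGroup.eq_bot_or_eq_top_of_normal ((C.map (QuotientGroup.mk' K)).subgroupOf M0) inferInstance with h | h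
    · exfalso
      obtain ⟨a₀, b₀, ha₀, -, -, -, -, -⟩ := exists_fixed_four d.two_ne (1 : RingAut F)
      have hA : orderOf ((e.symm a₀ : M0) : M ⧸ K) = 2 := by rw [Subgroup.orderOf_coe, MulEquiv.orderOf_eq, ha₀]
      obtain ⟨u, hu, huA⟩ := exists_invol_lift d.odd hA
      have hui : QuotientGroup.mk' K u ∈ M0 := huA ▸ (e.symm a₀).2
      have hmem : e.symm a₀ ∈ (C.map (QuotientGroup.mk' K)).subgroupOf M0 :=
        ⟨u, Subgroup.mem_centralizer_iff.2 fun l hl => (d.inner_cent u hu hui l hl).eq.symm, huA⟩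
      rw [h, Subgroup.mem_bot] at hmem
      rw [hmem, OneMemClass.coe_one, orderOf_one] at hA
      omega
    · exact Subgroup.subgroupOf_eq_top.1 h
  obtain ⟨c, hc, hcx⟩ := hle hx
  have hck : c⁻¹ * x ∈ K := QuotientGroup.eq.1 hcx
  have h1 : Commute c k := (Subgroup.mem_centralizer_iff.1 hc k hk).symm
  rw [show x = c * (c⁻¹ * x) by group]
  exact h1.mul_left (hcomm hck hk)

/-- odd elements inverted by an involution lie over `M0` -/
theorem inner_of_inverted {s x : M} (hs : orderOf s = 2) (hx : Odd (orderOf x)) (h : s * x * s⁻¹ = x⁻¹) :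
    QuotientGroup.mk' K x ∈ M0 := by
  set X := QuotientGroup.mk' K x with hX
  have hXo : Odd (orderOf X) := hx.of_dvd_nat (orderOf_map_dvd _ x)
  refine mem_of_odd M0 e d.cent d.two_ne (MonoidHom.mem_ker.2 ?_) hXo
  show fieldOn M0 e X = 1
  have hs1 : fieldOn M0 e (QuotientGroup.mk' K s) = 1 := MonoidHom.mem_ker.1
    (two_mem_diagPart M0 e d.dih d.cent d.two_ne (k := 1) (by rw [orderOf_mk_invol d.odd hs]; norm_num))
  have h1 := congrArg (fun z => fieldOn M0 e (QuotientGroup.mk' K z)) h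
  simp only [map_mul, map_inv, hs1, one_mul, inv_one, mul_one] at h1
  have h2 : fieldOn M0 e X ^ 2 = 1 := by rw [sq]; exact mul_eq_one_iff_eq_inv.2 h1
  exact orderOf_eq_one_iff.1 (Nat.eq_one_of_dvd_coprimes (Nat.coprime_two_left.2 hXo).symm
    (orderOf_map_dvd _ X) (orderOf_dvd_of_pow_eq_one h2))

end TwoData

end CfsgLib.GW
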