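import Cfsg.Agent.Lib.GW.Reduction
import Cfsg.Agent.Lib.GW.InvolPSL
import Cfsg.Agent.Lib.Classical.PslBin.Seven
import Cfsg.Agent.Lib.Invol.BLayer.Main
import Cfsg.Agent.Lib.Char.SubBlock.Small2
import Cfsg.Agent.S0253
import Cfsg.Agent.S0255
import Cfsg.Prelude.Def_Local

/-!
# Involution centralisers properly inside component-free subgroups (S3287), given the dihedral theorem
-/

set_option autoImplicit false
set_option linter.style.haveILetI false
set_option linter.unusedSectionVars false

namespace CfsgLib.GW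

open CfsgLib.Perm.Dickson

universe u

/-- **maximality of involution centralisers in `PSL(2, q)`** -/
theorem cent_maximal {F : Type*} [Field F] [Fintype F] (ho : Odd (Fintype.card F)) (h11 : 11 ≤ Fintype.card F)
    {t : Matrix.ProjectiveSpecialLinearGroup (Fin 2) F} (ht : orderOf t = 2)
    (K : Subgroup (Matrix.ProjectiveSpecialLinearGroup (Fin 2) F)) (hlt : Subgroup.centralizer {t} < K) : K = ⊤ := by
  classical
  haveI := finite_G2 (F := F)
  obtain ⟨p, hchar⟩ := CharP.exists F
  haveI := hchar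
  haveI : Fact p.Prime := ⟨CharP.char_is_prime F p⟩
  have ho' : Odd (Nat.card F) := by rwa [Nat.card_eq_fintype_card]
  have hC : Nat.card (Subgroup.centralizer {t}) = invCard (Nat.card F) := by
    rw [card_cent_psl ho t ht, Nat.card_eq_fintype_card]
  have hto : orderOf (incl t) = 2 := by rw [orderOf_injective _ incl_injective, ht]
  have ht1 : incl t ≠ 1 := CfsgLib.Invol.invol_ne_one hto
  obtain ⟨a, b, hg, htm⟩ := CfsgLib.Perm.Dickson.exists_torus p ht1 (fun h => by
    rw [hto] at h
    subst h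
    exact two_ne_zero_of_odd ho' (CharTwo.two_eq_zero (R := F)))
  set D := pairSet a b ⊓ psl F
  set k := Nat.card (pairFix a b ⊓ psl F : Subgroup (G2 F)) with hk
  have hk2 : 2 ∣ k := (dvd_of_eq hto.symm).trans (Subgroup.orderOf_dvd_natCard _ ⟨htm, incl_mem t⟩)
  have hC2k : invCard (Nat.card F) = 2 * k := by
    have hc := card_pairFix_psl hg
    rw [CfsgLib.Perm.Dickson.gcd_odd ho', ← hk] at hc
    obtain ⟨j, hj⟩ := ho'
    obtain ⟨i, hi⟩ := hk2
    rcases card_pairFix hg with ⟨-, e⟩ | ⟨-, e⟩ <;> rw [e] at hc <;> unfold invCard <;> split_ifs <;> omega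
  have hCD : up (Subgroup.centralizer {t}) ≤ D := by
    rintro _ ⟨c, hc, rfl⟩
    refine ⟨CfsgLib.Classical.PslBin.mem_pairSet_of_comm hg.1 htm ht1 ?_, incl_mem c⟩
    rw [← map_mul, ← map_mul, Subgroup.mem_centralizer_singleton_iff.1 hc]
  have hDC : Nat.card D ≤ Nat.card (up (Subgroup.centralizer {t})) := by
    rw [card_up, hC, hC2k]
    have hinf : (D ⊓ pairFix a b : Subgroup (G2 F)) = pairFix a b ⊓ psl F := by
      rw [inf_right_comm, inf_eq_right.2 (pairFix_le_pairSet a b)]
    by_cases hn : D ≤ pairFix a b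
    · rw [show D = pairFix a b ⊓ psl F from (inf_eq_left.2 hn).symm.trans hinf, ← hk]
      omega
    · rw [(dihedral_of_le hg.1 (isCyclic_pairFix hg.1) inf_le_left hn).1, hinf]
  have hup : up (Subgroup.centralizer {t}) = D := Subgroup.eq_of_le_of_card_ge hCD hDC
  by_contra hK
  have hlt' : up K < psl F := lt_of_le_of_ne (up_le K) fun h => hK (up_injective (h.trans up_top.symm))
  have hk6 : 5 ≤ k := by
    have : Nat.card F = Fintype.card F := Nat.card_eq_fintype_card
    unfold invCard at hC2k
    split_ifs at hC2k <;> omega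
  refine hlt.not_ge (up_le_iff.1 ?_)
  rw [hup]
  refine dihedral_maximal p hg hk.symm (by omega) (fun h => by omega) (fun h => ?_) ?_ (up K) ?_ hlt'
  · -- five cannot divide an even number `k` equal to five
    omega
  · intro c hc3 hcc ⟨n, hn⟩ hkc
    have h1 : Nat.card F = Fintype.card F := Nat.card_eq_fintype_card
    have h2 : invCard (Nat.card F) + 1 ≥ Nat.card F := by unfold invCard; split_ifs <;> omega
    have h3 : c * c ≤ 2 * c + 3 := by omega
    have : c ≤ 3 := by nlinarith
    omega
  · show D ≤ up K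
    rw [← hup]
    exact up_le_iff.2 hlt.le

theorem fitting_eq_bot_of_simple {G : Type*} [Group G] [IsSimpleGroup G] (h : ¬ IsMulCommutative G) :
    Cfsg.fittingSubgroup G = ⊥ := by
  refine sSup_eq_bot.2 fun N hN => ?_
  rcases IsSimpleGroup.eq_bot_or_eq_top_of_normal N hN.1 with e | e
  · exact e
  · exfalso
    subst e
    haveI := hN.2
    haveI : Group.IsNilpotent G := Group.nilpotent_of_mulEquiv (Subgroup.topEquiv (G := G))
    exact h ⟨⟨IsSimpleGroup.comm_iff_isSolvable.2 (by infer_instance)⟩⟩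

/-- **S3287**, given the dihedral theorem -/
theorem cent_in_core_free {G : Type u} [Group G] [Finite G] [IsSimpleGroup G] (S : Sylow 2 G) (m : ℕ)
    (eS : ↥(S : Subgroup G) ≃* DihedralGroup m) (t : G) (ht : orderOf t = 2) (K : Subgroup G)
    (hlt : Subgroup.centralizer ({t} : Set G) < K)
    (hK : Cfsg.generalizedFittingSubgroup ↥K = Cfsg.fittingSubgroup ↥K) (hgw : GWBelow.{u} (Nat.card G)) :
    Nonempty (G ≃* ↥(alternatingGroup (Fin 5))) ∨ Nonempty (G ≃* ↥(alternatingGroup (Fin 7))) ∨
      (∃ (F : Type) (_ : Field F) (_ : Fintype F), Fintype.card F = 2 ∧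
        Nonempty (G ≃* Matrix.ProjectiveSpecialLinearGroup (Fin 3) F)) ∨
      (∃ (F : Type) (_ : Field F) (_ : Fintype F), Fintype.card F = 9 ∧
        Nonempty (G ≃* Matrix.ProjectiveSpecialLinearGroup (Fin 2) F)) := by
  classical
  haveI : Fact (Nat.Prime 2) := ⟨Nat.prime_two⟩
  have hna : ¬ IsMulCommutative G := fun h => by
    have := h
    exact hlt.ne (le_antisymm hlt.le fun x _ => Subgroup.mem_centralizer_singleton_iff.2 (h.is_comm.comm x t))
  obtain ⟨k, hk⟩ := S.2.exists_card_eq
  have hcard : 2 * m = 2 ^ k := by rw [← hk, Nat.card_congr eS.toEquiv, DihedralGroup.nat_card]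
  have hm : 2 ≤ m := by
    by_contra! hm
    interval_cases m
    · rw [mul_zero] at hcard
      exact (pow_pos (show 0 < 2 by norm_num) k).ne hcard
    · haveI : IsCyclic (DihedralGroup 1) := isCyclic_of_prime_card (p := 2) DihedralGroup.nat_card
      haveI : IsCyclic ↥(S : Subgroup G) := eS.isCyclic.2 inferInstance
      obtain ⟨R, J, hJ, hJR⟩ := CfsgLib.Invol.hasNormalPComplement_two_of_isCyclic S inferInstance
      haveI := hJ
      have h1 := hJR.card_mul_card
      have hR : Nat.card (R : Subgroup G) = 2 :=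
        ((Nat.card_congr (Sylow.equiv R S).toEquiv).trans (Nat.card_congr eS.toEquiv)).trans DihedralGroup.nat_card
      rcases IsSimpleGroup.eq_bot_or_eq_top_of_normal J hJ with e | e
      · rw [e, Subgroup.card_bot, one_mul, hR] at h1
        haveI : IsCyclic G := isCyclic_of_prime_card (p := 2) h1.symm
        exact hna IsCyclic.isMulCommutative
      · rw [e, Nat.card_congr Subgroup.topEquiv.toEquiv, hR] at h1
        have := Nat.card_pos (α := G)
        omega
  rcases hgw G le_rfl inferInstance (dihTwo_of_sylow S hm eS) with ⟨F, iF, jF, ho, h3, ⟨e⟩⟩ | hA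
  swap
  · exact Or.inr (Or.inl hA)
  by_cases h5 : Fintype.card F = 5
  · obtain ⟨f⟩ := Cfsg.Agent.S0253.result h5
    exact Or.inl ⟨e.trans f⟩
  by_cases h7 : Fintype.card F = 7
  · haveI : Fact (Nat.Prime 2) := ⟨Nat.prime_two⟩
    obtain ⟨f⟩ := Cfsg.Agent.S0255.result h7 (K := ZMod 2) (ZMod.card 2)
    exact Or.inr (Or.inr (Or.inl ⟨ZMod 2, inferInstance, inferInstance, ZMod.card 2, ⟨e.trans f⟩⟩))
  by_cases h9 : Fintype.card F = 9
  · exact Or.inr (Or.inr (Or.inr ⟨F, iF, jF, h9, ⟨e⟩⟩))
  exfalso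
  have h11 : 11 ≤ Fintype.card F := by
    obtain ⟨j, hj⟩ := ho
    omega
  have htop : K.map e.toMonoidHom = ⊤ := by
    refine cent_maximal ho h11 (t := e t) (by rw [MulEquiv.orderOf_eq, ht]) _ ?_
    have : (Subgroup.centralizer ({t} : Set G)).map e.toMonoidHom = Subgroup.centralizer {e t} := by
      ext x
      obtain ⟨y, rfl⟩ := e.surjective x
      rw [show e y = e.toMonoidHom y from rfl, Subgroup.mem_map_iff_mem e.injective,
        Subgroup.mem_centralizer_singleton_iff, Subgroup.mem_centralizer_singleton_iff]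
      show _ ↔ e y * e t = e t * e y
      rw [← map_mul, ← map_mul, e.injective.eq_iff]
    rw [← this]
    exact (Subgroup.map_lt_map_iff_of_injective e.injective).2 hlt
  have hKtop : K = ⊤ := Subgroup.map_injective e.injective (htop.trans (Subgroup.map_top_of_surjective _ e.surjective).symm)
  subst hKtop
  haveI : IsSimpleGroup (⊤ : Subgroup G) := IsSimpleGroup.isSimpleGroup_of_surjective
    (Subgroup.topEquiv (G := G)).symm.toMonoidHom (Subgroup.topEquiv (G := G)).symm.surjective
  have hna' : ¬ IsMulCommutative (⊤ : Subgroup G) := fun h => hna ⟨⟨fun x y =>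
    congrArg Subtype.val (h.is_comm.comm ⟨x, Subgroup.mem_top x⟩ ⟨y, Subgroup.mem_top y⟩)⟩⟩
  have hq : Cfsg.IsQuasisimple (⊤ : Subgroup G) := CfsgLib.SubBlock.quasisimple_of_simple (by
    by_contra! hh
    exact hna' ⟨⟨hh⟩⟩)
  rw [fitting_eq_bot_of_simple hna', CfsgLib.Invol.BLayer.generalizedFitting_eq_top hq] at hK
  exact top_ne_bot hK

end CfsgLib.GW
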