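import Cfsg.Agent.Lib.GW.Reduction
import Mathlib.GroupTheory.Perm.Sign
import Cfsg.Agent.Lib.GW.XFacts

/-!
# Groups of order 24 with a self-centralising normal four group
-/

set_option autoImplicit false
set_option linter.style.haveILetI false
set_option linter.unusedSectionVars false

namespace CfsgLib.GW

open CfsgLib.Invol

universe u

/-- the four group of `S4` -/
abbrev InnS4 (p : Equiv.Perm (Fin 4)) : Prop := p * p = 1 ∧ Equiv.Perm.sign p = 1

/-- the transpositions of `S4` -/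
abbrev OutS4 (p : Equiv.Perm (Fin 4)) : Prop := p * p = 1 ∧ Equiv.Perm.sign p = -1

theorem s4_inner_cases : ∀ p : Equiv.Perm (Fin 4), p * p = 1 → Equiv.Perm.sign p = 1 ∨ Equiv.Perm.sign p = -1 := by
  decide +kernel
theorem s4_sq_inn : ∀ p : Equiv.Perm (Fin 4), p * p * (p * p) = 1 → InnS4 (p * p) := by decide +kernel
theorem s4_card_inn : (Finset.univ.filter fun p : Equiv.Perm (Fin 4) => InnS4 p).card = 4 := by decide +kernel
theorem s4_card_out : (Finset.univ.filter fun p : Equiv.Perm (Fin 4) => OutS4 p).card = 6 := by decide +kernel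
theorem s4_cent_inn : ∀ a : Equiv.Perm (Fin 4), InnS4 a → a ≠ 1 →
    (Finset.univ.filter fun c : Equiv.Perm (Fin 4) => c * a = a * c).card = 8 := by decide +kernel
theorem s4_cent_out : ∀ a : Equiv.Perm (Fin 4), OutS4 a →
    (Finset.univ.filter fun c : Equiv.Perm (Fin 4) => c * a = a * c).card = 4 := by decide +kernel
theorem s4_cent_four : ∀ a : Equiv.Perm (Fin 4), a * a = 1 → a ≠ 1 → ∀ b : Equiv.Perm (Fin 4), b * b = 1 → b ≠ 1 →
    a ≠ b → a * b = b * a →
    (Finset.univ.filter fun c : Equiv.Perm (Fin 4) => c * a = a * c ∧ c * b = b * c).card = 4 := by decide +kernel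
theorem s4_four_meets : ∀ a b : Equiv.Perm (Fin 4), a * a = 1 → b * b = 1 → a * b = b * a →
    InnS4 a ∨ InnS4 b ∨ InnS4 (a * b) := by decide +kernel
theorem s4_other_inn : ∀ a : Equiv.Perm (Fin 4), InnS4 a → a ≠ 1 →
    ∃ b : Equiv.Perm (Fin 4), InnS4 b ∧ b ≠ 1 ∧ b ≠ a ∧ b * a = a * b := by decide +kernel
theorem s4_out_comm : ∀ w : Equiv.Perm (Fin 4), OutS4 w →
    ∃ a : Equiv.Perm (Fin 4), InnS4 a ∧ a ≠ 1 ∧ a * w = w * a := by decide +kernel
theorem s4_out_pair : ∀ a : Equiv.Perm (Fin 4), InnS4 a → a ≠ 1 → ∀ w₁ : Equiv.Perm (Fin 4), OutS4 w₁ →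
    a * w₁ = w₁ * a → ∀ w₂ : Equiv.Perm (Fin 4), OutS4 w₂ → a * w₂ = w₂ * a → w₁ ≠ w₂ → w₁ * w₂ = a := by decide +kernel
theorem s4_comm_out : ∀ a : Equiv.Perm (Fin 4), InnS4 a → a ≠ 1 →
    (Finset.univ.filter fun w : Equiv.Perm (Fin 4) => OutS4 w ∧ a * w = w * a).card = 2 := by decide +kernel
theorem s4_three : ∀ y : Equiv.Perm (Fin 4), y * y * y = 1 → ∃ w₁ w₂ : Equiv.Perm (Fin 4),
    OutS4 w₁ ∧ OutS4 w₂ ∧ y = w₁ * w₂ := by decide +kernel
theorem s4_inn_inn : ∀ b : Equiv.Perm (Fin 4), InnS4 b → ∀ c : Equiv.Perm (Fin 4), InnS4 c → b * c = c * b := by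
  decide +kernel
theorem s4_out_out : ∀ a : Equiv.Perm (Fin 4), InnS4 a → a ≠ 1 → ∀ b : Equiv.Perm (Fin 4), OutS4 b →
    a * b = b * a → ∀ c : Equiv.Perm (Fin 4), OutS4 c → a * c = c * a → b * c = c * b := by decide +kernel

/-- of two non-commuting involutions commuting with an inner one exactly one is inner -/
theorem s4_frame {a b c : Equiv.Perm (Fin 4)} (ha : InnS4 a) (ha1 : a ≠ 1) (hb : b * b = 1) (hab : a * b = b * a)
    (hc : c * c = 1) (hac : a * c = c * a) (hbc : b * c ≠ c * b) :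
    (InnS4 b ∧ OutS4 c) ∨ (OutS4 b ∧ InnS4 c) := by
  rcases s4_inner_cases b hb with hb' | hb' <;> rcases s4_inner_cases c hc with hc' | hc'
  · exact absurd (s4_inn_inn b ⟨hb, hb'⟩ c ⟨hc, hc'⟩) hbc
  · exact Or.inl ⟨⟨hb, hb'⟩, hc, hc'⟩
  · exact Or.inr ⟨⟨hb, hb'⟩, hc, hc'⟩
  · exact absurd (s4_out_out a ha ha1 b ⟨hb, hb'⟩ hab c ⟨hc, hc'⟩ hac) hbc

theorem s4_odd_small : ∀ w : Equiv.Perm (Fin 4), w * w = 1 → Equiv.Perm.sign w = -1 →
    4 < (Finset.univ.image fun c : Equiv.Perm (Fin 4) => c * w * c⁻¹).card := by decide +kernel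

variable {X : Type u} [Group X] [Finite X]

theorem sylow_three_card (h24 : Nat.card X = 24) [Fact (Nat.Prime 3)] (Q : Sylow 3 X) :
    Nat.card (Q : Subgroup X) = 3 := by
  obtain ⟨i, hi⟩ := Q.2.exists_card_eq
  have h1 : 3 ^ 1 ∣ Nat.card (Q : Subgroup X) := Q.pow_dvd_card_of_pow_dvd_card (by rw [h24]; norm_num)
  have h2 := Subgroup.card_subgroup_dvd_card (Q : Subgroup X)
  rw [hi] at h1 h2 ⊢
  rw [h24] at h2
  have : i ≤ 2 := by
    by_contra hgt
    have := Nat.le_of_dvd (by norm_num) ((pow_dvd_pow 3 (show 3 ≤ i by omega)).trans h2)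
    omega
  interval_cases i <;> omega

/-- **such a group is `S4`** -/
theorem exists_s4_equiv {V : Subgroup X} (hV : V.Normal) (hK : IsKleinFour V)
    (hC : Subgroup.centralizer (V : Set X) = V) (h24 : Nat.card X = 24) :
    ∃ e : X ≃* Equiv.Perm (Fin 4), ∀ x, x ∈ V ↔ InnS4 (e x) := by
  classical
  haveI := hV
  haveI : Fact (Nat.Prime 3) := ⟨Nat.prime_three⟩
  obtain ⟨P⟩ : Nonempty (Sylow 3 X) := inferInstance
  have hP3 := sylow_three_card h24 P
  have hVcard : Nat.card V = 4 := hK.card_four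
  have hVsq : ∀ v ∈ V, v * v = 1 := fun v hv => congrArg Subtype.val (IsKleinFour.mul_self (⟨v, hv⟩ : V))
  -- the normalisers of the Sylow 3-subgroups meet `V` trivially
  have hNV : ∀ Q : Sylow 3 X, ∀ v ∈ V, v ∈ Subgroup.normalizer ((Q : Subgroup X) : Set X) → v = 1 := by
    intro Q v hv hn
    have hQ3 := sylow_three_card h24 Q
    have hcom : ∀ q ∈ (Q : Subgroup X), Commute v q := fun q hq => by
      have h1 : v * q * v⁻¹ * q⁻¹ ∈ (Q : Subgroup X) :=
        mul_mem ((Subgroup.mem_normalizer_iff.1 hn q).1 hq) (inv_mem hq)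
      have h2 : v * q * v⁻¹ * q⁻¹ ∈ V := by
        rw [show v * q * v⁻¹ * q⁻¹ = v * (q * v⁻¹ * q⁻¹) by group]
        exact mul_mem hv (hV.conj_mem _ (inv_mem hv) q)
      have h3 : v * q * v⁻¹ * q⁻¹ = 1 := orderOf_eq_one_iff.1 (Nat.eq_one_of_dvd_coprimes (show Nat.Coprime 3 4 by norm_num)
        (hQ3 ▸ Subgroup.orderOf_dvd_natCard _ h1) (hVcard ▸ Subgroup.orderOf_dvd_natCard V h2))
      exact mul_inv_eq_iff_eq_mul.1 (mul_inv_eq_one.1 h3)
    -- an element of order three moves every nontrivial element of `V`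
    by_contra hv1
    haveI : Nontrivial (Q : Subgroup X) := Finite.one_lt_card_iff_nontrivial.1 (by omega)
    obtain ⟨⟨q, hq⟩, hq1⟩ := exists_ne (1 : (Q : Subgroup X))
    have hqV : q ∉ V := fun h => hq1 (Subtype.ext (orderOf_eq_one_iff.1 (Nat.eq_one_of_dvd_coprimes
      (show Nat.Coprime 3 4 by norm_num) ((Subgroup.orderOf_dvd_natCard _ hq).trans (dvd_of_eq hQ3))
      ((Subgroup.orderOf_dvd_natCard V h).trans (dvd_of_eq hVcard)))))
    refine hqV ((SetLike.ext_iff.1 hC q).1 (Subgroup.mem_centralizer_iff.2 fun u hu => ?_))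
    have hqv : q * v * q⁻¹ = v := by rw [← (hcom q hq).eq, mul_inv_cancel_right]
    by_cases hu1 : u = 1
    · rw [hu1]; simp
    by_cases huv : u = v
    · rw [huv]; exact (hcom q hq).eq
    have hord : ∀ x ∈ V, x ≠ 1 → orderOf x = 2 := fun x hx hx1 =>
      orderOf_eq_prime (by rw [sq]; exact hVsq x hx) hx1
    have hc : Commute v u := by
      have h1 := hVsq _ (mul_mem hv hu)
      have hv' := hVsq v hv
      have hu' := hVsq u hu
      calc v * u = v * (v * u * (v * u)) * u := by rw [h1, mul_one]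
        _ = (v * v) * (u * v) * (u * u) := by group
        _ = u * v := by rw [hv', hu', one_mul, mul_one]
    have hcl : Subgroup.closure ({v, u} : Set X) = V := Subgroup.eq_of_le_of_card_ge
      ((Subgroup.closure_le _).2 (by rintro x (rfl | rfl); exacts [hv, hu]))
      (by rw [(isKleinFour_closure_pair (hord v hv hv1) (hord u hu hu1) (Ne.symm huv) hc).card_four, hVcard])
    have hqq : q * q * u * (q * q)⁻¹ = u := by
      have hw : q * u * q⁻¹ ∈ Subgroup.closure ({v, u} : Set X) := hcl.symm ▸ hV.conj_mem u hu q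
      rcases mem_klein (hord v hv hv1) (hord u hu hu1) (Ne.symm huv) hc hw with h | h | h | h
      · exact absurd (conj_eq_one_iff.1 h) hu1
      · exact absurd (mul_left_cancel (mul_right_cancel (h.trans hqv.symm))) huv
      · calc q * q * u * (q * q)⁻¹ = q * (q * u * q⁻¹) * q⁻¹ := by group
          _ = u := by rw [h, h]
      · calc q * q * u * (q * q)⁻¹ = q * (q * u * q⁻¹) * q⁻¹ := by group
          _ = q * (v * u) * q⁻¹ := by rw [h]
          _ = (q * v * q⁻¹) * (q * u * q⁻¹) := by group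
          _ = (v * v) * u := by rw [h, hqv]; group
          _ = u := by rw [hVsq v hv, one_mul]
    have hq3 : q * q * q = 1 := by
      have := orderOf_dvd_iff_pow_eq_one.1 (hQ3 ▸ Subgroup.orderOf_dvd_natCard _ hq : orderOf q ∣ 3)
      rw [← this, pow_succ, sq]
    have h1 : Commute (q * q) u := mul_inv_eq_iff_eq_mul.1 hqq
    have h2 : Commute (q * q * (q * q)) u := h1.mul_left h1
    rw [show q * q * (q * q) = q * q * q * q by group, hq3, one_mul] at h2
    exact h2.eq.symm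
  -- the action on the Sylow 3-subgroups
  have hn4 : Nat.card (Sylow 3 X) = 4 := by
    have hd := Sylow.card_dvd_index P
    have hidx := (P : Subgroup X).card_mul_index
    rw [hP3, h24] at hidx
    rw [show (P : Subgroup X).index = 8 by omega] at hd
    have hm := card_sylow_modEq_one 3 X
    have := Nat.le_of_dvd (by norm_num) hd
    rcases (Nat.dvd_prime_pow Nat.prime_two).1 (show Nat.card (Sylow 3 X) ∣ 2 ^ 3 from hd) with ⟨i, hi, hi'⟩
    interval_cases i <;> rw [hi'] at hm ⊢ <;> norm_num at hi' ⊢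
    · exfalso
      haveI : Subsingleton (Sylow 3 X) := (Nat.card_eq_one_iff_unique.1 hi').1
      obtain ⟨v, hv, hv1⟩ : ∃ v ∈ V, v ≠ 1 := by
        by_contra! h
        rw [show V = ⊥ from (Subgroup.eq_bot_iff_forall _).2 h, Subgroup.card_bot] at hVcard
        omega
      exact hv1 (hNV P v hv (Sylow.smul_eq_iff_mem_normalizer.1 (Subsingleton.elim _ _)))
    · exact absurd hm (by decide)
    · exact absurd hm (by decide)
  let φ : X →* Equiv.Perm (Sylow 3 X) := MulAction.toPermHom X (Sylow 3 X)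
  have hφ : Function.Injective φ := by
    rw [← φ.ker_eq_bot_iff]
    have hNV' : φ.ker ⊓ V = ⊥ := (Subgroup.eq_bot_iff_forall _).2 fun v hv =>
      hNV P v hv.2 (Sylow.smul_eq_iff_mem_normalizer.1 (DFunLike.congr_fun (MonoidHom.mem_ker.1 hv.1) P))
    have hle : φ.ker ≤ V := fun x hx => (SetLike.ext_iff.1 hC x).1 <| Subgroup.mem_centralizer_iff.2 fun v hv => by
      have h1 : x * v * x⁻¹ * v⁻¹ ∈ φ.ker ⊓ V := by
        refine Subgroup.mem_inf.2 ⟨?_, V.mul_mem (hV.conj_mem v hv x) (V.inv_mem hv)⟩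
        rw [show x * v * x⁻¹ * v⁻¹ = x * (v * x⁻¹ * v⁻¹) by group]
        exact φ.ker.mul_mem hx ((MonoidHom.normal_ker φ).conj_mem _ (φ.ker.inv_mem hx) v)
      rw [hNV', Subgroup.mem_bot] at h1
      exact (mul_inv_eq_iff_eq_mul.1 (mul_inv_eq_one.1 h1)).symm
    rw [← inf_eq_left.2 hle, hNV']
  have hbij : Function.Bijective φ := (Nat.bijective_iff_injective_and_card φ).2 ⟨hφ, by
    rw [h24, Nat.card_perm, hn4]; rfl⟩
  let ι : Sylow 3 X ≃ Fin 4 := (Finite.equivFin _).trans (finCongr hn4)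
  let e : X ≃* Equiv.Perm (Fin 4) := (MulEquiv.ofBijective φ hbij).trans ι.permCongrHom
  refine ⟨e, ?_⟩
  set T : Subgroup (Equiv.Perm (Fin 4)) := V.map e.toMonoidHom
  haveI : T.Normal := Subgroup.Normal.map hV _ e.surjective
  have hTcard : Nat.card T = 4 := by
    rw [← Nat.card_congr (V.equivMapOfInjective e.toMonoidHom e.injective).toEquiv, hVcard]
  have hTsub : ∀ p ∈ T, InnS4 p := by
    rintro _ ⟨x, hx, rfl⟩
    have hsq : e x * e x = 1 := by rw [← map_mul, hVsq x hx, map_one]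
    refine ⟨hsq, (s4_inner_cases _ hsq).resolve_right fun h => ?_⟩
    have h1 := s4_odd_small _ hsq h
    have h2 : (Finset.univ.image fun c : Equiv.Perm (Fin 4) => c * e x * c⁻¹).card ≤ Nat.card T := by
      rw [← Set.ncard_coe_finset]
      refine (Set.ncard_le_ncard (t := (T : Set (Equiv.Perm (Fin 4)))) (fun p hp => ?_) (Set.toFinite _)).trans
        (Nat.card_coe_set_eq _).ge
      obtain ⟨c, -, rfl⟩ := Finset.mem_image.1 hp
      exact ‹T.Normal›.conj_mem _ ⟨x, hx, rfl⟩ c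
    omega
  have hTeq : (T : Set (Equiv.Perm (Fin 4))).toFinset = Finset.univ.filter fun p => InnS4 p :=
    Finset.eq_of_subset_of_card_le (fun p hp => Finset.mem_filter.2 ⟨Finset.mem_univ _, hTsub p (Set.mem_toFinset.1 hp)⟩)
      (by rw [s4_card_inn, Set.toFinset_card, ← Nat.card_eq_fintype_card]; exact hTcard.ge)
  intro x
  refine ⟨fun hx => hTsub _ ⟨x, hx, rfl⟩, fun hx => ?_⟩
  obtain ⟨y, hy, hyx⟩ := Set.mem_toFinset.1 (hTeq.symm ▸ Finset.mem_filter.2 ⟨Finset.mem_univ _, hx⟩ :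
    e x ∈ (T : Set (Equiv.Perm (Fin 4))).toFinset)
  exact e.injective hyx ▸ hy

end CfsgLib.GW
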