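import Cfsg.Agent.Lib.GW.HalfClassCount

/-!
# Groups with half as many classes of 2-elements as the order of a Sylow 2-subgroup: the three cases
-/

set_option autoImplicit false
set_option linter.style.haveILetI false
set_option linter.unusedSectionVars false

namespace CfsgLib.GW

open Cfsg
open scoped commutatorElement

universe u

/-- an element of odd order commutes with whatever its square commutes with -/
theorem fix_of_sq {Y : Type*} [Group Y] {A x : Y} {m : ℕ} (hm : Odd m) (hA : A ^ m = 1)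
    (h : A * A * x * (A * A)⁻¹ = x) : A * x * A⁻¹ = x := by
  obtain ⟨j, rfl⟩ := hm
  have h1 : Commute (A * A) x := mul_inv_eq_iff_eq_mul.1 h
  have h2 : A⁻¹ = (A * A) ^ j := by
    refine inv_eq_of_mul_eq_one_right ?_
    rw [← sq, ← pow_mul, ← pow_succ', hA]
  have h3 : Commute A x := by simpa using (h2 ▸ h1.pow_left j : Commute A⁻¹ x).inv_left
  exact mul_inv_eq_iff_eq_mul.2 h3.eq

variable {G : Type u} [Group G] [Finite G] (P : Sylow 2 G)

/-- **abelian Sylow 2-subgroup** -/
theorem half_focal_comm (hO : Cfsg.pPrimeCore 2 G = ⊥)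
    (hk : 2 * Nat.card (TwoClasses G) = Nat.card (P : Subgroup G))
    (hab : ∀ x y : (P : Subgroup G), x * y = y * x) :
    ∃ V : Subgroup G, Nat.card V ≤ 4 ∧ (P : Subgroup G).focalSubgroup ≤ V := by
  classical
  haveI : Fact (Nat.Prime 2) := ⟨Nat.prime_two⟩
  haveI := Fintype.ofFinite (P : Subgroup G)
  haveI := Fintype.ofFinite (TwoClasses G)
  set S := (P : Subgroup G) with hS
  obtain ⟨a, haN, hao, haP⟩ : ∃ a ∈ Subgroup.normalizer (S : Set G), Odd (orderOf a) ∧ ¬ S ≤ fixMod ⊥ a := by
    refine exists_odd_mover P (fun x hx y hy => ?_) ?_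
    · rw [Subgroup.mem_bot, mul_inv_eq_one, mul_inv_eq_iff_eq_mul]
      exact congrArg Subtype.val (hab ⟨x, hx⟩ ⟨y, hy⟩)
    · by_contra! h
      have hNC : Subgroup.normalizer (S : Set G) ≤ Subgroup.centralizer (S : Set G) := fun b hb =>
        Subgroup.mem_centralizer_iff.2 fun x hx => by
          have h1 := mem_fixMod.1 (h b hb hx)
          rw [Subgroup.mem_bot, mul_inv_eq_one, mul_inv_eq_iff_eq_mul] at h1
          exact h1.symm
      have hc := MonoidHom.ker_transferSylow_isComplement' P hNC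
      set J := (MonoidHom.transferSylow P hNC).ker
      obtain ⟨k, hk'⟩ := P.2.exists_card_eq
      refine half_not_pGroup P hk (pGroup_of_odd_normal hO J ?_ (k := k) ?_)
      · rw [← hc.index_eq_card]; exact P.not_dvd_index
      · rw [hc.symm.index_eq_card, hk']
  have hm := Nat.eq_zero_or_pos (orderOf a)
  set conj : G → S → S := fun b x =>
    if hb : b ∈ Subgroup.normalizer (S : Set G) then ⟨b * x * b⁻¹, (Subgroup.mem_normalizer_iff.1 hb x).1 x.2⟩
    else x with hconj
  have hcval : ∀ x : S, (conj a x : G) = a * x * a⁻¹ := fun x => by rw [hconj]; simp [haN]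
  set C := (fixMod ⊥ a).subgroupOf S with hC
  have hmemC : ∀ x : S, x ∈ C ↔ conj a x = x := fun x => by
    rw [hC, Subgroup.mem_subgroupOf, mem_fixMod, Subgroup.mem_bot, mul_inv_eq_one]
    exact ⟨fun h => Subtype.ext ((hcval x).trans h), fun h => (hcval x).symm.trans (congrArg Subtype.val h)⟩
  obtain ⟨k, hkP⟩ := P.2.exists_card_eq
  have hC4 : 4 * Nat.card C ≤ Nat.card S := four_le_index C hkP (fun h => haP (Subgroup.subgroupOf_eq_top.1 h))
    (fixMod_index_ne_two P haN hao)
  let w : S → ℕ := fun x => 1 + if x ∈ C then 2 else 0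
  have hsum : ∑ x, w x = Nat.card S + 2 * Nat.card C := by
    have hCc : Nat.card C = (Finset.univ.filter fun x : S => x ∈ C).card := by
      rw [Nat.card_eq_fintype_card, Fintype.card_subtype]
    rw [Finset.sum_add_distrib, Finset.sum_const, Finset.card_univ, smul_eq_mul, mul_one, ← Finset.sum_filter,
      Finset.sum_const, smul_eq_mul, ← hCc, ← Nat.card_eq_fintype_card]
    ring
  have hfix : ∀ x : S, conj a (conj a x) = x → conj a x = x := fun x h => by
    have h1 : a * a * (x : G) * (a * a)⁻¹ = x := by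
      conv_rhs => rw [← h, hcval, hcval]
      group
    exact Subtype.ext ((hcval x).trans (fix_of_sq hao (pow_orderOf_eq_one a) h1))
  have hinj : ∀ x y : S, conj a x = conj a y → x = y := fun x y h => by
    have h1 := congrArg Subtype.val h
    rw [hcval, hcval] at h1
    exact Subtype.ext (mul_left_cancel (mul_right_cancel h1))
  have hsame : ∀ x : S, toTwoClass P (conj a x) = toTwoClass P x :=
    fun x => ((toTwoClass_eq P).2 ⟨a, (hcval x).symm⟩).symm
  have horb : ∀ x : S, ({x, conj a x, conj a (conj a x)} : Finset S) ⊆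
      Finset.univ.filter fun y => toTwoClass P y = toTwoClass P x := by
    intro x y hy
    simp only [Finset.mem_insert, Finset.mem_singleton] at hy
    rw [Finset.mem_filter]
    rcases hy with rfl | rfl | rfl
    · exact ⟨Finset.mem_univ _, rfl⟩
    · exact ⟨Finset.mem_univ _, hsame x⟩
    · exact ⟨Finset.mem_univ _, (hsame _).trans (hsame x)⟩
  have horb3 : ∀ x : S, x ∉ C → ({x, conj a x, conj a (conj a x)} : Finset S).card = 3 := by
    intro x hx
    rw [hmemC] at hx
    refine Finset.card_eq_three.2 ⟨_, _, _, Ne.symm hx, fun h => hx (hfix x h.symm), fun h => hx ?_, rfl⟩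
    exact (hinj _ _ h).symm
  have hge : ∀ c, 3 ≤ ∑ x ∈ Finset.univ.filter (fun x => toTwoClass P x = c), w x := by
    intro c
    obtain ⟨x, rfl⟩ := toTwoClass_surjective P c
    by_cases hx : x ∈ C
    · refine le_trans ?_ (Finset.single_le_sum (fun y _ => Nat.zero_le (w y))
        (Finset.mem_filter.2 ⟨Finset.mem_univ x, rfl⟩))
      show 3 ≤ 1 + if x ∈ C then 2 else 0
      rw [if_pos hx]
    · refine le_trans ?_ (Finset.sum_le_sum_of_subset (horb x))
      calc 3 = ∑ _y ∈ ({x, conj a x, conj a (conj a x)} : Finset S), 1 := by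
            rw [Finset.sum_const, horb3 x hx]; rfl
        _ ≤ _ := Finset.sum_le_sum fun y _ => Nat.le_add_right 1 _
  obtain ⟨hle, heq⟩ := fibre_bound (toTwoClass P) w hge
  rw [hsum, ← Nat.card_eq_fintype_card] at hle heq
  change 2 * Nat.card (TwoClasses G) = Nat.card S at hk
  have heq' := heq (by omega)
  have hCcard : 4 * Nat.card C = Nat.card S := by omega
  -- the translations
  let ψ : S →* G :=
    { toFun := fun x => a * (x : G) * a⁻¹ * (x : G)⁻¹
      map_one' := by simp
      map_mul' := fun x y => by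
        have e : conj a x * conj a y * (x * y)⁻¹ = conj a x * x⁻¹ * (conj a y * y⁻¹) := by
          rw [mul_inv_rev, hab y⁻¹ x⁻¹, ← mul_assoc, mul_assoc (conj a x) (conj a y) x⁻¹, hab (conj a y) x⁻¹]
          group
        have h := congrArg Subtype.val e
        simp only [Subgroup.coe_mul, InvMemClass.coe_inv, hcval] at h
        calc a * ((x * y : S) : G) * a⁻¹ * ((x * y : S) : G)⁻¹
            = a * x * a⁻¹ * (a * y * a⁻¹) * ((x : G) * y)⁻¹ := by rw [Subgroup.coe_mul]; group
          _ = _ := h }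
  have hker : ψ.ker = C := by
    ext x
    rw [MonoidHom.mem_ker, hC, Subgroup.mem_subgroupOf, mem_fixMod, Subgroup.mem_bot]
    rfl
  refine ⟨ψ.range, ?_, ?_⟩
  · rw [← Subgroup.index_ker, hker]
    have h := C.card_mul_index
    have hpos := Nat.card_pos (α := C)
    nlinarith
  have hmem : ∀ x y : S, toTwoClass P y = toTwoClass P x → (y : G) * (x : G)⁻¹ ∈ ψ.range := by
    intro x y hxy
    have hy : y ∈ Finset.univ.filter (fun v => toTwoClass P v = toTwoClass P x) :=
      Finset.mem_filter.2 ⟨Finset.mem_univ _, hxy⟩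
    by_cases hx : x ∈ C
    · by_cases hyx : y = x
      · rw [hyx, mul_inv_cancel]; exact one_mem _
      · exfalso
        have h1 : w x + w y ≤ 3 := by
          rw [← heq' (toTwoClass P x), ← Finset.sum_pair (Ne.symm hyx)]
          refine Finset.sum_le_sum_of_subset fun v hv => ?_
          simp only [Finset.mem_insert, Finset.mem_singleton] at hv
          rcases hv with rfl | rfl
          · exact Finset.mem_filter.2 ⟨Finset.mem_univ _, rfl⟩
          · exact hy
        have : w x = 3 := by show 1 + (if x ∈ C then 2 else 0) = 3; rw [if_pos hx]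
        have : 1 ≤ w y := Nat.le_add_right 1 _
        omega
    · have hsub : y ∈ ({x, conj a x, conj a (conj a x)} : Finset S) := by
        by_contra hy'
        have h1 : ∑ v ∈ insert y ({x, conj a x, conj a (conj a x)} : Finset S), w v ≤ 3 := by
          rw [← heq' (toTwoClass P x)]
          exact Finset.sum_le_sum_of_subset (Finset.insert_subset hy (horb x))
        have h2 : ∑ _v ∈ insert y ({x, conj a x, conj a (conj a x)} : Finset S), 1 ≤ 3 :=
          le_trans (Finset.sum_le_sum fun v _ => Nat.le_add_right 1 _) h1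
        rw [Finset.sum_const, Finset.card_insert_of_notMem hy', horb3 x hx, smul_eq_mul] at h2
        omega
      simp only [Finset.mem_insert, Finset.mem_singleton] at hsub
      rcases hsub with rfl | rfl | rfl
      · rw [mul_inv_cancel]; exact one_mem _
      · exact ⟨x, by rw [hcval]; rfl⟩
      · refine ⟨conj a x * x, ?_⟩
        rw [map_mul]
        show a * (conj a x : G) * a⁻¹ * (conj a x : G)⁻¹ * (a * (x : G) * a⁻¹ * (x : G)⁻¹) = _
        rw [hcval, hcval, hcval]
        group
  rw [Subgroup.focalSubgroup_def, Subgroup.closure_le]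
  rintro _ ⟨hxu, x, hx, g, rfl⟩
  have hy : g * x⁻¹ * g⁻¹ ∈ S := by
    have h4 := S.mul_mem (S.inv_mem hx) hxu
    rwa [commutatorElement_def, show x⁻¹ * (x * g * x⁻¹ * g⁻¹) = g * x⁻¹ * g⁻¹ by group] at h4
  have h := hmem ⟨x⁻¹, S.inv_mem hx⟩ ⟨_, hy⟩ ((toTwoClass_eq P).2 ⟨g, rfl⟩).symm
  rw [SetLike.mem_coe, commutatorElement_def, show x * g * x⁻¹ * g⁻¹ = g * x⁻¹ * g⁻¹ * (x⁻¹)⁻¹ by
    rw [inv_inv, show x * g * x⁻¹ * g⁻¹ = x * (g * x⁻¹ * g⁻¹) by group]
    exact congrArg Subtype.val (hab ⟨x, hx⟩ ⟨_, hy⟩)]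
  exact h

/-- **the commutator involution is fused** -/
theorem half_fused (hO : Cfsg.pPrimeCore 2 G = ⊥)
    (hk : 2 * Nat.card (TwoClasses G) = Nat.card (P : Subgroup G))
    (hna : ¬ ∀ x y : (P : Subgroup G), x * y = y * x) {z : (P : Subgroup G)} (hz : orderOf z = 2)
    (hzall : ∀ x y : (P : Subgroup G), ⁅x, y⁆ = 1 ∨ ⁅x, y⁆ = z) :
    ∃ g : G, g * (z : G) * g⁻¹ ∈ (P : Subgroup G) ∧ g * (z : G) * g⁻¹ ≠ z := by
  classical
  haveI : Fact (Nat.Prime 2) := ⟨Nat.prime_two⟩
  by_contra! hiso
  have hzo : orderOf (z : G) = 2 := by rw [Subgroup.orderOf_coe, hz]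
  have hzc : (z : G) ∈ Subgroup.center G := Subgroup.mem_center_iff.2 fun g => by
    have h := CfsgLib.Invol.zstar_of_weakly_closed P hzo hiso g
    rw [hO, Subgroup.mem_bot, mul_inv_eq_one, mul_inv_eq_iff_eq_mul] at h
    exact h.symm
  haveI := Fintype.ofFinite (P : Subgroup G)
  haveI := Fintype.ofFinite (TwoClasses G)
  set W := Subgroup.zpowers (z : G) with hW
  have hWc : W ≤ Subgroup.center G := Subgroup.zpowers_le.2 hzc
  haveI hWn : W.Normal := ⟨fun w hw g => by
    rw [Subgroup.mem_center_iff.1 (hWc hw) g, mul_inv_cancel_right]; exact hw⟩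
  have hW2 : Nat.card W = 2 := by rw [hW, Nat.card_zpowers, hzo]
  have hWall : ∀ w ∈ W, w = 1 ∨ w = z := by
    intro w hw
    obtain ⟨i, rfl⟩ := Subgroup.mem_zpowers_iff.1 hw
    have h2 : (z : G) * z = 1 := CfsgLib.Invol.invol_mul_self hzo
    rcases Int.even_or_odd' i with ⟨l, rfl | rfl⟩
    · left; rw [zpow_mul, zpow_two, h2, one_zpow]
    · right; rw [zpow_add, zpow_mul, zpow_two, h2, one_zpow, one_mul, zpow_one]
  have hWS : W ≤ (P : Subgroup G) := Subgroup.zpowers_le.2 z.2
  have hcommW : ∀ x ∈ (P : Subgroup G), ∀ y ∈ (P : Subgroup G), x * y * x⁻¹ * y⁻¹ ∈ W := fun x hx y hy => by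
    rcases hzall ⟨x, hx⟩ ⟨y, hy⟩ with h | h
    · have h' : x * y * x⁻¹ * y⁻¹ = 1 := congrArg Subtype.val h
      rw [h']; exact one_mem _
    · have h' : x * y * x⁻¹ * y⁻¹ = (z : G) := congrArg Subtype.val h
      rw [h']; exact Subgroup.mem_zpowers _
  obtain ⟨a, haN, hao, haP⟩ : ∃ a ∈ Subgroup.normalizer ((P : Subgroup G) : Set G), Odd (orderOf a) ∧ ¬ (P : Subgroup G) ≤ fixMod W a := by
    refine exists_odd_mover P hcommW ?_
    by_contra! h
    set π := QuotientGroup.mk' W with hπ
    have hπs : Function.Surjective π := QuotientGroup.mk'_surjective W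
    set T := P.mapSurjective hπs
    have hT : (T : Subgroup (G ⧸ W)) = (P : Subgroup G).map π := Sylow.coe_mapSurjective hπs P
    have hNC : Subgroup.normalizer ((T : Subgroup (G ⧸ W)) : Set (G ⧸ W)) ≤
        Subgroup.centralizer ((T : Subgroup (G ⧸ W)) : Set (G ⧸ W)) := by
      intro b hb
      obtain ⟨b, rfl⟩ := hπs b
      have hcomap : ((P : Subgroup G).map π).comap π = (P : Subgroup G) := by
        rw [Subgroup.comap_map_eq, QuotientGroup.ker_mk', sup_eq_left.2 hWS]
      have hbN : b ∈ Subgroup.normalizer ((P : Subgroup G) : Set G) := Subgroup.mem_normalizer_iff.2 fun x => by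
        have hmem : ∀ v, v ∈ (P : Subgroup G) ↔ π v ∈ (T : Subgroup (G ⧸ W)) := fun v => by
          rw [hT, ← Subgroup.mem_comap, hcomap]
        rw [hmem, hmem, map_mul, map_mul, map_inv]
        exact Subgroup.mem_normalizer_iff.1 hb (π x)
      refine Subgroup.mem_centralizer_iff.2 fun v hv => ?_
      obtain ⟨x, hx, rfl⟩ := (hT ▸ hv : v ∈ (P : Subgroup G).map π)
      have h1 := mem_fixMod.1 (h b hbN hx)
      rw [← QuotientGroup.eq_one_iff (N := W), ← QuotientGroup.mk'_apply, map_mul, map_mul, map_mul, map_inv,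
        map_inv, mul_inv_eq_one, mul_inv_eq_iff_eq_mul] at h1
      exact h1.symm
    have hc := MonoidHom.ker_transferSylow_isComplement' T hNC
    set J := (MonoidHom.transferSylow T hNC).ker
    obtain ⟨k, hk'⟩ := T.2.exists_card_eq
    haveI : IsCyclic W := isCyclic_of_prime_card (p := 2) hW2
    have hQ2 : IsPGroup 2 (G ⧸ W) := pGroup_of_odd_normal
      (oddCore_quotient_cyclic_two hO W (k := 1) (by rw [hW2, pow_one])) J
      (by rw [← hc.index_eq_card]; exact T.not_dvd_index) (k := k) (by rw [hc.symm.index_eq_card, hk'])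
    obtain ⟨i, hi⟩ := hQ2.exists_card_eq
    exact half_not_pGroup P hk (IsPGroup.of_card (n := i + 1) (by
      rw [Subgroup.card_eq_card_quotient_mul_card_subgroup W, hi, hW2, pow_succ]))
  set C := (fixMod W a).subgroupOf (P : Subgroup G) with hC
  set Z := Subgroup.center (P : Subgroup G) with hZ
  obtain ⟨k, hkP⟩ := P.2.exists_card_eq
  have hC4 : 4 * Nat.card C ≤ Nat.card (P : Subgroup G) := four_le_index C hkP (fun h => haP (Subgroup.subgroupOf_eq_top.1 h))
    (fixMod_index_ne_two P haN hao)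
  have hZ4 : 4 * Nat.card Z ≤ Nat.card (P : Subgroup G) := card_center_le_quarter hkP hna
  let w : ↥(P : Subgroup G) → ℕ := fun x =>
    1 + (if x ∈ C then 2 else 0) + (if x ∈ Z then 1 else 0) + (if x ∈ C ⊓ Z then 2 else 0)
  have hcnt : ∀ (H : Subgroup (P : Subgroup G)) [DecidablePred (· ∈ H)] (n : ℕ),
      ∑ x, (if x ∈ H then n else 0) = n * Nat.card H := fun H _ n => by
    rw [← Finset.sum_filter, Finset.sum_const, smul_eq_mul, Nat.card_eq_fintype_card, Fintype.card_subtype,
      mul_comm]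
  have hsum : ∑ x, w x = Nat.card (P : Subgroup G) + 2 * Nat.card C + Nat.card Z + 2 * Nat.card (C ⊓ Z : Subgroup (P : Subgroup G)) := by
    simp only [w, Finset.sum_add_distrib]
    rw [hcnt C 2, hcnt Z 1, hcnt (C ⊓ Z) 2, Finset.sum_const, Finset.card_univ, smul_eq_mul, mul_one, one_mul,
      ← Nat.card_eq_fintype_card]
  let c : ↥(P : Subgroup G) → ↥(P : Subgroup G) := fun x => ⟨a * x * a⁻¹, (Subgroup.mem_normalizer_iff.1 haN x).1 x.2⟩
  have hcz : ∀ x : (P : Subgroup G), c (x * z) = c x * z := fun x => Subtype.ext (by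
    show a * ((x : G) * z) * a⁻¹ = a * x * a⁻¹ * z
    rw [mul_assoc (a * (x : G)), Subgroup.mem_center_iff.1 hzc a⁻¹]
    group)
  have hmodC : ∀ x : (P : Subgroup G), x ∈ C ↔ (c x = x ∨ c x = x * z) := by
    intro x
    rw [hC, Subgroup.mem_subgroupOf, mem_fixMod]
    constructor
    · intro h
      rcases hWall _ h with e | e
      · exact Or.inl (Subtype.ext (mul_inv_eq_one.1 e))
      · exact Or.inr (Subtype.ext (by
          show a * (x : G) * a⁻¹ = x * z
          rw [Subgroup.mem_center_iff.1 hzc x]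
          exact mul_inv_eq_iff_eq_mul.1 e))
    · rintro (h | h)
      · have h' : a * (x : G) * a⁻¹ = x := congrArg Subtype.val h
        rw [h', mul_inv_cancel]; exact one_mem _
      · have h' : a * (x : G) * a⁻¹ = x * z := congrArg Subtype.val h
        rw [h', Subgroup.mem_center_iff.1 hzc x, mul_inv_cancel_right]; exact Subgroup.mem_zpowers _
  have hzz : z * z = 1 := CfsgLib.Invol.invol_mul_self hz
  have hzC : z ∈ C := (hmodC z).2 (Or.inl (Subtype.ext (by
    show a * (z : G) * a⁻¹ = z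
    rw [Subgroup.mem_center_iff.1 hzc a, mul_inv_cancel_right])))
  have hcc : ∀ x : (P : Subgroup G), c (c x) = x ∨ c (c x) = x * z → x ∈ C := by
    intro x h
    rw [hC, Subgroup.mem_subgroupOf, mem_fixMod, ← QuotientGroup.eq_one_iff (N := W), ← QuotientGroup.mk'_apply]
    set π := QuotientGroup.mk' W
    have h1 : π a * π a * π (x : G) * (π a * π a)⁻¹ = π (x : G) := by
      rw [← map_mul, ← map_inv, ← map_mul, ← map_mul,
        show a * a * (x : G) * (a * a)⁻¹ = ((c (c x) : (P : Subgroup G)) : G) by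
          show _ = a * (a * x * a⁻¹) * a⁻¹
          group]
      rcases h with h | h
      · rw [h]
      · rw [h, Subgroup.coe_mul, map_mul, show π (z : G) = 1 from (QuotientGroup.eq_one_iff _).2
          (Subgroup.mem_zpowers _), mul_one]
    have h2 := fix_of_sq hao (by rw [← map_pow, pow_orderOf_eq_one, map_one]) h1
    rw [map_mul, map_mul, map_mul, map_inv, map_inv, h2, mul_inv_cancel]
  have hcinj : ∀ x y : (P : Subgroup G), c x = c y → x = y := fun x y h => by
    have h1 : a * (x : G) * a⁻¹ = a * y * a⁻¹ := congrArg Subtype.val h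
    exact Subtype.ext (mul_left_cancel (mul_right_cancel h1))
  have hcsame : ∀ x : (P : Subgroup G), toTwoClass P (c x) = toTwoClass P x := fun x => ((toTwoClass_eq P).2 ⟨a, rfl⟩).symm
  have hzsame : ∀ x : (P : Subgroup G), x ∉ Z → toTwoClass P (x * z) = toTwoClass P x := by
    intro x hx
    obtain ⟨y, hy⟩ : ∃ y : (P : Subgroup G), y * x ≠ x * y := by
      by_contra! h
      exact hx (Subgroup.mem_center_iff.2 h)
    have hyx : ⁅y, x⁆ = z := (hzall y x).resolve_left fun h => hy (commutatorElement_eq_one_iff_mul_comm.1 h)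
    refine ((toTwoClass_eq P).2 ⟨(y : G), ?_⟩).symm
    have h1 : (y : G) * x * (y : G)⁻¹ * (x : G)⁻¹ = (z : G) := congrArg Subtype.val hyx
    rw [Subgroup.coe_mul, Subgroup.mem_center_iff.1 hzc (x : G), ← h1]
    group
  have hge : ∀ b, 6 ≤ ∑ x ∈ Finset.univ.filter (fun x => toTwoClass P x = b), w x := by
    intro b
    obtain ⟨x, rfl⟩ := toTwoClass_surjective P b
    have hin : ∀ v, toTwoClass P v = toTwoClass P x →
        v ∈ Finset.univ.filter (fun y => toTwoClass P y = toTwoClass P x) := fun v hv =>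
      Finset.mem_filter.2 ⟨Finset.mem_univ v, hv⟩
    by_cases hxC : x ∈ C
    · by_cases hxZ : x ∈ Z
      · refine le_trans ?_ (Finset.single_le_sum (fun y _ => Nat.zero_le (w y)) (hin x rfl))
        show 6 ≤ 1 + (if x ∈ C then 2 else 0) + (if x ∈ Z then 1 else 0) + (if x ∈ C ⊓ Z then 2 else 0)
        rw [if_pos hxC, if_pos hxZ, if_pos (Subgroup.mem_inf.2 ⟨hxC, hxZ⟩)]
      · have hne : x ≠ x * z := fun e => by
          rw [left_eq_mul] at e
          rw [e, orderOf_one] at hz
          omega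
        have hsub : ({x, x * z} : Finset (P : Subgroup G)) ⊆ Finset.univ.filter (fun y => toTwoClass P y = toTwoClass P x) := by
          intro v hv
          simp only [Finset.mem_insert, Finset.mem_singleton] at hv
          rcases hv with rfl | rfl
          · exact hin _ rfl
          · exact hin _ (hzsame x hxZ)
        refine le_trans ?_ (Finset.sum_le_sum_of_subset hsub)
        rw [Finset.sum_pair hne]
        have h3 : ∀ v ∈ C, 3 ≤ w v := fun v hv => by
          show 3 ≤ 1 + (if v ∈ C then 2 else 0) + (if v ∈ Z then 1 else 0) + (if v ∈ C ⊓ Z then 2 else 0)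
          rw [if_pos hv]; omega
        have := h3 x hxC
        have := h3 _ (mul_mem hxC hzC)
        omega
    · have hd : ({x, c x, c (c x)} : Finset (P : Subgroup G)).card = 3 := by
        refine Finset.card_eq_three.2 ⟨_, _, _, fun h => hxC ((hmodC x).2 (Or.inl h.symm)),
          fun h => hxC (hcc x (Or.inl h.symm)), fun h => hxC ((hmodC x).2 (Or.inl (hcinj _ _ h).symm)), rfl⟩
      have hsub : ({x, c x, c (c x)} : Finset (P : Subgroup G)) ⊆ Finset.univ.filter (fun y => toTwoClass P y = toTwoClass P x) := by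
        intro v hv
        simp only [Finset.mem_insert, Finset.mem_singleton] at hv
        rcases hv with rfl | rfl | rfl
        · exact hin _ rfl
        · exact hin _ (hcsame x)
        · exact hin _ ((hcsame _).trans (hcsame x))
      by_cases hxZ : x ∈ Z
      · refine le_trans ?_ (Finset.sum_le_sum_of_subset hsub)
        have hcZ : ∀ v, v ∈ Z → c v ∈ Z := fun v hv => by
          refine Subgroup.mem_center_iff.2 fun y => Subtype.ext ?_
          have haN' := Subgroup.inv_mem _ haN
          have hy' : a⁻¹ * (y : G) * a ∈ (P : Subgroup G) := by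
            have := (Subgroup.mem_normalizer_iff.1 haN' (y : G)).1 y.2
            rwa [inv_inv] at this
          have h1 : a⁻¹ * (y : G) * a * v = v * (a⁻¹ * y * a) :=
            congrArg Subtype.val (Subgroup.mem_center_iff.1 hv ⟨_, hy'⟩)
          show (y : G) * (a * v * a⁻¹) = a * v * a⁻¹ * y
          calc (y : G) * (a * v * a⁻¹) = a * (a⁻¹ * y * a * v) * a⁻¹ := by group
            _ = a * (v * (a⁻¹ * y * a)) * a⁻¹ := by rw [h1]
            _ = a * v * a⁻¹ * y := by group
        calc 6 = ∑ _v ∈ ({x, c x, c (c x)} : Finset (P : Subgroup G)), 2 := by rw [Finset.sum_const, hd]; rfl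
          _ ≤ _ := Finset.sum_le_sum fun v hv => by
            have hv' : v ∈ Z := by
              simp only [Finset.mem_insert, Finset.mem_singleton] at hv
              rcases hv with rfl | rfl | rfl
              · exact hxZ
              · exact hcZ _ hxZ
              · exact hcZ _ (hcZ _ hxZ)
            show 2 ≤ 1 + (if v ∈ C then 2 else 0) + (if v ∈ Z then 1 else 0) + (if v ∈ C ⊓ Z then 2 else 0)
            rw [if_pos hv']; omega
      · set O₃ := ({x, c x, c (c x)} : Finset (P : Subgroup G))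
        have hdis : Disjoint O₃ (O₃.image (· * z)) := by
          refine Finset.disjoint_left.2 fun v hv hv' => ?_
          obtain ⟨u, hu, huv⟩ := Finset.mem_image.1 hv'
          simp only [O₃, Finset.mem_insert, Finset.mem_singleton] at hv hu
          have e1 : ∀ {p q : (P : Subgroup G)}, p = q * z → q = p * z := fun {p q} h => by rw [h, mul_assoc, hzz, mul_one]
          have hne : z ≠ 1 := fun e => by rw [e, orderOf_one] at hz; omega
          rcases hv with rfl | rfl | rfl <;> rcases hu with rfl | rfl | rfl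
          · exact hne (mul_eq_left.1 huv)
          · exact hxC ((hmodC v).2 (Or.inr (e1 huv.symm)))
          · exact hxC (hcc v (Or.inr (e1 huv.symm)))
          · exact hxC ((hmodC u).2 (Or.inr huv.symm))
          · exact hne (mul_eq_left.1 huv)
          · exact hxC ((hmodC x).2 (Or.inr (e1 (hcinj _ _ (by rw [hcz]; exact huv.symm)))))
          · exact hxC (hcc u (Or.inr huv.symm))
          · exact hxC ((hmodC x).2 (Or.inr (hcinj _ _ (by rw [hcz]; exact huv.symm))))
          · exact hne (mul_eq_left.1 huv)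
        refine le_trans ?_ (Finset.sum_le_sum_of_subset (s := O₃ ∪ O₃.image (· * z)) ?_)
        · calc 6 = ∑ _v ∈ O₃ ∪ O₃.image (· * z), 1 := by
                rw [Finset.sum_const, Finset.card_union_of_disjoint hdis,
                  Finset.card_image_of_injective _ (mul_left_injective z), hd]
                rfl
            _ ≤ _ := Finset.sum_le_sum fun v _ => by
              show 1 ≤ 1 + (if v ∈ C then 2 else 0) + (if v ∈ Z then 1 else 0) + (if v ∈ C ⊓ Z then 2 else 0)
              omega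
        · intro v hv
          rcases Finset.mem_union.1 hv with hv | hv
          · exact hsub hv
          · obtain ⟨u, hu, rfl⟩ := Finset.mem_image.1 hv
            have hu' := (Finset.mem_filter.1 (hsub hu)).2
            refine hin _ ((hzsame u fun huZ => hxZ ?_).trans hu')
            obtain ⟨g, hg⟩ := (toTwoClass_eq P).1 hu'
            -- `u` lies in the orbit of `x`
            simp only [O₃, Finset.mem_insert, Finset.mem_singleton] at hu
            have hback : ∀ v : (P : Subgroup G), c v ∈ Z → v ∈ Z := fun v hv => by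
              refine Subgroup.mem_center_iff.2 fun y => Subtype.ext ?_
              have h1 : a * (y : G) * a⁻¹ * (a * v * a⁻¹) = a * v * a⁻¹ * (a * y * a⁻¹) :=
                congrArg Subtype.val (Subgroup.mem_center_iff.1 hv (c y))
              show (y : G) * v = v * y
              calc (y : G) * v = a⁻¹ * (a * (y : G) * a⁻¹ * (a * v * a⁻¹)) * a := by group
                _ = a⁻¹ * (a * v * a⁻¹ * (a * y * a⁻¹)) * a := by rw [h1]
                _ = v * y := by group
            rcases hu with rfl | rfl | rfl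
            · exact huZ
            · exact hback _ huZ
            · exact hback _ (hback _ huZ)
  obtain ⟨hle, -⟩ := fibre_bound (toTwoClass P) w hge
  rw [hsum, ← Nat.card_eq_fintype_card] at hle
  have hCZ : Nat.card (C ⊓ Z : Subgroup (P : Subgroup G)) ≤ Nat.card Z :=
    Nat.le_of_dvd Nat.card_pos (Subgroup.card_dvd_of_le inf_le_right)
  have := Nat.card_pos (α := (P : Subgroup G))
  change 2 * Nat.card (TwoClasses G) = Nat.card (P : Subgroup G) at hk
  omega

/-- **nonabelian Sylow 2-subgroup** -/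
theorem half_focal_noncomm (hO : Cfsg.pPrimeCore 2 G = ⊥)
    (hk : 2 * Nat.card (TwoClasses G) = Nat.card (P : Subgroup G))
    (hna : ¬ ∀ x y : (P : Subgroup G), x * y = y * x) :
    ∃ V : Subgroup G, Nat.card V ≤ 4 ∧ (P : Subgroup G).focalSubgroup ≤ V := by
  classical
  haveI : Fact (Nat.Prime 2) := ⟨Nat.prime_two⟩
  set S := (P : Subgroup G) with hS
  change 2 * Nat.card (TwoClasses G) = Nat.card S at hk
  obtain ⟨k, hkP⟩ := P.2.exists_card_eq
  -- the commutator subgroup has order two
  have hD : Nat.card (commutator S) = 2 := by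
    have h4 := four_mul_card_conjClasses_le S
    have hkk : Nat.card (TwoClasses G) ≤ Nat.card (ConjClasses S) := card_classes_le P
    have hd := (commutator S).card_mul_index
    have hpos : 0 < Nat.card S := Nat.card_pos
    have h3 : Nat.card (commutator S) ≤ 3 := by
      by_contra hlt
      have h5 := Nat.mul_le_mul_right (commutator S).index (show 4 ≤ Nat.card (commutator S) by omega)
      rw [hd] at h5
      omega
    obtain ⟨j, -, hj⟩ := (Nat.dvd_prime_pow Nat.prime_two).1 (hkP ▸ (commutator S).card_subgroup_dvd_card)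
    rcases j with - | - | j
    · exact absurd (fun x y => commutatorElement_eq_one_iff_mul_comm.1 (Subgroup.mem_bot.1
        ((Subgroup.card_eq_one.1 (hj.trans (pow_zero 2))) ▸
          Subgroup.commutator_mem_commutator (Subgroup.mem_top x) (Subgroup.mem_top y)))) hna
    · exact hj
    · exfalso
      have : 4 ≤ 2 ^ (j + 1 + 1) := le_trans (by norm_num) (Nat.pow_le_pow_right two_pos (show 2 ≤ j + 1 + 1 by omega))
      omega
  obtain ⟨z, hzD, hz2⟩ := exists_two (commutator S) hD
  have hzall : ∀ x y : S, ⁅x, y⁆ = 1 ∨ ⁅x, y⁆ = z := fun x y =>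
    hz2 _ (Subgroup.commutator_mem_commutator (Subgroup.mem_top x) (Subgroup.mem_top y))
  obtain ⟨x₀, y₀, hxy₀⟩ : ∃ x y : S, ⁅x, y⁆ = z := by
    by_contra! h
    exact hna fun x y => commutatorElement_eq_one_iff_mul_comm.1 ((hzall x y).resolve_right (h x y))
  have hz1 : z ≠ 1 := fun e => hna fun x y =>
    commutatorElement_eq_one_iff_mul_comm.1 ((hzall x y).elim id fun h => h.trans e)
  have hzo : orderOf z = 2 := orderOf_eq_prime (by
    rw [sq]
    rcases hz2 (z * z) (mul_mem hzD hzD) with h | h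
    · exact h
    · exact absurd (mul_eq_left.1 h) hz1) hz1
  have hzZ : z ∈ Subgroup.center S := Subgroup.mem_center_iff.2 fun g => by
    rcases hz2 (g * z * g⁻¹) ((inferInstance : (commutator S).Normal).conj_mem z hzD g) with h | h
    · exact absurd (conj_eq_one_iff.1 h) hz1
    · exact mul_inv_eq_iff_eq_mul.1 h
  obtain ⟨g₀, hwS, hwz⟩ := half_fused P hO hk hna hzo hzall
  set w : S := ⟨_, hwS⟩ with hw
  -- fusion of central elements happens in the normaliser, which fixes `z`
  have hburn : ∀ v : S, (∃ g : G, g * (z : G) * g⁻¹ = v) → v ∈ Subgroup.center S → v = z := by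
    rintro v ⟨g, hg⟩ hv
    have hcen : ∀ c : S, c ∈ Subgroup.center S → S ≤ Subgroup.centralizer {(c : G)} := fun c hc s hs =>
      Subgroup.mem_centralizer_singleton_iff.2 (congrArg Subtype.val (Subgroup.mem_center_iff.1 hc ⟨s, hs⟩))
    obtain ⟨n, hn, hnz⟩ := CfsgLib.Fusion.exists_normalizer_conj_eq_of_central P (x := (z : G)) (hcen z hzZ) g
      (hg ▸ hcen v hv)
    rw [hg] at hnz
    let nc : S → S := fun s => ⟨n * s * n⁻¹, (Subgroup.mem_normalizer_iff.1 hn s).1 s.2⟩
    have hnv : nc z = v := Subtype.ext hnz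
    have hcm : ⁅nc x₀, nc y₀⁆ = nc z := by
      refine Subtype.ext ?_
      have h1 : (x₀ : G) * y₀ * (x₀ : G)⁻¹ * (y₀ : G)⁻¹ = z := congrArg Subtype.val hxy₀
      show n * (x₀ : G) * n⁻¹ * (n * y₀ * n⁻¹) * (n * x₀ * n⁻¹)⁻¹ * (n * y₀ * n⁻¹)⁻¹ = n * z * n⁻¹
      rw [← h1]
      group
    rcases hzall (nc x₀) (nc y₀) with h | h
    · exfalso
      rw [h] at hcm
      have h2 : n * (z : G) * n⁻¹ = 1 := congrArg Subtype.val hcm.symm
      exact hz1 (Subtype.ext (conj_eq_one_iff.1 h2))
    · rw [← hnv, ← hcm, h]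
  have hwZ : w ∉ Subgroup.center S := fun h => hwz (congrArg Subtype.val (hburn w ⟨g₀, rfl⟩ h))
  -- move the centraliser of `w` into `S`
  set Q := S ⊓ Subgroup.centralizer {(w : G)} with hQ
  obtain ⟨φ, hφQ, hφw⟩ : ∃ φ : G, (∀ q ∈ Q, φ * q * φ⁻¹ ∈ S) ∧ φ * (w : G) * φ⁻¹ = z := by
    let T : Sylow 2 G := g₀ • P
    have hT : (T : Subgroup G) = S.map (MulAut.conj g₀).toMonoidHom := Sylow.coe_subgroup_smul
    have hTC : (T : Subgroup G) ≤ Subgroup.centralizer {(w : G)} := by
      rw [hT]
      rintro _ ⟨s, hs, rfl⟩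
      refine Subgroup.mem_centralizer_singleton_iff.2 ?_
      have h1 : s * (z : G) = z * s := congrArg Subtype.val (Subgroup.mem_center_iff.1 hzZ ⟨s, hs⟩)
      show g₀ * s * g₀⁻¹ * (g₀ * z * g₀⁻¹) = g₀ * z * g₀⁻¹ * (g₀ * s * g₀⁻¹)
      calc g₀ * s * g₀⁻¹ * (g₀ * z * g₀⁻¹) = g₀ * (s * z) * g₀⁻¹ := by group
        _ = g₀ * (z * s) * g₀⁻¹ := by rw [h1]
        _ = _ := by group
    obtain ⟨h, hh, hle⟩ := CfsgLib.Fusion.exists_conj_le_of_not_dvd_relIndex T.2 hTC
      (fun hd => T.not_dvd_index (hd.trans (Subgroup.relIndex_dvd_index_of_le hTC)))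
      (P.2.to_le (inf_le_left : Q ≤ S)) inf_le_right
    refine ⟨g₀⁻¹ * h, fun q hq => ?_, ?_⟩
    · have h1 : h * q * h⁻¹ ∈ (T : Subgroup G) := CfsgLib.Fusion.conjBy_le_iff.1 hle q hq
      obtain ⟨s, hs, hsq⟩ := (hT ▸ h1 : h * q * h⁻¹ ∈ S.map (MulAut.conj g₀).toMonoidHom)
      have hsq' : g₀ * s * g₀⁻¹ = h * q * h⁻¹ := hsq
      rw [show g₀⁻¹ * h * q * (g₀⁻¹ * h)⁻¹ = g₀⁻¹ * (h * q * h⁻¹) * g₀ by group, ← hsq']
      simpa [mul_assoc] using hs
    · have h1 : h * (w : G) * h⁻¹ = w :=
        mul_inv_eq_iff_eq_mul.2 (Subgroup.mem_centralizer_singleton_iff.1 hh)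
      rw [show g₀⁻¹ * h * (w : G) * (g₀⁻¹ * h)⁻¹ = g₀⁻¹ * (h * w * h⁻¹) * g₀ by group, h1]
      show g₀⁻¹ * (g₀ * z * g₀⁻¹) * g₀ = z
      group
  have hZQ : ∀ c : S, c ∈ Subgroup.center S → (c : G) ∈ Q := fun c hc =>
    ⟨c.2, Subgroup.mem_centralizer_singleton_iff.2 (congrArg Subtype.val (Subgroup.mem_center_iff.1 hc w)).symm⟩
  let ψ : Subgroup.center S →* S := MonoidHom.mk' (fun c => ⟨φ * ((c : S) : G) * φ⁻¹, hφQ _ (hZQ c c.2)⟩)
    fun c d => Subtype.ext (by
      show φ * (((c : S) : G) * ((d : S) : G)) * φ⁻¹ = _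
      show _ = φ * ((c : S) : G) * φ⁻¹ * (φ * ((d : S) : G) * φ⁻¹)
      group)
  have hψclass : ∀ c, toTwoClass P (ψ c) = toTwoClass P (c : S) := fun c => ((toTwoClass_eq P).2 ⟨φ, rfl⟩).symm
  set zc : Subgroup.center S := ⟨z, hzZ⟩
  set u := ψ zc with hu
  have huz : u ≠ z := by
    intro h
    have h1 : φ * (z : G) * φ⁻¹ = φ * (w : G) * φ⁻¹ := (congrArg Subtype.val h).trans hφw.symm
    exact hwz (mul_left_cancel (mul_right_cancel h1)).symm
  have huc : u ∉ Subgroup.center S := fun h => huz (hburn u ⟨φ, rfl⟩ h)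
  set Z₀ := (Subgroup.center S).comap ψ with hZ₀
  have hzZ₀ : zc ∉ Z₀ := huc
  haveI := Fintype.ofFinite S
  haveI := Fintype.ofFinite (ConjClasses S)
  haveI := Fintype.ofFinite (TwoClasses G)
  haveI := Fintype.ofFinite (Subgroup.center S)
  let f : ConjClasses S → TwoClasses G := Quotient.lift (toTwoClass P) fun x y h => by
    obtain ⟨g, hg⟩ := isConj_iff.1 (h : IsConj x y)
    exact (toTwoClass_eq P).2 ⟨g, congrArg Subtype.val hg⟩
  have hf : ∀ x, f (ConjClasses.mk x) = toTwoClass P x := fun x => rfl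
  have hzsq : z * z = 1 := CfsgLib.Invol.invol_mul_self hzo
  have hconjz : ∀ x y : S, IsConj x y → y = x ∨ y = z * x := by
    intro x y h
    obtain ⟨g, rfl⟩ := isConj_iff.1 h
    rcases hzall g x with h | h <;> rw [commutatorElement_def] at h
    · exact Or.inl (mul_inv_eq_one.1 h)
    · exact Or.inr (mul_inv_eq_iff_eq_mul.1 h)
  have hcentral : ∀ x y : S, x ∈ Subgroup.center S → IsConj x y → y = x := by
    intro x y hx h
    obtain ⟨g, rfl⟩ := isConj_iff.1 h
    rw [Subgroup.mem_center_iff.1 hx g, mul_inv_cancel_right]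
  -- the classes of the moved central elements
  let Φ : Finset (ConjClasses S) :=
    (Finset.univ.filter fun c : Subgroup.center S => c ∉ Z₀).image fun c => ConjClasses.mk (ψ c)
  have hΦc : ∀ c ∈ Φ, ∀ x, ConjClasses.mk x = c → x ∉ Subgroup.center S := by
    intro c hc x hx hxc
    obtain ⟨d, hd, rfl⟩ := Finset.mem_image.1 hc
    have h1 := hcentral x (ψ d) hxc (ConjClasses.mk_eq_mk_iff_isConj.1 hx)
    exact (Finset.mem_filter.1 hd).2 (show ψ d ∈ Subgroup.center S by rw [h1]; exact hxc)
  have hΦcard : Φ.card = Nat.card (Subgroup.center S) - Nat.card Z₀ := by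
    rw [Finset.card_image_of_injOn, Finset.filter_not, Finset.card_univ_sdiff, Nat.card_eq_fintype_card,
      Nat.card_eq_fintype_card, ← Fintype.card_subtype (fun c => c ∈ Z₀)]
    intro c hc d hd h
    rcases hconjz _ _ (ConjClasses.mk_eq_mk_iff_isConj.1 h) with e | e
    · have e' : φ * ((d : S) : G) * φ⁻¹ = φ * ((c : S) : G) * φ⁻¹ := congrArg Subtype.val e
      exact Subtype.ext (Subtype.ext (mul_left_cancel (mul_right_cancel e'))).symm
    · exfalso
      have e' : φ * ((d : S) : G) * φ⁻¹ = (z : G) * (φ * ((c : S) : G) * φ⁻¹) := congrArg Subtype.val e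
      rw [← hφw, show φ * (w : G) * φ⁻¹ * (φ * ((c : S) : G) * φ⁻¹) = φ * ((w : G) * ((c : S) : G)) * φ⁻¹ by group] at e'
      have e2 : (d : S) = w * (c : S) := Subtype.ext (mul_left_cancel (mul_right_cancel e'))
      refine hwZ ?_
      rw [show w = (d : S) * ((c : S))⁻¹ by rw [e2, mul_inv_cancel_right]]
      exact mul_mem d.2 (inv_mem c.2)
  have h2k := two_mul_card_conjClasses hzall
  -- the other classes still cover everything
  have hsurj : ∀ b, ∃ c, c ∉ Φ ∧ f c = b := by
    intro b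
    obtain ⟨x, rfl⟩ := toTwoClass_surjective P b
    by_cases hx : ConjClasses.mk x ∈ Φ
    · obtain ⟨d, hd, hdx⟩ := Finset.mem_image.1 hx
      refine ⟨ConjClasses.mk (d : S), fun h => hΦc _ h _ rfl d.2, ?_⟩
      rw [hf, ← hψclass, ← hf, hdx, hf]
    · exact ⟨_, hx, hf x⟩
  have hZ₀le : 2 * Nat.card Z₀ ≤ Nat.card (Subgroup.center S) := by
    rw [← Z₀.card_mul_index, mul_comm]
    refine Nat.mul_le_mul_left _ ?_
    by_contra hlt
    have h0 : Z₀.index ≠ 0 := Subgroup.index_ne_zero_of_finite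
    exact hzZ₀ (Subgroup.index_eq_one.1 (show Z₀.index = 1 by omega) ▸ Subgroup.mem_top zc)
  have hcard : (Finset.univ \ Φ).card = Nat.card (ConjClasses S) - Φ.card := by
    rw [Finset.card_univ_sdiff, Nat.card_eq_fintype_card]
  have himg : (Finset.univ \ Φ).image f = Finset.univ := Finset.eq_univ_of_forall fun b => by
    obtain ⟨c, hc, hcb⟩ := hsurj b
    exact Finset.mem_image.2 ⟨c, Finset.mem_sdiff.2 ⟨Finset.mem_univ c, hc⟩, hcb⟩
  have hle : Nat.card (TwoClasses G) ≤ (Finset.univ \ Φ).card := by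
    rw [Nat.card_eq_fintype_card, ← Finset.card_univ, ← himg]
    exact Finset.card_image_le
  have hidx : 2 * Nat.card Z₀ = Nat.card (Subgroup.center S) := by
    have := Nat.card_pos (α := S)
    omega
  have hinjf : Set.InjOn f (Finset.univ \ Φ : Finset (ConjClasses S)) := by
    refine Finset.card_image_iff.1 ?_
    rw [himg, Finset.card_univ, ← Nat.card_eq_fintype_card]
    omega
  have hfix : ∀ c ∈ Z₀, ψ c = (c : S) := by
    intro c hc
    have hcc : ψ c ∈ Subgroup.center S := hc
    have hmem : ∀ v : S, v ∈ Subgroup.center S → ConjClasses.mk v ∈ ((Finset.univ \ Φ : Finset _) : Set (ConjClasses S)) :=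
      fun v hv => Finset.mem_coe.2 (Finset.mem_sdiff.2 ⟨Finset.mem_univ _, fun h => hΦc _ h _ rfl hv⟩)
    have h1 := hinjf (hmem _ hcc) (hmem _ c.2) (by rw [hf, hf, hψclass])
    exact hcentral _ _ c.2 (ConjClasses.mk_eq_mk_iff_isConj.1 h1).symm
  -- the four group
  set V := Subgroup.closure ({(z : G), (u : G)} : Set G) with hV
  have hVz : (z : G) ∈ V := Subgroup.subset_closure (by simp)
  have hVu : (u : G) ∈ V := Subgroup.subset_closure (by simp)
  have huo : orderOf (u : G) = 2 := by
    show orderOf (MulAut.conj φ (z : G)) = 2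
    rw [MulEquiv.orderOf_eq, Subgroup.orderOf_coe, hzo]
  refine ⟨V, ?_, ?_⟩
  · rw [hV, (CfsgLib.Invol.isKleinFour_closure_pair (by rw [Subgroup.orderOf_coe, hzo]) huo
      (fun h => huz (Subtype.ext h.symm))
      (congrArg Subtype.val (Subgroup.mem_center_iff.1 hzZ u)).symm).card_four]
  have hZ₀2 : Z₀.index = 2 := by
    have h := Z₀.card_mul_index
    have := Nat.card_pos (α := Z₀)
    rw [← hidx, mul_comm 2] at h
    exact Nat.eq_of_mul_eq_mul_left (by omega) h
  -- representatives
  have hrep : ∀ x : S, ∃ x' : S, ConjClasses.mk x' ∉ Φ ∧ toTwoClass P x' = toTwoClass P x ∧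
      (x' : G) * (x : G)⁻¹ ∈ V := by
    intro x
    by_cases hx : ConjClasses.mk x ∈ Φ
    · obtain ⟨d, hd, hdx⟩ := Finset.mem_image.1 hx
      have hdZ : d ∉ Z₀ := (Finset.mem_filter.1 hd).2
      have hd₀ : d * zc ∈ Z₀ := by
        rw [Subgroup.mul_mem_iff_of_index_two hZ₀2]
        exact iff_of_false hdZ hzZ₀
      refine ⟨d, fun h => hΦc _ h _ rfl d.2, by rw [← hψclass, ← hf, hdx, hf], ?_⟩
      have hψd : ψ d = (d : S) * z * u := by
        have h1 := hfix _ hd₀
        rw [map_mul] at h1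
        have hu2 : u * u = 1 := Subtype.ext (CfsgLib.Invol.invol_mul_self huo)
        calc ψ d = ψ d * ψ zc * ψ zc := by rw [mul_assoc, hu2, mul_one]
          _ = (d : S) * z * u := by rw [h1]; rfl
      have hdc := Subgroup.mem_center_iff.1 d.2
      have hswap : ∀ v : S, (d : S) * (v⁻¹ * (d : S)⁻¹) = v⁻¹ := fun v => by
        rw [← mul_assoc, ← hdc v⁻¹, mul_inv_cancel_right]
      have hx' : (d : S) * x⁻¹ = u⁻¹ * z⁻¹ ∨ (d : S) * x⁻¹ = u⁻¹ := by
        rcases hconjz _ _ (ConjClasses.mk_eq_mk_iff_isConj.1 hdx) with e | e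
        · left
          rw [e, hψd, show ((d : S) * z * u)⁻¹ = (z * u)⁻¹ * (d : S)⁻¹ by group, hswap, mul_inv_rev]
        · right
          rw [e, hψd, show z * ((d : S) * z * u) = (d : S) * u by
            rw [← mul_assoc, ← mul_assoc, hdc z, mul_assoc (d : S) z z, hzsq, mul_one],
            show ((d : S) * u)⁻¹ = u⁻¹ * (d : S)⁻¹ by group, hswap]
      rcases hx' with e | e
      · rw [show ((d : S) : G) * (x : G)⁻¹ = ((u⁻¹ * z⁻¹ : S) : G) from congrArg Subtype.val e]
        exact mul_mem (inv_mem hVu) (inv_mem hVz)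
      · rw [show ((d : S) : G) * (x : G)⁻¹ = ((u⁻¹ : S) : G) from congrArg Subtype.val e]
        exact inv_mem hVu
    · exact ⟨x, hx, rfl, by rw [mul_inv_cancel]; exact one_mem _⟩
  have hmem : ∀ x y : S, toTwoClass P y = toTwoClass P x → (y : G) * (x : G)⁻¹ ∈ V := by
    intro x y h
    obtain ⟨x', hx', hxc, hxV⟩ := hrep x
    obtain ⟨y', hy', hyc, hyV⟩ := hrep y
    have h1 := hinjf (Finset.mem_coe.2 (Finset.mem_sdiff.2 ⟨Finset.mem_univ _, hx'⟩))
      (Finset.mem_coe.2 (Finset.mem_sdiff.2 ⟨Finset.mem_univ _, hy'⟩)) (by rw [hf, hf, hxc, hyc, h])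
    rcases hconjz _ _ (ConjClasses.mk_eq_mk_iff_isConj.1 h1) with e | e
    · have := mul_mem (inv_mem hyV) hxV
      rwa [e, mul_inv_rev, inv_inv, mul_assoc, inv_mul_cancel_left] at this
    · have e' : (y' : G) = (z : G) * (x' : G) := congrArg Subtype.val e
      have := mul_mem (mul_mem (inv_mem hyV) hVz) hxV
      rwa [e', show ((z : G) * (x' : G) * (y : G)⁻¹)⁻¹ * (z : G) * ((x' : G) * (x : G)⁻¹) = (y : G) * (x : G)⁻¹ by
        group] at this
  rw [Subgroup.focalSubgroup_def, Subgroup.closure_le]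
  rintro _ ⟨hxu, x, hx, g, rfl⟩
  have hy : g * x⁻¹ * g⁻¹ ∈ S := by
    have h4 := S.mul_mem (S.inv_mem hx) hxu
    rwa [commutatorElement_def, show x⁻¹ * (x * g * x⁻¹ * g⁻¹) = g * x⁻¹ * g⁻¹ by group] at h4
  have h := hmem ⟨x⁻¹, S.inv_mem hx⟩ ⟨_, hy⟩ ((toTwoClass_eq P).2 ⟨g, rfl⟩).symm
  have hb : ⁅x, g * x⁻¹ * g⁻¹⁆ ∈ V := by
    rcases hzall ⟨x, hx⟩ ⟨_, hy⟩ with e | e
    · have e' : ⁅x, g * x⁻¹ * g⁻¹⁆ = 1 := congrArg Subtype.val e
      rw [e']; exact one_mem _
    · have e' : ⁅x, g * x⁻¹ * g⁻¹⁆ = (z : G) := congrArg Subtype.val e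
      rw [e']; exact hVz
  have h2 := mul_mem hb h
  rwa [SetLike.mem_coe, show ⁅x, g⁆ = ⁅x, g * x⁻¹ * g⁻¹⁆ * (g * x⁻¹ * g⁻¹ * (x⁻¹)⁻¹) by
    simp only [commutatorElement_def]; group]

end CfsgLib.GW
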