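import Cfsg.Agent.Lib.GW.DoubleCover
import Cfsg.Agent.Lib.Invol.CentralRows

/-!
# Groups with quasidihedral or wreathed Sylow 2-subgroups modulo the centre of a Sylow 2-subgroup

The Sylow 2-subgroups of the quotient are dihedral, of order at least eight, and a central cyclic 2-subgroup
keeps the odd core of the quotient trivial.
-/

set_option autoImplicit false
set_option linter.style.haveILetI false
set_option linter.unusedSectionVars false

namespace CfsgLib.GW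

open CfsgLib.Invol

universe u

/-- a central cyclic 2-subgroup keeps the odd core of the quotient trivial -/
theorem oddCore_quotient_cyclic_two {Y : Type*} [Group Y] [Finite Y] (hY : Cfsg.oddCore Y = ⊥) (Z : Subgroup Y)
    [Z.Normal] [IsCyclic Z] {k : ℕ} (hZ : Nat.card Z = 2 ^ k) : Cfsg.oddCore (Y ⧸ Z) = ⊥ := by
  classical
  haveI : Fact (Nat.Prime 2) := ⟨Nat.prime_two⟩
  set J := (Cfsg.oddCore (Y ⧸ Z)).comap (QuotientGroup.mk' Z)
  have hZJ : Z ≤ J := by
    intro x hx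
    rw [Subgroup.mem_comap, QuotientGroup.mk'_apply, (QuotientGroup.eq_one_iff x).2 hx]
    exact one_mem _
  have hK : Nat.card J = 2 ^ k * Nat.card (Cfsg.oddCore (Y ⧸ Z)) := by
    have h1 := J.card_mul_index
    rw [Subgroup.index_comap_of_surjective _ (QuotientGroup.mk'_surjective Z),
      Subgroup.card_eq_card_quotient_mul_card_subgroup Z, hZ, ← (Cfsg.oddCore (Y ⧸ Z)).card_mul_index] at h1
    refine Nat.eq_of_mul_eq_mul_right (m := (Cfsg.oddCore (Y ⧸ Z)).index)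
      (Nat.pos_of_ne_zero Subgroup.FiniteIndex.index_ne_zero) ?_
    rw [h1]; ring
  have hoddQ := CfsgLib.Coprime.pPrimeCore_not_dvd (G := Y ⧸ Z) Nat.prime_two
  have hcard : ∀ R : Sylow 2 J, Nat.card (R : Subgroup J) = 2 ^ k := fun R => by
    rw [Sylow.card_eq_multiplicity, hK, Nat.factorization_mul (by positivity) Nat.card_pos.ne', Finsupp.add_apply,
      Nat.Prime.factorization_pow Nat.prime_two, Finsupp.single_eq_same,
      Nat.factorization_eq_zero_of_not_dvd hoddQ, add_zero]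
  have hZp : IsPGroup 2 (Z.subgroupOf J) := IsPGroup.of_card (n := k) (by
    rw [Nat.card_congr (Subgroup.subgroupOfEquivOfLe hZJ).toEquiv, hZ])
  obtain ⟨R, hR⟩ := hZp.exists_le_sylow
  have hRZ : (R : Subgroup J) = Z.subgroupOf J := (Subgroup.eq_of_le_of_card_ge hR (by
    rw [hcard, Nat.card_congr (Subgroup.subgroupOfEquivOfLe hZJ).toEquiv, hZ])).symm
  haveI : IsCyclic (R : Subgroup J) :=
    ((MulEquiv.subgroupCongr hRZ).trans (Subgroup.subgroupOfEquivOfLe hZJ)).isCyclic.2 inferInstance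
  obtain ⟨R', M, hM, hMR⟩ := CfsgLib.Invol.hasNormalPComplement_two_of_isCyclic R inferInstance
  haveI := hM
  have hMo : ¬ 2 ∣ Nat.card M := by rw [← hMR.index_eq_card]; exact R'.not_dvd_index
  have hM0 : M = ⊥ := by
    have h1 : M ≤ Cfsg.pPrimeCore 2 J := CfsgLib.Coprime.le_pPrimeCore_of_not_dvd Nat.prime_two hMo
    have h2 := CfsgLib.Coprime.pPrimeCore_map_subtype_eq (p := 2) Nat.prime_two J
    rw [show Cfsg.pPrimeCore 2 Y = ⊥ from hY, bot_inf_eq] at h2
    rw [(Subgroup.map_eq_bot_iff_of_injective _ J.subtype_injective).1 h2] at h1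
    exact le_bot_iff.1 h1
  have h3 := hMR.card_mul_card
  rw [hM0, Subgroup.card_bot, one_mul, hcard R', hK] at h3
  exact Subgroup.card_eq_one.1 ((Nat.mul_eq_left (by positivity)).1 h3.symm)

/-- a dihedral image of a Sylow 2-subgroup -/
theorem dihedral_image {Y Q : Type*} [Group Y] [Finite Y] [Group Q] [Finite Q] (π : Y →* Q)
    (hπ : Function.Surjective π) (S : Sylow 2 Y) (a b : (S : Subgroup Y)) {N : ℕ}
    (hN : 0 < N) (hpow : ∀ i : ℤ, π (a : Y) ^ i = 1 ↔ (N : ℤ) ∣ i) (hb : ∀ i : ℤ, π (a : Y) ^ i * π (b : Y) ≠ 1)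
    (hgen : ∀ s : (S : Subgroup Y), ∃ i : ℤ, π (s : Y) = π (a : Y) ^ i ∨ π (s : Y) = π (a : Y) ^ i * π (b : Y))
    (hconj : π (b : Y) * π (a : Y) * (π (b : Y))⁻¹ * π (a : Y) = 1) (hbb : π (b : Y) * π (b : Y) = 1)
    (T : Sylow 2 Q) : Nonempty ((T : Subgroup Q) ≃* DihedralGroup N) := by
  classical
  haveI : Fact (Nat.Prime 2) := ⟨Nat.prime_two⟩
  set T₀ := S.mapSurjective hπ
  have hT₀ : (T₀ : Subgroup Q) = (S : Subgroup Y).map π := Sylow.coe_mapSurjective hπ S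
  let a' : (T₀ : Subgroup Q) := ⟨π (a : Y), by rw [hT₀]; exact ⟨a, a.2, rfl⟩⟩
  let b' : (T₀ : Subgroup Q) := ⟨π (b : Y), by rw [hT₀]; exact ⟨b, b.2, rfl⟩⟩
  have hord : orderOf a' = N := by
    refine Nat.dvd_antisymm (orderOf_dvd_of_pow_eq_one (Subtype.ext ?_)) ?_
    · have := (hpow N).2 dvd_rfl
      rwa [zpow_natCast] at this
    · refine Int.natCast_dvd_natCast.1 ((hpow _).1 ?_)
      rw [zpow_natCast]
      exact congrArg Subtype.val (pow_orderOf_eq_one a')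
  have hbn : b' ∉ Subgroup.zpowers a' := by
    rintro ⟨i, hi⟩
    have h : π (a : Y) ^ i = π (b : Y) := congrArg Subtype.val hi
    refine hb i ?_
    rw [h, hbb]
  have hidx : (Subgroup.zpowers a').index = 2 := by
    refine Subgroup.index_eq_two_iff.2 ⟨b', fun x => ?_⟩
    obtain ⟨y, hy⟩ : ∃ s : (S : Subgroup Y), π (s : Y) = (x : Q) := by
      obtain ⟨s, hs, hsx⟩ := (hT₀ ▸ x.2 : (x : Q) ∈ (S : Subgroup Y).map π)
      exact ⟨⟨s, hs⟩, hsx⟩
    obtain ⟨i, hi | hi⟩ := hgen y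
    · have hx : x ∈ Subgroup.zpowers a' := ⟨i, Subtype.ext (hi.symm.trans hy)⟩
      exact Or.inr ⟨hx, fun h => hbn ((Subgroup.mul_mem_cancel_left _ hx).1 h)⟩
    · have hxe : x = a' ^ i * b' := Subtype.ext (hy.symm.trans hi)
      have hbb' : b' * b' = 1 := Subtype.ext hbb
      refine Or.inl ⟨?_, fun h => hbn ?_⟩
      · rw [hxe, mul_assoc, hbb', mul_one]
        exact zpow_mem (Subgroup.mem_zpowers a') i
      · exact (Subgroup.mul_mem_cancel_left _ (zpow_mem (Subgroup.mem_zpowers a') i)).1 (hxe ▸ h)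
  have F : CyclicFrame N (-1) 0 a' b' :=
    { ord := hord
      card := by rw [← (Subgroup.zpowers a').card_mul_index, hidx, Nat.card_zpowers, hord, mul_comm]
      notMem := hbn
      conj := by
        rw [zpow_neg_one]
        exact eq_inv_of_mul_eq_one_left (Subtype.ext hconj)
      sq := by rw [zpow_zero]; exact Subtype.ext hbb
      pos := hN }
  obtain ⟨e⟩ := F.dihedralEquiv
  exact ⟨(Sylow.equiv T T₀).trans e⟩

variable {Y : Type*} [Group Y] [Finite Y]

/-- the centre of a Sylow 2-subgroup as a quotient kernel: quasidihedral case -/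
theorem dihedral_quot_qd (S : Sylow 2 Y) (hS : Cfsg.IsQuasiDihedral (S : Subgroup Y)) (Z : Subgroup Y)
    [Z.Normal] (hZ : Z = centerG S) :
    IsCyclic Z ∧ Nat.card Z = 2 ∧
      ∃ j, 2 ≤ j ∧ ∀ T : Sylow 2 (Y ⧸ Z), Nonempty ((T : Subgroup (Y ⧸ Z)) ≃* DihedralGroup (2 ^ j)) := by
  obtain ⟨k, a, b, hk, -, Q⟩ := exists_qdFrame hS
  subst hZ
  have hcard : Nat.card (centerG S) = 2 := by
    rw [centerG, Subgroup.card_map_of_injective (Subgroup.subtype_injective _), Q.card_center]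
  refine ⟨isCyclic_of_prime_card (p := 2) (hp := ⟨Nat.prime_two⟩) hcard, hcard, k - 1, by omega, fun T => ?_⟩
  set h : ℤ := 2 ^ (k - 2) with hh
  have hN : (((2 ^ (k - 1) : ℕ)) : ℤ) = 2 * h := by
    rw [hh]; push_cast; rw [← pow_succ']; congr 1; omega
  have hker : ∀ s : (S : Subgroup Y), QuotientGroup.mk' (centerG S) (s : Y) = 1 ↔ ∃ q : ℤ, s = a ^ (2 * h * q) := by
    intro s
    rw [QuotientGroup.mk'_apply, QuotientGroup.eq_one_iff, centerG, Q.center_eq]
    constructor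
    · rintro ⟨c, hc, hcs⟩
      obtain ⟨q, hq⟩ := Subgroup.mem_zpowers_iff.1 hc
      exact ⟨q, by rw [zpow_mul, hq]; exact Subtype.ext hcs.symm⟩
    · rintro ⟨q, rfl⟩
      exact ⟨a ^ (2 * h * q), Subgroup.mem_zpowers_iff.2 ⟨q, (zpow_mul a _ q).symm⟩, rfl⟩
  refine dihedral_image _ (QuotientGroup.mk'_surjective _) S a b (by positivity) (fun i => ?_) (fun i => ?_)
    (fun s => ?_) ?_ ?_ T
  · rw [← map_zpow, ← Subgroup.coe_zpow, hker, hN]
    constructor
    · rintro ⟨q, hq⟩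
      have h1 : (2 * h) ∣ 2 * h * q - i := Dvd.dvd.trans ⟨2, by ring⟩ (Q.zpow_eq_iff.1 hq)
      exact (dvd_sub_right (Dvd.intro q rfl)).1 h1
    · rintro ⟨q, rfl⟩
      exact ⟨q, rfl⟩
  · rw [← map_zpow, ← map_mul, ← Subgroup.coe_zpow, ← Subgroup.coe_mul, Ne, hker]
    rintro ⟨q, hq⟩
    exact Q.ne_mul _ _ hq.symm
  · obtain ⟨i, rfl | rfl⟩ := Q.exists_eq s
    · exact ⟨i, Or.inl (by rw [Subgroup.coe_zpow, map_zpow])⟩
    · exact ⟨i, Or.inr (by rw [Subgroup.coe_mul, Subgroup.coe_zpow, map_mul, map_zpow])⟩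
  · obtain ⟨N, hN', F⟩ := Q.frame
    rw [← map_inv, ← map_mul, ← map_mul, ← map_mul, ← Subgroup.coe_inv, ← Subgroup.coe_mul, ← Subgroup.coe_mul,
      ← Subgroup.coe_mul, hker]
    exact ⟨1, by rw [F.conj, mul_one, ← zpow_add_one, sub_add_cancel]⟩
  · obtain ⟨N, hN', F⟩ := Q.frame
    rw [← map_mul, ← Subgroup.coe_mul, hker]
    exact ⟨0, by rw [F.sq, mul_zero]⟩

/-- the centre of a Sylow 2-subgroup as a quotient kernel: wreathed case -/
theorem dihedral_quot_wr (S : Sylow 2 Y) (hS : Cfsg.IsWreathed (S : Subgroup Y)) (Z : Subgroup Y)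
    [Z.Normal] (hZ : Z = centerG S) :
    IsCyclic Z ∧ (∃ k, Nat.card Z = 2 ^ k) ∧
      ∃ j, 2 ≤ j ∧ (∀ T : Sylow 2 (Y ⧸ Z), Nonempty ((T : Subgroup (Y ⧸ Z)) ≃* DihedralGroup (2 ^ j))) ∧
        ∀ s ∈ (S : Subgroup Y), s ^ 2 ∈ Z ∨ s ^ (2 ^ j) = 1 := by
  haveI : Fact (Nat.Prime 2) := ⟨Nat.prime_two⟩
  obtain ⟨n, x, y, z, hn, -, W⟩ := exists_wrFrame hS
  subst hZ
  have hker : ∀ s : (S : Subgroup Y), QuotientGroup.mk' (centerG S) (s : Y) = 1 ↔ ∃ i : ℤ, s = x ^ i * y ^ i := by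
    intro s
    rw [QuotientGroup.mk'_apply, QuotientGroup.eq_one_iff, ← W.mem_center_iff]
    exact Subgroup.mem_map_iff_mem (Subgroup.subtype_injective _)
  have hcyc : IsCyclic (centerG S) := by
    haveI : IsCyclic (Subgroup.center (S : Subgroup Y)) := by rw [W.center_eq]; infer_instance
    exact (Subgroup.equivMapOfInjective (Subgroup.center (S : Subgroup Y)) _
      (Subgroup.subtype_injective (S : Subgroup Y))).isCyclic.1 inferInstance
  refine ⟨hcyc, ((S.2.to_le (Subgroup.map_subtype_le _)) : IsPGroup 2 (centerG S)).exists_card_eq, n, hn,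
    fun T => ?_, fun s hs => ?_⟩
  swap
  · obtain ⟨i, j, hij | hij⟩ := W.exists_eq ⟨s, hs⟩
    · refine Or.inr ?_
      have h1 : ((⟨s, hs⟩ : (S : Subgroup Y)) ^ (((2 ^ n : ℕ)) : ℤ)) = 1 := by
        rw [hij, W.rot_zpow, W.eq_one]
        have hN : (((2 ^ n : ℕ)) : ℤ) = 2 * 2 ^ (n - 1) := by
          push_cast; rw [← pow_succ']; congr 1; omega
        rw [hN]
        exact ⟨dvd_mul_left _ _, dvd_mul_left _ _⟩
      rw [zpow_natCast] at h1
      exact congrArg Subtype.val h1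
    · refine Or.inl ((QuotientGroup.eq_one_iff _).1 ?_)
      have h1 : (⟨s, hs⟩ : (S : Subgroup Y)) ^ 2 = x ^ (i + j) * y ^ (i + j) := by rw [hij, W.out_sq]
      rw [← QuotientGroup.mk'_apply, show s ^ 2 = (((⟨s, hs⟩ : (S : Subgroup Y)) ^ 2 : (S : Subgroup Y)) : Y) from rfl]
      exact (hker _).2 ⟨i + j, h1⟩
  have hN : (((2 ^ n : ℕ)) : ℤ) = 2 * 2 ^ (n - 1) := by
    push_cast; rw [← pow_succ']; congr 1; omega
  refine dihedral_image _ (QuotientGroup.mk'_surjective _) S x z (by positivity) (fun i => ?_) (fun i => ?_)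
    (fun s => ?_) ?_ ?_ T
  · rw [← map_zpow, ← Subgroup.coe_zpow, hker, hN]
    constructor
    · rintro ⟨j, hj⟩
      rw [show x ^ i = x ^ i * y ^ (0 : ℤ) by rw [zpow_zero, mul_one], W.rot_eq_iff] at hj
      obtain ⟨h1, h2⟩ := hj
      have := dvd_add h1 (by simpa using h2 : 2 * (2 : ℤ) ^ (n - 1) ∣ j)
      simpa using this
    · intro hi
      exact ⟨0, by rw [show x ^ i = x ^ i * y ^ (0 : ℤ) by rw [zpow_zero, mul_one], W.rot_eq_iff]; simpa using hi⟩
  · rw [← map_zpow, ← map_mul, ← Subgroup.coe_zpow, ← Subgroup.coe_mul, Ne, hker]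
    rintro ⟨j, hj⟩
    refine W.rot_ne_out j j i 0 ?_
    rw [← hj, zpow_zero, mul_one]
  · obtain ⟨i, j, rfl | rfl⟩ := W.exists_eq s
    · refine ⟨i - j, Or.inl ?_⟩
      rw [show x ^ i * y ^ j = x ^ (i - j) * (x ^ j * y ^ j) by rw [← mul_assoc, ← zpow_add, sub_add_cancel],
        Subgroup.coe_mul, map_mul, (hker _).2 ⟨j, rfl⟩, mul_one, Subgroup.coe_zpow, map_zpow]
    · refine ⟨i - j, Or.inr ?_⟩
      rw [show x ^ i * y ^ j = x ^ (i - j) * (x ^ j * y ^ j) by rw [← mul_assoc, ← zpow_add, sub_add_cancel],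
        Subgroup.coe_mul, map_mul, Subgroup.coe_mul, map_mul, (hker _).2 ⟨j, rfl⟩, mul_one, Subgroup.coe_zpow,
        map_zpow]
  · rw [← map_inv, ← map_mul, ← map_mul, ← map_mul, ← Subgroup.coe_inv, ← Subgroup.coe_mul, ← Subgroup.coe_mul,
      ← Subgroup.coe_mul, hker]
    exact ⟨1, by rw [W.swap, ← W.comm, zpow_one, zpow_one]⟩
  · rw [← map_mul, ← Subgroup.coe_mul, hker]
    exact ⟨0, by rw [W.invol, zpow_zero, zpow_zero, one_mul]⟩

end CfsgLib.GW
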