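import Cfsg.Agent.Lib.GW.HalfClassFocal
import Cfsg.Agent.Lib.GW.QGroupQuot

/-!
# Groups with half as many classes of 2-elements as the order of a Sylow 2-subgroup: counting
-/

set_option autoImplicit false
set_option linter.style.haveILetI false
set_option linter.unusedSectionVars false

namespace CfsgLib.GW

open Cfsg
open scoped commutatorElement

universe u

/-- fibre sums -/
theorem fibre_bound {α β : Type*} [Fintype α] [Fintype β] [DecidableEq β] (f : α → β) (w : α → ℕ) {m : ℕ}
    (h : ∀ b, m ≤ ∑ x ∈ Finset.univ.filter (fun x => f x = b), w x) :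
    m * Fintype.card β ≤ ∑ x, w x ∧
      (∑ x, w x = m * Fintype.card β → ∀ b, ∑ x ∈ Finset.univ.filter (fun x => f x = b), w x = m) := by
  have h1 : ∑ b, ∑ x ∈ Finset.univ.filter (fun x => f x = b), w x = ∑ x, w x := Finset.sum_fiberwise _ f w
  have h2 : ∑ _b : β, m ≤ ∑ b, ∑ x ∈ Finset.univ.filter (fun x => f x = b), w x :=
    Finset.sum_le_sum fun b _ => h b
  have h3 : ∑ _b : β, m = m * Fintype.card β := by
    rw [Finset.sum_const, Finset.card_univ, smul_eq_mul, mul_comm]
  refine ⟨by rw [← h1, ← h3]; exact h2, fun he b => ?_⟩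
  exact ((Finset.sum_eq_sum_iff_of_le fun b _ => h b).1 (by rw [h3, h1, he]) b (Finset.mem_univ b)).symm

theorem four_le_index {X : Type*} [Group X] [Finite X] (H : Subgroup X) {k : ℕ} (hX : Nat.card X = 2 ^ k)
    (h1 : H ≠ ⊤) (h2 : H.index ≠ 2) : 4 * Nat.card H ≤ Nat.card X := by
  obtain ⟨j, -, hj⟩ := (Nat.dvd_prime_pow Nat.prime_two).1 (hX ▸ H.index_dvd_card)
  rw [← H.card_mul_index, mul_comm (Nat.card H)]
  refine Nat.mul_le_mul_right _ ?_
  rw [hj] at h2 ⊢
  rcases j with - | - | j
  · exact absurd (Subgroup.index_eq_one.1 (hj.trans (pow_zero 2))) h1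
  · exact absurd rfl h2
  · calc 4 = 2 ^ 2 := rfl
      _ ≤ 2 ^ (j + 1 + 1) := Nat.pow_le_pow_right two_pos (by omega)

theorem card_center_le_quarter {X : Type*} [Group X] [Finite X] {k : ℕ} (hX : Nat.card X = 2 ^ k)
    (hna : ¬ ∀ a b : X, a * b = b * a) : 4 * Nat.card (Subgroup.center X) ≤ Nat.card X := by
  refine four_le_index _ hX (fun h => hna fun a b => ?_) fun h => hna ?_
  · exact (Subgroup.mem_center_iff.1 (h ▸ Subgroup.mem_top b) a)
  · haveI : Fact (Nat.Prime 2) := ⟨Nat.prime_two⟩
    haveI : IsCyclic (X ⧸ Subgroup.center X) := isCyclic_of_prime_card (p := 2) (by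
      rw [← Subgroup.index_eq_card, h])
    exact commutative_of_cyclic_center_quotient (QuotientGroup.mk' (Subgroup.center X))
      (QuotientGroup.ker_mk' _).le

/-- `2 k = |P| + |Z(P)|` for a commutator subgroup of order two -/
theorem two_mul_card_conjClasses {X : Type u} [Group X] [Finite X] {z : X} (hz : ∀ x y : X, ⁅x, y⁆ = 1 ∨ ⁅x, y⁆ = z) :
    2 * Nat.card (ConjClasses X) = Nat.card X + Nat.card (Subgroup.center X) := by
  classical
  haveI := Fintype.ofFinite X
  haveI := Fintype.ofFinite (ConjClasses X)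
  let w : X → ℕ := fun x => 1 + if x ∈ Subgroup.center X then 1 else 0
  have hsum : ∑ x, w x = Nat.card X + Nat.card (Subgroup.center X) := by
    rw [Finset.sum_add_distrib, Finset.sum_const, Finset.card_univ, smul_eq_mul, mul_one,
      Finset.sum_boole, Nat.card_eq_fintype_card, Nat.card_eq_fintype_card, Fintype.card_subtype]
    rfl
  have hfib : ∀ c : ConjClasses X, ∑ x ∈ Finset.univ.filter (fun x => ConjClasses.mk x = c), w x = 2 := by
    intro c
    obtain ⟨x, rfl⟩ := ConjClasses.mk_surjective c
    have hconj : ∀ y, ConjClasses.mk y = ConjClasses.mk x ↔ ∃ g, g * x * g⁻¹ = y := fun y => by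
      rw [ConjClasses.mk_eq_mk_iff_isConj, isConj_comm, isConj_iff]
    by_cases hx : x ∈ Subgroup.center X
    · have he : Finset.univ.filter (fun y => ConjClasses.mk y = ConjClasses.mk x) = {x} := by
        ext y
        rw [Finset.mem_filter, Finset.mem_singleton, hconj]
        refine ⟨fun ⟨_, g, hg⟩ => by rw [← hg, Subgroup.mem_center_iff.1 hx g, mul_inv_cancel_right],
          fun h => ⟨Finset.mem_univ _, 1, by rw [h]; group⟩⟩
      rw [he, Finset.sum_singleton]
      show 1 + (if x ∈ Subgroup.center X then 1 else 0) = 2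
      rw [if_pos hx]
    · obtain ⟨g, hg⟩ : ∃ g, g * x ≠ x * g := by
        by_contra! h
        exact hx (Subgroup.mem_center_iff.2 h)
      have hgx : ⁅g, x⁆ = z := (hz g x).resolve_left fun h =>
        hg (commutatorElement_eq_one_iff_mul_comm.1 h)
      have hzx : g * x * g⁻¹ = z * x := by rw [← hgx, commutatorElement_def]; group
      have hne : z * x ≠ x := fun h => hg (mul_inv_eq_iff_eq_mul.1 (hzx.trans h))
      have he : Finset.univ.filter (fun y => ConjClasses.mk y = ConjClasses.mk x) = {x, z * x} := by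
        ext y
        rw [Finset.mem_filter, Finset.mem_insert, Finset.mem_singleton, hconj]
        constructor
        · rintro ⟨-, h, hh⟩
          rcases hz h x with h1 | h1 <;> rw [commutatorElement_def] at h1
          · left; rw [← hh]; exact mul_inv_eq_one.1 h1
          · right; rw [← hh]; exact mul_inv_eq_iff_eq_mul.1 h1
        · rintro (h | h)
          · exact ⟨Finset.mem_univ _, 1, by rw [h]; group⟩
          · exact ⟨Finset.mem_univ _, g, hzx.trans h.symm⟩
      have hzc : z * x ∉ Subgroup.center X := fun h => by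
        rw [← hzx] at h
        refine hx ?_
        have h1 : x = g * x * g⁻¹ := by
          calc x = g⁻¹ * (g * x * g⁻¹) * g := by group
            _ = g * x * g⁻¹ := by rw [Subgroup.mem_center_iff.1 h g⁻¹, inv_mul_cancel_right]
        rwa [h1]
      rw [he, Finset.sum_pair (Ne.symm hne)]
      show 1 + (if x ∈ Subgroup.center X then 1 else 0) + (1 + (if z * x ∈ Subgroup.center X then 1 else 0)) = 2
      rw [if_neg hx, if_neg hzc]
  rw [← hsum, ← Finset.sum_fiberwise Finset.univ ConjClasses.mk w, Finset.sum_congr rfl (fun c _ => hfib c),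
    Finset.sum_const, Finset.card_univ, smul_eq_mul, Nat.card_eq_fintype_card, mul_comm]

/-- a subgroup of order two has one nontrivial element -/
theorem exists_two {X : Type*} [Group X] [Finite X] (D : Subgroup X) (hD : Nat.card D = 2) :
    ∃ z ∈ D, ∀ c ∈ D, c = 1 ∨ c = z := by
  obtain ⟨a, b, hab, he⟩ := Nat.card_eq_two_iff.1 hD
  have hall : ∀ c : D, c = a ∨ c = b := fun c => by
    have : c ∈ ({a, b} : Set D) := he ▸ Set.mem_univ c
    simpa using this
  rcases hall 1 with h | h
  · exact ⟨b, b.2, fun c hc => (hall ⟨c, hc⟩).imp (fun e => by rw [← Subgroup.coe_one D, h]; exact congrArg Subtype.val e)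
      (fun e => congrArg Subtype.val e)⟩
  · exact ⟨a, a.2, fun c hc => (hall ⟨c, hc⟩).symm.imp (fun e => by rw [← Subgroup.coe_one D, h]; exact congrArg Subtype.val e)
      (fun e => congrArg Subtype.val e)⟩

variable {G : Type u} [Group G] [Finite G] (P : Sylow 2 G)

theorem card_classes_le : Nat.card (TwoClasses G) ≤ Nat.card (ConjClasses (P : Subgroup G)) := by
  refine Nat.card_le_card_of_surjective (Quotient.lift (toTwoClass P) fun x y h => ?_) fun c => ?_
  · obtain ⟨g, hg⟩ := isConj_iff.1 (h : IsConj x y)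
    exact (toTwoClass_eq P).2 ⟨g, congrArg Subtype.val hg⟩
  · obtain ⟨x, hx⟩ := toTwoClass_surjective P c
    exact ⟨⟦x⟧, hx⟩

/-- the group is no 2-group -/
theorem half_not_pGroup (hk : 2 * Nat.card (TwoClasses G) = Nat.card (P : Subgroup G)) : ¬ IsPGroup 2 G := by
  classical
  haveI : Fact (Nat.Prime 2) := ⟨Nat.prime_two⟩
  intro hG
  have htop : (P : Subgroup G) = ⊤ := (P.is_maximal' (hG.of_equiv Subgroup.topEquiv.symm) le_top).symm
  have hk' : Nat.card (ConjClasses (P : Subgroup G)) ≤ Nat.card (TwoClasses G) := by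
    refine Nat.card_le_card_of_injective (fun c => toTwoClass P c.out) fun c d h => ?_
    obtain ⟨g, hg⟩ := (toTwoClass_eq P).1 h
    rw [← Quotient.out_eq c, ← Quotient.out_eq d]
    exact Quotient.sound (isConj_iff.2 ⟨⟨g, htop ▸ Subgroup.mem_top g⟩, Subtype.ext hg⟩)
  obtain ⟨k, hkP⟩ := P.2.exists_card_eq
  have h4 := four_mul_card_conjClasses_le (P : Subgroup G)
  have hkk := card_classes_le P
  have hdvd := (commutator (P : Subgroup G)).card_mul_index
  have hd2 : Nat.card (commutator (P : Subgroup G)) ≤ 3 := by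
    by_contra hlt
    have h5 := Nat.mul_le_mul_right (commutator (P : Subgroup G)).index (show 4 ≤ _ by omega : 4 ≤ Nat.card (commutator (P : Subgroup G)))
    rw [hdvd] at h5
    have := Nat.pos_of_ne_zero (Subgroup.index_ne_zero_of_finite (H := commutator (P : Subgroup G)))
    omega
  obtain ⟨j, -, hj⟩ := (Nat.dvd_prime_pow Nat.prime_two).1 (hkP ▸ (commutator (P : Subgroup G)).card_subgroup_dvd_card)
  have hpos := Nat.card_pos (α := (P : Subgroup G))
  rcases j with - | j
  · have hbot := Subgroup.card_eq_one.1 (hj.trans (pow_zero 2))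
    have : Function.Injective (ConjClasses.mk (α := (P : Subgroup G))) := fun x y h => by
      obtain ⟨g, hg⟩ := isConj_iff.1 (ConjClasses.mk_eq_mk_iff_isConj.1 h)
      have : ⁅g, x⁆ = 1 := Subgroup.mem_bot.1 (hbot ▸ Subgroup.commutator_mem_commutator
        (Subgroup.mem_top g) (Subgroup.mem_top x))
      rw [commutatorElement_def, hg, mul_inv_eq_one] at this
      exact this.symm
    have := Nat.card_le_card_of_injective _ this
    omega
  · have hj1 : Nat.card (commutator (P : Subgroup G)) = 2 := by
      rcases j with - | j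
      · exact hj
      · have : 4 ≤ 2 ^ (j + 1 + 1) := le_trans (by norm_num) (Nat.pow_le_pow_right two_pos (show 2 ≤ j + 1 + 1 by omega))
        omega
    obtain ⟨z, hz, hzall⟩ := exists_two (commutator (P : Subgroup G)) hj1
    have hcc := two_mul_card_conjClasses (z := z) fun x y =>
      hzall _ (Subgroup.commutator_mem_commutator (Subgroup.mem_top x) (Subgroup.mem_top y))
    have := Nat.card_pos (α := Subgroup.center (P : Subgroup G))
    omega

end CfsgLib.GW
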