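import Cfsg.Agent.Lib.GW.TwoSubgroups
import Cfsg.Agent.Lib.Invol.ThreePoint
import Cfsg.Agent.Lib.Coprime.Core
import Cfsg.Agent.Lib.FT.NoMinSimple
import Cfsg.Agent.Lib.AutPSL.Outer
import Cfsg.Agent.Lib.Perm.Groups.AltAut
import Cfsg.Agent.S0514

/-!
# The reduction of the dihedral Sylow 2-subgroup theorem to the simple case
-/

set_option autoImplicit false
set_option linter.style.haveILetI false
set_option linter.unusedSectionVars false

namespace CfsgLib.GW

open CfsgLib.Invol

universe u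

/-- `PSL(2, F)` with `|F|` odd and greater than three, or the alternating group of degree seven. -/
def IsPSLTwoOrA7 (L : Type*) [Group L] : Prop :=
  (∃ (F : Type) (_ : Field F) (_ : Fintype F), Odd (Fintype.card F) ∧ 3 < Fintype.card F ∧
      Nonempty (L ≃* Matrix.ProjectiveSpecialLinearGroup (Fin 2) F)) ∨ Nonempty (L ≃* alternatingGroup (Fin 7))

theorem IsPSLTwoOrA7.congr {L M : Type*} [Group L] [Group M] (e : M ≃* L) (h : IsPSLTwoOrA7 L) :
    IsPSLTwoOrA7 M := by
  rcases h with ⟨F, i, j, h1, h2, ⟨f⟩⟩ | ⟨⟨f⟩⟩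
  · exact Or.inl ⟨F, i, j, h1, h2, ⟨e.trans f⟩⟩
  · exact Or.inr ⟨e.trans f⟩

/-- the simple case up to the order `N` -/
def GWBelow (N : ℕ) : Prop :=
  ∀ (L : Type u) [Group L] [Finite L], Nat.card L ≤ N → IsSimpleGroup L → DihTwo L → IsPSLTwoOrA7 L

theorem GWBelow.mono {M N : ℕ} (h : GWBelow.{u} N) (hMN : M ≤ N) : GWBelow.{u} M :=
  fun L _ _ hL => h L (hL.trans hMN)

variable {X : Type u} [Group X] [Finite X]

/-- the solvable types: `A4` and `S4`, through their normal four group -/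
def IsFourType (X : Type u) [Group X] : Prop :=
  ∃ V : Subgroup X, V.Normal ∧ IsKleinFour V ∧ Subgroup.centralizer (V : Set X) = V ∧
    (Nat.card X = 12 ∨ Nat.card X = 24)

/-- a normal odd subgroup is trivial -/
theorem eq_bot_of_odd (hO : Cfsg.oddCore X = ⊥) {N : Subgroup X} [N.Normal] (h : ¬ 2 ∣ Nat.card N) : N = ⊥ :=
  le_bot_iff.1 (hO ▸ CfsgLib.Coprime.le_pPrimeCore_of_not_dvd Nat.prime_two h)

/-- the centraliser of an involution has a normal odd subgroup of 2-power index -/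
theorem S0514' (hX : DihTwo X) {t : X} (ht : orderOf t = 2) :
    ∃ N : Subgroup (Subgroup.centralizer ({t} : Set X)), N.Normal ∧ Odd (Nat.card N) ∧ ∃ k : ℕ, N.index = 2 ^ k := by
  obtain ⟨S⟩ : Nonempty (Sylow 2 X) := inferInstance
  obtain ⟨n, hn, hS⟩ := hX S
  exact Cfsg.Agent.S0514.result S n hn hS t ht

/-- odd order elements lie in an odd normal subgroup of 2-power index -/
theorem mem_of_coprime_index {H : Type*} [Group H] [Finite H] (N : Subgroup H) [N.Normal] (_ : Odd (Nat.card N))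
    {k : ℕ} (hk : N.index = 2 ^ k) {x : H} (hx : ¬ 2 ∣ orderOf x) : x ∈ N := by
  rw [← QuotientGroup.eq_one_iff, ← QuotientGroup.mk'_apply]
  refine orderOf_eq_one_iff.1 (Nat.eq_one_of_dvd_coprimes
    (Nat.Coprime.pow_right k ((Nat.prime_two.coprime_iff_not_dvd.2 hx).symm)) (orderOf_map_dvd _ x) ?_)
  rw [← hk]
  exact orderOf_dvd_natCard _

/-- a normal 2-subgroup leads to the solvable types -/
theorem normal_two_case (hX : DihTwo X) (hO : Cfsg.oddCore X = ⊥) (T : Subgroup X) [T.Normal] (hT : IsPGroup 2 T)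
    (hT0 : T ≠ ⊥) : IsPGroup 2 X ∨ IsFourType X := by
  classical
  haveI : Fact (Nat.Prime 2) := ⟨Nat.prime_two⟩
  obtain ⟨S⟩ : Nonempty (Sylow 2 X) := inferInstance
  obtain ⟨n, hn, ⟨eS⟩⟩ := hX S
  -- central involutions of `T`
  haveI : Nontrivial T := (Subgroup.nontrivial_iff_ne_bot T).2 hT0
  haveI := hT.center_nontrivial
  obtain ⟨w, hw⟩ : ∃ w : Subgroup.center T, orderOf w = 2 := exists_prime_orderOf_dvd_card' 2 (by
    obtain ⟨k, hk⟩ := (hT.to_subgroup (Subgroup.center T)).exists_card_eq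
    rw [hk]
    refine dvd_pow_self 2 fun h0 => ?_
    rw [h0, pow_zero, Subgroup.card_eq_one] at hk
    exact (Subgroup.nontrivial_iff_ne_bot _).1 inferInstance hk)
  set z : X := ((w : T) : X) with hz
  have hzo : orderOf z = 2 := by rw [hz, Subgroup.orderOf_coe, Subgroup.orderOf_coe, hw]
  have hzc : ∀ x ∈ T, Commute z x := fun x hx =>
    congrArg Subtype.val (Subgroup.mem_center_iff.1 w.2 ⟨x, hx⟩).symm
  have hzT : z ∈ T := (w : T).2
  -- a subgroup centralising an involution has a normal 2-complement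
  have hcomp : ∀ H : Subgroup X, H.Normal → (∀ h ∈ H, h * z = z * h) → IsPGroup 2 H := by
    intro H hH hle
    obtain ⟨N, hNn, hNodd, k, hk⟩ := S0514' hX hzo
    have hHC : H ≤ Subgroup.centralizer ({z} : Set X) := fun h hh =>
      Subgroup.mem_centralizer_singleton_iff.2 (hle h hh)
    haveI := hNn
    haveI := hH
    haveI : (N.map (Subgroup.centralizer ({z} : Set X)).subtype ⊓ H).Normal := by
      refine ⟨fun x hx g => ?_⟩
      obtain ⟨⟨m, hm, rfl⟩, hxH⟩ := hx
      refine ⟨⟨⟨g * (m : X) * g⁻¹, hHC (hH.conj_mem _ hxH g)⟩, ?_, rfl⟩, hH.conj_mem _ hxH g⟩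
      refine mem_of_coprime_index N (hNodd) hk ?_
      rw [← Subgroup.orderOf_coe]
      show ¬ 2 ∣ orderOf (g * (m : X) * g⁻¹)
      rw [show g * (m : X) * g⁻¹ = MulAut.conj g (m : X) from rfl, MulEquiv.orderOf_eq, Subgroup.orderOf_coe]
      exact fun hd => Nat.not_even_iff_odd.2 hNodd (even_iff_two_dvd.2
        (hd.trans (Subgroup.orderOf_dvd_natCard N hm)))
    have hbot : N.map (Subgroup.centralizer ({z} : Set X)).subtype ⊓ H = ⊥ := by
      refine eq_bot_of_odd hO fun hd => Nat.not_even_iff_odd.2 hNodd (even_iff_two_dvd.2 (hd.trans ?_))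
      exact (Subgroup.card_dvd_of_le (inf_le_left : _ ≤ N.map (Subgroup.centralizer ({z} : Set X)).subtype)).trans
        (dvd_of_eq (Subgroup.card_map_of_injective (Subgroup.subtype_injective _)))
    intro x
    refine ⟨k, ?_⟩
    have h1 : (⟨(x : X), hHC x.2⟩ : Subgroup.centralizer ({z} : Set X)) ^ (2 ^ k) ∈ N := hk ▸ N.pow_index_mem _
    have h2 : (x : X) ^ (2 ^ k) ∈ N.map (Subgroup.centralizer ({z} : Set X)).subtype ⊓ H :=
      ⟨⟨_, h1, rfl⟩, pow_mem x.2 _⟩
    rw [hbot, Subgroup.mem_bot] at h2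
    exact Subtype.ext h2
  by_cases hcen : ∀ g : X, g * z = z * g
  · refine Or.inl ?_
    exact (hcomp ⊤ inferInstance fun h _ => hcen h).of_equiv Subgroup.topEquiv
  -- two central involutions of `T`: `T` is a four group
  push Not at hcen
  obtain ⟨g, hg⟩ := hcen
  set z' := g * z * g⁻¹ with hz'
  have hne : z ≠ z' := fun h => hg (by
    conv_rhs => rw [h, hz', inv_mul_cancel_right])
  have hz'o : orderOf z' = 2 := by
    rw [hz', show g * z * g⁻¹ = MulAut.conj g z from rfl, MulEquiv.orderOf_eq, hzo]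
  have hz'T : z' ∈ T := ‹T.Normal›.conj_mem z hzT g
  have hz'c : ∀ x ∈ T, Commute z' x := fun x hx => by
    have h1 := (hzc (g⁻¹ * x * g) (by simpa using ‹T.Normal›.conj_mem x hx g⁻¹)).map (MulAut.conj g).toMonoidHom
    change Commute (g * z * g⁻¹) (g * (g⁻¹ * x * g) * g⁻¹) at h1
    rwa [show g * (g⁻¹ * x * g) * g⁻¹ = x by group] at h1
  have hcc : Commute z z' := hzc z' hz'T
  have hTV : ∀ x ∈ T, x = 1 ∨ x = z ∨ x = z' ∨ x = z * z' := fun x hx => by
    refine hX.four hzo hz'o hne hcc (hzc x hx).symm (hz'c x hx).symm ?_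
    obtain ⟨j, hj⟩ := hT ⟨x, hx⟩
    obtain ⟨i, -, hi⟩ := (Nat.dvd_prime_pow Nat.prime_two).1 (orderOf_dvd_of_pow_eq_one hj)
    exact ⟨i, by rw [← hi, Subgroup.orderOf_mk]⟩
  have hTeq : T = Subgroup.closure ({z, z'} : Set X) := by
    refine le_antisymm (fun x hx => ?_) ((Subgroup.closure_le _).2 (by
      rintro x (rfl | rfl) <;> assumption))
    rcases hTV x hx with rfl | rfl | rfl | rfl
    · exact one_mem _
    · exact Subgroup.subset_closure (by simp)
    · exact Subgroup.subset_closure (by simp)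
    · exact mul_mem (Subgroup.subset_closure (by simp)) (Subgroup.subset_closure (by simp))
  haveI hK : IsKleinFour T := hTeq ▸ isKleinFour_closure_pair hzo hz'o hne hcc
  have hC : Subgroup.centralizer (T : Set X) = T := by
    haveI : (Subgroup.centralizer (T : Set X)).Normal := Subgroup.normal_centralizer
    have hp := hcomp (Subgroup.centralizer (T : Set X)) inferInstance fun h hh =>
      (Subgroup.mem_centralizer_iff.1 hh z hzT).symm
    refine le_antisymm (fun c hc => ?_) fun x hx => Subgroup.mem_centralizer_iff.2 fun y hy => ?_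
    · have h1 : Commute c z := (Subgroup.mem_centralizer_iff.1 hc z hzT).symm
      have h2 : Commute c z' := (Subgroup.mem_centralizer_iff.1 hc z' hz'T).symm
      obtain ⟨j, hj⟩ := hp ⟨c, hc⟩
      obtain ⟨i, -, hi⟩ := (Nat.dvd_prime_pow Nat.prime_two).1 (orderOf_dvd_of_pow_eq_one hj)
      rcases hX.four hzo hz'o hne hcc h1 h2 ⟨i, by rw [← hi, Subgroup.orderOf_mk]⟩ with rfl | rfl | rfl | rfl
      · exact one_mem T
      · exact hzT
      · exact hz'T
      · exact mul_mem hzT hz'T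
    · rcases hTV x hx with rfl | rfl | rfl | rfl
      · simp
      · exact (hzc y hy).eq.symm
      · exact (hz'c y hy).eq.symm
      · exact ((hzc y hy).mul_left (hz'c y hy)).eq.symm
  -- the quotient embeds in the symmetric group on the three involutions
  let D := {v : T // v ≠ 1}
  have hD : Nat.card D = 3 := by
    letI := Fintype.ofFinite T
    rw [Nat.card_eq_fintype_card, Fintype.card_subtype_compl, Fintype.card_subtype_eq, ← Nat.card_eq_fintype_card,
      hK.card_four]
  let ρ : X →* Equiv.Perm D :=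
    { toFun := fun x =>
        { toFun := fun v => ⟨(MulAut.conjNormal x : MulAut T) v.1, fun hh => v.2 ((MulEquiv.map_eq_one_iff _).1 hh)⟩
          invFun := fun v => ⟨(MulAut.conjNormal x : MulAut T).symm v.1, fun hh => v.2 ((MulEquiv.map_eq_one_iff _).1 hh)⟩
          left_inv := fun v => Subtype.ext (MulEquiv.symm_apply_apply _ _)
          right_inv := fun v => Subtype.ext (MulEquiv.apply_symm_apply _ _) }
      map_one' := Equiv.ext fun v => Subtype.ext (by simp)
      map_mul' := fun x y => Equiv.ext fun v => Subtype.ext (by simp) }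
  have hker : ρ.ker = T := by
    refine le_antisymm (fun x hx => ?_) fun x hx => ?_
    · rw [← hC, Subgroup.mem_centralizer_iff]
      intro v hv
      rcases eq_or_ne v 1 with rfl | hv1
      · simp
      · have h1 := congrArg (fun u : D => ((u.1 : T) : X))
          (DFunLike.congr_fun (MonoidHom.mem_ker.1 hx) (⟨⟨v, hv⟩, fun e => hv1 (congrArg Subtype.val e)⟩ : D))
        exact (mul_inv_eq_iff_eq_mul.1 (h1 : x * v * x⁻¹ = v)).symm
    · refine MonoidHom.mem_ker.2 (Equiv.ext fun v => Subtype.ext (Subtype.ext ?_))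
      show x * ((v.1 : T) : X) * x⁻¹ = ((v.1 : T) : X)
      rw [← Subgroup.mem_centralizer_iff.1 (hC.symm ▸ hx : x ∈ Subgroup.centralizer (T : Set X)) _ v.1.2,
        mul_inv_cancel_right]
  have hidx : T.index ∣ 6 := by
    rw [← hker, Subgroup.index_ker]
    refine (Subgroup.card_subgroup_dvd_card _).trans (dvd_of_eq ?_)
    letI := Fintype.ofFinite D
    rw [Nat.card_eq_fintype_card, Fintype.card_perm, ← Nat.card_eq_fintype_card, hD]
    rfl
  have hcard := T.card_mul_index
  rw [hK.card_four] at hcard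
  have h6 := Nat.le_of_dvd (by norm_num) hidx
  interval_cases hi : T.index
  · omega
  · exact Or.inl (IsPGroup.of_card (n := 2) (by omega))
  · exact Or.inl (IsPGroup.of_card (n := 3) (by omega))
  · exact Or.inr ⟨T, inferInstance, hK, hC, Or.inl (by omega)⟩
  · omega
  · omega
  · exact Or.inr ⟨T, inferInstance, hK, hC, Or.inr (by omega)⟩

/-- a nonabelian group with no nontrivial odd or 2-normal subgroup contains a four group -/
theorem exists_four_of_core {N : Type u} [Group N] [Finite N] (hO : Cfsg.oddCore N = ⊥)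
    (h2 : ¬ IsPGroup 2 N) (P : Sylow 2 N) : ¬ IsCyclic (P : Subgroup N) := by
  haveI : Fact (Nat.Prime 2) := ⟨Nat.prime_two⟩
  intro hP
  obtain ⟨Q, M, hMn, hc⟩ := CfsgLib.Invol.hasNormalPComplement_two_of_isCyclic P hP
  haveI := hMn
  have hM : M = ⊥ := eq_bot_of_odd hO fun hd => Q.not_dvd_index (hc.index_eq_card ▸ hd)
  refine h2 (Q.2.of_equiv ((MulEquiv.subgroupCongr ?_).trans Subgroup.topEquiv))
  rw [← Subgroup.index_eq_one, hc.index_eq_card, hM, Subgroup.card_bot]

/-- **the structure with trivial odd core** -/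
theorem structure_core (hX : DihTwo X) (hO : Cfsg.oddCore X = ⊥) (hgw : GWBelow.{u} (Nat.card X)) :
    IsPGroup 2 X ∨ IsFourType X ∨
      ∃ M : Subgroup X, M.Normal ∧ IsSimpleGroup M ∧ ¬ IsMulCommutative M ∧ DihTwo M ∧
        Subgroup.centralizer (M : Set X) = ⊥ ∧ IsPSLTwoOrA7 M := by
  classical
  haveI : Fact (Nat.Prime 2) := ⟨Nat.prime_two⟩
  by_cases hT : ∃ T : Subgroup X, T.Normal ∧ IsPGroup 2 T ∧ T ≠ ⊥
  · obtain ⟨T, hTn, hTp, hT0⟩ := hT
    haveI := hTn
    rcases normal_two_case hX hO T hTp hT0 with h | h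
    · exact Or.inl h
    · exact Or.inr (Or.inl h)
  push Not at hT
  by_cases hne : Nontrivial X
  swap
  · exact Or.inl (fun x => ⟨0, by haveI := not_nontrivial_iff_subsingleton.1 hne; exact Subsingleton.elim _ _⟩)
  refine Or.inr (Or.inr ?_)
  obtain ⟨M, ⟨hMn, hM0⟩, hMmin⟩ := Set.Finite.exists_minimal
    (Set.toFinite {M : Subgroup X | M.Normal ∧ M ≠ ⊥}) ⟨⊤, inferInstance, top_ne_bot⟩
  haveI := hMn
  haveI : Nontrivial M := (Subgroup.nontrivial_iff_ne_bot M).2 hM0
  have hOM : Cfsg.oddCore M = ⊥ := by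
    have h := CfsgLib.Coprime.pPrimeCore_map_subtype_eq Nat.prime_two M
    rw [show Cfsg.pPrimeCore 2 X = ⊥ from hO, bot_inf_eq] at h
    exact (Subgroup.map_eq_bot_iff_of_injective _ M.subtype_injective).1 h
  have hTM : ∀ T : Subgroup M, T.Normal → IsPGroup 2 T → T = ⊥ := by
    intro T hTn hTp
    haveI := hTn
    have h1 := CfsgLib.Coprime.pCore_map_subtype_eq 2 M
    have h2 : Cfsg.pCore 2 X = ⊥ := by
      by_contra hb
      exact hb (hT _ (CfsgLib.Coprime.pCore_normal' 2) (CfsgLib.Coprime.pCore_isPGroup 2))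
    rw [h2, bot_inf_eq] at h1
    exact le_bot_iff.1 (((Subgroup.map_eq_bot_iff_of_injective _ M.subtype_injective).1 h1) ▸
      CfsgLib.Coprime.le_pCore hTp)
  -- four groups in normal subgroups of `M`
  have hfour : ∀ N : Subgroup M, N.Normal → N ≠ ⊥ → ∃ a b : X, a ∈ N.map M.subtype ∧ b ∈ N.map M.subtype ∧
      orderOf a = 2 ∧ orderOf b = 2 ∧ a ≠ b ∧ Commute a b := by
    intro N hN hN0
    haveI := hN
    have hON : Cfsg.oddCore N = ⊥ := by
      have h := CfsgLib.Coprime.pPrimeCore_map_subtype_eq Nat.prime_two N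
      rw [show Cfsg.pPrimeCore 2 M = ⊥ from hOM, bot_inf_eq] at h
      exact (Subgroup.map_eq_bot_iff_of_injective _ N.subtype_injective).1 h
    obtain ⟨P⟩ : Nonempty (Sylow 2 N) := inferInstance
    have hP : ¬ IsCyclic (P : Subgroup N) := exists_four_of_core hON (fun hp => hN0 (hTM N hN hp)) P
    let ι : N →* X := M.subtype.comp N.subtype
    have hι : Function.Injective ι := M.subtype_injective.comp N.subtype_injective
    obtain ⟨-, a, b, ha, hb, hao, hbo, hab, hc⟩ := hX.noncyclic (P.2.map ι)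
      (fun hh => hP ((Subgroup.equivMapOfInjective _ ι hι).isCyclic.2 hh))
    have hle : (P : Subgroup N).map ι ≤ N.map M.subtype := by
      rintro _ ⟨x, -, rfl⟩
      exact ⟨(x : M), x.2, rfl⟩
    exact ⟨a, b, hle ha, hle hb, hao, hbo, hab, hc⟩
  have hsimple : IsSimpleGroup M := by
    refine ⟨fun N hN => ?_⟩
    by_contra! hN'
    obtain ⟨N₀, ⟨hN₀n, hN₀0, hN₀N⟩, hN₀min⟩ := Set.Finite.exists_minimal
      (Set.toFinite {L : Subgroup M | L.Normal ∧ L ≠ ⊥ ∧ L ≤ N}) ⟨N, hN, hN'.1, le_rfl⟩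
    haveI := hN₀n
    obtain ⟨a, b, ha, hb, hao, hbo, hab, hc⟩ := hfour N₀ hN₀n hN₀0
    set R := N₀.map M.subtype with hR
    have hRM : R ≤ M := Subgroup.map_subtype_le _
    have hne' : ¬ R.Normal := by
      intro hn
      have h1 : M ≤ R := hMmin ⟨hn, fun h => hN₀0 ((Subgroup.map_eq_bot_iff_of_injective _ M.subtype_injective).1 h)⟩ hRM
      refine hN'.2 (eq_top_iff.2 fun x _ => ?_)
      obtain ⟨y, hy, hyx⟩ := h1 x.2
      exact hN₀N (M.subtype_injective hyx ▸ hy)
    obtain ⟨r, hr, g, hgr⟩ : ∃ r ∈ R, ∃ g : X, g * r * g⁻¹ ∉ R := by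
      by_contra! h
      exact hne' ⟨fun r hr g => h r hr g⟩
    let N₁ : Subgroup M := N₀.map (MulAut.conjNormal g : MulAut M).toMonoidHom
    haveI hN₁n : N₁.Normal := hN₀n.map _ (MulEquiv.surjective _)
    have hdis : N₀ ⊓ N₁ = ⊥ := by
      by_contra hb0
      have h1 : N₀ ≤ N₀ ⊓ N₁ := hN₀min ⟨inferInstance, hb0, inf_le_left.trans hN₀N⟩ inf_le_left
      have h2 : N₀ = N₁ := Subgroup.eq_of_le_of_card_ge (h1.trans inf_le_right)
        (le_of_eq (Subgroup.card_map_of_injective (MulEquiv.injective _)))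
      obtain ⟨y, hy, rfl⟩ := hr
      have h3 : (MulAut.conjNormal g : MulAut M) y ∈ N₀ := h2.symm ▸ ⟨y, hy, rfl⟩
      exact hgr ⟨_, h3, MulAut.conjNormal_apply g y⟩
    have hcm : ∀ x ∈ N₀, ∀ y ∈ N₁, x * y = y * x := fun x hx y hy =>
      Subgroup.commute_of_normal_of_disjoint N₀ N₁ hN₀n hN₁n (disjoint_iff.2 hdis) x y hx hy
    obtain ⟨xa, hxa, hxae⟩ := ha
    obtain ⟨xb, hxb, hxbe⟩ := hb
    have hxb' : (MulAut.conjNormal g : MulAut M) xa ∈ N₁ := ⟨xa, hxa, rfl⟩
    set c := g * a * g⁻¹ with hc'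
    have hcN : ((MulAut.conjNormal g : MulAut M) xa : X) = c := by
      rw [MulAut.conjNormal_apply, hc', ← hxae]; rfl
    have hco : orderOf c = 2 := by rw [hc', show g * a * g⁻¹ = MulAut.conj g a from rfl, MulEquiv.orderOf_eq, hao]
    have hca : Commute c a := by
      rw [← hcN, ← hxae]; exact congrArg Subtype.val (hcm xa hxa _ hxb').symm
    have hcb : Commute c b := by
      rw [← hcN, ← hxbe]; exact congrArg Subtype.val (hcm xb hxb _ hxb').symm
    have hmem : (MulAut.conjNormal g : MulAut M) xa ∈ N₀ := by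
      have hinj : ∀ y : M, (y : X) = c → y = (MulAut.conjNormal g : MulAut M) xa := fun y hy =>
        Subtype.ext (hy.trans hcN.symm)
      rcases hX.four hao hbo hab hc hca hcb ⟨1, by rw [hco]; norm_num⟩ with e | e | e | e
      · exact absurd e (invol_ne_one hco)
      · exact hinj xa (hxae.trans e.symm) ▸ hxa
      · exact hinj xb (hxbe.trans e.symm) ▸ hxb
      · exact hinj (xa * xb) (by rw [Subgroup.coe_mul, e, ← hxae, ← hxbe]; rfl) ▸ mul_mem hxa hxb
    have h4 : (MulAut.conjNormal g : MulAut M) xa ∈ N₀ ⊓ N₁ := ⟨hmem, hxb'⟩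
    rw [hdis, Subgroup.mem_bot] at h4
    exact invol_ne_one hco (by rw [← hcN, h4]; rfl)
  obtain ⟨a, b, ha, hb, hao, hbo, hab, hc⟩ := hfour ⊤ inferInstance top_ne_bot
  rw [← MonoidHom.range_eq_map, Subgroup.range_subtype] at ha hb
  have hncomm : ¬ IsMulCommutative M := by
    intro hcM
    haveI := hsimple
    letI : CommGroup M := { (inferInstance : Group M) with mul_comm := fun x y => hcM.is_comm.comm x y }
    have hp := IsSimpleGroup.prime_card (α := M)
    have h2 : 2 ∣ Nat.card M := hao ▸ Subgroup.orderOf_dvd_natCard M ha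
    have h2' := (Nat.prime_dvd_prime_iff_eq Nat.prime_two hp).1 h2
    exact hM0 (hT M hMn (IsPGroup.of_card (n := 1) (by rw [← h2', pow_one])))
  have hMdih : DihTwo M := by
    intro P
    have hP : ¬ IsCyclic (P : Subgroup M) := exists_four_of_core hOM
      (fun hp => hM0 (hT M hMn hp)) P
    obtain ⟨⟨m, hm, ⟨e⟩⟩, -⟩ := hX.noncyclic (P.2.map M.subtype)
      (fun hh => hP ((Subgroup.equivMapOfInjective _ _ M.subtype_injective).isCyclic.2 hh))
    exact ⟨m, hm, ⟨(Subgroup.equivMapOfInjective _ _ M.subtype_injective).trans e⟩⟩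
  refine ⟨M, hMn, hsimple, hncomm, hMdih, ?_, hgw M M.card_le_card_group hsimple hMdih⟩
  set C := Subgroup.centralizer (M : Set X) with hC
  haveI : C.Normal := Subgroup.normal_centralizer
  by_contra hC0
  obtain ⟨c, hc2⟩ := exists_prime_orderOf_dvd_card' (G := C) 2 (by
    by_contra hd
    exact hC0 (eq_bot_of_odd hO hd))
  rw [← Subgroup.orderOf_coe] at hc2
  have hcM : (c : X) ∈ M := by
    rcases hX.four hao hbo hab hc (Subgroup.mem_centralizer_iff.1 c.2 a ha).symm
      (Subgroup.mem_centralizer_iff.1 c.2 b hb).symm ⟨1, by rw [hc2]; norm_num⟩ with e | e | e | e <;> rw [e]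
    · exact one_mem M
    · exact ha
    · exact hb
    · exact mul_mem ha hb
  haveI := hsimple
  have hz : (⟨c, hcM⟩ : M) ∈ Subgroup.center M := Subgroup.mem_center_iff.2 fun y =>
    Subtype.ext (Subgroup.mem_centralizer_iff.1 c.2 y y.2)
  rcases (Subgroup.center M).normal_of_characteristic.eq_bot_or_eq_top with h | h
  · rw [h, Subgroup.mem_bot] at hz
    exact invol_ne_one hc2 (congrArg Subtype.val hz)
  · exact hncomm ⟨⟨fun x y => (Subgroup.mem_center_iff.1 (h ▸ Subgroup.mem_top y) x)⟩⟩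

end CfsgLib.GW
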