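import Cfsg.Agent.Lib.Fusion.Transfer
import Cfsg.Agent.Lib.Invol.ZStar
import Cfsg.Agent.Lib.Char.Linear
import Cfsg.Agent.Lib.Char.Orthogonality
import Cfsg.Agent.Lib.GW.Reduction

/-!
# Groups with half as many classes of 2-elements as the order of a Sylow 2-subgroup: the focal subgroup

If `2 k = |P|` for the number `k` of classes of 2-elements and `O(G) = 1` then the focal subgroup of `P` lies in a
four group.
-/

set_option autoImplicit false
set_option linter.style.haveILetI false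
set_option linter.unusedSectionVars false

namespace CfsgLib.GW

open Cfsg
open scoped commutatorElement

universe u

/-- the classes of 2-elements -/
abbrev TwoClasses (G : Type u) [Group G] : Type u :=
  {c : ConjClasses G // ∀ x ∈ c.carrier, ∃ k : ℕ, orderOf x = 2 ^ k}

/-- `4 k(G) ≤ |G| + 3 [G : G']` -/
theorem four_mul_card_conjClasses_le (G : Type u) [Group G] [Finite G] :
    4 * Nat.card (ConjClasses G) ≤ Nat.card G + 3 * (commutator G).index := by
  classical
  haveI : Finite (IrrCharacter G) := by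
    refine Nat.finite_of_card_ne_zero ?_
    rw [CfsgLib.Char.card_irr_eq_card_conjClasses]
    exact Nat.card_pos.ne'
  haveI := Fintype.ofFinite (IrrCharacter G)
  have hd : ∀ χ : IrrCharacter G, ∃ n : ℕ, (χ : G → ℂ) 1 = n ∧ n ≠ 0 := by
    intro χ
    obtain ⟨n, hn⟩ : ∃ n : ℕ, (χ : G → ℂ) 1 = n := by
      obtain ⟨m, ρ, hρ, hχ⟩ := χ.2
      exact ⟨_, by rw [← hχ]; exact Representation.char_one ρ⟩
    exact ⟨n, hn, fun h => CfsgLib.Char.irr_one_ne_zero χ (by rw [hn, h, Nat.cast_zero])⟩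
  choose d hd hd0 using hd
  have hsq : ∑ χ : IrrCharacter G, d χ ^ 2 = Nat.card G := by
    have h := CfsgLib.Char.sum_degree_sq (G := G)
    simp only [hd] at h
    exact_mod_cast h
  have hlin : (Finset.univ.filter fun χ : IrrCharacter G => d χ = 1).card = (commutator G).index := by
    rw [← CfsgLib.Char.card_linear, Nat.card_eq_fintype_card, Fintype.card_subtype]
    refine congrArg _ (Finset.filter_congr fun χ _ => ?_)
    rw [hd]
    exact_mod_cast Iff.rfl
  have hle : ∑ χ : IrrCharacter G, 4 ≤ ∑ χ : IrrCharacter G, (d χ ^ 2 + if d χ = 1 then 3 else 0) := by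
    refine Finset.sum_le_sum fun χ _ => ?_
    split_ifs with h
    · rw [h]; norm_num
    · have : 2 ≤ d χ := by have := hd0 χ; omega
      calc 4 = 2 ^ 2 := rfl
        _ ≤ d χ ^ 2 + 0 := Nat.pow_le_pow_left this 2
  rw [Finset.sum_add_distrib, hsq, ← Finset.sum_filter, Finset.sum_const, Finset.sum_const, hlin,
    Finset.card_univ, ← Nat.card_eq_fintype_card, CfsgLib.Char.card_irr_eq_card_conjClasses] at hle
  simp only [smul_eq_mul] at hle
  omega

variable {G : Type u} [Group G] [Finite G] (P : Sylow 2 G)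

/-- the class of an element of the Sylow 2-subgroup -/
def toTwoClass (x : (P : Subgroup G)) : TwoClasses G :=
  ⟨ConjClasses.mk (x : G), fun y hy => by
    obtain ⟨k, hk⟩ := P.2.exists_card_eq
    obtain ⟨c, hc⟩ := isConj_iff.1 (ConjClasses.mem_carrier_iff_mk_eq.1 hy |> ConjClasses.mk_eq_mk_iff_isConj.1)
    obtain ⟨j, -, hj⟩ := (Nat.dvd_prime_pow Nat.prime_two).1 (hk ▸ Subgroup.orderOf_dvd_natCard _ x.2)
    refine ⟨j, ?_⟩
    rw [← hj, ← hc, show c * y * c⁻¹ = MulAut.conj c y from rfl, MulEquiv.orderOf_eq]⟩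

theorem toTwoClass_eq {x y : (P : Subgroup G)} :
    toTwoClass P x = toTwoClass P y ↔ ∃ g : G, g * (x : G) * g⁻¹ = y := by
  rw [toTwoClass, toTwoClass, Subtype.mk.injEq, ConjClasses.mk_eq_mk_iff_isConj, isConj_iff]

theorem toTwoClass_surjective : Function.Surjective (toTwoClass P) := by
  haveI : Fact (Nat.Prime 2) := ⟨Nat.prime_two⟩
  rintro ⟨c, hc⟩
  obtain ⟨x, rfl⟩ := ConjClasses.mk_surjective c
  obtain ⟨k, hk⟩ := hc x ConjClasses.mem_carrier_mk
  obtain ⟨S, hS⟩ := (IsPGroup.of_card (n := k) (by rw [Nat.card_zpowers, hk]) :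
    IsPGroup 2 (Subgroup.zpowers x)).exists_le_sylow
  obtain ⟨g, hg⟩ := MulAction.exists_smul_eq G S P
  have hmem : g * x * g⁻¹ ∈ (P : Subgroup G) := by
    rw [← hg, Sylow.coe_subgroup_smul]
    exact ⟨x, hS (Subgroup.mem_zpowers x), rfl⟩
  exact ⟨⟨_, hmem⟩, Subtype.ext (ConjClasses.mk_eq_mk_iff_isConj.2 (isConj_iff.2 ⟨g⁻¹, by group⟩))⟩

/-- a group with `O(G) = 1` and a normal 2-complement is a 2-group -/
theorem pGroup_of_odd_normal (hO : Cfsg.pPrimeCore 2 G = ⊥) (J : Subgroup G) [J.Normal] (hJ : ¬ 2 ∣ Nat.card J)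
    {k : ℕ} (hk : J.index = 2 ^ k) : IsPGroup 2 G := by
  haveI : Fact (Nat.Prime 2) := ⟨Nat.prime_two⟩
  refine IsPGroup.of_card (n := k) ?_
  rw [← J.card_mul_index, Subgroup.card_eq_one.2 (eq_bot_of_odd hO hJ), one_mul, hk]

/-- the elements moved by `a` within `W` -/
def fixMod (W : Subgroup G) [W.Normal] (a : G) : Subgroup G :=
  (Subgroup.centralizer (Subgroup.zpowers (QuotientGroup.mk' W a) : Set (G ⧸ W))).comap (QuotientGroup.mk' W)

theorem mem_fixMod {W : Subgroup G} [W.Normal] {a x : G} :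
    x ∈ fixMod W a ↔ a * x * a⁻¹ * x⁻¹ ∈ W := by
  rw [fixMod, Subgroup.mem_comap, ← QuotientGroup.eq_one_iff (N := W), ← QuotientGroup.mk'_apply, map_mul, map_mul, map_mul,
    map_inv, map_inv, mul_inv_eq_one, mul_inv_eq_iff_eq_mul, Subgroup.mem_centralizer_iff]
  refine ⟨fun h => h _ (Subgroup.mem_zpowers _), fun h y hy => ?_⟩
  obtain ⟨i, rfl⟩ := Subgroup.mem_zpowers_iff.1 hy
  exact (Commute.zpow_left (show Commute (QuotientGroup.mk' W a) (QuotientGroup.mk' W x) from h) i).eq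

/-- an element of odd order does not fix a subgroup of index two modulo `W` -/
theorem fixMod_index_ne_two {W : Subgroup G} [W.Normal] {a : G} (ha : a ∈ Subgroup.normalizer ((P : Subgroup G) : Set G))
    (hao : Odd (orderOf a)) : (fixMod W a).relIndex (P : Subgroup G) ≠ 2 := by
  intro h2
  set π := QuotientGroup.mk' W with hπ
  set C := (fixMod W a).subgroupOf (P : Subgroup G) with hC
  have hC2 : C.index = 2 := h2
  haveI := Subgroup.normal_of_index_eq_two hC2
  obtain ⟨x, hx⟩ : ∃ x : (P : Subgroup G), x ∉ C := by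
    by_contra! h
    rw [(eq_top_iff.2 fun v _ => h v : C = ⊤), Subgroup.index_top] at hC2
    omega
  set xa : (P : Subgroup G) := ⟨a * (x : G) * a⁻¹, (Subgroup.mem_normalizer_iff.1 ha x).1 x.2⟩
  have hxa : xa ∉ C := by
    intro h
    rw [hC, Subgroup.mem_subgroupOf, mem_fixMod] at h
    refine hx ?_
    rw [hC, Subgroup.mem_subgroupOf, mem_fixMod]
    have h1 := ‹W.Normal›.conj_mem _ h a⁻¹
    have e : a⁻¹ * (a * ↑xa * a⁻¹ * (↑xa)⁻¹) * a⁻¹⁻¹ = a * (x : G) * a⁻¹ * (x : G)⁻¹ := by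
      show a⁻¹ * (a * (a * (x : G) * a⁻¹) * a⁻¹ * (a * (x : G) * a⁻¹)⁻¹) * a⁻¹⁻¹ = _
      group
    rwa [e] at h1
  have hc : x⁻¹ * xa ∈ C := by
    rw [Subgroup.mul_mem_iff_of_index_two hC2, inv_mem_iff]
    exact iff_of_false hx hxa
  rw [hC, Subgroup.mem_subgroupOf, fixMod, Subgroup.mem_comap, Subgroup.mem_centralizer_iff] at hc
  have hcomm : Commute (π a) (π ((x⁻¹ * xa : (P : Subgroup G)) : G)) := hc _ (Subgroup.mem_zpowers _)
  set c : G := ((x⁻¹ * xa : (P : Subgroup G)) : G) with hcdef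
  have key : ∀ i : ℕ, π a ^ i * π (x : G) * (π a ^ i)⁻¹ = π (x : G) * π c ^ i := by
    intro i
    induction i with
    | zero => simp
    | succ i ih =>
      have hax : π a * π (x : G) * (π a)⁻¹ = π (x : G) * π c := by
        rw [← map_inv, ← map_mul, ← map_mul, ← map_mul, hcdef]
        show π (a * x * a⁻¹) = π (x * ((x : G)⁻¹ * (a * x * a⁻¹)))
        rw [mul_inv_cancel_left]
      calc π a ^ (i + 1) * π (x : G) * (π a ^ (i + 1))⁻¹
          = π a * (π a ^ i * π (x : G) * (π a ^ i)⁻¹) * (π a)⁻¹ := by rw [pow_succ']; group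
        _ = π a * π (x : G) * (π a)⁻¹ * (π a * π c ^ i * (π a)⁻¹) := by rw [ih]; group
        _ = π (x : G) * π c * π c ^ i := by rw [hax, (hcomm.pow_right i).eq, mul_inv_cancel_right]
        _ = π (x : G) * π c ^ (i + 1) := by rw [pow_succ', mul_assoc]
  have h1 := key (orderOf a)
  rw [← map_pow, pow_orderOf_eq_one, map_one, inv_one, one_mul, mul_one, eq_comm, mul_eq_left,
    ← orderOf_dvd_iff_pow_eq_one] at h1
  obtain ⟨k, hk⟩ := P.2.exists_card_eq
  have hd : orderOf (π c) ∣ 2 ^ k :=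
    (orderOf_map_dvd π c).trans (hk ▸ Subgroup.orderOf_dvd_natCard _ (x⁻¹ * xa : (P : Subgroup G)).2)
  have hc1 : π c = 1 := orderOf_eq_one_iff.1 (Nat.eq_one_of_dvd_coprimes
    (Nat.Coprime.pow_left k (Nat.prime_two.coprime_iff_not_dvd.2 fun h => Nat.not_even_iff_odd.2 hao (even_iff_two_dvd.2 h)))
    hd h1)
  refine hx ?_
  rw [hC, Subgroup.mem_subgroupOf, mem_fixMod]
  rw [hπ, QuotientGroup.mk'_apply, QuotientGroup.eq_one_iff, hcdef] at hc1
  have h3 := ‹W.Normal›.conj_mem _ hc1 (x : G)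
  rwa [show (x : G) * ((x⁻¹ * xa : (P : Subgroup G)) : G) * (x : G)⁻¹ = a * (x : G) * a⁻¹ * (x : G)⁻¹ by
    show (x : G) * ((x : G)⁻¹ * (a * x * a⁻¹)) * (x : G)⁻¹ = _
    group] at h3

theorem exists_odd_mover {W : Subgroup G} [W.Normal]
    (hP : ∀ x ∈ (P : Subgroup G), ∀ y ∈ (P : Subgroup G), x * y * x⁻¹ * y⁻¹ ∈ W)
    (hb : ∃ b ∈ Subgroup.normalizer ((P : Subgroup G) : Set G), ¬ (P : Subgroup G) ≤ fixMod W b) :
    ∃ a ∈ Subgroup.normalizer ((P : Subgroup G) : Set G), Odd (orderOf a) ∧ ¬ (P : Subgroup G) ≤ fixMod W a := by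
  classical
  haveI : Fact (Nat.Prime 2) := ⟨Nat.prime_two⟩
  by_contra! h
  obtain ⟨b, hb, hbP⟩ := hb
  set π := QuotientGroup.mk' W
  set N := Subgroup.normalizer ((P : Subgroup G) : Set G)
  let A := (Subgroup.centralizer (((P : Subgroup G).map π : Subgroup (G ⧸ W)) : Set (G ⧸ W))).comap π
  have hA : ∀ y, y ∈ A ↔ (P : Subgroup G) ≤ fixMod W y := by
    intro y
    rw [Subgroup.mem_comap, Subgroup.mem_centralizer_iff]
    constructor
    · intro hy x hx
      rw [mem_fixMod, ← QuotientGroup.eq_one_iff (N := W), ← QuotientGroup.mk'_apply, map_mul, map_mul, map_mul, map_inv,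
        map_inv, mul_inv_eq_one, mul_inv_eq_iff_eq_mul]
      exact (hy _ (Subgroup.mem_map_of_mem π hx)).symm
    · rintro hy _ ⟨x, hx, rfl⟩
      have h1 := mem_fixMod.1 (hy hx)
      rw [← QuotientGroup.eq_one_iff (N := W), ← QuotientGroup.mk'_apply, map_mul, map_mul, map_mul, map_inv, map_inv,
        mul_inv_eq_one, mul_inv_eq_iff_eq_mul] at h1
      exact h1.symm
  have hPA : (P : Subgroup G) ≤ A := fun y hy => (hA y).2 fun x hx => mem_fixMod.2 (hP y hy x hx)
  obtain ⟨k, m, hm, hkm⟩ := Nat.exists_eq_two_pow_mul_odd (orderOf_pos b).ne'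
  have ho : orderOf (b ^ 2 ^ k) = m := by
    rw [orderOf_pow_of_dvd (by positivity) ⟨m, hkm⟩, hkm, Nat.mul_div_cancel_left _ (by positivity)]
  have hodd : b ^ 2 ^ k ∈ A := (hA _).2 (h _ (pow_mem hb _) (ho.symm ▸ hm))
  -- `b ^ m` is a 2-element of `N`, so it lies in `P`
  have htwo : b ^ m ∈ (P : Subgroup G) := by
    have hp : IsPGroup 2 (Subgroup.zpowers (b ^ m)) := IsPGroup.of_card (n := k) (by
      rw [Nat.card_zpowers, orderOf_pow_of_dvd hm.pos.ne' ⟨2 ^ k, by rw [hkm, mul_comm]⟩, hkm,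
        Nat.mul_div_cancel _ hm.pos])
    have hle : Subgroup.zpowers (b ^ m) ≤ N := Subgroup.zpowers_le.2 (pow_mem hb m)
    have hsup : IsPGroup 2 ↥(Subgroup.zpowers (b ^ m) ⊔ (P : Subgroup G)) := hp.to_sup_of_normal_right' P.2 hle
    exact (P.is_maximal' hsup le_sup_right) ▸ Subgroup.mem_sup_left (Subgroup.mem_zpowers _)
  have hcop : Nat.Coprime (2 ^ k) m :=
    Nat.Coprime.pow_left k (Nat.prime_two.coprime_iff_not_dvd.2 fun h => Nat.not_even_iff_odd.2 hm (even_iff_two_dvd.2 h))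
  have hbA : b ∈ A := by
    have hg : ((2 ^ k : ℕ) : ℤ) * Nat.gcdA (2 ^ k) m + (m : ℤ) * Nat.gcdB (2 ^ k) m = 1 := by
      rw [← Nat.gcd_eq_gcd_ab, hcop.gcd_eq_one, Nat.cast_one]
    rw [← zpow_one b, ← hg, zpow_add, zpow_mul, zpow_mul, zpow_natCast, zpow_natCast]
    exact mul_mem (zpow_mem hodd _) (zpow_mem (hPA htwo) _)
  exact hbP ((hA b).1 hbA)

end CfsgLib.GW
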