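import Cfsg.Agent.Lib.GW.QGroupQuot
import Cfsg.Agent.Lib.Invol.InvolCentralizer
import Cfsg.Agent.Lib.Invol.QuaternionSection

/-!
# Subgroups of 2-power index with quaternion Sylow 2-subgroups
-/

set_option autoImplicit false
set_option linter.style.haveILetI false
set_option linter.unusedSectionVars false

namespace CfsgLib.GW

open CfsgLib.Invol
open scoped MatrixGroups commutatorElement

universe u

/-- quaternion Sylow 2-subgroups -/
def QuatTwo (K : Type*) [Group K] [Finite K] : Prop :=
  ∀ P : Sylow 2 K, ∃ m : ℕ, 1 ≤ m ∧ Nonempty ((P : Subgroup K) ≃* QuaternionGroup (2 ^ m))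

variable {H : Type u} [Group H] [Finite H]

/-- `SL(2, q)` has no subgroup of index two for odd `q` -/
theorem sl2_no_index_two {F : Type*} [Field F] [Fintype F] (h2 : (2 : F) ≠ 0)
    (M : Subgroup (SL(2, F))) : M.index ≠ 2 := by
  intro hM
  haveI := Subgroup.normal_of_index_eq_two hM
  have hsq : ∀ x : SL(2, F), x * x ∈ M := fun x => Subgroup.mul_self_mem_of_index_two hM x
  have hu : ∀ t : F, CfsgLib.Lie.SL2Rel.Fam.upper t ∈ M := fun t => by
    have h := hsq (CfsgLib.Lie.SL2Rel.Fam.upper (t / 2))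
    rwa [← CfsgLib.Lie.SLUniv.upper_add, show t / 2 + t / 2 = t by field_simp; ring] at h
  have hl : ∀ t : F, CfsgLib.Lie.SL2Rel.Fam.lower t ∈ M := fun t => by
    have e := CfsgLib.Lie.SLUniv.wel_upper (-t)
    rw [neg_neg] at e
    rw [← e]
    exact (inferInstance : M.Normal).conj_mem _ (hu _) _
  have h : QuotientGroup.mk' M = 1 :=
    CfsgLib.Lie.SLUniv.sl2_hom_ext (fun t => (QuotientGroup.eq_one_iff _).2 (hu t))
      fun t => (QuotientGroup.eq_one_iff _).2 (hl t)
  have htop : M = ⊤ := eq_top_iff.2 fun x _ => (QuotientGroup.eq_one_iff x).1 (DFunLike.congr_fun h x)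
  rw [htop, Subgroup.index_top] at hM
  omega

theorem equiv_no_index_two {A B : Type*} [Group A] [Group B] (e : A ≃* B) (h : ∀ M : Subgroup B, M.index ≠ 2)
    (M : Subgroup A) : M.index ≠ 2 := by
  rw [← M.index_map_equiv e]
  exact h _

theorem map_no_index_two {A B : Type*} [Group A] [Group B] (f : A →* B) (K : Subgroup A)
    (h : ∀ M : Subgroup K, M.index ≠ 2) (M : Subgroup (K.map f)) : M.index ≠ 2 := by
  rw [← M.index_comap_of_surjective (f.subgroupMap_surjective K)]
  exact h _

/-- a subgroup without subgroups of index two lies in every normal subgroup of 2-power index -/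
theorem le_of_two_pow_index (L K : Subgroup H) [K.Normal] {a : ℕ} (hK : K.index = 2 ^ a)
    (hL : ∀ M : Subgroup L, M.index ≠ 2) : L ≤ K := by
  have hd : (K.subgroupOf L).index ∣ K.index := Subgroup.relIndex_dvd_index_of_normal K L
  rw [hK] at hd
  obtain ⟨j, -, hj⟩ := (Nat.dvd_prime_pow Nat.prime_two).1 hd
  rcases j with - | j
  · exact Subgroup.relIndex_eq_one.1 hj
  · obtain ⟨M, hM⟩ := exists_index_two_of_two_pow_index (K.subgroupOf L) hj
    exact absurd hM (hL M)

/-- a 2-group of even order has a subgroup of index two -/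
theorem exists_index_two_of_two_group {K : Type*} [Group K] [Finite K] (h : IsPGroup 2 K) (h2 : 2 ∣ Nat.card K) :
    ∃ M : Subgroup K, M.index = 2 := by
  haveI : Fact (Nat.Prime 2) := ⟨Nat.prime_two⟩
  obtain ⟨k, hk⟩ := h.exists_card_eq
  rcases k with - | k
  · rw [hk] at h2; norm_num at h2
  · exact exists_index_two_of_two_pow_index (⊥ : Subgroup K) (by rw [Subgroup.index_bot, hk])

/-- a group of order six has a subgroup of index two -/
theorem exists_index_two_of_card_six {K : Type*} [Group K] [Finite K] (h : Nat.card K = 6) :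
    ∃ M : Subgroup K, M.index = 2 := by
  haveI : Fact (Nat.Prime 3) := ⟨Nat.prime_three⟩
  obtain ⟨t, ht⟩ := exists_prime_orderOf_dvd_card' (G := K) 3 (by rw [h]; norm_num)
  refine ⟨Subgroup.zpowers t, ?_⟩
  have h1 := (Subgroup.zpowers t).card_mul_index
  rw [Nat.card_zpowers, ht, h] at h1
  omega

/-- a normal subgroup of index six gives a subgroup of index two -/
theorem exists_index_two_of_index_six {K : Type*} [Group K] [Finite K] (N : Subgroup K) [N.Normal]
    (h : N.index = 6) : ∃ M : Subgroup K, M.index = 2 := by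
  obtain ⟨M, hM⟩ := exists_index_two_of_card_six (K := K ⧸ N) (by rw [← Subgroup.index_eq_card, h])
  exact ⟨M.comap (QuotientGroup.mk' N), by
    rw [Subgroup.index_comap_of_surjective M (QuotientGroup.mk'_surjective N), hM]⟩

theorem card_map_mul_inf_ker {A B : Type*} [Group A] [Group B] (f : A →* B) (K : Subgroup A) :
    Nat.card (K.map f) * Nat.card (K ⊓ f.ker : Subgroup A) = Nat.card K := by
  have h := (f.ker.subgroupOf K).card_mul_index
  rw [show (f.ker.subgroupOf K).index = f.ker.relIndex K from rfl, Subgroup.relIndex_ker,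
    ← Subgroup.inf_subgroupOf_right, Nat.card_congr (Subgroup.subgroupOfEquivOfLe inf_le_right).toEquiv] at h
  rw [inf_comm, mul_comm]
  exact h

theorem quaternion_center_sq {n : ℕ} (hn : 2 ≤ n) {g : QuaternionGroup n} (hg : ∀ w, g * w = w * g) :
    g * g = 1 := by
  haveI : NeZero n := ⟨by omega⟩
  cases g with
  | a i =>
    have h := hg (QuaternionGroup.xa 0)
    rw [QuaternionGroup.a_mul_xa, QuaternionGroup.xa_mul_a] at h
    injection h with h
    rw [QuaternionGroup.a_mul_a, ← QuaternionGroup.a_zero]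
    refine congrArg _ ?_
    linear_combination -h
  | xa i =>
    exfalso
    have h := hg (QuaternionGroup.a 1)
    rw [QuaternionGroup.a_mul_xa, QuaternionGroup.xa_mul_a] at h
    injection h with h
    have h2 : ((2 : ℕ) : ZMod (2 * n)) = 0 := by push_cast; linear_combination h
    rw [ZMod.natCast_eq_zero_iff] at h2
    have := Nat.le_of_dvd two_pos h2
    omega

theorem quaternion_not_comm {n : ℕ} (hn : 2 ≤ n) :
    ∃ g w : QuaternionGroup n, g * w ≠ w * g := by
  by_contra! h
  have h1 := quaternion_center_sq hn (h (QuaternionGroup.a 1))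
  rw [QuaternionGroup.a_mul_a, ← QuaternionGroup.a_zero] at h1
  injection h1 with h1
  have h2 : ((2 : ℕ) : ZMod (2 * n)) = 0 := by push_cast; linear_combination h1
  rw [ZMod.natCast_eq_zero_iff] at h2
  have := Nat.le_of_dvd two_pos h2
  omega

theorem quaternion_card (m : ℕ) : Nat.card (QuaternionGroup (2 ^ m)) = 4 * 2 ^ m := by
  haveI : NeZero (2 ^ m) := ⟨by positivity⟩
  rw [Nat.card_eq_fintype_card, QuaternionGroup.card]

variable {K : Subgroup H}

theorem quat_two_eight (hQ : QuatTwo K) : 8 ∣ Nat.card K := by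
  obtain ⟨P⟩ : Nonempty (Sylow 2 K) := inferInstance
  obtain ⟨m, hm, ⟨e⟩⟩ := hQ P
  refine Dvd.dvd.trans ?_ (Subgroup.card_subgroup_dvd_card (P : Subgroup K))
  rw [Nat.card_congr e.toEquiv, quaternion_card, show (8 : ℕ) = 4 * 2 from rfl]
  exact mul_dvd_mul_left 4 (dvd_pow_self 2 (by omega))

/-- two commuting involutions of a group with quaternion Sylow 2-subgroups coincide -/
theorem quat_invol_unique (hQ : QuatTwo K) {a b : H} (ha : a ∈ K) (hb : b ∈ K) (hao : orderOf a = 2)
    (hbo : orderOf b = 2) (hab : Commute a b) : a = b := by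
  haveI : Fact (Nat.Prime 2) := ⟨Nat.prime_two⟩
  by_contra hne
  set a' : K := ⟨a, ha⟩
  set b' : K := ⟨b, hb⟩
  have hao' : orderOf a' = 2 := by rw [Subgroup.orderOf_mk, hao]
  have hbo' : orderOf b' = 2 := by rw [Subgroup.orderOf_mk, hbo]
  have hne' : a' ≠ b' := fun h => hne (congrArg Subtype.val h)
  have hV : IsPGroup 2 (Subgroup.closure ({a', b'} : Set K)) := IsPGroup.of_card (n := 2) (by
    rw [(isKleinFour_closure_pair hao' hbo' hne' (Subtype.ext hab)).card_four]; norm_num)
  obtain ⟨P, hP⟩ := hV.exists_le_sylow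
  obtain ⟨m, -, ⟨e⟩⟩ := hQ P
  exact hne' (congrArg Subtype.val (e.injective (quaternion_involution_eq
    (x := e ⟨a', hP (Subgroup.subset_closure (by simp))⟩) (y := e ⟨b', hP (Subgroup.subset_closure (by simp))⟩)
    (by rw [MulEquiv.orderOf_eq, Subgroup.orderOf_mk, hao'])
    (by rw [MulEquiv.orderOf_eq, Subgroup.orderOf_mk, hbo']))))

/-- a central cyclic 2-subgroup meets such a subgroup in at most two elements -/
theorem quat_inf_le_two (hQ : QuatTwo K) (Z : Subgroup H) [IsCyclic Z] (hZc : Z ≤ Subgroup.center H) {k : ℕ}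
    (hZ : Nat.card Z = 2 ^ k) : Nat.card (K ⊓ Z : Subgroup H) ≤ 2 := by
  haveI : Fact (Nat.Prime 2) := ⟨Nat.prime_two⟩
  haveI : IsCyclic (K ⊓ Z : Subgroup H) :=
    isCyclic_of_injective (Subgroup.inclusion (inf_le_right : K ⊓ Z ≤ Z)) (Subgroup.inclusion_injective _)
  obtain ⟨g, hg⟩ := IsCyclic.exists_generator (α := (K ⊓ Z : Subgroup H))
  have hgp : IsPGroup 2 (Subgroup.zpowers (⟨(g : H), g.2.1⟩ : K)) := by
    obtain ⟨j, -, hj⟩ := (Nat.dvd_prime_pow Nat.prime_two).1
      (hZ ▸ Subgroup.orderOf_dvd_natCard Z g.2.2)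
    exact IsPGroup.of_card (n := j) (by rw [Nat.card_zpowers, Subgroup.orderOf_mk, hj])
  obtain ⟨P, hP⟩ := hgp.exists_le_sylow
  obtain ⟨m, hm, ⟨e⟩⟩ := hQ P
  set g' : (P : Subgroup K) := ⟨⟨(g : H), g.2.1⟩, hP (Subgroup.mem_zpowers _)⟩
  have hsq : (g : H) * (g : H) = 1 := by
    have h : e g' * e g' = 1 := quaternion_center_sq
      ((by norm_num : 2 ≤ 2 ^ 1).trans (Nat.pow_le_pow_right two_pos hm)) fun w => by
      obtain ⟨w, rfl⟩ := e.surjective w
      rw [← map_mul, ← map_mul]
      exact congrArg e (Subtype.ext (Subtype.ext (Subgroup.mem_center_iff.1 (hZc g.2.2) _).symm))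
    rw [← map_mul, MulEquiv.map_eq_one_iff] at h
    exact congrArg (fun v : (P : Subgroup K) => ((v : K) : H)) h
  have hz : Nat.card (K ⊓ Z : Subgroup H) = orderOf g := (orderOf_eq_card_of_forall_mem_zpowers hg).symm
  rw [hz]
  exact Nat.le_of_dvd two_pos (orderOf_dvd_of_pow_eq_one (Subtype.ext (by rw [sq]; exact hsq)))

/-- commutators fall into a normal subgroup whose quotient is central-by-cyclic -/
theorem commutator_le_of_index_le_two {B : Type*} [Group B] [Finite B] (f : H →* B) (hf : Function.Surjective f)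
    (hc : f.ker ≤ Subgroup.center H) (K : Subgroup H) [K.Normal] [(K.map f).Normal] (hi : (K.map f).index ≤ 2) :
    commutator H ≤ K := by
  haveI : IsCyclic (B ⧸ K.map f) := by
    rw [Subgroup.index_eq_card] at hi
    rcases (show Nat.card (B ⧸ K.map f) = 1 ∨ Nat.card (B ⧸ K.map f) = 2 by
      have := Nat.card_pos (α := B ⧸ K.map f); omega) with h | h
    · haveI : Subsingleton (B ⧸ K.map f) := (Nat.card_eq_one_iff_unique.1 h).1
      infer_instance
    · exact isCyclic_of_prime_card (p := 2) (hp := ⟨Nat.prime_two⟩) h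
  let g : H ⧸ K →* B ⧸ K.map f := QuotientGroup.map K (K.map f) f (Subgroup.le_comap_map f K)
  have hg : g.ker ≤ Subgroup.center (H ⧸ K) := by
    intro x hx
    obtain ⟨x, rfl⟩ := QuotientGroup.mk'_surjective K x
    rw [MonoidHom.mem_ker, QuotientGroup.mk'_apply, QuotientGroup.map_mk, QuotientGroup.eq_one_iff] at hx
    obtain ⟨k, hk, hkx⟩ := hx
    have hz : k⁻¹ * x ∈ f.ker := by rw [MonoidHom.mem_ker, map_mul, map_inv, hkx, inv_mul_cancel]
    refine Subgroup.mem_center_iff.2 fun y => ?_
    obtain ⟨y, rfl⟩ := QuotientGroup.mk'_surjective K y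
    have hx' : QuotientGroup.mk' K x = QuotientGroup.mk' K (k⁻¹ * x) := by
      rw [map_mul, map_inv, show QuotientGroup.mk' K k = 1 from (QuotientGroup.eq_one_iff k).2 hk, inv_one, one_mul]
    rw [hx', ← map_mul, ← map_mul, Subgroup.mem_center_iff.1 (hc hz) y]
  refine Subgroup.commutator_le.2 fun a _ b _ => ?_
  rw [← QuotientGroup.eq_one_iff, ← QuotientGroup.mk'_apply, map_commutatorElement,
    commutatorElement_eq_one_iff_mul_comm]
  exact commutative_of_cyclic_center_quotient g hg _ _

end CfsgLib.GW
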