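import Cfsg.Agent.Lib.GW.HalfClassCases
import Cfsg.Agent.Lib.GW.Perfect
import Cfsg.Agent.Lib.GW.QGroupBase
import Cfsg.Agent.Lib.Perm.Groups.AltAut
import Cfsg.Agent.Lib.Classical.SL2Sylow

/-!
# Groups with half as many classes of 2-elements as the order of a Sylow 2-subgroup (S3896), given the dihedral
theorem
-/

set_option autoImplicit false
set_option linter.style.haveILetI false
set_option linter.unusedSectionVars false

namespace CfsgLib.GW

open Cfsg
open scoped commutatorElement

universe u

/-- a group of order twelve with a self-centralising normal four group is `A4` -/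
theorem equiv_alt_four {X : Type*} [Group X] [Finite X] (V : Subgroup X) [V.Normal] (hV : IsKleinFour V)
    (hC : Subgroup.centralizer (V : Set X) = V) (h : Nat.card X = 12) :
    Nonempty (X ≃* alternatingGroup (Fin 4)) := by
  classical
  haveI : Fact (Nat.Prime 3) := ⟨Nat.prime_three⟩
  obtain ⟨t, ht⟩ := exists_prime_orderOf_dvd_card' (G := X) 3 (by rw [h]; norm_num)
  set T := Subgroup.zpowers t with hT
  have hT3 : Nat.card T = 3 := by rw [hT, Nat.card_zpowers, ht]
  have hcore : T.normalCore = ⊥ := by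
    by_contra hb
    have hd := Subgroup.card_dvd_of_le T.normalCore_le
    rw [hT3, Nat.dvd_prime Nat.prime_three] at hd
    rcases hd with hd | hd
    · exact hb (Subgroup.card_eq_one.1 hd)
    · have heq : T.normalCore = T := Subgroup.eq_of_le_of_card_ge T.normalCore_le (by rw [hd, hT3])
      haveI : T.Normal := heq ▸ T.normalCore_normal
      have hdis : Disjoint T V := by
        rw [disjoint_iff]
        refine Subgroup.card_eq_one.1 (Nat.eq_one_of_dvd_coprimes (show Nat.Coprime 3 4 by norm_num) ?_ ?_)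
        · exact hT3 ▸ Subgroup.card_dvd_of_le inf_le_left
        · exact hV.card_four ▸ Subgroup.card_dvd_of_le inf_le_right
      have htV : t ∈ V := by
        rw [← hC]
        exact Subgroup.mem_centralizer_iff.2 fun v hv =>
          (Subgroup.commute_of_normal_of_disjoint T V inferInstance inferInstance hdis t v
            (Subgroup.mem_zpowers t) hv).eq.symm
      have := Subgroup.orderOf_dvd_natCard V htV
      rw [ht, hV.card_four] at this
      norm_num at this
  have hidx : Nat.card (X ⧸ T) = 4 := by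
    have := T.card_mul_index
    rw [hT3, h, Subgroup.index_eq_card] at this
    omega
  let E : X ⧸ T ≃ Fin 4 := Finite.equivFinOfCardEq hidx
  let f : X →* Equiv.Perm (Fin 4) := E.permCongrHom.toMonoidHom.comp (MulAction.toPermHom X (X ⧸ T))
  have hf : Function.Injective f := by
    refine E.permCongrHom.injective.comp ((MonoidHom.ker_eq_bot_iff _).1 ?_)
    rw [← Subgroup.normalCore_eq_ker, hcore]
  have hr : Nat.card f.range = 12 := by rw [Nat.card_congr (MonoidHom.ofInjective hf).toEquiv.symm, h]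
  have h2 : f.range.index = 2 := by
    have := f.range.card_mul_index
    rw [hr, Nat.card_perm, Nat.card_fin, show Nat.factorial 4 = 24 from rfl] at this
    omega
  exact ⟨(MonoidHom.ofInjective hf).trans (MulEquiv.subgroupCongr (Equiv.Perm.eq_alternatingGroup_of_index_eq_two h2))⟩

variable {G : Type u} [Group G] [Finite G] (P : Sylow 2 G)

/-- the normal subgroup with a four group as Sylow 2-subgroup -/
theorem half_class_residual (hO : Cfsg.pPrimeCore 2 G = ⊥)
    (hk : 2 * Nat.card (TwoClasses G) = Nat.card (P : Subgroup G)) :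
    ∃ N : Subgroup G, N.Normal ∧ commutator G ≤ N ∧ ¬ IsPGroup 2 N ∧ Cfsg.oddCore N = ⊥ ∧
      DihTwo N ∧ (4 ∣ Nat.card N ∧ ¬ 8 ∣ Nat.card N) := by
  classical
  haveI : Fact (Nat.Prime 2) := ⟨Nat.prime_two⟩
  obtain ⟨V, hV4, hle⟩ : ∃ V : Subgroup G, Nat.card V ≤ 4 ∧ (P : Subgroup G).focalSubgroup ≤ V := by
    by_cases h : ∀ x y : (P : Subgroup G), x * y = y * x
    · exact half_focal_comm P hO hk h
    · exact half_focal_noncomm P hO hk h
  have hcop := CfsgLib.Fusion.coprime_card_focalQuotient P
  set S := (P : Subgroup G) with hS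
  set N := S.transferFocal.ker with hN
  set F := S.focalSubgroup with hF
  have hinf : N ⊓ S = F := CfsgLib.Fusion.ker_transferFocal_inf hcop
  have hsup : N ⊔ S = ⊤ := CfsgLib.Fusion.ker_transferFocal_sup hcop
  have hcomm : commutator G ≤ N := Subgroup.commutator_le.2 fun a _ b _ => by
    rw [hN, MonoidHom.mem_ker, map_commutatorElement]
    exact commutatorElement_eq_one_iff_commute.2 (IsMulCommutative.is_comm.comm _ _)
  -- orders
  have hmul : Nat.card N = Nat.card F * S.index := by
    have h1 := card_map_mul_inf_ker (QuotientGroup.mk' N) S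
    have htop : S.map (QuotientGroup.mk' N) = ⊤ := by
      rw [← Subgroup.map_top_of_surjective _ (QuotientGroup.mk'_surjective N), ← hsup, Subgroup.map_sup,
        QuotientGroup.map_mk'_self, bot_sup_eq]
    rw [htop, Subgroup.card_top, QuotientGroup.ker_mk', inf_comm, hinf, ← Subgroup.index_eq_card] at h1
    have h2 : Nat.card N * N.index = Nat.card F * S.index * N.index := by
      rw [N.card_mul_index, ← S.card_mul_index, ← h1]; ring
    exact Nat.eq_of_mul_eq_mul_right (Nat.pos_of_ne_zero Subgroup.index_ne_zero_of_finite) h2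
  have hodd : ¬ 2 ∣ S.index := P.not_dvd_index
  obtain ⟨k, hkP⟩ := P.2.exists_card_eq
  obtain ⟨j, hjk, hj⟩ := (Nat.dvd_prime_pow Nat.prime_two).1
    (hkP ▸ Subgroup.card_dvd_of_le S.focalSubgroup_le : Nat.card F ∣ 2 ^ k)
  have hON : Cfsg.oddCore N = ⊥ := by
    have h := CfsgLib.Coprime.pPrimeCore_map_subtype_eq (p := 2) Nat.prime_two N
    rw [hO, bot_inf_eq] at h
    exact (Subgroup.map_eq_bot_iff_of_injective _ N.subtype_injective).1 h
  have hN2 : ¬ IsPGroup 2 N := by
    intro h
    obtain ⟨i, hi⟩ := h.exists_card_eq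
    have h1 := card_map_mul_inf_ker (QuotientGroup.mk' N) S
    have hidx : ∃ l, N.index = 2 ^ l := by
      have htop : S.map (QuotientGroup.mk' N) = ⊤ := by
        rw [← Subgroup.map_top_of_surjective _ (QuotientGroup.mk'_surjective N), ← hsup, Subgroup.map_sup,
          QuotientGroup.map_mk'_self, bot_sup_eq]
      rw [htop, Subgroup.card_top, ← Subgroup.index_eq_card] at h1
      obtain ⟨l, -, hl⟩ := (Nat.dvd_prime_pow Nat.prime_two).1 (hkP ▸ Dvd.intro _ h1 : N.index ∣ 2 ^ k)
      exact ⟨l, hl⟩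
    obtain ⟨l, hl⟩ := hidx
    exact half_not_pGroup P hk (IsPGroup.of_card (n := i + l) (by rw [← N.card_mul_index, hi, hl, pow_add]))
  have hFc : Nat.card (F.subgroupOf N) = 2 ^ j := by
    rw [Nat.card_congr (Subgroup.subgroupOfEquivOfLe (hinf ▸ inf_le_left)).toEquiv, hj]
  have hidxF : ¬ 2 ∣ (F.subgroupOf N).index := by
    have h := (F.subgroupOf N).card_mul_index
    rw [hFc, hmul, hj] at h
    rw [Nat.eq_of_mul_eq_mul_left (Nat.two_pow_pos j) h]
    exact hodd
  let Q : Sylow 2 N := IsPGroup.toSylow (IsPGroup.of_card hFc) hidxF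
  have hQ : Nat.card (Q : Subgroup N) = 2 ^ j := hFc
  have hncyc : ¬ IsCyclic (Q : Subgroup N) := exists_four_of_core hON hN2 Q
  have hj2 : j = 2 := by
    have hj3 : j ≤ 2 := by
      have h1 : Nat.card F ≤ 4 := (Nat.le_of_dvd Nat.card_pos (Subgroup.card_dvd_of_le hle)).trans hV4
      by_contra hlt
      have : 2 ^ 3 ≤ 2 ^ j := Nat.pow_le_pow_right two_pos (by omega)
      omega
    by_contra hne
    refine hncyc ?_
    rcases (show j = 0 ∨ j = 1 by omega) with rfl | rfl
    · haveI : Subsingleton (Q : Subgroup N) := (Nat.card_eq_one_iff_unique.1 hQ).1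
      infer_instance
    · exact isCyclic_of_prime_card (p := 2) hQ
  subst hj2
  haveI : Nontrivial (Q : Subgroup N) := Finite.one_lt_card_iff_nontrivial.1 (by rw [hQ]; norm_num)
  haveI : IsKleinFour (Q : Subgroup N) := by
    refine ⟨hQ, Monoid.exponent_eq_prime_iff Nat.prime_two |>.2 fun x hx => ?_⟩
    have hd : orderOf x ∣ 4 := (orderOf_dvd_natCard x).trans (by rw [hQ]; norm_num)
    obtain ⟨i, hi, hxi⟩ := (Nat.dvd_prime_pow Nat.prime_two).1 (show orderOf x ∣ 2 ^ 2 from hd)
    interval_cases i
    · exact absurd (orderOf_eq_one_iff.1 hxi) hx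
    · exact hxi
    · exact absurd (isCyclic_of_orderOf_eq_card x (by rw [hxi, hQ])) hncyc
  haveI : IsKleinFour (DihedralGroup 2) := inferInstance
  have hdi : DihTwo N := dihTwo_of_sylow Q le_rfl (IsKleinFour.nonempty_mulEquiv.some)
  refine ⟨N, MonoidHom.normal_ker _, hcomm, hN2, hON, hdi, ?_, fun h8 => ?_⟩
  · rw [hmul, hj]; exact dvd_mul_right _ _
  · rw [hmul, hj] at h8
    refine hodd (Nat.dvd_of_mul_dvd_mul_left (show 0 < 4 by norm_num) ?_)
    simpa using h8

theorem mod_eight_of_psl {F : Type*} [Field F] [Fintype F] (hodd : Odd (Fintype.card F))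
    (h8 : ¬ 8 ∣ Nat.card (Matrix.ProjectiveSpecialLinearGroup (Fin 2) F)) :
    Fintype.card F % 8 = 3 ∨ Fintype.card F % 8 = 5 := by
  obtain ⟨j, hj⟩ := hodd
  by_contra hmod
  refine h8 ?_
  have h3 := Subgroup.card_eq_card_quotient_mul_card_subgroup
    (Subgroup.center (Matrix.SpecialLinearGroup (Fin 2) F))
  rw [CfsgLib.Classical.card_center_sl (F := F) (n := 2) (by norm_num),
    Nat.gcd_eq_left (show 2 ∣ Fintype.card F - 1 by omega), CfsgLib.Classical.card_sl2] at h3
  refine Nat.dvd_of_mul_dvd_mul_right (show 0 < 2 by norm_num) ?_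
  show 16 ∣ Nat.card (Matrix.SpecialLinearGroup (Fin 2) F ⧸ Subgroup.center (Matrix.SpecialLinearGroup (Fin 2) F)) * 2
  rw [← h3]
  refine Dvd.dvd.mul_left ?_ _
  obtain ⟨e, he⟩ : ∃ e, j = 4 * e ∨ j = 4 * e + 3 := ⟨j / 4, by omega⟩
  rcases he with rfl | rfl
  · exact ⟨e * (4 * e + 1), by rw [hj, Nat.add_sub_cancel]; ring⟩
  · exact ⟨(4 * e + 3) * (e + 1), by rw [hj, Nat.add_sub_cancel]; ring⟩

/-- **S3896**, given the dihedral theorem -/
theorem half_class_structure (hO : Cfsg.pPrimeCore 2 G = ⊥)
    (hk : 2 * Nat.card (TwoClasses G) = Nat.card (P : Subgroup G)) (hgw : GWBelow.{u} (Nat.card G)) :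
    Nonempty (G ⧸ Subgroup.center G ≃* ↥(alternatingGroup (Fin 4))) ∨
    Nonempty (G ⧸ Subgroup.center G ≃* Equiv.Perm (Fin 4)) ∨
    ∃ S : Subgroup (G ⧸ Subgroup.center G), S.Normal ∧ IsSimpleGroup ↥S ∧ ¬ IsMulCommutative ↥S ∧
      Subgroup.centralizer (S : Set (G ⧸ Subgroup.center G)) = ⊥ ∧
      ∃ (F : Type) (_ : Field F) (_ : Fintype F), 3 < Fintype.card F ∧
        (Fintype.card F % 8 = 3 ∨ Fintype.card F % 8 = 5) ∧
        Nonempty (↥S ≃* Matrix.ProjectiveSpecialLinearGroup (Fin 2) F) := by
  classical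
  obtain ⟨N, hNn, hcomm, hN2, hON, hdi, h4, h8⟩ := half_class_residual P hO hk
  haveI := hNn
  -- a normal subgroup meeting `N` trivially is central
  have hcentral : ∀ D : Subgroup G, D.Normal → D ⊓ N = ⊥ → D ≤ Subgroup.center G := by
    intro D hD hDN d hd
    refine Subgroup.mem_center_iff.2 fun g => ?_
    have h1 : ⁅g, d⁆ ∈ D ⊓ N := ⟨D.mul_mem (hD.conj_mem d hd g) (D.inv_mem hd),
      hcomm (Subgroup.commutator_mem_commutator (Subgroup.mem_top g) (Subgroup.mem_top d))⟩
    rw [hDN, Subgroup.mem_bot] at h1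
    exact commutatorElement_eq_one_iff_mul_comm.1 h1
  rcases structure_core hdi hON (hgw.mono (Nat.card_le_card_of_injective _ N.subtype_injective)) with
    h | ⟨V, hVn, hV, hVC, hcard⟩ | ⟨M, hMn, hMs, hna, -, hMC, hM⟩
  · exact absurd h hN2
  · haveI := hVn
    have h12 : Nat.card N = 12 := hcard.resolve_right fun h => h8 (h ▸ by norm_num)
    obtain ⟨e⟩ := equiv_alt_four V hV hVC h12
    obtain ⟨hi, hs⟩ := CfsgLib.Perm.Groups.AltAut.conjNormal_bijective (Ω := Fin 4) (by decide) (by decide)
    let E := MulEquiv.ofBijective _ ⟨hi, hs⟩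
    let ψ : G →* Equiv.Perm (Fin 4) := E.symm.toMonoidHom.comp (conjVia N e)
    have hker : ψ.ker = Subgroup.centralizer (N : Set G) := by
      ext x
      rw [MonoidHom.mem_ker, MonoidHom.comp_apply, Subgroup.mem_centralizer_iff]
      show E.symm (conjVia N e x) = 1 ↔ _
      rw [MulEquiv.map_eq_one_iff]
      constructor
      · intro hx v hv
        have h1 := DFunLike.congr_fun hx (e ⟨v, hv⟩)
        rw [conjVia_apply, MulEquiv.symm_apply_apply, MulAut.one_apply, EmbeddingLike.apply_eq_iff_eq] at h1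
        have h2 := congrArg Subtype.val h1
        rw [MulAut.conjNormal_apply] at h2
        exact (mul_inv_eq_iff_eq_mul.1 h2).symm
      · intro hx
        refine MulEquiv.ext fun v => ?_
        rw [conjVia_apply, MulAut.one_apply, ← MulEquiv.eq_symm_apply]
        refine Subtype.ext ?_
        rw [MulAut.conjNormal_apply]
        exact mul_inv_eq_iff_eq_mul.2 (hx _ (e.symm v).2).symm
    have hA : alternatingGroup (Fin 4) ≤ ψ.range := fun s hs' => by
      refine ⟨((e.symm ⟨s, hs'⟩ : N) : G), ?_⟩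
      show E.symm (conjVia N e _) = s
      rw [MulEquiv.symm_apply_eq, conjVia_mem, MulEquiv.apply_symm_apply]
      refine MulEquiv.ext fun t => Subtype.ext ?_
      show _ = ((MulAut.conjNormal s : MulAut (alternatingGroup (Fin 4))) t : Equiv.Perm (Fin 4))
      rw [MulAut.conjNormal_apply]
      rfl
    have hcen : Subgroup.center G = ψ.ker := by
      refine le_antisymm (hker ▸ Subgroup.center_le_centralizer _) (hcentral _ (MonoidHom.normal_ker _) ?_)
      rw [eq_bot_iff]
      rintro x ⟨hx, hxN⟩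
      rw [hker] at hx
      have h1 : e ⟨x, hxN⟩ ∈ Subgroup.center (alternatingGroup (Fin 4)) := Subgroup.mem_center_iff.2 fun s => by
        obtain ⟨v, rfl⟩ := e.surjective s
        rw [← map_mul, ← map_mul]
        exact congrArg e (Subtype.ext (Subgroup.mem_centralizer_iff.1 hx v v.2))
      rw [alternatingGroup.center_eq_bot (by simp), Subgroup.mem_bot, MulEquiv.map_eq_one_iff] at h1
      exact congrArg Subtype.val h1
    have e1 : G ⧸ Subgroup.center G ≃* ψ.range :=
      (QuotientGroup.quotientMulEquivOfEq hcen).trans (QuotientGroup.quotientKerEquivRange ψ)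
    by_cases htop : ψ.range = ⊤
    · exact Or.inr (Or.inl ⟨e1.trans ((MulEquiv.subgroupCongr htop).trans Subgroup.topEquiv)⟩)
    · refine Or.inl ⟨e1.trans (MulEquiv.subgroupCongr ?_)⟩
      refine le_antisymm (fun s hs' => ?_) hA
      by_contra hs2
      refine htop (eq_top_iff.2 fun v _ => ?_)
      have hidx : (alternatingGroup (Fin 4)).index = 2 := alternatingGroup.index_eq_two
      by_cases hv : v ∈ alternatingGroup (Fin 4)
      · exact hA hv
      · have h1 : v * s ∈ ψ.range := hA (by
          rw [Subgroup.mul_mem_iff_of_index_two hidx]; exact iff_of_false hv hs2)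
        exact (Subgroup.mul_mem_cancel_right _ hs').1 h1
  · haveI := hMn
    haveI := hMs
    obtain ⟨F, iF, jF, ho, hq, ⟨e⟩⟩ : ∃ (F : Type) (_ : Field F) (_ : Fintype F), Odd (Fintype.card F) ∧
        3 < Fintype.card F ∧ Nonempty (M ≃* Matrix.ProjectiveSpecialLinearGroup (Fin 2) F) := by
      refine hM.resolve_right fun ⟨eA⟩ => h8 (Dvd.dvd.trans ?_ (M.card_subgroup_dvd_card))
      rw [Nat.card_congr eA.toEquiv, nat_card_alternatingGroup, Nat.card_fin]
      decide
    have hmod := mod_eight_of_psl ho (fun h => h8 (by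
      rw [← Nat.card_congr e.toEquiv] at h
      exact h.trans M.card_subgroup_dvd_card))
    refine Or.inr (Or.inr ?_)
    -- `M` is normal in the whole group
    set M₀ := M.map N.subtype with hM₀
    have hM₀N : M₀ ≤ N := Subgroup.map_subtype_le _
    haveI hM₀n : M₀.Normal := by
      refine ⟨fun m hm g => ?_⟩
      obtain ⟨m, hm', rfl⟩ := hm
      let M' : Subgroup N := M.map (MulAut.conjNormal g : MulAut N).toMonoidHom
      haveI : M'.Normal := hMn.map _ (MulEquiv.surjective _)
      have hmem : MulAut.conjNormal g m ∈ M' := ⟨m, hm', rfl⟩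
      have hle : M' ≤ M := by
        rcases (inferInstance : (M'.subgroupOf M).Normal).eq_bot_or_eq_top with h | h
        · exfalso
          have hbot : M' = ⊥ := le_bot_iff.1 (hMC ▸ fun x hx => Subgroup.mem_centralizer_iff.2 fun v hv =>
            (Subgroup.commute_of_normal_of_disjoint M' M inferInstance inferInstance
              (Subgroup.subgroupOf_eq_bot.1 h) x v hx hv).eq.symm)
          haveI : Nontrivial M := IsSimpleGroup.toNontrivial
          exact (Subgroup.nontrivial_iff_ne_bot M).1 inferInstance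
            ((Subgroup.map_eq_bot_iff_of_injective _ (MulEquiv.injective _)).1 hbot)
        · have hMM : M ≤ M' := Subgroup.subgroupOf_eq_top.1 h
          exact (Subgroup.eq_of_le_of_card_ge hMM (by
            rw [Subgroup.card_map_of_injective (MulEquiv.injective _)])).ge
      exact ⟨MulAut.conjNormal g m, hle hmem, MulAut.conjNormal_apply g m⟩
    set D := Subgroup.centralizer (M₀ : Set G) with hD
    have hDN : D ⊓ N = ⊥ := by
      rw [eq_bot_iff]
      rintro x ⟨hx, hxN⟩
      have h1 : (⟨x, hxN⟩ : N) ∈ Subgroup.centralizer (M : Set N) := Subgroup.mem_centralizer_iff.2 fun v hv =>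
        Subtype.ext (Subgroup.mem_centralizer_iff.1 hx v ⟨v, hv, rfl⟩)
      rw [hMC, Subgroup.mem_bot] at h1
      exact congrArg Subtype.val h1
    have hDc : Subgroup.center G = D :=
      le_antisymm (Subgroup.center_le_centralizer _) (hcentral D inferInstance hDN)
    set π := QuotientGroup.mk' (Subgroup.center G)
    have hinj : ∀ x ∈ M₀, π x = 1 → x = 1 := fun x hx hx1 => by
      have : x ∈ D ⊓ N := ⟨hDc ▸ (QuotientGroup.eq_one_iff x).1 hx1, hM₀N hx⟩
      rwa [hDN, Subgroup.mem_bot] at this
    let e2 : M₀.map π ≃* M₀ := (MulEquiv.ofBijective (π.subgroupMap M₀)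
      ⟨(injective_iff_map_eq_one _).2 fun x hx => Subtype.ext (hinj x x.2 (congrArg Subtype.val hx)),
        π.subgroupMap_surjective M₀⟩).symm
    let e3 : M₀.map π ≃* M := e2.trans (Subgroup.equivMapOfInjective M _ N.subtype_injective).symm
    haveI : IsSimpleGroup (M₀.map π) := e3.isSimpleGroup
    refine ⟨M₀.map π, hM₀n.map π (QuotientGroup.mk'_surjective _), inferInstance, ?_, ?_,
      F, iF, jF, hq, hmod, ⟨e3.trans e⟩⟩
    · intro h
      exact hna ⟨⟨fun a b => e3.symm.injective (by rw [map_mul, map_mul]; exact h.is_comm.comm _ _)⟩⟩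
    · rw [eq_bot_iff]
      intro x hx
      obtain ⟨x, rfl⟩ := QuotientGroup.mk'_surjective (Subgroup.center G) x
      rw [Subgroup.mem_bot]
      refine (QuotientGroup.eq_one_iff x).2 (hDc.symm ▸ Subgroup.mem_centralizer_iff.2 fun v hv => ?_)
      have h1 := Subgroup.mem_centralizer_iff.1 hx (π v) (Subgroup.mem_map_of_mem π hv)
      have h2 : v * x * v⁻¹ * x⁻¹ = 1 := by
        refine hinj _ ?_ (by rw [map_mul, map_mul, map_mul, map_inv, map_inv, h1, mul_inv_cancel_right, mul_inv_cancel])
        rw [show v * x * v⁻¹ * x⁻¹ = v * (x * v⁻¹ * x⁻¹) by group]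
        exact mul_mem hv (hM₀n.conj_mem _ (inv_mem hv) x)
      exact mul_inv_eq_iff_eq_mul.1 (mul_inv_eq_one.1 h2)

end CfsgLib.GW
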