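import Cfsg.Agent.Lib.GW.KleinFormula
import Cfsg.Agent.Lib.GW.BlockGalois

/-!
# Two equal degrees in the principal block of a four-group Sylow two-subgroup

If a `p`-group `Q` fixes only `J` among the involutions then the signed degrees are `±1` modulo `p`;
one congruent to `-1` belongs to a character outside the principal `p`-block, which a suitable field
automorphism moves to another character of the principal `2`-block of the same degree.
-/

set_option autoImplicit false
set_option linter.unusedSectionVars false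
set_option linter.style.haveILetI false

open scoped ComplexConjugate

namespace CfsgLib.GW

open Cfsg CfsgLib.Block CfsgLib.Char CfsgLib.Char.SmallCofactor CfsgLib.Invol

universe u v

/-- Sums of invariant functions under a `p`-group, modulo `p`. -/
theorem exists_sum_eq_fixed_add {Q : Type u} [Group Q] [Finite Q] {p : ℕ} [Fact p.Prime]
    (hQ : IsPGroup p Q) {α : Type v} [MulAction Q α] [Fintype α] (f : α → ℂ)
    (hinv : ∀ (u : Q) (a : α), f (u • a) = f a) (hint : ∀ a, IsIntegral ℤ (f a))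
    [DecidablePred (· ∈ MulAction.fixedPoints Q α)] :
    ∃ r : ℂ, IsIntegral ℤ r ∧
      ∑ a, f a = (∑ a ∈ Finset.univ.filter (· ∈ MulAction.fixedPoints Q α), f a) + (p : ℂ) * r := by
  classical
  have key : ∀ s : Finset α, (∀ a ∈ s, a ∉ MulAction.fixedPoints Q α) →
      (∀ (u : Q) (a : α), a ∈ s → u • a ∈ s) →
      ∃ r : ℂ, IsIntegral ℤ r ∧ ∑ a ∈ s, f a = (p : ℂ) * r := by
    intro s
    induction s using Finset.strongInduction with
    | _ s ih =>
      intro hnf hst
      rcases s.eq_empty_or_nonempty with rfl | ⟨a, ha⟩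
      · exact ⟨0, isIntegral_zero, by simp⟩
      set o := s.filter (· ∈ MulAction.orbit Q a) with ho
      have haor : a ∈ o := Finset.mem_filter.2 ⟨ha, MulAction.mem_orbit_self a⟩
      have hcard : o.card = Nat.card (MulAction.orbit Q a) := by
        rw [← Set.ncard_coe_finset, Nat.card_coe_set_eq]
        congr 1
        ext b
        simp only [ho, Finset.coe_filter, Set.mem_setOf_eq]
        refine ⟨fun h => h.2, fun h => ⟨?_, h⟩⟩
        obtain ⟨u, rfl⟩ := h
        exact hst u a ha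
      obtain ⟨k, hk⟩ := hQ.card_orbit a
      have hk0 : k ≠ 0 := by
        rintro rfl
        rw [pow_zero] at hk
        refine hnf a ha fun u => ?_
        haveI := (Nat.card_eq_one_iff_unique.1 hk).1
        exact congrArg Subtype.val (Subsingleton.elim
          (⟨u • a, MulAction.mem_orbit a u⟩ : MulAction.orbit Q a) ⟨a, MulAction.mem_orbit_self a⟩)
      obtain ⟨r, hr, hsum⟩ := ih (s \ o) (Finset.sdiff_ssubset (Finset.filter_subset _ _) ⟨a, haor⟩)
        (fun b hb => hnf b (Finset.sdiff_subset hb))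
        (fun u b hb => by
          simp only [ho, Finset.mem_sdiff, Finset.mem_filter, not_and] at hb ⊢
          refine ⟨hst u b hb.1, fun _ h => hb.2 hb.1 ?_⟩
          have := MulAction.mem_orbit_of_mem_orbit (u⁻¹) h
          rwa [inv_smul_smul] at this)
      refine ⟨r + ((p ^ (k - 1) : ℕ) : ℂ) * f a, hr.add (IsIntegral.mul ?_ (hint a)), ?_⟩
      · simpa using (isIntegral_algebraMap (R := ℤ) (A := ℂ) (x := ((p ^ (k - 1) : ℕ) : ℤ)))
      rw [← Finset.sum_sdiff (Finset.filter_subset (· ∈ MulAction.orbit Q a) s), hsum,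
        Finset.sum_congr rfl (g := fun _ => f a) fun b hb => by
          obtain ⟨u, rfl⟩ := (Finset.mem_filter.1 hb).2
          exact hinv u a,
        Finset.sum_const, nsmul_eq_mul, ← ho, hcard, hk]
      rw [show p ^ k = p * p ^ (k - 1) by rw [← pow_succ']; congr 1; omega]
      push_cast
      ring
  obtain ⟨r, hr, hsum⟩ := key (Finset.univ.filter fun a => a ∉ MulAction.fixedPoints Q α)
    (fun a ha => (Finset.mem_filter.1 ha).2)
    (fun u a ha => Finset.mem_filter.2 ⟨Finset.mem_univ _, fun h => (Finset.mem_filter.1 ha).2 (by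
      have := h u⁻¹
      rw [inv_smul_smul] at this
      exact this.symm ▸ h)⟩)
  exact ⟨r, hr, by rw [← hsum, Finset.sum_filter_add_sum_filter_not]⟩

variable {G : Type u} [Group G] [Finite G]

/-- A `p`-group fixing only `J` among the conjugates of `J`: the class size is one modulo `p` and
the degree divides it, with square one modulo `p`. -/
theorem degree_congr {p : ℕ} [Fact p.Prime] {J : G} (hJ : orderOf J = 2) {Q : Subgroup G}
    (hQ : IsPGroup p Q) (hQJ : ∀ x ∈ Q, Commute x J)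
    (hQfix : ∀ u : G, IsConj J u → (∀ x ∈ Q, Commute x u) → u = J)
    (χ : IrrCharacter G) {e : ℤ} (he : e = 1 ∨ e = -1) (hval : (χ : G → ℂ) J = e) :
    (p : ℤ) ∣ ((Subgroup.centralizer ({J} : Set G)).index : ℤ) - 1 ∧
      charDegree (χ : G → ℂ) ∣ (Subgroup.centralizer ({J} : Set G)).index ∧
      (p : ℤ) ∣ (charDegree (χ : G → ℂ) : ℤ) ^ 2 - 1 := by
  classical
  letI := Fintype.ofFinite G
  set n := (Subgroup.centralizer ({J} : Set G)).index with hn
  set d := charDegree (χ : G → ℂ) with hd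
  have hd1 : (χ : G → ℂ) 1 = (d : ℂ) := (Block.charDegree_eq χ).1
  have hd0 : (d : ℂ) ≠ 0 := hd1 ▸ irr_one_ne_zero χ
  have hom : Char.omega (χ : G → ℂ) J = (n : ℂ) * e / d := by
    rw [Char.omega, card_isConj, hval, hd1]
  -- the class is congruent to one
  let φ : Q →* ConjAct G := ConjAct.toConjAct.toMonoidHom.comp Q.subtype
  letI a1 : MulAction Q G := MulAction.compHom G φ
  letI a2 : MulAction Q (G × G) := MulAction.compHom (G × G) φ
  have hs1 : ∀ (u : Q) (g : G), u • g = (u : G) * g * (u : G)⁻¹ := fun u g => rfl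
  have hs2 : ∀ (u : Q) (q : G × G),
      u • q = ((u : G) * q.1 * (u : G)⁻¹, (u : G) * q.2 * (u : G)⁻¹) := fun u q => rfl
  have hcj : ∀ (u g : G), IsConj J (u * g * u⁻¹) ↔ IsConj J g := fun u g =>
    ⟨fun h => h.trans (isConj_iff.2 ⟨u⁻¹, by group⟩), fun h => h.trans (isConj_iff.2 ⟨u, rfl⟩)⟩
  have hfix1 : ∀ g : G, g ∈ MulAction.fixedPoints Q G → IsConj J g → g = J := fun g hg hc =>
    hQfix g hc fun x hx => mul_inv_eq_iff_eq_mul.1 (hg ⟨x, hx⟩)
  obtain ⟨r, hr, hsum⟩ := exists_sum_eq_fixed_add (p := p) hQ (α := G)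
    (fun g => if IsConj J g then (1 : ℂ) else 0) (fun u g => by simp only [hs1, hcj])
    (fun g => by split_ifs <;> [exact isIntegral_one; exact isIntegral_zero])
  have hJfix : J ∈ MulAction.fixedPoints Q G := fun u => by
    rw [hs1, (hQJ u u.2).eq, mul_inv_cancel_right]
  rw [Finset.sum_eq_single J (fun g hg hne => by
      rw [if_neg fun hc => hne (hfix1 g (Finset.mem_filter.1 hg).2 hc)])
      (fun h => absurd (Finset.mem_filter.2 ⟨Finset.mem_univ _, hJfix⟩) h),
    if_pos (IsConj.refl J), Finset.sum_boole, ← Fintype.card_subtype, ← Nat.card_eq_fintype_card,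
    card_isConj, ← hn] at hsum
  obtain ⟨m, hm⟩ := ThreeTI.int_of_rat hr (b := (p : ℤ)) (a := (n : ℤ) - 1)
    (by exact_mod_cast (Fact.out : p.Prime).ne_zero) (by push_cast; linear_combination -hsum)
  have hn1 : (p : ℤ) ∣ (n : ℤ) - 1 := ⟨m, by
    rw [hm] at hsum
    have : ((n : ℤ) : ℂ) - 1 = ((p : ℤ) : ℂ) * m := by push_cast; linear_combination hsum
    exact_mod_cast this⟩
  -- the quotient
  obtain ⟨q, hq⟩ := ThreeTI.int_of_rat (Char.isIntegral_omega χ J) (b := (d : ℤ)) (a := (n : ℤ) * e)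
    (fun h => hd0 (by exact_mod_cast h)) (by rw [hom]; push_cast; field_simp)
  have hdq : (n : ℤ) = d * (q * e) := by
    have h : (n : ℂ) * e = (d : ℂ) * q := by rw [← hq, hom]; field_simp
    have h' : (n : ℤ) * e = d * q := by exact_mod_cast h
    rcases he with rfl | rfl <;> linarith
  have hdn : d ∣ n := Int.natCast_dvd_natCast.1 ⟨q * e, hdq⟩
  -- pairs
  obtain ⟨r', hr', hsum'⟩ := exists_sum_eq_fixed_add (p := p) hQ (α := G × G)
    (fun z => if IsConj J z.1 ∧ IsConj J z.2 then (χ : G → ℂ) (z.1 * z.2) else 0)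
    (fun u z => by
      simp only [hs2, hcj]
      rw [show (u : G) * z.1 * (u : G)⁻¹ * ((u : G) * z.2 * (u : G)⁻¹) =
        (u : G) * (z.1 * z.2) * (u : G)⁻¹ by group, isClassFunction_irr χ])
    (fun z => by split_ifs <;> [exact isCharacter_isIntegral (isCharacter_irr χ) _;
      exact isIntegral_zero])
  have hJ2 : J * J = 1 := by rw [← sq, ← hJ, pow_orderOf_eq_one]
  have hfixJ : (J, J) ∈ MulAction.fixedPoints Q (G × G) := fun u => by
    rw [hs2]; exact Prod.ext (hJfix u) (hJfix u)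
  rw [Finset.sum_eq_single (J, J) (fun z hz hne => by
      rw [if_neg]
      rintro ⟨h1, h2⟩
      have hz' := (Finset.mem_filter.1 hz).2
      exact hne (Prod.ext (hfix1 _ (fun u => congrArg Prod.fst (hz' u)) h1)
        (hfix1 _ (fun u => congrArg Prod.snd (hz' u)) h2)))
      (fun h => absurd (Finset.mem_filter.2 ⟨Finset.mem_univ _, hfixJ⟩) h),
    if_pos ⟨IsConj.refl J, IsConj.refl J⟩, hJ2, hd1] at hsum'
  have hmul := Char.omega_mul χ J J
  rw [← Finset.sum_div, eq_div_iff (irr_one_ne_zero χ)] at hmul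
  have hfib : ∑ z : G, (classConst J J z : ℂ) * (χ : G → ℂ) z =
      ∑ w : G × G, if IsConj J w.1 ∧ IsConj J w.2 then (χ : G → ℂ) (w.1 * w.2) else 0 := by
    rw [← Finset.sum_fiberwise Finset.univ (fun w : G × G => w.1 * w.2)]
    refine Finset.sum_congr rfl fun z _ => ?_
    rw [Finset.sum_congr rfl (g := fun w : G × G =>
      if IsConj J w.1 ∧ IsConj J w.2 then (χ : G → ℂ) z else 0) fun w hw => by
        rw [(Finset.mem_filter.1 hw).2], ← Finset.sum_filter, Finset.sum_const, nsmul_eq_mul,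
      classConst, Nat.card_eq_fintype_card, Fintype.card_subtype, Finset.filter_filter]
    congr 2
    congr 1
    ext w
    simp only [Finset.mem_filter, Finset.mem_univ, true_and]
    tauto
  rw [hfib, hsum', hq, hd1] at hmul
  obtain ⟨m', hm'⟩ := ThreeTI.int_of_rat hr' (b := (p : ℤ)) (a := q ^ 2 * d - d)
    (by exact_mod_cast (Fact.out : p.Prime).ne_zero) (by push_cast; linear_combination -hmul)
  have hq2 : (p : ℤ) ∣ q ^ 2 * d - d := ⟨m', by
    rw [hm'] at hmul
    have : (((q ^ 2 * d - d : ℤ)) : ℂ) = ((p : ℤ) : ℂ) * m' := by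
      push_cast; linear_combination hmul
    exact_mod_cast this⟩
  refine ⟨hn1, hdn, ?_⟩
  -- `d q² = d` and `d q e = 1`
  have h1 : (p : ℤ) ∣ (d : ℤ) * (q * e) - 1 := hdq ▸ hn1
  rcases he with rfl | rfl
  · have := dvd_sub (dvd_mul_of_dvd_right h1 ((d : ℤ) * q + 1)) (dvd_mul_of_dvd_right hq2 (d : ℤ))
    rwa [show ((d : ℤ) * q + 1) * ((d : ℤ) * (q * 1) - 1) - (d : ℤ) * (q ^ 2 * d - d) =
      (d : ℤ) ^ 2 - 1 by ring] at this
  · have := dvd_sub (dvd_mul_of_dvd_right h1 (1 - (d : ℤ) * q)) (dvd_mul_of_dvd_right hq2 (d : ℤ))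
    rwa [show (1 - (d : ℤ) * q) * ((d : ℤ) * (q * -1) - 1) - (d : ℤ) * (q ^ 2 * d - d) =
      (d : ℤ) ^ 2 - 1 by ring] at this

/-- A character congruent to minus one lies outside the principal `p`-block. -/
theorem not_mem_principal_of_congr {p : ℕ} {M : Ideal AlgInt} [M.IsMaximal] (hM : IsPModular p M)
    (h2 : p ≠ 2) {J : G} (χ : IrrCharacter G) {e : ℤ} (hval : (χ : G → ℂ) J = e)
    (hn1 : (p : ℤ) ∣ ((Subgroup.centralizer ({J} : Set G)).index : ℤ) - 1)
    (hdn : charDegree (χ : G → ℂ) ∣ (Subgroup.centralizer ({J} : Set G)).index)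
    (ha : (p : ℤ) ∣ e * (charDegree (χ : G → ℂ) : ℤ) + 1) (he : e = 1 ∨ e = -1) :
    χ ∉ principalBlock M G := by
  intro h
  obtain ⟨q, hq⟩ := hdn
  have hJ := h J
  simp only [centralChar] at hJ
  rw [hval, (Block.charDegree_eq χ).1, hq] at hJ
  have hd0 : (charDegree (χ : G → ℂ) : ℂ) ≠ 0 := by
    rw [← (Block.charDegree_eq χ).1]; exact irr_one_ne_zero χ
  have h' : MemLocalIdeal M (((charDegree (χ : G → ℂ) * q : ℕ) : ℤ) - q * e : ℤ) := by
    convert hJ using 1
    push_cast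
    field_simp
  rw [memLocalIdeal_intCast hM] at h'
  rw [hq] at hn1
  push_cast at h' hn1
  generalize hd : (charDegree (χ : G → ℂ) : ℤ) = d at h' hn1 ha
  generalize hq' : (q : ℤ) = q' at h' hn1
  have h3 : (p : ℤ) ∣ 2 := by
    rcases he with rfl | rfl
    · have := dvd_add (dvd_sub h' hn1) (dvd_sub (dvd_mul_of_dvd_right ha q') hn1)
      rwa [show d * q' - q' * 1 - (d * q' - 1) + (q' * (1 * d + 1) - (d * q' - 1)) = 2 by ring] at this
    · have := dvd_sub (dvd_sub h' hn1) (dvd_add (dvd_mul_of_dvd_right ha q') hn1)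
      rwa [show d * q' - q' * -1 - (d * q' - 1) - (q' * (-1 * d + 1) + (d * q' - 1)) = 2 by ring] at this
  exact h2 ((Nat.prime_dvd_prime_iff_eq hM.1 Nat.prime_two).1 (by exact_mod_cast h3))

/-- **Two equal signed degrees.** -/
theorem klein_two_equal [IsSimpleGroup G] (hG : ¬ IsCyclic G) (P : Sylow 2 G)
    (hK : IsKleinFour (P : Subgroup G))
    (hone : ∀ s t : G, orderOf s = 2 → orderOf t = 2 → IsConj s t)
    {J : G} (hJ : J ∈ (P : Subgroup G)) (hJ2 : orderOf J = 2)
    {p : ℕ} [Fact p.Prime] (h2 : p ≠ 2) {Q : Subgroup G} (hQ : IsPGroup p Q)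
    (hQJ : ∀ x ∈ Q, Commute x J)
    (hQfix : ∀ u : G, orderOf u = 2 → (∀ x ∈ Q, Commute x u) → u = J)
    {y : G} (hy : ∃ k : ℕ, orderOf y = p ^ k)
    (N : Subgroup (Subgroup.centralizer ({J} : Set G))) [N.Normal] (hN : Odd (Nat.card N))
    (hyN : ∃ c ∈ N, (c : G) = y)
    (τ : ℂ ≃+* ℂ) (hτ : ∀ z : ℂ, z ^ orderOf y = 1 → τ z = z)
    (hH : ∀ (M : Ideal AlgInt), IsPModular p M →
      ∀ η : IrrCharacter (Subgroup.centralizer ({y} : Set G)),
      η ∉ principalBlock M (Subgroup.centralizer ({y} : Set G)) →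
      Odd (charDegree (η : Subgroup.centralizer ({y} : Set G) → ℂ)) →
      (∃ c, τ ((η : Subgroup.centralizer ({y} : Set G) → ℂ) c) ≠ (η : _ → ℂ) c) ∧
        ∀ c, τ (τ ((η : Subgroup.centralizer ({y} : Set G) → ℂ) c)) = (η : _ → ℂ) c) :
    ∃ a : ℤ, (4 : ℤ) ∣ a - 1 ∧ (p : ℤ) ∣ a + 1 ∧
      (∃ χ : IrrCharacter G, χ ≠ Block.oneChar G ∧ (charDegree (χ : G → ℂ) : ℤ) = |a|) ∧
      a ∣ ((Subgroup.centralizer ({J} : Set G)).index : ℤ) ∧
      (p : ℤ) ∣ ((Subgroup.centralizer ({J} : Set G)).index : ℤ) - 1 ∧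
      (Nat.card G : ℤ) * (2 * (a + 1) ^ 2) *
          (Nat.card (Subgroup.centralizer ((P : Subgroup G) : Set G)) : ℤ) ^ 2 =
        8 * (Nat.card (Subgroup.centralizer ({J} : Set G)) : ℤ) ^ 3 * (a * (2 * a + 1)) := by
  classical
  letI := Fintype.ofFinite G
  haveI : Fact (Nat.Prime 2) := ⟨Nat.prime_two⟩
  haveI := Fintype.ofFinite (IrrCharacter G)
  obtain ⟨M, hM⟩ := CfsgLib.Block.exists_pModular Nat.prime_two
  haveI := hM.2.1
  obtain ⟨z₂, z₃, z₄, ε, hε, g2, g3, g23, g24, g34, hB, hval, hc2, hc3, hc4, -⟩ :=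
    Cfsg.Agent.S0948.result M hM P hK hone
  obtain ⟨v2, v3, v4⟩ := hval J hJ2
  have g4 : (z₄ : G → ℂ) ≠ (fun _ => 1) := fun e => by
    rw [e] at v4; norm_num at v4
  set ζ : Fin 3 → IrrCharacter G := ![z₂, z₃, z₄] with hζ
  set s : Fin 3 → ℤ := ![1, ε, -1] with hs
  have hsv : ∀ i, (ζ i : G → ℂ) J = s i := by
    intro i; fin_cases i <;> simp [hζ, hs, v2, v3, v4]
  have hs1 : ∀ i, s i = 1 ∨ s i = -1 := by
    intro i; fin_cases i <;> simp [hs, hε]
  have hone' : ∀ i, (ζ i : G → ℂ) ≠ fun _ => 1 := by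
    intro i; fin_cases i <;> simp [hζ] <;> assumption
  set a : Fin 3 → ℤ := fun i => s i * (charDegree (ζ i : G → ℂ) : ℤ) with haf
  have ha4 : ∀ i, (4 : ℤ) ∣ a i - 1 := by
    intro i
    fin_cases i <;> simp [haf, hζ, hs]
    · exact hc2
    · rcases hε with rfl | rfl <;> omega
    · omega
  have hks := exists_kleinSums hM P hK hone hJ hJ2 hB g2 g3 g4 g23 g24 g34
    (e₁ := 1) (e₂ := ε) (e₃ := -1) (by simpa using v2) v3 (by simpa using v4)
  have hsum : a 0 + a 1 + a 2 = -1 := by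
    have := hks.orth
    simp [haf, hζ, hs]
    omega
  have hdata := fun i => degree_congr hJ2 hQ hQJ (fun u hu h => hQfix u (by
    obtain ⟨c, rfl⟩ := isConj_iff.1 hu
    rw [← MulAut.conj_apply, MulEquiv.orderOf_eq, hJ2]) h) (ζ i) (hs1 i) (hsv i)
  have hp3 : 3 ≤ p := lt_of_le_of_ne (Fact.out : p.Prime).two_le (Ne.symm h2)
  have hpm : ∀ i, (p : ℤ) ∣ a i - 1 ∨ (p : ℤ) ∣ a i + 1 := by
    intro i
    refine (Nat.prime_iff_prime_int.1 (Fact.out : p.Prime)).dvd_or_dvd ?_
    have := (hdata i).2.2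
    rcases hs1 i with h | h <;> simp only [haf, h] <;> ring_nf <;> ring_nf at this <;> exact this
  obtain ⟨i, hi⟩ : ∃ i, (p : ℤ) ∣ a i + 1 := by
    by_contra hc
    simp only [not_exists] at hc
    have h := dvd_add (dvd_add ((hpm 0).resolve_right (hc 0)) ((hpm 1).resolve_right (hc 1)))
      ((hpm 2).resolve_right (hc 2))
    rw [show a 0 - 1 + (a 1 - 1) + (a 2 - 1) = -4 by omega, dvd_neg] at h
    have h4 : p ∣ 2 ^ 2 := by exact_mod_cast h
    exact h2 ((Nat.prime_dvd_prime_iff_eq (Fact.out : p.Prime) Nat.prime_two).1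
      ((Fact.out : p.Prime).dvd_of_dvd_pow h4))
  obtain ⟨Mp, hMp⟩ := CfsgLib.Block.exists_pModular (Fact.out : p.Prime)
  haveI := hMp.2.1
  have hnp := not_mem_principal_of_congr hMp h2 (ζ i) (hsv i) (hdata i).1 (hdata i).2.1 hi (hs1 i)
  -- the value at `y * J`
  have hζB : ∀ k, ζ k ∈ principalBlock M G := by
    intro k; rw [hB]; fin_cases k <;> simp [hζ]
  obtain ⟨c, hcN, hcy⟩ := hyN
  have hyJ : Commute y J := hcy ▸ Subgroup.mem_centralizer_singleton_iff.1 c.2
  letI := Fintype.ofFinite (Subgroup.centralizer ({J} : Set G))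
  haveI := Fintype.ofFinite (IrrCharacter (Subgroup.centralizer ({J} : Set G)))
  have hvy : (ζ i : G → ℂ) (y * J) = s i := by
    have hodd : Odd (orderOf c) := by
      have := Subgroup.orderOf_coe (H := N) ⟨c, hcN⟩
      rw [show orderOf c = orderOf (⟨c, hcN⟩ : N) from this]
      exact hN.of_dvd_nat (orderOf_dvd_natCard _)
    have h := irr_secElt_mul (p := 2) hM (x := J) ⟨1, by rw [hJ2, pow_one]⟩
      (fun t => Subgroup.mem_centralizer_singleton_iff) (hζB i) N
      (fun h => Nat.not_even_iff_odd.2 hN (even_iff_two_dvd.2 h)) (y := 1) (n := c) hcN (by simp)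
      (by rw [one_mul]; exact fun h => Nat.not_even_iff_odd.2 hodd (even_iff_two_dvd.2 h))
    rw [hyJ.eq, ← hsv i]
    simpa [hcy] using h
  have hne := galChar_ne_of_not_mem_principal hMp h2 hnp hy hJ2 hyJ
    (e := s i) (by rcases hs1 i with h | h <;> rw [h] <;> decide) hvy τ hτ (hH Mp hMp)
  -- it is another character of the block
  have hmem := galChar_mem_principalBlock hM τ (hζB i)
  rw [hB] at hmem
  obtain ⟨j, hj⟩ : ∃ j, galChar τ (ζ i) = ζ j := by
    rcases hmem with h | h | h | h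
    · exfalso
      refine hone' i (funext fun g => τ.injective ?_)
      rw [map_one]
      exact congrFun h g
    · exact ⟨0, h⟩
    · exact ⟨1, h⟩
    · exact ⟨2, h⟩
  have hij : j ≠ i := fun e => hne (e ▸ hj)
  have haij : a j = a i := by
    have hv : (s j : ℂ) = s i := by
      rw [← hsv j, ← hj, galChar_apply, hsv i, map_intCast]
    have hd : charDegree (ζ j : G → ℂ) = charDegree (ζ i : G → ℂ) := by
      rw [← hj, charDegree, galChar_one]; rfl
    have hv' : s j = s i := by exact_mod_cast hv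
    simp only [haf, hv', hd]
  refine ⟨a i, ha4 i, hi, ⟨ζ i, fun e => hone' i (by rw [e]; rfl), ?_⟩, ?_, (hdata i).1, ?_⟩
  · rcases hs1 i with h | h <;> simp [haf, h]
  · have h := (Int.natCast_dvd_natCast.2 (hdata i).2.1)
    rcases hs1 i with h' | h' <;> simpa [haf, h'] using h
  · have horder := hks.order
    rw [(Block.charDegree_eq z₂).1, (Block.charDegree_eq z₃).1, (Block.charDegree_eq z₄).1] at horder
    have hA : ∀ k, (a k : ℂ) ≠ 0 := fun k => by
      have := ha4 k
      exact_mod_cast (by omega : a k ≠ 0)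
    have hσ : (1 : ℂ) + 1 / (charDegree (z₂ : G → ℂ) : ℂ) + (ε : ℂ) / (charDegree (z₃ : G → ℂ) : ℂ) +
        (-1) / (charDegree (z₄ : G → ℂ) : ℂ) = 1 + 1 / (a 0 : ℂ) + 1 / (a 1 : ℂ) + 1 / (a 2 : ℂ) := by
      simp [haf, hζ, hs]
      rcases hε with rfl | rfl <;> simp [div_neg, neg_div]
    push_cast at horder
    rw [hσ] at horder
    have hS : (1 : ℂ) + 1 / (a 0 : ℂ) + 1 / (a 1 : ℂ) + 1 / (a 2 : ℂ) =
        2 * ((a i : ℂ) + 1) ^ 2 / ((a i : ℂ) * (2 * (a i : ℂ) + 1)) := by
      have h2a : (2 * (a i : ℂ) + 1) ≠ 0 := by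
        exact_mod_cast (by omega : 2 * a i + 1 ≠ 0)
      obtain ⟨k, hk⟩ : ∃ k, a k = -1 - 2 * a i ∧
          (1 : ℂ) + 1 / (a 0 : ℂ) + 1 / (a 1 : ℂ) + 1 / (a 2 : ℂ) =
            1 + 1 / (a i : ℂ) + 1 / (a i : ℂ) + 1 / (a k : ℂ) := by
        fin_cases i <;> fin_cases j <;> simp at hij haij ⊢
        · exact ⟨2, by omega, by rw [haij]⟩
        · exact ⟨1, by omega, by rw [haij]; ring⟩
        · exact ⟨2, by omega, by rw [haij]⟩
        · exact ⟨0, by omega, by rw [haij]; ring⟩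
        · exact ⟨1, by omega, by rw [haij]; ring⟩
        · exact ⟨0, by omega, by rw [haij]; ring⟩
      rw [hk.2, hk.1]
      push_cast
      rw [show (-1 : ℂ) - 2 * (a i : ℂ) = -(2 * (a i : ℂ) + 1) by ring]
      rw [div_neg, eq_div_iff (mul_ne_zero (hA i) h2a)]
      have e1 := one_div_mul_cancel (hA i)
      have e2 := one_div_mul_cancel h2a
      linear_combination (2 * (2 * (a i : ℂ) + 1)) * e1 - (a i : ℂ) * e2
    rw [hS] at horder
    have h2a : (2 * (a i : ℂ) + 1) ≠ 0 := by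
      exact_mod_cast (by omega : 2 * a i + 1 ≠ 0)
    have := hA i
    field_simp at horder
    have h := horder
    exact_mod_cast (by linear_combination h :
      ((Nat.card G : ℂ)) * (2 * ((a i : ℂ) + 1) ^ 2) *
          (Nat.card (Subgroup.centralizer ((P : Subgroup G) : Set G)) : ℂ) ^ 2 =
        8 * (Nat.card (Subgroup.centralizer ({J} : Set G)) : ℂ) ^ 3 * ((a i : ℂ) * (2 * (a i : ℂ) + 1)))

end CfsgLib.GW
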