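import Cfsg.Agent.Lib.GW.KleinHalvesSL
import Cfsg.Agent.Lib.Char.Product
import Cfsg.Agent.Lib.Block.Cyclic.PrincipalSq

/-!
# The odd degree characters of `Y × PSL(2, F)` outside the principal block

For a prime `p` dividing `q ^ 2 - 1` and an abelian `p`-group `Y` the characters of odd degree of `Y × PSL(2, q)`
outside the principal `p`-block are halves; a field automorphism fixing the roots of unity of `p`-power order
moves them in pairs.
-/

set_option autoImplicit false
set_option linter.unusedSectionVars false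
set_option linter.style.haveILetI false

open scoped ComplexConjugate

namespace CfsgLib.GW

open Cfsg CfsgLib.Char CfsgLib.Block CfsgLib.GW.KleinHalves

universe u v

variable {C : Type u} [Group C] [Fintype C] {Y : Type u} [Group Y] [Finite Y] {F : Type v} [Field F] [Fintype F]
  (e : C ≃* Y × Matrix.ProjectiveSpecialLinearGroup (Fin 2) F)

local notation "L" => Matrix.ProjectiveSpecialLinearGroup (Fin 2) F
local notation "proj" => QuotientGroup.mk' (Subgroup.center (Matrix.SpecialLinearGroup (Fin 2) F))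

/-- the restriction to the second factor -/
noncomputable def sndPart (η : C → ℂ) : L → ℂ := fun l => η (e.symm (1, l))

/-- an element `(y, l)` acts as a root of unity times `(1, l)` -/
theorem exists_scalar_fst (hYc : ∀ a b : Y, Commute a b) (η : IrrCharacter C) (c : C) :
    ∃ ω : ℂ, ω ^ Nat.card Y = 1 ∧ (η : C → ℂ) c = ω * sndPart e (η : C → ℂ) (e c).2 := by
  classical
  set z := e.symm ((e c).1, 1)
  have hzc : z ∈ Subgroup.center C := Subgroup.mem_center_iff.2 fun d => e.injective (by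
    rw [map_mul, map_mul, MulEquiv.apply_symm_apply]
    exact Prod.ext (hYc _ _) (by simp))
  have hzn : z ^ Nat.card Y = 1 := by
    rw [← map_pow, Prod.pow_mk, pow_card_eq_one', one_pow, Prod.mk_one_one, map_one]
  obtain ⟨ω, hω, hmul⟩ := Cyclic.irr_central_mul hzc hzn η
  refine ⟨ω, hω, ?_⟩
  rw [sndPart, ← hmul]
  refine congrArg (η : C → ℂ) (e.injective ?_)
  rw [map_mul, MulEquiv.apply_symm_apply, MulEquiv.apply_symm_apply]
  simp

/-- the second part is irreducible -/
theorem isIrr_sndPart (hYc : ∀ a b : Y, Commute a b) (η : IrrCharacter C) :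
    IsIrrCharacter L (sndPart e (η : C → ℂ)) := by
  classical
  letI := Fintype.ofFinite Y
  letI := Fintype.ofFinite L
  refine isIrr_of_isCharacter_norm_one
    (isCharacter_comp (isCharacter_irr η) (e.symm.toMonoidHom.comp (MonoidHom.inr Y L))) ?_
  have h := classInner_irr_self η
  rw [classInner] at h ⊢
  have hpt : ∀ x : Y × L, (η : C → ℂ) (e.symm x) * conj ((η : C → ℂ) (e.symm x)) =
      sndPart e (η : C → ℂ) x.2 * conj (sndPart e (η : C → ℂ) x.2) := by
    intro x
    obtain ⟨ω, hω, hv⟩ := exists_scalar_fst e hYc η (e.symm x)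
    rw [MulEquiv.apply_symm_apply] at hv
    have h1 : ω * conj ω = 1 := by
      rw [Complex.mul_conj, Complex.normSq_eq_norm_sq, Complex.norm_eq_one_of_pow_eq_one hω Nat.card_pos.ne']
      simp
    rw [hv, map_mul]
    linear_combination (sndPart e (η : C → ℂ) x.2 * conj (sndPart e (η : C → ℂ) x.2)) * h1
  rw [← Equiv.sum_comp e.symm.toEquiv (fun c => (η : C → ℂ) c * conj ((η : C → ℂ) c))] at h
  simp only [MulEquiv.toEquiv_eq_coe, MulEquiv.coe_toEquiv, hpt] at h
  rw [Fintype.sum_prod_type] at h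
  simp only [Finset.sum_const, Finset.card_univ, nsmul_eq_mul] at h
  rw [Nat.card_congr e.toEquiv,
    Nat.card_prod, ← Nat.card_eq_fintype_card, Nat.cast_mul, mul_inv, mul_assoc, ← mul_assoc _ (Nat.card Y : ℂ),
    mul_comm _ (Nat.card Y : ℂ), mul_assoc, ← mul_assoc,
    inv_mul_cancel₀ (Nat.cast_ne_zero.2 Nat.card_pos.ne'), one_mul] at h
  exact h

/-- the regular elements lie in the second factor -/
theorem sum_regular_eq {p : ℕ} [Fact p.Prime] (hY : IsPGroup p Y) (η : C → ℂ) [Fintype L] :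
    ∑ x ∈ Finset.univ.filter (fun x : C => ¬ p ∣ orderOf x), η x =
      ∑ l ∈ Finset.univ.filter (fun l : L => ¬ p ∣ orderOf l), sndPart e η l := by
  classical
  have hord : ∀ x : C, ¬ p ∣ orderOf x → (e x).1 = 1 ∧ ¬ p ∣ orderOf (e x).2 := fun x hx => by
    rw [← e.orderOf_eq, Prod.orderOf] at hx
    refine ⟨?_, fun h => hx (h.trans (Nat.dvd_lcm_right _ _))⟩
    obtain ⟨k, hk⟩ := IsPGroup.iff_orderOf.1 hY (e x).1
    rw [← orderOf_eq_one_iff, hk]
    rcases Nat.eq_zero_or_pos k with rfl | hk0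
    · rw [pow_zero]
    · exact absurd ((hk ▸ dvd_pow_self p hk0.ne').trans (Nat.dvd_lcm_left _ _)) hx
  refine Finset.sum_bij' (fun x _ => (e x).2) (fun l _ => e.symm (1, l)) (fun x hx => ?_) (fun l hl => ?_)
    (fun x hx => ?_) (fun l _ => ?_) (fun x hx => ?_)
  · exact Finset.mem_filter.2 ⟨Finset.mem_univ _, (hord x (Finset.mem_filter.1 hx).2).2⟩
  · refine Finset.mem_filter.2 ⟨Finset.mem_univ _, ?_⟩
    rw [MulEquiv.orderOf_eq, Prod.orderOf, orderOf_one, Nat.lcm_one_left]
    exact (Finset.mem_filter.1 hl).2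
  · apply e.injective
    rw [MulEquiv.apply_symm_apply]
    exact Prod.ext (hord x (Finset.mem_filter.1 hx).2).1.symm rfl
  · simp
  · rw [sndPart]
    refine congrArg η (e.injective ?_)
    rw [MulEquiv.apply_symm_apply]
    exact Prod.ext (hord x (Finset.mem_filter.1 hx).2).1 rfl

theorem dvd_card_psl {p : ℕ} [Fact p.Prime] (hp : p ≠ 2) (hodd : Odd (Fintype.card F))
    (hpr : p ∣ Fintype.card F ^ 2 - 1) : p ∣ Nat.card L := by
  have hpsl := CfsgLib.Perm.Dickson.card_psl F
  rw [CfsgLib.Perm.Dickson.gcd_odd (by rwa [Nat.card_eq_fintype_card] : Odd (Nat.card F)),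
    Nat.card_eq_fintype_card (α := F)] at hpsl
  rw [Nat.card_congr (CfsgLib.Perm.Dickson.pslEquiv F).toEquiv]
  have h : p ∣ Nat.card (CfsgLib.Perm.Dickson.psl F) * 2 := by
    have h1 : Fintype.card F ^ 2 - 1 = (Fintype.card F - 1) * (Fintype.card F + 1) := by
      rw [mul_comm, ← Nat.sq_sub_sq, one_pow]
    rw [h1] at hpr
    refine hpr.trans (Dvd.intro_left (Fintype.card F) ?_)
    rw [mul_comm _ 2, hpsl]
  exact ((Fact.out : p.Prime).dvd_mul.1 h).resolve_right fun h2 =>
    hp ((Nat.prime_dvd_prime_iff_eq Fact.out Nat.prime_two).1 h2)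

variable {p : ℕ} [Fact p.Prime]

include e in
/-- **the characters with second part trivial or Steinberg lie in the principal block** -/
theorem mem_principal_of_snd (hp : p ≠ 2) (hY : IsPGroup p Y) (hYc : ∀ a b : Y, Commute a b)
    (hodd : Odd (Fintype.card F)) (h5 : 5 ≤ Fintype.card F) (hpr : p ∣ Fintype.card F ^ 2 - 1)
    {M : Ideal AlgInt} (hM : IsPModular p M) (η : IrrCharacter C)
    (hdeg : (η : C → ℂ) 1 = 1 ∨ (η : C → ℂ) 1 = (Fintype.card F : ℂ)) : η ∈ principalBlock M C := by
  classical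
  haveI := hM.2.1
  haveI := Fintype.ofFinite (IrrCharacter C)
  haveI := Fintype.ofFinite (ConjClasses C)
  letI := Fintype.ofFinite L
  haveI := charP_resField hM
  set φ := sndPart e (η : C → ℂ) with hφ
  have hφi := isIrr_sndPart e hYc η
  set ψ : Matrix.SpecialLinearGroup (Fin 2) F → ℂ := fun x => φ (proj x) with hψ
  have hψi : IsIrrCharacter (Matrix.SpecialLinearGroup (Fin 2) F) ψ :=
    isIrrCharacter_comp_surjective hφi proj (QuotientGroup.mk'_surjective _)
  have hψ1 : ψ 1 = (η : C → ℂ) 1 := by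
    show sndPart e (η : C → ℂ) (proj 1) = _
    rw [map_one, sndPart, Prod.mk_one_one, map_one]
  rw [mem_principalBlock_iff hM, omegaBar_regBar_eq_regN]
  obtain ⟨R, hR, hRres⟩ := exists_regN_lift (p := p) (M := M) η (oneChar C)
  obtain ⟨R1, hR1, hR1res⟩ := exists_regN_lift (p := p) (M := M) (oneChar C) (oneChar C)
  have hsum : ∀ θ : IrrCharacter C, (Nat.card C : ℂ) * regInner p θ (oneChar C) =
      ∑ l ∈ Finset.univ.filter (fun l : L => ¬ p ∣ orderOf l), sndPart e (θ : C → ℂ) l := fun θ => by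
    rw [card_mul_regInner, ← sum_regular_eq e hY]
    exact Finset.sum_congr rfl fun x _ => by simp [oneChar]
  rw [hsum] at hR hR1
  set S := Finset.univ.filter (fun l : L => ¬ p ∣ orderOf l) with hS
  have hR1N : (R1 : ℂ) = (S.card : ℂ) := by
    have h := hR1
    simp only [oneChar, sndPart, mul_one, Finset.sum_const, nsmul_eq_mul] at h
    exact h
  have hone : res M R1 ≠ 0 := by
    rw [hR1res, ← omegaBar_regBar_eq_regN]
    exact omegaBar_regBar_ne_zero hM one_mem_principalBlock
  rcases hdeg with hd | hd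
  · -- trivial second part
    have htriv : ∀ x, ψ x = 1 := fun x =>
      congrFun (Char.TwoChars.sl_deg_one (by omega) ⟨ψ, hψi⟩ (hψ1.trans hd)) x
    have hRR : R = R1 := by
      refine Subtype.ext ?_
      rw [hR1N, ← mul_one (R : ℂ), ← hd, hR, Finset.sum_congr rfl (g := fun _ => (1 : ℂ)) fun l _ => by
        obtain ⟨x, rfl⟩ := QuotientGroup.mk'_surjective _ l
        exact htriv x]
      simp
    rw [← hRres, hRR]
    exact hone
  · -- Steinberg
    set s : ℤ := if p ∣ Fintype.card F - 1 then 1 else -1 with hs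
    have hst : ∀ x, ψ x = TwoChars.stSL x := fun x =>
      congrFun (Char.TwoChars.sl_deg_q ⟨ψ, hψi⟩ (hψ1.trans hd)) x
    have hsing : ∀ l : L, p ∣ orderOf l → φ l = (s : ℂ) := by
      intro l hl
      obtain ⟨x, rfl⟩ := QuotientGroup.mk'_surjective _ l
      show ψ x = _
      rw [hst, stSL_of_dvd hodd hp hpr (hl.trans (orderOf_map_dvd _ x)), hs]
      split_ifs <;> simp
    have hzero : ∑ l, φ l = 0 := by
      have h := classInner_irr (⟨φ, hφi⟩ : IrrCharacter L) (oneChar L)
      rw [if_neg, classInner, mul_eq_zero] at h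
      · refine Eq.trans (Finset.sum_congr rfl fun l _ => ?_)
          (h.resolve_left (inv_ne_zero (Nat.cast_ne_zero.2 Nat.card_pos.ne')))
        simp [oneChar]
      · intro heq
        have h1 : φ 1 = 1 := congrFun (congrArg Subtype.val heq) 1
        rw [show φ 1 = ψ 1 from congrArg φ (map_one proj).symm, hψ1, hd] at h1
        have : Fintype.card F = 1 := by exact_mod_cast h1
        omega
    set T := Finset.univ.filter (fun l : L => p ∣ orderOf l) with hT
    have hRq : (R : ℂ) * (Fintype.card F : ℂ) = -((s : ℂ) * (T.card : ℂ)) := by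
      rw [← hd, hR, eq_neg_iff_add_eq_zero, ← hzero,
        ← Finset.sum_filter_not_add_sum_filter Finset.univ (fun l : L => p ∣ orderOf l)]
      congr 1
      rw [Finset.sum_congr rfl (g := fun _ => (s : ℂ)) fun l hl => hsing l (Finset.mem_filter.1 hl).2,
        Finset.sum_const, nsmul_eq_mul, mul_comm]
    have hss : (s : ℂ) * s = 1 := by rw [hs]; split_ifs <;> simp
    have hloc : ((s : locRing M) * ((Fintype.card F : locRing M) * R)) = -(T.card : locRing M) := by
      apply Subtype.ext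
      push_cast
      linear_combination (s : ℂ) * hRq - (T.card : ℂ) * hss
    intro hzeroR
    rw [← hRres] at hzeroR
    have hT0 : (T.card : ResField M) = 0 := by
      have h := congrArg (res M) hloc
      rw [map_mul, map_mul, hzeroR, mul_zero, mul_zero, map_neg, map_natCast, eq_comm, neg_eq_zero] at h
      exact h
    have hcard : S.card + T.card = Nat.card L := by
      rw [Nat.card_eq_fintype_card, ← Finset.card_univ, hS, hT, add_comm]
      exact Finset.card_filter_add_card_filter_not _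
    have hL0 : (Nat.card L : ResField M) = 0 := (CharP.cast_eq_zero_iff (ResField M) p _).2
      (dvd_card_psl hp hodd hpr)
    rw [← hcard, Nat.cast_add, hT0, add_zero] at hL0
    refine hone ?_
    rw [show R1 = (S.card : locRing M) from Subtype.ext (hR1N.trans (by push_cast; rfl)), map_natCast, hL0]

/-- **the supplier of the moved characters**: `C ≅ Y × PSL(2, F)` -/
theorem exists_aut_halves (hp : p ≠ 2) (hY : IsPGroup p Y) (hYc : ∀ a b : Y, Commute a b) (e : C ≃* Y × L)
    (h8 : Fintype.card F % 8 = 3 ∨ Fintype.card F % 8 = 5) (h5 : 5 ≤ Fintype.card F)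
    (hpr : p ∣ Fintype.card F ^ 2 - 1) (k : ℕ) :
    ∃ τ : ℂ ≃+* ℂ, (∀ z : ℂ, z ^ p ^ k = 1 → τ z = z) ∧
      ∀ (M : Ideal AlgInt), IsPModular p M → ∀ η : IrrCharacter C, η ∉ principalBlock M C →
        Odd (charDegree (η : C → ℂ)) →
        (∃ c, τ ((η : C → ℂ) c) ≠ (η : C → ℂ) c) ∧ ∀ c, τ (τ ((η : C → ℂ) c)) = (η : C → ℂ) c := by
  classical
  have hpp : p.Prime := Fact.out
  have hodd : Odd (Fintype.card F) := by rw [Nat.odd_iff]; omega
  have hcop : (p ^ k * Nat.card Y).Coprime (Fintype.card F) := by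
    obtain ⟨j, hj⟩ := hY.exists_card_eq
    rw [hj, ← pow_add]
    refine Nat.Coprime.pow_left _ (hpp.coprime_iff_not_dvd.2 fun h => ?_)
    have h4 : p ∣ Fintype.card F ^ 2 := h.trans (dvd_pow_self _ two_ne_zero)
    have h6 := Nat.dvd_sub h4 hpr
    rw [show Fintype.card F ^ 2 - (Fintype.card F ^ 2 - 1) = 1 by
      have := Nat.one_le_pow 2 (Fintype.card F) (by omega); omega] at h6
    exact hpp.one_lt.ne' (Nat.dvd_one.1 h6)
  obtain ⟨τ, hfix, hw⟩ := exists_aut_neg_sqrt F
    (Nat.mul_ne_zero (pow_ne_zero _ hpp.ne_zero) Nat.card_pos.ne') h8 hcop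
  refine ⟨τ, fun z hz => hfix z (by rw [pow_mul, hz, one_pow]), fun M hM η hη hdodd => ?_⟩
  obtain ⟨hd1, hd0⟩ := Block.charDegree_eq η
  set φ := sndPart e (η : C → ℂ) with hφ
  have hφi := isIrr_sndPart e hYc η
  set ψ : IrrCharacter (Matrix.SpecialLinearGroup (Fin 2) F) :=
    ⟨fun x => φ (proj x), isIrrCharacter_comp_surjective hφi proj (QuotientGroup.mk'_surjective _)⟩ with hψ
  have hψ1 : (ψ : Matrix.SpecialLinearGroup (Fin 2) F → ℂ) 1 = (η : C → ℂ) 1 := by
    show sndPart e (η : C → ℂ) (proj 1) = _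
    rw [map_one, sndPart, Prod.mk_one_one, map_one]
  have hhalf : (ψ : Matrix.SpecialLinearGroup (Fin 2) F → ℂ) 1 = (((Fintype.card F + 1) / 2 : ℕ) : ℂ) ∨
      (ψ : Matrix.SpecialLinearGroup (Fin 2) F → ℂ) 1 = (((Fintype.card F - 1) / 2 : ℕ) : ℂ) := by
    have hcast : ∀ d : ℕ, (ψ : Matrix.SpecialLinearGroup (Fin 2) F → ℂ) 1 = (d : ℂ) → Odd d := fun d hd => by
      rw [hψ1, hd1] at hd
      rwa [← Nat.cast_injective hd]
    obtain ⟨hdeg, -⟩ := Cfsg.Agent.S2299.result (F := F) hodd
    rcases hdeg _ ψ.2 with h | h | h | h | h | h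
    · exact absurd (mem_principal_of_snd e hp hY hYc hodd h5 hpr hM η (Or.inl (hψ1.symm.trans h))) hη
    · exact absurd (mem_principal_of_snd e hp hY hYc hodd h5 hpr hM η (Or.inr (hψ1.symm.trans h))) hη
    · exfalso
      have := hcast (Fintype.card F + 1) (by rw [h, Nat.cast_add, Nat.cast_one])
      rw [Nat.odd_iff] at this hodd
      omega
    · exfalso
      have := hcast (Fintype.card F - 1) (by rw [h, Nat.cast_sub (by omega), Nat.cast_one])
      rw [Nat.odd_iff] at this hodd
      omega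
    · exact Or.inl h
    · exact Or.inr h
  obtain ⟨⟨u, hu⟩, hinv⟩ := half_swapped hodd h5 τ hw ψ hhalf
  refine ⟨⟨e.symm (1, proj u), hu⟩, fun c => ?_⟩
  obtain ⟨ω, hω, hv⟩ := exists_scalar_fst e hYc η c
  obtain ⟨x, hx⟩ := QuotientGroup.mk'_surjective _ (e c).2
  have hωfix : τ ω = ω := hfix ω (by rw [mul_comm, pow_mul, hω, one_pow])
  rw [hv, map_mul, map_mul, hωfix, hωfix]
  congr 1
  rw [← hx]
  exact hinv x

end CfsgLib.GW
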