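import Cfsg.Agent.Lib.GW.KleinBeta
import Cfsg.Agent.Lib.GW.KleinGalois
import Cfsg.Agent.Lib.GW.KleinHalves

/-!
# Case I(beta) for a four-group Sylow two-subgroup: the contradiction

`Q` fixes only `J` among the involutions, `y` is a `p`-element of the odd part of `C(J)` with
`C(y) ≅ Y × PSL(2, F)`, and `|F| = 4b + ε`, `|O : D| = pRb`.
-/

set_option autoImplicit false
set_option linter.unusedSectionVars false
set_option linter.style.haveILetI false

namespace CfsgLib.GW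

open Cfsg CfsgLib.Char

universe u v

variable {G : Type u} [Group G] [Finite G]

theorem klein_beta_contradiction [IsSimpleGroup G] (hG : ¬ IsCyclic G) (P : Sylow 2 G)
    (hK : IsKleinFour (P : Subgroup G))
    (hone : ∀ s t : G, orderOf s = 2 → orderOf t = 2 → IsConj s t)
    {J : G} (hJ : J ∈ (P : Subgroup G)) (hJ2 : orderOf J = 2)
    {p : ℕ} [Fact p.Prime] (h2 : p ≠ 2) {Q : Subgroup G} (hQ : IsPGroup p Q)
    (hQJ : ∀ x ∈ Q, Commute x J)
    (hQfix : ∀ u : G, orderOf u = 2 → (∀ x ∈ Q, Commute x u) → u = J)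
    {y : G} (hy : ∃ k : ℕ, orderOf y = p ^ k)
    (N : Subgroup (Subgroup.centralizer ({J} : Set G))) [N.Normal] (hN : Odd (Nat.card N))
    (hyN : ∃ c ∈ N, (c : G) = y)
    {Y : Type u} [Group Y] [Finite Y] (hY : IsPGroup p Y) (hYc : ∀ a b : Y, Commute a b)
    {F : Type v} [Field F] [Fintype F]
    (e : Subgroup.centralizer ({y} : Set G) ≃* Y × Matrix.ProjectiveSpecialLinearGroup (Fin 2) F)
    {R b x o d : ℕ} {ε : ℤ} (hR0 : Odd R) (hRp : R ≤ p) (hbo : Odd b) (hpb : p ∣ b)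
    (hε : ε = 1 ∨ ε = -1) (hr : (Fintype.card F : ℤ) = 4 * b + ε) (hx : x = p * R * b)
    (hex : ¬ (p = 3 ∧ R = 3 ∧ b = 3))
    (hCJ : Nat.card (Subgroup.centralizer ({J} : Set G)) = 4 * o)
    (hCP : Nat.card (Subgroup.centralizer ((P : Subgroup G) : Set G)) = 4 * d) (hod : o = x * d)
    (hdvd : Fintype.card F ∣ (Subgroup.centralizer ({J} : Set G)).index * (p * R))
    (hall : ∀ q : ℕ, q.Prime → q ∣ b →
      (q : ℤ) ∣ ((Subgroup.centralizer ({J} : Set G)).index : ℤ) - 1) : False := by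
  classical
  have hp : p.Prime := Fact.out
  obtain ⟨k, hk⟩ := hy
  letI := Fintype.ofFinite (Subgroup.centralizer ({y} : Set G))
  have hp3 : 3 ≤ p := lt_of_le_of_ne hp.two_le (Ne.symm h2)
  have hb3 : 3 ≤ b := hp3.trans (Nat.le_of_dvd hbo.pos hpb)
  have h8 : Fintype.card F % 8 = 3 ∨ Fintype.card F % 8 = 5 := by
    obtain ⟨l, rfl⟩ := hbo
    rcases hε with rfl | rfl <;> omega
  have h5 : 5 ≤ Fintype.card F := by rcases hε with rfl | rfl <;> omega
  have hpr : p ∣ Fintype.card F ^ 2 - 1 := by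
    have h : (p : ℤ) ∣ (Fintype.card F : ℤ) ^ 2 - 1 := by
      obtain ⟨b', rfl⟩ := hpb
      refine ⟨b' * (16 * (p * b') + 8 * ε), ?_⟩
      rw [hr]
      rcases hε with rfl | rfl <;> push_cast <;> ring
    rw [← Int.natCast_dvd_natCast, Nat.cast_sub (Nat.one_le_pow _ _ (by omega))]
    push_cast
    exact h
  obtain ⟨τ, hτ, hH⟩ := exists_aut_halves h2 hY hYc e h8 h5 hpr k
  obtain ⟨a, ha4, -, -, -, -, hform⟩ := klein_two_equal hG P hK hone hJ hJ2 h2 hQ hQJ
    hQfix ⟨k, hk⟩ N hN hyN τ (fun z hz => hτ z (hk ▸ hz)) hH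
  set n := (Subgroup.centralizer ({J} : Set G)).index with hn
  have hG' : Nat.card G = n * (4 * o) := by rw [← hCJ, hn, Subgroup.index_mul_card]
  have ho : o ≠ 0 := fun h => by
    rw [h, mul_zero] at hCJ
    exact Nat.card_pos.ne' hCJ
  have hd : d ≠ 0 := fun h => ho (by rw [hod, h, mul_zero])
  rw [hG', hCP, hCJ, hod, hx] at hform
  have hform' : (n : ℤ) * (a + 1) ^ 2 = 4 * ((p * R * b : ℕ) : ℤ) ^ 2 * (a * (2 * a + 1)) := by
    have hne : (128 * ((p * R * b : ℕ) : ℤ) * (d : ℤ) ^ 3) ≠ 0 := by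
      have : p * R * b ≠ 0 := fun h => ho (by rw [hod, hx, h, zero_mul])
      positivity
    refine mul_left_cancel₀ hne ?_
    push_cast at hform ⊢
    linear_combination hform
  have hrp : IsPrimePow (Fintype.card F) := Fintype.isPrimePow_card_of_field
  exact klein_beta_false hp h2 hR0 hRp hbo hpb hε hr hrp ha4 hall hform' hdvd hex

end CfsgLib.GW
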