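import Mathlib

/-!
# The numerical end of the non-abelian case for a four-group Sylow two-subgroup

`x = pRb` is the reduced index, `r = 4b + ε` the field order of the component, and two of the
three signed degrees agree, so that the order formula reads `n(a + 1)² = 4x²a(2a + 1)`.
-/

set_option autoImplicit false

namespace CfsgLib.GW

theorem klein_beta_small {p R : ℕ} {j : ℤ} (hp : p.Prime) (hR : R ≤ p) (hjo : Odd j)
    (hjR : |j| ≤ R) (hj : (p : ℤ) ∣ j ^ 2 - 1) : j = 1 ∨ j = -1 := by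
  by_cases h2 : p = 2
  · subst h2
    have h := abs_le.1 (hjR.trans (by exact_mod_cast hR : (R : ℤ) ≤ 2))
    obtain ⟨k, rfl⟩ := hjo
    omega
  have hpo : Odd (p : ℤ) := by exact_mod_cast hp.odd_of_ne_two h2
  have hb := abs_le.1 (hjR.trans (by exact_mod_cast hR : (R : ℤ) ≤ p))
  have h1 : (p : ℤ) ∣ (j - 1) * (j + 1) := by
    rw [show (j - 1) * (j + 1) = j ^ 2 - 1 by ring]; exact hj
  have hp2 : (2 : ℤ) ≤ p := by exact_mod_cast hp.two_le
  obtain ⟨k, rfl⟩ := hjo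
  obtain ⟨l, hl⟩ := hpo
  rcases (Nat.prime_iff_prime_int.1 hp).dvd_or_dvd h1 with ⟨d, hd⟩ | ⟨d, hd⟩
  all_goals
    rcases lt_trichotomy d 0 with hd0 | hd0 | hd0
    · rcases (by omega : d = -1 ∨ d ≤ -2) with rfl | hd2
      · omega
      · nlinarith
    · subst hd0; omega
    · rcases (by omega : d = 1 ∨ 2 ≤ d) with rfl | hd2
      · omega
      · nlinarith

/-- The last divisibility is impossible. -/
theorem klein_beta_quot {p R b r : ℕ} {ε i : ℤ} (hp : p.Prime) (h2 : p ≠ 2) (hR0 : Odd R)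
    (hRp : R ≤ p) (hpb : p ∣ b) (hb : 0 < b) (hε : ε = 1 ∨ ε = -1) (hr : (r : ℤ) = 4 * b + ε)
    (hi : i = 1 ∨ i = -1 ∨ i = 2 ∨ i = -2) (hex : ¬ (p = 3 ∧ R = 3 ∧ b = 3))
    (hdvd : (r : ℤ) ∣ (p : ℤ) * R + i) : False := by
  obtain ⟨Q, hQ⟩ := hdvd
  have hp3 : (3 : ℤ) ≤ p := by
    exact_mod_cast (lt_of_le_of_ne hp.two_le (Ne.symm h2) : 2 < p)
  have hR1 : (1 : ℤ) ≤ R := by exact_mod_cast hR0.pos
  have hRp' : (R : ℤ) ≤ p := by exact_mod_cast hRp
  have hbp : (p : ℤ) ≤ b := by exact_mod_cast Nat.le_of_dvd hb hpb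
  have hr4 : 4 * (p : ℤ) - 1 ≤ r := by rcases hε with rfl | rfl <;> omega
  have hpos : 0 < (p : ℤ) * R + i := by
    have : (3 : ℤ) ≤ p * R := by nlinarith
    rcases hi with rfl | rfl | rfl | rfl <;> omega
  have hQ0 : 0 < Q := by
    by_contra hc
    nlinarith [mul_nonpos_of_nonneg_of_nonpos (by omega : (0 : ℤ) ≤ r) (not_lt.1 hc)]
  obtain ⟨b', hb'⟩ := hpb
  -- the quotient modulo `p`
  have hmod : (p : ℤ) ∣ Q - ε * i := by
    have hb'' : (b : ℤ) = p * b' := by exact_mod_cast hb'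
    refine ⟨ε * R - 4 * b' * ε * Q, ?_⟩
    rcases hε with rfl | rfl <;> rw [hr, hb''] at hQ
    · linear_combination -hQ
    · linear_combination hQ
  -- the quotient is less than `p - 2`
  have hQs : Q + 2 < p ∨ (p = 3 ∧ Q = 1) := by
    by_contra hc
    rw [not_or] at hc
    obtain ⟨hc1, hc2⟩ := hc
    have hle : (p : ℤ) * R + i ≤ p * p + 2 := by
      rcases hi with rfl | rfl | rfl | rfl <;> nlinarith
    have hQ1 : (p : ℤ) - 2 ≤ Q := by omega
    have hmul : (4 * (p : ℤ) - 1) * Q ≤ p * p + 2 := by nlinarith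
    rcases (by omega : (p : ℤ) = 3 ∨ 4 ≤ (p : ℤ)) with h3 | h4
    · refine hc2 ⟨by exact_mod_cast h3, ?_⟩
      rw [h3] at hmul
      omega
    · nlinarith [mul_le_mul_of_nonneg_left hQ1 (by omega : (0 : ℤ) ≤ 4 * (p : ℤ) - 1)]
  obtain ⟨d, hd⟩ := hmod
  have heven : Q = ε * i → False := fun hQe => by
    obtain ⟨u, hu⟩ := hp.odd_of_ne_two h2
    obtain ⟨w, hw⟩ := hR0
    have : (p : ℤ) * R = 4 * (ε * i * b) := by
      rcases hε with rfl | rfl <;> rw [hr, hQe] at hQ <;> linear_combination hQ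
    rw [show (p : ℤ) * R = 2 * (2 * u * w + u + w) + 1 by rw [hu, hw]; push_cast; ring] at this
    generalize ε * (i * 1) = z at *
    generalize ε * i * (b : ℤ) = z' at *
    omega
  rcases hQs with hQs | ⟨rfl, rfl⟩
  · rcases lt_trichotomy d 0 with hd0 | hd0 | hd0
    · have : (p : ℤ) * d ≤ -p := by nlinarith
      rcases hε with rfl | rfl <;> rcases hi with rfl | rfl | rfl | rfl <;> omega
    · subst hd0
      exact heven (by linarith)
    · have : (p : ℤ) ≤ p * d := by nlinarith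
      rcases hε with rfl | rfl <;> rcases hi with rfl | rfl | rfl | rfl <;> omega
  · push_cast at *
    rcases hε with rfl | rfl <;> rcases hi with rfl | rfl | rfl | rfl <;>
      first
        | omega
        | (refine hex ⟨by norm_num, ?_, ?_⟩ <;> omega)

/-- **The numerical contradiction.** -/
theorem klein_beta_false {p R b r : ℕ} {ε a : ℤ} {n : ℕ} (hp : p.Prime) (h2 : p ≠ 2)
    (hR0 : Odd R) (hRp : R ≤ p) (hbo : Odd b) (hpb : p ∣ b) (hε : ε = 1 ∨ ε = -1)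
    (hr : (r : ℤ) = 4 * b + ε) (hrp : IsPrimePow r) (ha4 : (4 : ℤ) ∣ a - 1)
    (hn1 : ∀ q : ℕ, q.Prime → q ∣ b → (q : ℤ) ∣ (n : ℤ) - 1)
    (hform : (n : ℤ) * (a + 1) ^ 2 = 4 * ((p * R * b : ℕ) : ℤ) ^ 2 * (a * (2 * a + 1)))
    (hdvd : r ∣ n * (p * R)) (hex : ¬ (p = 3 ∧ R = 3 ∧ b = 3)) : False := by
  obtain ⟨l, hl⟩ := ha4
  obtain ⟨α, hα, hα2⟩ : ∃ α : ℤ, a = 2 * α - 1 ∧ Odd α :=
    ⟨2 * l + 1, by omega, ⟨l, by ring⟩⟩
  subst hα
  set x : ℤ := ((p * R * b : ℕ) : ℤ) with hx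
  have hform' : (n : ℤ) * α ^ 2 = x ^ 2 * ((2 * α - 1) * (4 * α - 1)) := by linarith [hform]
  have hco : IsCoprime (α ^ 2) ((2 * α - 1) * (4 * α - 1)) :=
    IsCoprime.pow_left (IsCoprime.mul_right ⟨2, -1, by ring⟩ ⟨4, -1, by ring⟩)
  obtain ⟨j, hj⟩ : α ∣ x :=
    (Int.pow_dvd_pow_iff two_ne_zero).1 (hco.dvd_of_dvd_mul_right ⟨n, by linarith [hform']⟩)
  have hα0 : α ≠ 0 := fun e => by subst e; simp at hα2
  have hn : (n : ℤ) = (2 * x - j) * (4 * x - j) := by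
    refine mul_right_cancel₀ (pow_ne_zero 2 hα0) ?_
    rw [hform', hj]; ring
  have hpx : (p : ℤ) ∣ x := by rw [hx]; push_cast; exact ⟨R * b, by ring⟩
  have hjq : ∀ q : ℕ, q.Prime → q ∣ b → (q : ℤ) ∣ j ^ 2 - 1 := fun q hq hqb => by
    have hqx : (q : ℤ) ∣ x := Int.natCast_dvd_natCast.2 (hqb.mul_left _)
    have h6 : (q : ℤ) ∣ (n : ℤ) - j ^ 2 :=
      dvd_trans hqx ⟨8 * x - 6 * j, by rw [hn]; ring⟩
    have := dvd_sub (hn1 q hq hqb) h6
    rwa [show (n : ℤ) - 1 - ((n : ℤ) - j ^ 2) = j ^ 2 - 1 by ring] at this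
  have hj1 : (p : ℤ) ∣ j ^ 2 - 1 := hjq p hp hpb
  have hxo : Odd x := by
    rw [hx]; exact_mod_cast ((hp.odd_of_ne_two h2).mul hR0).mul hbo
  have hjo : Odd j := (Int.odd_mul.1 (hj ▸ hxo)).2
  have hp3 : (3 : ℤ) ≤ p := by
    exact_mod_cast (lt_of_le_of_ne hp.two_le (Ne.symm h2) : 2 < p)
  have hbp : (p : ℤ) ≤ b := by exact_mod_cast Nat.le_of_dvd hbo.pos hpb
  have hjR : |j| ≤ R := by
    have hcop : IsCoprime j (b : ℤ) := by
      rw [Int.isCoprime_iff_nat_coprime]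
      refine Nat.coprime_of_dvd fun q hq hqj hqb => ?_
      rw [Int.natAbs_natCast] at hqb
      have h1 := dvd_sub ((Int.natCast_dvd.2 hqj).mul_left j) (hjq q hq hqb)
      rw [← pow_two, sub_sub_cancel] at h1
      exact hq.one_lt.ne' (Nat.dvd_one.1 (by exact_mod_cast h1))
    have h2 : j ∣ (p : ℤ) * R := hcop.dvd_of_dvd_mul_right ⟨α, by
      rw [mul_comm j α, ← hj, hx]; push_cast; ring⟩
    have h3 : j ∣ (R : ℤ) :=
      (hcop.of_isCoprime_of_dvd_right (Int.natCast_dvd_natCast.2 hpb)).dvd_of_dvd_mul_left h2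
    exact Int.le_of_dvd (by exact_mod_cast hR0.pos) ((abs_dvd _ _).2 h3)
  have hj' := klein_beta_small hp hRp hjo hjR hj1
  obtain ⟨q, e, hq, he, hre⟩ := hrp
  have hq' : q.Prime := Nat.prime_iff.2 hq
  have hro : Odd r := by
    rcases Nat.even_or_odd r with ⟨w, hw⟩ | h
    · rcases hε with rfl | rfl <;> omega
    · exact h
  have hqo : q ≠ 2 := by
    rintro rfl
    rw [← hre, Nat.odd_pow_iff he.ne'] at hro
    exact Nat.not_odd_iff_even.2 even_two hro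
  have hqi : Prime (q : ℤ) := Nat.prime_iff_prime_int.1 hq'
  have hqr : (q : ℤ) ∣ r := by
    exact_mod_cast hre ▸ dvd_pow_self q he.ne'
  have hrZ : (r : ℤ) = (q : ℤ) ^ e := by exact_mod_cast hre.symm
  have hqp : ¬ (q : ℤ) ∣ p := fun h => by
    have hqe : q = p := (Nat.prime_dvd_prime_iff_eq hq' hp).1 (by exact_mod_cast h)
    subst hqe
    have h4b : (q : ℤ) ∣ 4 * b := Dvd.dvd.mul_left (by exact_mod_cast hpb) _
    have h1 := dvd_sub hqr h4b
    rw [hr, add_sub_cancel_left] at h1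
    exact hqi.not_isUnit (isUnit_of_dvd_unit h1 (by rcases hε with rfl | rfl <;> simp))
  -- reduce modulo `r`
  have hmul : (r : ℤ) ∣ (p : ℤ) * R * (((p : ℤ) * R + ε * j) * ((p : ℤ) * R + 2 * (ε * j))) := by
    have h0 : (r : ℤ) ∣ (p : ℤ) * R * (2 * (n : ℤ)) := by
      have : (r : ℤ) ∣ (n : ℤ) * (p * R) := by exact_mod_cast hdvd
      exact this.trans ⟨2, by ring⟩
    have h4x : 4 * x = (p : ℤ) * R * r - ε * (p * R) := by
      rw [hx, hr]; push_cast; ring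
    have h1 : (r : ℤ) ∣ 2 * (n : ℤ) - ((p : ℤ) * R + ε * j) * ((p : ℤ) * R + 2 * (ε * j)) := by
      refine ⟨(p * R) * (p * R * r) - 2 * (p * R) * (p * R * ε) - 3 * (j * (p * R)), ?_⟩
      have : 2 * (n : ℤ) = (4 * x - 2 * j) * (4 * x - j) := by rw [hn]; ring
      rw [this, h4x]
      rcases hε with rfl | rfl <;> ring
    have := dvd_sub h0 (Dvd.dvd.mul_left h1 ((p : ℤ) * R))
    rw [← mul_sub] at this
    simpa using this
  rw [hrZ] at hmul
  have hmul' : (q : ℤ) ^ e ∣ (R : ℤ) * (((p : ℤ) * R + ε * j) * ((p : ℤ) * R + 2 * (ε * j))) :=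
    hqi.pow_dvd_of_dvd_mul_left e hqp (by simpa [mul_assoc] using hmul)
  have hi : (ε * j = 1 ∨ ε * j = -1) := by
    rcases hε with rfl | rfl <;> rcases hj' with rfl | rfl <;> simp
  have hq2 : ¬ (q : ℤ) ∣ 2 := fun h => hqo ((Nat.prime_dvd_prime_iff_eq hq' Nat.prime_two).1
    (by exact_mod_cast h))
  have hqu : ¬ (q : ℤ) ∣ ε * j := fun h =>
    hqi.not_isUnit (isUnit_of_dvd_unit h (by rcases hi with h | h <;> rw [h] <;> simp))
  by_cases hqR : (q : ℤ) ∣ R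
  · have h1 : ¬ (q : ℤ) ∣ (p : ℤ) * R + ε * j := fun h =>
      hqu ((Int.dvd_add_right (Dvd.dvd.mul_left hqR _)).1 h)
    have h2' : ¬ (q : ℤ) ∣ (p : ℤ) * R + 2 * (ε * j) := fun h => by
      rcases hqi.dvd_or_dvd ((Int.dvd_add_right (Dvd.dvd.mul_left hqR _)).1 h) with h | h
      exacts [hq2 h, hqu h]
    have hR' : (q : ℤ) ^ e ∣ (R : ℤ) :=
      hqi.pow_dvd_of_dvd_mul_right e (fun h => (hqi.dvd_or_dvd h).elim h1 h2') hmul'
    rw [← hrZ] at hR'
    have := Int.le_of_dvd (by exact_mod_cast hR0.pos) hR'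
    have : (R : ℤ) ≤ p := by exact_mod_cast hRp
    rcases hε with rfl | rfl <;> omega
  · have h3 := hqi.pow_dvd_of_dvd_mul_left e hqR hmul'
    by_cases hq1 : (q : ℤ) ∣ (p : ℤ) * R + ε * j
    · have h2' : ¬ (q : ℤ) ∣ (p : ℤ) * R + 2 * (ε * j) := fun h => hqu (by
        simpa [two_mul] using dvd_sub h hq1)
      have h4 := hqi.pow_dvd_of_dvd_mul_right e h2' h3
      rw [← hrZ] at h4
      exact klein_beta_quot hp h2 hR0 hRp hpb hbo.pos hε hr
        (by rcases hi with h | h <;> simp [h]) hex h4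
    · have h4 := hqi.pow_dvd_of_dvd_mul_left e hq1 h3
      rw [← hrZ] at h4
      exact klein_beta_quot hp h2 hR0 hRp hpb hbo.pos hε hr
        (by rcases hi with h | h <;> simp [h]) hex h4

end CfsgLib.GW
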