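import Cfsg.Agent.Lib.GW.BlockGalois
import Cfsg.Agent.Lib.GW.InvolPSL
import Cfsg.Agent.Lib.GW.PGLCount
import Cfsg.Agent.Lib.Char.SLTwoValues
import Cfsg.Agent.S2324
import Cfsg.Agent.S2299

/-!
# The Steinberg character at elements of order divisible by `p`, and the halves under field automorphisms

For an odd prime `p` dividing `q ^ 2 - 1` the Steinberg character of `SL(2, q)` is `±1` at every element of order
divisible by `p`.  A field automorphism negating the square roots of `± q` exchanges the two characters of each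
half degree.
-/

set_option autoImplicit false
set_option linter.unusedSectionVars false
set_option linter.style.haveILetI false

namespace CfsgLib.GW.KleinHalves

open Matrix Cfsg CfsgLib.Char CfsgLib.Char.TwoChars

variable {F : Type*} [Field F] [Fintype F] [DecidableEq F]

local notation "S2" => Matrix.SpecialLinearGroup (Fin 2) F
local notation "qF" => Fintype.card F

theorem elS_mul (a b : Fˣ) (x y : F) :
    elS a x * elS b y = elS (a * b) ((a : F) * y + x * ((b⁻¹ : Fˣ) : F)) := by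
  refine Subtype.ext ?_
  rw [Matrix.SpecialLinearGroup.coe_mul, elS_val, elS_val, elS_val]
  ext i j
  fin_cases i <;> fin_cases j <;> simp [Matrix.mul_apply, Fin.sum_univ_two, mul_comm]

theorem elS_pow_diag (a : Fˣ) : ∀ n : ℕ, elS a (0 : F) ^ n = elS (a ^ n) 0
  | 0 => by rw [pow_zero, pow_zero, elS_one_zero]
  | n + 1 => by rw [pow_succ, elS_pow_diag a n, elS_mul, pow_succ, mul_zero, zero_mul, add_zero]

theorem elS_pow_unip (y : F) : ∀ n : ℕ, elS (1 : Fˣ) y ^ n = elS 1 ((n : F) * y)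
  | 0 => by rw [pow_zero, Nat.cast_zero, zero_mul, elS_one_zero]
  | n + 1 => by
    rw [pow_succ, elS_pow_unip y n, elS_mul, mul_one]
    congr 1
    push_cast
    simp only [inv_one, Units.val_one]
    ring

/-- an element with an eigenvector is triangularisable -/
theorem exists_conj_elS {g : S2} (h : ¬ TwoClasses.IsEll g.1) : ∃ (a : Fˣ) (x : F), IsConj g (elS a x) := by
  classical
  simp only [TwoClasses.IsEll, not_forall, not_not] at h
  obtain ⟨c, v, hv, hgv⟩ := h
  obtain ⟨m, hm0, hm1⟩ : ∃ m : S2, m.1 0 0 = v 0 ∧ m.1 1 0 = v 1 := by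
    by_cases h0 : v 0 = 0
    · have h1 : v 1 ≠ 0 := fun h1 => hv (funext fun i => by fin_cases i <;> assumption)
      exact ⟨⟨!![0, -(v 1)⁻¹; v 1, 0], by simp [Matrix.det_fin_two, h1]⟩, by simp [h0], by simp⟩
    · exact ⟨⟨!![v 0, 0; v 1, (v 0)⁻¹], by simp [Matrix.det_fin_two, h0]⟩, by simp, by simp⟩
  have hcol : ∀ i, (g.1 * m.1) i 0 = c * m.1 i 0 := fun i => by
    have h1 := congrFun hgv i
    rw [Matrix.mul_apply, Fin.sum_univ_two, hm0, hm1]
    simp only [Matrix.mulVec, dotProduct, Fin.sum_univ_two, Pi.smul_apply, smul_eq_mul] at h1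
    rw [h1]
    fin_cases i <;> simp [hm0, hm1]
  have h10 : (m⁻¹ * g * m).1 1 0 = 0 := by
    have h1 : (m⁻¹).1 * m.1 = 1 := congrArg Subtype.val (inv_mul_cancel m)
    have h1' := congrFun (congrFun h1 1) 0
    rw [Matrix.mul_apply, Fin.sum_univ_two] at h1'
    rw [mul_assoc, Matrix.SpecialLinearGroup.coe_mul, Matrix.SpecialLinearGroup.coe_mul, Matrix.mul_apply,
      Fin.sum_univ_two, hcol, hcol]
    simp at h1'
    linear_combination c * h1'
  exact ⟨_, _, isConj_iff.2 ⟨m⁻¹, by rw [inv_inv]; exact borelSL_eq h10⟩⟩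

/-- **the Steinberg character at elements of order divisible by `p`** -/
theorem stSL_of_dvd (hodd : Odd qF) {p : ℕ} [Fact p.Prime] (hp2 : p ≠ 2) (hp : p ∣ qF ^ 2 - 1) {g : S2}
    (hg : p ∣ orderOf g) : stSL g = if p ∣ qF - 1 then 1 else -1 := by
  classical
  have hpp : p.Prime := Fact.out
  have hq1 : 1 < qF := Fintype.one_lt_card
  have hp2' : ¬ p ∣ 2 := fun h => hp2 ((Nat.prime_dvd_prime_iff_eq hpp Nat.prime_two).1 h)
  by_cases he : TwoClasses.IsEll g.1
  · have h1 : p ∣ qF + 1 := by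
      rw [← card_centralizer_ell hodd he]
      exact hg.trans (Subgroup.orderOf_dvd_natCard _ (Subgroup.mem_centralizer_singleton_iff.2 rfl))
    rw [if_neg fun h => hp2' (by have := Nat.dvd_sub h1 h; rwa [show qF + 1 - (qF - 1) = 2 by omega] at this),
      stSL_ell he]
  obtain ⟨a, x, hax⟩ := exists_conj_elS he
  have hord : orderOf (elS a x) = orderOf g := by
    obtain ⟨c, hc⟩ := isConj_iff.1 hax
    rw [← hc, ← MulAut.conj_apply, MulEquiv.orderOf_eq]
  by_cases ha : (a : F) = ((a⁻¹ : Fˣ) : F)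
  · -- unipotent up to sign
    exfalso
    have hau : a = a⁻¹ := Units.ext ha
    have h2q : elS a x ^ (2 * qF) = 1 := by
      rw [pow_mul, sq, elS_mul, show a * a = 1 by nth_rw 2 [hau]; rw [mul_inv_cancel], elS_pow_unip,
        FiniteField.cast_card_eq_zero, zero_mul, elS_one_zero]
    have h3 : p ∣ 2 * qF := hg.trans (hord ▸ orderOf_dvd_of_pow_eq_one h2q)
    rcases hpp.dvd_mul.1 h3 with h | h
    · exact hp2' h
    · have h4 : p ∣ qF ^ 2 := h.trans (dvd_pow_self _ two_ne_zero)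
      have h5 := Nat.dvd_sub h4 hp
      rw [show qF ^ 2 - (qF ^ 2 - 1) = 1 by have := Nat.one_le_pow 2 qF (by omega); omega] at h5
      exact hpp.one_lt.ne' (Nat.dvd_one.1 h5)
  · -- split
    have hax0 : IsConj g (elS a 0) := hax.trans (elS_split_isConj ha x)
    have hpow : elS a (0 : F) ^ (qF - 1) = 1 := by
      have h1 : a ^ (qF - 1) = 1 := Units.ext (by
        rw [Units.val_pow_eq_pow_val, Units.val_one]
        exact FiniteField.pow_card_sub_one_eq_one (a : F) a.ne_zero)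
      rw [elS_pow_diag, h1, elS_one_zero]
    have hord0 : orderOf (elS a (0 : F)) = orderOf g := by
      obtain ⟨c, hc⟩ := isConj_iff.1 hax0
      rw [← hc, ← MulAut.conj_apply, MulEquiv.orderOf_eq]
    rw [if_pos (hg.trans (hord0 ▸ orderOf_dvd_of_pow_eq_one hpow))]
    have hval : psSL (1 : MulChar F ℂ) (elS a (0 : F)) = 2 := by
      have h1 := sum_psSL_elS (1 : MulChar F ℂ) a
      rw [Finset.sum_congr rfl fun y _ => classFun_isConj
        (isClassFunction_of_isCharacter (isCharacter_psSL (1 : MulChar F ℂ))) (elS_split_isConj ha y),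
        Finset.sum_const, Finset.card_univ, nsmul_eq_mul, MulChar.one_apply_coe, MulChar.one_apply_coe] at h1
      rw [mul_left_cancel₀ (by exact_mod_cast Fintype.card_ne_zero) h1]
      norm_num
    rw [show stSL g = stSL (elS a (0 : F)) from
      classFun_isConj (isClassFunction_irr ⟨_, isIrr_stSL (F := F)⟩) hax0]
    show stSL (elS a (0 : F)) = 1
    rw [stSL, Pi.sub_apply, hval]
    norm_num

end CfsgLib.GW.KleinHalves

namespace CfsgLib.GW.KleinHalves

open Matrix Cfsg CfsgLib.Char CfsgLib.Char.TwoChars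

/-- a field automorphism fixing given roots of unity and negating the square roots of `± q` -/
theorem exists_aut_neg_sqrt (F : Type*) [Field F] [Fintype F] {N : ℕ} (hN : N ≠ 0)
    (h8 : Fintype.card F % 8 = 3 ∨ Fintype.card F % 8 = 5) (hNF : N.Coprime (Fintype.card F)) :
    ∃ τ : ℂ ≃+* ℂ, (∀ z : ℂ, z ^ N = 1 → τ z = z) ∧
      ∀ w : ℂ, w ^ 2 = (-1 : ℂ) ^ ((Fintype.card F - 1) / 2) * (Fintype.card F : ℂ) → τ w = -w ∧ w ≠ 0 := by
  classical
  obtain ⟨r0, n, hr0, hn0, hq⟩ : ∃ r0 n : ℕ, r0.Prime ∧ 0 < n ∧ Fintype.card F = r0 ^ n := by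
    obtain ⟨f, hr0, hq⟩ := FiniteField.card F (ringChar F)
    exact ⟨_, _, hr0, f.pos, hq⟩
  haveI := Fact.mk hr0
  obtain ⟨i, hi⟩ : Odd n := by
    rcases Nat.even_or_odd n with ⟨i, hi⟩ | ho
    · exfalso
      rw [hq, hi, pow_add] at h8
      have : r0 ^ i % 8 < 8 := Nat.mod_lt _ (by norm_num)
      rw [Nat.mul_mod] at h8
      interval_cases r0 ^ i % 8 <;> omega
    · exact ho
  have hodd0 : Odd r0 := by
    rcases Nat.even_or_odd r0 with he | ho
    · have : Even (r0 ^ n) := he.pow_of_ne_zero (by omega)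
      rw [← hq] at this
      obtain ⟨j, hj⟩ := this
      omega
    · exact ho
  have hmod4 : r0 ^ n % 4 = r0 % 4 := by
    have h0 : r0 ^ 2 % 4 = 1 := by
      obtain ⟨j, rfl⟩ := hodd0
      ring_nf
      omega
    rw [hi, pow_succ, pow_mul, Nat.mul_mod, Nat.pow_mod, h0]
    simp
  have hne : ringChar (ZMod r0) ≠ 2 := by
    rw [ZMod.ringChar_zmod_n]
    rintro rfl
    exact absurd hodd0 (by decide)
  obtain ⟨ν, hν⟩ := FiniteField.exists_nonsquare hne
  have hν0 : ν ≠ 0 := fun h => hν (h ▸ IsSquare.zero)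
  have hrN : ∀ m : ℕ, m ∣ N → ¬ r0 ∣ m := fun m hm h => hr0.one_lt.ne'
    (Nat.eq_one_of_dvd_coprimes hNF (h.trans hm) (hq ▸ dvd_pow_self r0 (by omega)))
  obtain ⟨τ, hfix, hmove⟩ := CfsgLib.Char.BlichfeldtPi.exists_aut (q := r0) (k := ν.val) hr0
    (ZMod.val_coe_unit_coprime (Units.mk0 ν hν0)) hN
  refine ⟨τ, fun z hz => hfix z N dvd_rfl (hrN N dvd_rfl) hz, fun w hw => ?_⟩
  set χ : MulChar (ZMod r0) ℂ := (quadraticChar (ZMod r0)).ringHomComp (Int.castRingHom ℂ) with hχ
  have hq2 : χ.IsQuadratic := (quadraticChar_isQuadratic _).comp _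
  have hne1 : χ ≠ 1 := (MulChar.ringHomComp_ne_one_iff Int.cast_injective).2 (quadraticChar_ne_one hne)
  obtain ⟨ψ, hψ⟩ := exists_primitive (F := ZMod r0)
  set g := gaussSum χ ψ with hg
  have hg2 : g ^ 2 = χ (-1) * (Fintype.card (ZMod r0) : ℂ) := gaussSum_sq hne1 hq2 hψ
  rw [ZMod.card] at hg2
  have hτg : τ g = -g := by
    have h1 : τ g = gaussSum χ (ψ.mulShift ν) := by
      rw [hg, gaussSum, gaussSum, map_sum]
      refine Finset.sum_congr rfl fun x _ => ?_
      rw [map_mul, hχ, MulChar.ringHomComp_apply, eq_intCast, map_intCast, AddChar.mulShift_apply,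
        hmove (ψ x) (by rw [← AddChar.map_nsmul_eq_pow, nsmul_eq_mul, ZMod.natCast_self, zero_mul,
          AddChar.map_zero_eq_one]),
        ← AddChar.map_nsmul_eq_pow, nsmul_eq_mul, ZMod.natCast_zmod_val]
    have h2 := gaussSum_mulShift χ ψ (Units.mk0 ν hν0)
    rw [Units.val_mk0, quad_apply_nonsq hq2.sq_eq_one hne1 hν, ← h1, ← hg] at h2
    linear_combination -h2
  have hchi : χ (-1) = (-1 : ℂ) ^ ((Fintype.card F - 1) / 2) := by
    rw [hχ, MulChar.ringHomComp_apply, quadraticChar_neg_one hne, ZMod.card,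
      ZMod.χ₄_eq_neg_one_pow (Nat.odd_iff.1 hodd0)]
    simp only [map_pow, map_neg, map_one]
    refine neg_one_pow_congr ?_
    rw [hq, Nat.even_iff, Nat.even_iff]
    obtain ⟨j, hj⟩ := hodd0
    have : Odd (r0 ^ n) := Odd.pow ⟨j, hj⟩
    obtain ⟨j', hj'⟩ := this
    rw [hj] at hmod4 ⊢
    rw [hj] at hj'
    rw [hj'] at hmod4 ⊢
    omega
  have hsq : (g * (r0 : ℂ) ^ i) ^ 2 = w ^ 2 := by
    rw [hw, ← hchi, mul_pow, hg2, hq, ← pow_mul, Nat.cast_pow]
    rw [show n = i * 2 + 1 by omega, pow_succ]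
    ring
  have hτ' : τ (g * (r0 : ℂ) ^ i) = -(g * (r0 : ℂ) ^ i) := by
    rw [map_mul, map_pow, map_natCast, hτg, neg_mul]
  refine ⟨?_, fun h0 => ?_⟩
  · rcases sq_eq_sq_iff_eq_or_eq_neg.1 hsq with h | h
    · rw [← h, hτ']
    · rw [eq_neg_iff_add_eq_zero, add_comm, ← eq_neg_iff_add_eq_zero] at h
      rw [h, map_neg, hτ']
  · rw [h0, zero_pow two_ne_zero, eq_comm, mul_eq_zero] at hw
    rcases hw with h | h
    · exact pow_ne_zero _ (neg_ne_zero.2 one_ne_zero) h
    · exact Fintype.card_ne_zero (α := F) (by exact_mod_cast h)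

/-- **the halves are exchanged** -/
theorem half_swapped {F : Type*} [Field F] [Fintype F] (hodd : Odd (Fintype.card F)) (h5 : 5 ≤ Fintype.card F)
    (τ : ℂ ≃+* ℂ)
    (hτ : ∀ w : ℂ, w ^ 2 = (-1 : ℂ) ^ ((Fintype.card F - 1) / 2) * (Fintype.card F : ℂ) → τ w = -w ∧ w ≠ 0)
    (ψ : IrrCharacter (Matrix.SpecialLinearGroup (Fin 2) F))
    (hd : (ψ : Matrix.SpecialLinearGroup (Fin 2) F → ℂ) 1 = (((Fintype.card F + 1) / 2 : ℕ) : ℂ) ∨
      (ψ : Matrix.SpecialLinearGroup (Fin 2) F → ℂ) 1 = (((Fintype.card F - 1) / 2 : ℕ) : ℂ)) :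
    (∃ u, τ ((ψ : Matrix.SpecialLinearGroup (Fin 2) F → ℂ) u) ≠ (ψ : _ → ℂ) u) ∧
      ∀ x, τ (τ ((ψ : Matrix.SpecialLinearGroup (Fin 2) F → ℂ) x)) = (ψ : _ → ℂ) x := by
  classical
  set u : Matrix.SpecialLinearGroup (Fin 2) F := ⟨!![1, 1; 0, 1], by simp [Matrix.det_fin_two]⟩
  obtain ⟨hplus, hminus, -, -⟩ := Cfsg.Agent.S2324.result hodd h5 u rfl
  have hmove : τ ((ψ : Matrix.SpecialLinearGroup (Fin 2) F → ℂ) u) ≠ (ψ : _ → ℂ) u := by
    intro h
    rcases hd with hd | hd
    · obtain ⟨h1, h2⟩ := hτ _ (hplus _ ψ.2 hd)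
      rw [map_sub, map_mul, map_ofNat, map_one, h] at h1
      exact h2 (by linear_combination (1 / 2 : ℂ) * h1)
    · obtain ⟨h1, h2⟩ := hτ _ (hminus _ ψ.2 hd)
      rw [map_add, map_mul, map_ofNat, map_one, h] at h1
      exact h2 (by linear_combination (1 / 2 : ℂ) * h1)
  refine ⟨⟨u, hmove⟩, ?_⟩
  obtain ⟨-, hcount⟩ := Cfsg.Agent.S2299.result (F := F) hodd
  obtain ⟨-, -, -, -, hcp, hcm⟩ := hcount h5
  have key : ∀ d : ℂ, (ψ : Matrix.SpecialLinearGroup (Fin 2) F → ℂ) 1 = d →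
      Nat.card {χ : IrrCharacter (Matrix.SpecialLinearGroup (Fin 2) F) //
        (χ : Matrix.SpecialLinearGroup (Fin 2) F → ℂ) 1 = d} = 2 →
      galChar τ (galChar τ ψ) = ψ := by
    intro d hψd hc
    have h1 : galChar τ ψ ≠ ψ := fun e => hmove (by rw [← galChar_apply, e])
    have h2 : galChar τ (galChar τ ψ) ≠ galChar τ ψ := fun e => h1 (by
      have := congrArg (galChar τ.symm) e
      rwa [galChar_symm, galChar_symm] at this)
    obtain ⟨a, b, -, huniv⟩ := Nat.card_eq_two_iff.1 hc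
    have hmem : ∀ v : {χ : IrrCharacter (Matrix.SpecialLinearGroup (Fin 2) F) //
        (χ : Matrix.SpecialLinearGroup (Fin 2) F → ℂ) 1 = d}, v = a ∨ v = b := fun v => by
      simpa using (show v ∈ ({a, b} : Set _) from huniv ▸ Set.mem_univ v)
    rcases hmem ⟨ψ, hψd⟩ with e1 | e1 <;>
      rcases hmem ⟨galChar τ ψ, (galChar_one τ ψ).trans hψd⟩ with e2 | e2 <;>
      rcases hmem ⟨galChar τ (galChar τ ψ), ((galChar_one τ _).trans (galChar_one τ ψ)).trans hψd⟩ with e3 | e3 <;>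
      first
        | exact absurd (congrArg Subtype.val (e2.trans e1.symm)) h1
        | exact absurd (congrArg Subtype.val (e3.trans e2.symm)) h2
        | exact congrArg Subtype.val (e3.trans e1.symm)
  intro x
  have hfix : galChar τ (galChar τ ψ) = ψ := by
    rcases hd with hd | hd
    · exact key _ hd hcp
    · exact key _ hd hcm
  conv_rhs => rw [← hfix]
  rfl

end CfsgLib.GW.KleinHalves
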