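import Cfsg.Agent.Lib.GW.CaseB
import Cfsg.Agent.Lib.GW.CaseC
import Cfsg.Agent.Lib.GW.CaseCFourMain
import Cfsg.Agent.Lib.GW.CaseA.NormaliserY
import Cfsg.Agent.Lib.GW.CaseA.AStructure
import Cfsg.Agent.Lib.GW.CaseA.Inverted.Main
import Cfsg.Agent.Lib.GW.CaseA.Mixed.Main
import Cfsg.Agent.Lib.GW.CaseA.CaseI
import Cfsg.Agent.Lib.GW.Perfect
import Cfsg.Agent.Lib.Classical.ProjLine
import Cfsg.Agent.S0508

/-!
# The Gorenstein-Walter theorem: assembly

For a minimal counterexample with Sylow 2-subgroups of order at least eight every involution centraliser is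
maximal (cases B and C); case A is split along `Partial` and `Degenerate`.
-/

set_option autoImplicit false
set_option linter.unusedSectionVars false
set_option linter.style.haveILetI false

open Subgroup
open CfsgLib.Invol CfsgLib.GW.CaseA

namespace CfsgLib.GW

universe u

variable {G : Type u} [Group G] [Finite G]

/-- A normal subgroup of even order of a quotient by an odd subgroup contains the image of `t`; if it misses an
involution, it misses one commuting with `t`. -/
theorem exists_frame_position (hG : Min G) (h8 : 8 ∣ Nat.card G) {t : G} (ht : orderOf t = 2) {M : Subgroup G}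
    (hC : centralizer ({t} : Set G) ≤ M) (N : Subgroup (M ⧸ Cfsg.oddCore M)) [N.Normal]
    (hin : ∃ x : M ⧸ Cfsg.oddCore M, orderOf x = 2 ∧ x ∈ N)
    (hout : ∃ x : M ⧸ Cfsg.oddCore M, orderOf x = 2 ∧ x ∉ N) :
    ∃ (t' a : M), (t' : G) = t ∧ QuotientGroup.mk' (Cfsg.oddCore M) t' ∈ N ∧ orderOf (a : G) = 2 ∧
      Commute t (a : G) ∧ QuotientGroup.mk' (Cfsg.oddCore M) a ∉ N := by
  classical
  haveI : Fact (Nat.Prime 2) := ⟨Nat.prime_two⟩
  obtain ⟨P, σ, τ, h, D, rfl, -⟩ := hG.exists_frame h8 ht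
  have hPM : (P : Subgroup G) ≤ M := fun x hx => hC (mem_centralizer_singleton_iff.2 (D.J_comm hx).eq)
  set π := QuotientGroup.mk' (Cfsg.oddCore M)
  set PX := (P.subtype hPM).mapSurjective (QuotientGroup.mk'_surjective (Cfsg.oddCore M)) with hPX
  -- involutions of the quotient are conjugate into the image of the frame
  have hrep : ∀ x : M ⧸ Cfsg.oddCore M, orderOf x = 2 →
      ∃ p : M, (p : G) ∈ (P : Subgroup G) ∧ ∃ y, π p = y * x * y⁻¹ := by
    intro x hx
    obtain ⟨R, hR⟩ := (IsPGroup.of_card (n := 1) (by rw [Nat.card_zpowers, hx, pow_one]) :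
      IsPGroup 2 (zpowers x)).exists_le_sylow
    obtain ⟨y, hy⟩ := MulAction.exists_smul_eq (M ⧸ Cfsg.oddCore M) R PX
    have hmem : y * x * y⁻¹ ∈ (PX : Subgroup (M ⧸ Cfsg.oddCore M)) := by
      rw [← hy, Sylow.coe_subgroup_smul]
      exact ⟨x, hR (mem_zpowers x), rfl⟩
    rw [hPX, Sylow.coe_mapSurjective] at hmem
    obtain ⟨p, hp, hpe⟩ := hmem
    exact ⟨p, hp, y, hpe⟩
  set N' := N.comap π with hN'
  set sM : M := ⟨σ, hPM D.memσ⟩
  set tM : M := ⟨τ, hPM D.memτ⟩
  refine ⟨sM ^ h, ?_⟩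
  have hcase : ∀ p : M, (p : G) ∈ (P : Subgroup G) → ∃ l : ℕ, p = sM ^ l ∨ p = tM * sM ^ l := fun p hp => by
    obtain ⟨l, e | e⟩ := D.cases _ hp
    · exact ⟨l, Or.inl (Subtype.ext e)⟩
    · exact ⟨l, Or.inr (Subtype.ext e)⟩
  -- the central involution
  have htN : sM ^ h ∈ N' := by
    obtain ⟨x, hx, hxN⟩ := hin
    obtain ⟨p, hp, y, hy⟩ := hrep x hx
    have hpN : p ∈ N' := by
      rw [hN', mem_comap, hy]
      exact Normal.conj_mem inferInstance x hxN y
    have hp1 : p ≠ 1 := fun e => by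
      rw [e, map_one] at hy
      exact Invol.invol_ne_one hx (conj_eq_one_iff.1 hy.symm)
    obtain ⟨l, e | e⟩ := hcase p hp
    · subst e
      have hpo : orderOf (σ ^ l) ≠ 1 := fun e => hp1 (Subtype.ext (orderOf_eq_one_iff.1 e))
      obtain ⟨i, hi⟩ := P.2.to_le le_rfl ⟨σ ^ l, hp⟩
      have hdvd : orderOf (σ ^ l) ∣ 2 ^ i := orderOf_dvd_of_pow_eq_one (congrArg Subtype.val hi)
      obtain ⟨b, -, hb⟩ := (Nat.dvd_prime_pow Nat.prime_two).1 hdvd
      obtain ⟨b, rfl⟩ : ∃ c, b = c + 1 := ⟨b - 1, by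
        rcases Nat.eq_zero_or_pos b with rfl | h0
        · exact absurd (hb.trans (pow_zero 2)) hpo
        · omega⟩
      have h1 : σ ^ (l * 2 ^ b) ≠ 1 := fun e => by
        rw [pow_mul] at e
        have := orderOf_dvd_of_pow_eq_one e
        rw [hb, Nat.pow_dvd_pow_iff_le_right one_lt_two] at this
        omega
      have h2 : h ∣ l * 2 ^ b := by
        refine (Nat.mul_dvd_mul_iff_left two_pos).1 (D.pow_eq_one.1 ?_)
        rw [show 2 * (l * 2 ^ b) = l * 2 ^ (b + 1) by ring, pow_mul, ← hb, pow_orderOf_eq_one]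
      have h3 : sM ^ h = sM ^ (l * 2 ^ b) := Subtype.ext (D.eq_J h1 h2).symm
      rw [h3, pow_mul]
      exact pow_mem hpN _
    · subst e
      have hmem : (tM * sM ^ l) * sM * (tM * sM ^ l)⁻¹ * sM⁻¹ ∈ N' := by
        rw [show (tM * sM ^ l) * sM * (tM * sM ^ l)⁻¹ * sM⁻¹ =
          (tM * sM ^ l) * (sM * (tM * sM ^ l)⁻¹ * sM⁻¹) by group]
        exact mul_mem hpN (Normal.conj_mem inferInstance _ (inv_mem hpN) _)
      have hval : (tM * sM ^ l) * sM * (tM * sM ^ l)⁻¹ * sM⁻¹ = (sM ^ 2)⁻¹ := Subtype.ext (by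
        show τ * σ ^ l * σ * (τ * σ ^ l)⁻¹ * σ⁻¹ = (σ ^ 2)⁻¹
        calc τ * σ ^ l * σ * (τ * σ ^ l)⁻¹ * σ⁻¹ = τ * σ * τ⁻¹ * σ⁻¹ := by group
          _ = (σ ^ 2)⁻¹ := by rw [D.rel]; group)
      rw [hval, inv_mem_iff] at hmem
      obtain ⟨j, hj⟩ := D.h_even
      rw [show h = 2 * j by omega, pow_mul]
      exact pow_mem hmem _
  -- a reflection outside
  obtain ⟨x, hx, hxN⟩ := hout
  obtain ⟨p, hp, y, hy⟩ := hrep x hx
  have hpN : p ∉ N' := fun hc => hxN (by
    rw [show x = y⁻¹ * (y * x * y⁻¹) * y⁻¹⁻¹ by group]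
    exact Normal.conj_mem inferInstance _ (hy ▸ hc) _)
  obtain ⟨l, hl⟩ : ∃ l, tM * sM ^ l ∉ N' := by
    by_contra! hall
    have h0 := hall 0
    rw [pow_zero, mul_one] at h0
    have hs : sM ∈ N' := by
      have := mul_mem (inv_mem h0) (hall 1)
      rwa [pow_one, inv_mul_cancel_left] at this
    obtain ⟨l, e | e⟩ := hcase p hp <;> subst e
    · exact hpN (pow_mem hs l)
    · exact hpN (hall l)
  have hl' : τ * σ ^ l ∈ (P : Subgroup G) := mul_mem D.memτ (pow_mem D.memσ l)
  exact ⟨tM * sM ^ l, rfl, htN,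
    orderOf_eq_prime (show (τ * σ ^ l) ^ 2 = 1 by rw [sq]; exact D.refl_sq l)
      (fun e => D.refl_not_rot l 0 (e.trans (pow_zero σ).symm)), (D.J_comm hl').symm, hl⟩

/-- `O(M) ≤ C(t)` when the involutions of `M` fall apart modulo `O(M)` -/
theorem ocore_commute_position (hG : Min G) (h8 : 8 ∣ Nat.card G) {t : G} (ht : orderOf t = 2) {M : Subgroup G}
    (hM : IsCoatom M) (hC : centralizer ({t} : Set G) ≤ M) (N : Subgroup (M ⧸ Cfsg.oddCore M)) [hN : N.Normal]
    (hin : ∃ x : M ⧸ Cfsg.oddCore M, orderOf x = 2 ∧ x ∈ N)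
    (hout : ∃ x : M ⧸ Cfsg.oddCore M, orderOf x = 2 ∧ x ∉ N) :
    ∃ t' : M, orderOf t' = 2 ∧ QuotientGroup.mk' (Cfsg.oddCore M) t' ∈ N ∧
      ∀ k ∈ Cfsg.oddCore M, Commute t' k := by
  obtain ⟨t', a, htt, htN, ha, hc, haN⟩ := exists_frame_position hG h8 ht hC N hin hout
  subst htt
  set π := QuotientGroup.mk' (Cfsg.oddCore M)
  have hta : (t' : G) ≠ a := fun e => haN (Subtype.ext e ▸ htN)
  have hap : ∀ m ∈ M, m * t' * m⁻¹ ≠ (a : G) ∧ m * t' * m⁻¹ ≠ t' * a := fun m hm => by
    have hmem : π (⟨m, hm⟩ * t' * (⟨m, hm⟩ : M)⁻¹) ∈ N := by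
      rw [map_mul, map_mul, map_inv]
      exact hN.conj_mem _ htN _
    refine ⟨fun e => haN ?_, fun e => haN ?_⟩
    · rwa [show (⟨m, hm⟩ * t' * (⟨m, hm⟩ : M)⁻¹ : M) = a from Subtype.ext e] at hmem
    · rw [show (⟨m, hm⟩ * t' * (⟨m, hm⟩ : M)⁻¹ : M) = t' * a from Subtype.ext e, map_mul] at hmem
      exact (mul_mem_cancel_left htN).1 hmem
  have hle := hG.ocore_le_centralizer_of_apart ht ha hta hc hM hC hap
  exact ⟨t', by rwa [← Subgroup.orderOf_coe], htN, fun k hk =>
    Subtype.ext (mem_centralizer_singleton_iff.1 (hle ⟨k, hk, rfl⟩)).symm⟩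

/-- If `C(K)` covers the image of an involution, the involution centralises the odd normal subgroup `K`. -/
theorem commute_of_image_mem {H : Type*} [Group H] [Finite H] (K : Subgroup H) [K.Normal]
    (hK : Odd (Nat.card K)) {u : H} (hu : orderOf u = 2)
    (h : QuotientGroup.mk' K u ∈ (centralizer (K : Set H)).map (QuotientGroup.mk' K)) :
    ∀ k ∈ K, Commute u k := by
  obtain ⟨c, hc, hcu⟩ := h
  set j := c⁻¹ * u with hj
  have hjK : j ∈ K := by
    rw [hj]
    exact QuotientGroup.eq.1 hcu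
  have hcc : ∀ k ∈ K, c * k * c⁻¹ = k := fun k hk =>
    mul_inv_eq_iff_eq_mul.2 ((mem_centralizer_iff.1 hc k hk).symm)
  have huk : ∀ k ∈ K, u * k * u⁻¹ = j * k * j⁻¹ := fun k hk => by
    have h1 : j * k * j⁻¹ ∈ K := mul_mem (mul_mem hjK hk) (inv_mem hjK)
    calc u * k * u⁻¹ = c * (j * k * j⁻¹) * c⁻¹ := by rw [hj]; group
      _ = j * k * j⁻¹ := hcc _ h1
  have hsq : ∀ k ∈ K, Commute k (j * j) := fun k hk => by
    have h1 : j * k * j⁻¹ ∈ K := mul_mem (mul_mem hjK hk) (inv_mem hjK)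
    have h2 : j * (j * k * j⁻¹) * j⁻¹ = k := by
      rw [← huk _ h1, ← huk k hk]
      calc u * (u * k * u⁻¹) * u⁻¹ = (u * u) * k * (u * u)⁻¹ := by group
        _ = k := by rw [Invol.invol_mul_self hu, one_mul, inv_one, mul_one]
    refine (mul_inv_eq_iff_eq_mul.1 ?_).symm
    calc j * j * k * (j * j)⁻¹ = j * (j * k * j⁻¹) * j⁻¹ := by group
      _ = k := h2
  intro k hk
  have hjk : Commute k j := CaseB.commute_of_sq (CaseB.orderOf_odd_of_mem hK hjK)
    (by rw [sq]; exact hsq k hk)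
  exact mul_inv_eq_iff_eq_mul.1 ((huk k hk).trans (mul_inv_eq_iff_eq_mul.2 hjk.symm.eq))

/-- **every involution centraliser is maximal**, unless the conclusion holds -/
theorem Min.centralizer_maximal (hG : Min G) (h8 : 8 ∣ Nat.card G) (hnot : ¬ IsPSLTwoOrA7 G) {t : G}
    (ht : orderOf t = 2) : IsCoatom (centralizer ({t} : Set G)) := by
  classical
  haveI : Fact (Nat.Prime 2) := ⟨Nat.prime_two⟩
  obtain ⟨M, hM, hC⟩ := CaseB.exists_coatom (hG.centralizer_ne_top ht)
  rcases hG.proper_cases hM.1 with htwo | hc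
  · rwa [← hG.caseB ht hM hC htwo]
  exfalso
  have hKo : Odd (Nat.card (Cfsg.oddCore M)) := odd_oddCore M
  set π := QuotientGroup.mk' (Cfsg.oddCore M)
  set H := (centralizer (Cfsg.oddCore M : Set M)).map π with hH
  haveI : H.Normal := Subgroup.Normal.map inferInstance _ (QuotientGroup.mk'_surjective _)
  by_cases h4 : IsFourType (M ⧸ Cfsg.oddCore M)
  · obtain ⟨V, hVn, hVK, hVC, hX⟩ := h4
    haveI := hVn
    refine hnot (hG.isPSLTwoOrA7_of_fourType h8 ht hC (fun H' hle hne => ?_) V hVn hVK hVC hX fun u hu huV => ?_)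
    · exact ((hM.le_iff.1 hle).resolve_left hne)
    refine commute_of_image_mem _ hKo hu ?_
    -- the image of a Sylow subgroup of order at least eight
    have h8X : 8 ∣ Nat.card (M ⧸ Cfsg.oddCore M) := by
      obtain ⟨P, σ, τ, h, D, hσ, -⟩ := hG.exists_frame h8 ht
      have hPM : (P : Subgroup G) ≤ M :=
        fun x hx => hC (mem_centralizer_singleton_iff.2 (hσ ▸ (D.J_comm hx).eq))
      have h1 : 8 ∣ Nat.card M := by
        refine Dvd.dvd.trans ?_ (card_dvd_of_le hPM)
        obtain ⟨j, hj⟩ := D.h_even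
        rw [D.card, hj]
        exact ⟨j, by ring⟩
      rw [← (Cfsg.oddCore M).card_mul_index, index_eq_card] at h1
      exact ((Nat.coprime_two_left.2 hKo).pow_left 3).dvd_of_dvd_mul_left h1
    have hX24 : Nat.card (M ⧸ Cfsg.oddCore M) = 24 := hX.resolve_left fun e => by
      rw [e] at h8X
      norm_num at h8X
    have hin : ∃ x : M ⧸ Cfsg.oddCore M, orderOf x = 2 ∧ x ∈ V :=
      ⟨_, orderOf_mk_invol hKo hu, huV⟩
    have hout : ∃ x : M ⧸ Cfsg.oddCore M, orderOf x = 2 ∧ x ∉ V := by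
      by_contra! hall
      obtain ⟨P, σ, τ, h, D, hσ, -⟩ := hG.exists_frame h8 ht
      have hPM : (P : Subgroup G) ≤ M :=
        fun x hx => hC (mem_centralizer_singleton_iff.2 (hσ ▸ (D.J_comm hx).eq))
      set PX := (P.subtype hPM).mapSurjective (QuotientGroup.mk'_surjective (Cfsg.oddCore M)) with hPX
      have hrefl : ∀ (x : M) (l : ℕ), (x : G) = τ * σ ^ l → π x ∈ V := fun x l hxl => by
        have hx2 : orderOf x = 2 := by
          rw [← Subgroup.orderOf_coe, hxl]
          exact orderOf_eq_prime (by rw [sq]; exact D.refl_sq l)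
            (fun e => D.refl_not_rot l 0 (e.trans (pow_zero σ).symm))
        exact hall _ (orderOf_mk_invol hKo hx2)
      have hle : (PX : Subgroup (M ⧸ Cfsg.oddCore M)) ≤ V := by
        rw [hPX, Sylow.coe_mapSurjective]
        rintro _ ⟨p, hp, rfl⟩
        have h0 : π ⟨τ, hPM D.memτ⟩ ∈ V := hrefl _ 0 (by simp)
        have h1 : π ⟨τ * σ, hPM (mul_mem D.memτ D.memσ)⟩ ∈ V := hrefl _ 1 (by simp)
        have hs : π ⟨σ, hPM D.memσ⟩ ∈ V := by
          have := mul_mem (inv_mem h0) h1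
          rwa [← map_inv, ← map_mul, show (⟨τ, hPM D.memτ⟩ : M)⁻¹ * ⟨τ * σ, hPM (mul_mem D.memτ D.memσ)⟩ =
            ⟨σ, hPM D.memσ⟩ from Subtype.ext (inv_mul_cancel_left τ σ)] at this
        obtain ⟨l, e | e⟩ := D.cases _ hp
        · rw [show p = (⟨σ, hPM D.memσ⟩ : M) ^ l from Subtype.ext e, map_pow]
          exact pow_mem hs l
        · exact hrefl p l e
      have h2 := card_dvd_of_le hle
      have h3 : 2 ^ 3 ∣ Nat.card (PX : Subgroup (M ⧸ Cfsg.oddCore M)) :=
        PX.pow_dvd_card_of_pow_dvd_card h8X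
      rw [hVK.card_four] at h2
      exact absurd (Nat.le_of_dvd (by norm_num) (h3.trans h2)) (by norm_num)
    obtain ⟨t', ht', ht'V, hcomm⟩ := ocore_commute_position hG h8 ht hM hC V hin hout
    have hVH : V ≤ H := by
      have htH : π t' ∈ V ⊓ H :=
        ⟨ht'V, ⟨t', mem_centralizer_iff.2 fun k hk => (hcomm k hk).eq.symm, rfl⟩⟩
      by_contra hnle
      have ht2 := orderOf_mk_invol hKo ht'
      have hlt : Nat.card (V ⊓ H : Subgroup _) = 2 := by
        have h1 : Nat.card (V ⊓ H : Subgroup _) ∣ 4 := hVK.card_four ▸ card_dvd_of_le inf_le_left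
        have h2 : 2 ∣ Nat.card (V ⊓ H : Subgroup _) := by
          have h := Subgroup.orderOf_dvd_natCard (V ⊓ H) htH
          rwa [ht2] at h
        have h3 : Nat.card (V ⊓ H : Subgroup _) ≠ 4 := fun e => hnle
          ((Subgroup.eq_of_le_of_card_ge inf_le_left (by rw [e, hVK.card_four])).ge.trans inf_le_right)
        have := Nat.le_of_dvd (by norm_num) h1
        interval_cases hq : Nat.card (V ⊓ H : Subgroup _) <;> omega
      obtain ⟨y, hy⟩ := exists_prime_orderOf_dvd_card' 3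
        (show 3 ∣ Nat.card (M ⧸ Cfsg.oddCore M) by rw [hX24]; norm_num)
      haveI : IsMulCommutative V := IsPGroup.isMulCommutative_of_card_eq_prime_sq (p := 2)
        (by rw [hVK.card_four]; norm_num)
      have hzeq : zpowers (π t') = V ⊓ H := Subgroup.eq_of_le_of_card_ge (zpowers_le.2 htH)
        (by rw [hlt, Nat.card_zpowers, ht2])
      have ht1 : π t' ≠ 1 := Invol.invol_ne_one ht2
      have htfix : y * π t' * y⁻¹ = π t' := by
        have hm : y * π t' * y⁻¹ ∈ V ⊓ H := Normal.conj_mem inferInstance _ htH y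
        rw [← hzeq, mem_zpowers_iff] at hm
        obtain ⟨k, hk⟩ := hm
        rw [← zpow_mod_orderOf, ht2] at hk
        rcases Int.emod_two_eq_zero_or_one k with h0 | h0 <;> push_cast at hk <;> rw [h0] at hk
        · rw [zpow_zero] at hk
          exact absurd (conj_eq_one_iff.1 hk.symm) ht1
        · rw [zpow_one] at hk
          exact hk.symm
      have hyV : y ∈ centralizer (V : Set (M ⧸ Cfsg.oddCore M)) := by
        refine mem_centralizer_iff.2 fun v hv => ?_
        by_cases hv1 : v = 1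
        · rw [hv1, one_mul, mul_one]
        by_cases hvt : v = π t'
        · rw [hvt]; exact (mul_inv_eq_iff_eq_mul.1 htfix).symm
        have hv2 : orderOf v = 2 := by
          refine orderOf_eq_prime ?_ hv1
          have he := Monoid.pow_exponent_eq_one (⟨v, hv⟩ : V)
          rw [hVK.exponent_two] at he
          exact congrArg Subtype.val he
        have hcm : Commute (π t') v :=
          congrArg Subtype.val (mul_comm' (⟨π t', ht'V⟩ : V) ⟨v, hv⟩)
        have hcl : closure ({π t', v} : Set (M ⧸ Cfsg.oddCore M)) = V := by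
          refine eq_of_le_of_card_ge ((closure_le _).2 ?_) ?_
          · rintro x (rfl | rfl) <;> assumption
          · rw [hVK.card_four, (isKleinFour_closure_pair ht2 hv2 (Ne.symm hvt) hcm).card_four]
        rcases mem_klein ht2 hv2 (Ne.symm hvt) hcm (hcl.ge (hVn.conj_mem v hv y)) with e | e | e | e
        · exact absurd (conj_eq_one_iff.1 e) hv1
        · exact absurd (mul_left_cancel (mul_right_cancel (e.trans htfix.symm))) hvt
        · exact (mul_inv_eq_iff_eq_mul.1 e).symm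
        · exfalso
          have h2' : y * (y * v * y⁻¹) * y⁻¹ = v := by
            rw [e, show y * (π t' * v) * y⁻¹ = (y * π t' * y⁻¹) * (y * v * y⁻¹) by group, htfix, e,
              ← mul_assoc, Invol.invol_mul_self ht2, one_mul]
          have h3 : y * y * y = 1 := by rw [← pow_three', ← hy, pow_orderOf_eq_one]
          have h5 : y * (y * (y * v * y⁻¹) * y⁻¹) * y⁻¹ = v := by
            calc y * (y * (y * v * y⁻¹) * y⁻¹) * y⁻¹ = (y * y * y) * v * (y * y * y)⁻¹ := by group
              _ = v := by rw [h3]; group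
          rw [h2'] at h5
          rw [h5] at e
          exact ht1 (mul_eq_right.1 e.symm)
      rw [hVC] at hyV
      have hd := Subgroup.orderOf_dvd_natCard V hyV
      rw [hy, hVK.card_four] at hd
      norm_num at hd
    exact hVH huV
  refine hG.false_of_typeC h8 ht hM.1 hC hc h4 fun M0 hM0 hs hout u hu hui => ?_
  haveI := hM0
  haveI := hs
  refine commute_of_image_mem _ hKo hu ?_
  obtain ⟨t', ht', ht'M, hcomm⟩ :=
    ocore_commute_position hG h8 ht hM hC M0 ⟨_, orderOf_mk_invol hKo hu, hui⟩ hout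
  have hle : M0 ≤ H := by
    haveI : (H.subgroupOf M0).Normal := inferInstance
    rcases (inferInstance : (H.subgroupOf M0).Normal).eq_bot_or_eq_top with hb | htop
    · exfalso
      have hm : (⟨π t', ht'M⟩ : M0) ∈ H.subgroupOf M0 :=
        ⟨t', mem_centralizer_iff.2 fun k hk => (hcomm k hk).eq.symm, rfl⟩
      rw [hb, mem_bot] at hm
      exact Invol.invol_ne_one (orderOf_mk_invol hKo ht') (congrArg Subtype.val hm)
    · exact subgroupOf_eq_top.1 htop
  exact hle hui

/-- **case A at every involution** -/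
theorem Min.caseA (hG : Min G) (h8 : 8 ∣ Nat.card G) (hnot : ¬ IsPSLTwoOrA7 G) {t : G} (ht : orderOf t = 2) :
    CaseA t :=
  ⟨hG, ht, fun _ hu => hG.centralizer_maximal h8 hnot hu⟩

/-- outside `Degenerate` some involution acts partially -/
theorem CaseA.exists_partial {t : G} (hA : CaseA t) (hnd : ¬ Degenerate t) :
    ∃ v p, Partial t v p := by
  unfold Degenerate at hnd
  push Not at hnd
  obtain ⟨p, hp, hp2, a, ha, hne, hc, hmov, hfix⟩ := hnd
  obtain ⟨x, hx, hxa, hx1⟩ := hfix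
  exact ⟨a, p, hA, hp, hp2, ha, hne.symm, hc.symm, hmov, ⟨x, hx, hx1, hxa⟩⟩

/-- **no reflection fixes a point of `O(C(t))`**: Brauer-Suzuki-Wall -/
theorem CaseA.isPSLTwoOrA7_of_free {t : G} (hA : CaseA t) (h8 : 8 ∣ Nat.card G)
    (hfree : ∀ a : G, orderOf a = 2 → a ≠ t → Commute a t → ∀ x ∈ Ocore t, Commute x a → x = 1) :
    IsPSLTwoOrA7 G := by
  classical
  have hG := hA.min
  have ht := hA.invol
  haveI := hG.simple
  haveI : Fact (Nat.Prime 2) := ⟨Nat.prime_two⟩
  obtain ⟨P, σ, τ, h, D, hσ, hdih⟩ := hG.exists_frame h8 ht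
  subst hσ
  set O := Ocore (σ ^ h) with hO
  have hcomm : ∀ x ∈ (P : Subgroup G), Commute x (σ ^ h) := fun x hx => D.J_comm hx
  have hPC : (P : Subgroup G) ≤ centralizer ({σ ^ h} : Set G) :=
    fun x hx => mem_centralizer_singleton_iff.2 (hcomm x hx).eq
  have hrefl : ∀ (l : ℕ), ∀ x ∈ O, τ * σ ^ l * x * (τ * σ ^ l)⁻¹ = x⁻¹ := by
    intro l x hx
    have hmem : τ * σ ^ l ∈ (P : Subgroup G) := mul_mem D.memτ (pow_mem D.memσ l)
    have ha : orderOf (τ * σ ^ l) = 2 := orderOf_eq_prime (by rw [sq]; exact D.refl_sq l)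
      (fun e => D.refl_not_rot l 0 (e.trans (pow_zero σ).symm))
    obtain ⟨y, z, hy, -, hyc, hzinv, rfl⟩ := CaseA.exists_fixed_mul_inverted ha
      (centralizer_le_normalizer_ocore (σ ^ h) (hPC hmem)) hx (odd_ocore (σ ^ h))
    rw [hfree _ ha (D.refl_not_rot l h) (hcomm _ hmem) y hy hyc, one_mul]
    exact hzinv
  have hrot : ∀ (l : ℕ), ∀ x ∈ O, σ ^ l * x * (σ ^ l)⁻¹ = x := by
    intro l x hx
    have h0 : ∀ y ∈ O, τ * y * τ⁻¹ = y⁻¹ := fun y hy => by
      have := hrefl 0 y hy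
      rwa [pow_zero, mul_one] at this
    calc σ ^ l * x * (σ ^ l)⁻¹ = τ⁻¹ * (τ * σ ^ l * x * (τ * σ ^ l)⁻¹) * τ := by group
      _ = τ⁻¹ * (τ * x * τ⁻¹) * τ := by rw [hrefl l x hx, h0 x hx]
      _ = x := by group
  have hab : ∀ x ∈ O, ∀ y ∈ O, Commute x y := by
    intro x hx y hy
    have h0 : ∀ z ∈ O, τ * z * τ⁻¹ = z⁻¹ := fun z hz => by
      have := hrefl 0 z hz
      rwa [pow_zero, mul_one] at this
    have e := h0 _ (mul_mem hx hy)
    rw [show τ * (x * y) * τ⁻¹ = (τ * x * τ⁻¹) * (τ * y * τ⁻¹) by group, h0 x hx, h0 y hy,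
      _root_.mul_inv_rev] at e
    exact Commute.inv_inv_iff.1 e
  have hnotc : ∀ l, O ≠ ⊥ → τ * σ ^ l ∉ centralizer (O : Set G) := by
    intro l hne hc
    obtain ⟨⟨x, hx⟩, hx1⟩ := ne_bot_iff_exists_ne_one.1 hne
    have hinv := hrefl l x hx
    rw [← mem_centralizer_iff.1 hc x hx, mul_inv_cancel_right] at hinv
    exact hx1 (Subtype.ext (CaseB.eq_one_of_inv_fix (u := 1) (by simpa using hinv)
      (Commute.one_left x) (CaseB.orderOf_odd_of_mem (odd_ocore (σ ^ h)) hx)))
  have key : ∀ s ∈ (P : Subgroup G), O ≠ ⊥ → (s ∈ centralizer (O : Set G) ↔ s ∈ zpowers σ) := by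
    intro s hs hne
    obtain ⟨l, rfl | rfl⟩ := D.cases s hs
    · exact ⟨fun _ => npow_mem_zpowers σ l, fun _ => mem_centralizer_iff.2 fun x hx =>
        (mul_inv_eq_iff_eq_mul.1 (hrot l x hx)).symm⟩
    · refine ⟨fun hc => absurd hc (hnotc l hne), fun hz => absurd ?_ D.not_zpow⟩
      have := mul_mem hz (inv_mem (npow_mem_zpowers σ l))
      rwa [mul_inv_cancel_right] at this
  obtain ⟨F, iF, jF, ho, he⟩ : ∃ (F : Type) (_ : Field F) (_ : Fintype F), Odd (Fintype.card F) ∧
      Nonempty (G ≃* Matrix.ProjectiveSpecialLinearGroup (Fin 2) F) := by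
    refine Cfsg.Agent.S0508.result P (2 * h) (by have := D.two_le; omega) hdih
      (σ ^ h) ht (pow_mem D.memσ h) (fun s hs => (hcomm s hs).eq) O rfl ?_ ?_ ?_
    · intro hne
      have hinf : (P : Subgroup G) ⊓ centralizer (O : Set G) = zpowers σ := by
        refine le_antisymm (fun s hs => (key s hs.1 hne).1 hs.2) fun s hs => ?_
        exact ⟨D.memZ hs, (key s (D.memZ hs) hne).2 hs⟩
      rw [hinf]
      refine ⟨inferInstance, ?_⟩
      have h1 := ((zpowers σ).subgroupOf (P : Subgroup G)).card_mul_index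
      rw [← relIndex, Nat.card_congr (subgroupOfEquivOfLe (zpowers_le.2 D.memσ)).toEquiv, Nat.card_zpowers,
        D.orderσ, D.card] at h1
      have := D.two_le
      nlinarith
    · intro s hs hnc y hy
      obtain ⟨l, rfl | rfl⟩ := D.cases s hs
      · refine absurd (mem_centralizer_iff.2 fun x hx => ?_) hnc
        exact (mul_inv_eq_iff_eq_mul.1 (hrot l x hx)).symm
      · exact hrefl l y hy
    · intro Y hY hYne
      have hYn : centralizer ({σ ^ h} : Set G) ≤ normalizer (Y : Set G) := by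
        rw [← hG.ocore_sup_sylow ht (P.subtype hPC), Sylow.coe_subtype, map_subgroupOf_eq_of_le hPC]
        refine sup_le (fun o ho => ?_) fun s hs => ?_
        · refine centralizer_le_normalizer _ (mem_centralizer_iff.2 fun y hy => (hab y (hY hy) o ho).eq)
        · have hconj : ∀ y ∈ Y, s * y * s⁻¹ ∈ Y ∧ s⁻¹ * y * s ∈ Y := fun y hy => by
            obtain ⟨l, rfl | rfl⟩ := D.cases s hs
            · refine ⟨by rw [hrot l y (hY hy)]; exact hy, ?_⟩
              have e : σ ^ l * y = y * σ ^ l := mul_inv_eq_iff_eq_mul.1 (hrot l y (hY hy))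
              rw [mul_assoc, ← e, inv_mul_cancel_left]
              exact hy
            · refine ⟨by rw [hrefl l y (hY hy)]; exact inv_mem hy, ?_⟩
              rw [show (τ * σ ^ l)⁻¹ = τ * σ ^ l from inv_eq_of_mul_eq_one_right (D.refl_sq l)]
              have := hrefl l y (hY hy)
              rw [show (τ * σ ^ l)⁻¹ = τ * σ ^ l from inv_eq_of_mul_eq_one_right (D.refl_sq l)] at this
              rw [this]
              exact inv_mem hy
          refine mem_normalizer_iff.2 fun y => ⟨fun hy => (hconj y hy).1, fun hy => ?_⟩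
          have := (hconj _ hy).2
          rwa [show s⁻¹ * (s * y * s⁻¹) * s = y by group] at this
      refine ((hA.maximal _ ht).le_iff.1 hYn).resolve_left ?_ |>.le
      refine CaseB.normalizer_ne_top hG hYne fun e => hG.centralizer_ne_top ht ?_
      exact top_le_iff.1 (e ▸ hY.trans (ocore_le _))
  refine Or.inl ⟨F, iF, jF, ho, ?_, he⟩
  obtain ⟨e⟩ := he
  have hc := CfsgLib.Classical.card_psl2 (F := F)
  rw [← Nat.card_congr e.toEquiv] at hc
  have h1 : 1 < Fintype.card F := Fintype.one_lt_card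
  rcases ho with ⟨j, hj⟩
  by_contra hle
  obtain rfl : j = 1 := by omega
  rw [hj] at hc
  norm_num at hc
  omega

/-- **the theorem for Sylow 2-subgroups of order at least eight**, given the two residual parts of case A -/
theorem Min.isPSLTwoOrA7_of_eight_of (hG : Min G) (h8 : 8 ∣ Nat.card G)
    (hI : ∀ (t v : G) (p : ℕ), CaseA t → Partial t v p → False)
    (hD : ∀ t : G, CaseA t → Degenerate t →
      (∃ a x, orderOf a = 2 ∧ a ≠ t ∧ Commute a t ∧ x ∈ Ocore t ∧ x ≠ 1 ∧ Commute x a) → False) :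
    IsPSLTwoOrA7 G := by
  by_contra hnot
  haveI : Fact (Nat.Prime 2) := ⟨Nat.prime_two⟩
  obtain ⟨t, ht⟩ := exists_prime_orderOf_dvd_card' 2 (dvd_trans (by norm_num) h8)
  have hA := hG.caseA h8 hnot ht
  by_cases hdeg : Degenerate t
  · refine hnot (hA.isPSLTwoOrA7_of_free h8 fun a ha hne hc x hx hxa => ?_)
    by_contra hx1
    exact hD t hA hdeg ⟨a, x, ha, hne, hc, hx, hx1, hxa⟩
  · obtain ⟨v, p, hP⟩ := hA.exists_partial hdeg
    exact hI t v p hA hP

/-- **the theorem for Sylow 2-subgroups of order at least eight**, given the residual configuration -/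
theorem Min.isPSLTwoOrA7_of_eight' (hG : Min G) (h8 : 8 ∣ Nat.card G)
    (hR : ∀ t v w z c e : G, Mixed.Residual t v w z c e → False) : IsPSLTwoOrA7 G := by
  haveI : Fact (Nat.Prime 2) := ⟨Nat.prime_two⟩
  refine hG.isPSLTwoOrA7_of_eight_of h8
    (fun t v p hA hP => CaseA.false_of_partial hP h8 fun F hF => Inverted.false_of_inverted_abelian hF)
    fun t hA hd hex => ?_
  obtain ⟨P, σ, τ, h, D, hσ, -⟩ := hG.exists_frame h8 hA.invol
  have h8' : 8 ∣ Nat.card (centralizer ({t} : Set G)) := by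
    refine Dvd.dvd.trans ?_ (card_dvd_of_le fun x hx => mem_centralizer_singleton_iff.2 (hσ ▸ (D.J_comm hx).eq))
    · obtain ⟨j, hj⟩ := D.h_even
      rw [D.card, hj]
      exact ⟨j, by ring⟩
  rcases Mixed.allInverted_or_residual hA h8' hd with hall | ⟨v, w, z, c, e, hres⟩
  · exact Inverted.false_of_allInverted hA h8' hall hex
  · exact hR t v w z c e hres

/-- the simple case in every order from the minimal configurations -/
theorem gw_of (h : ∀ (G : Type u) [Group G] [Finite G], Min G → IsPSLTwoOrA7 G) (X : Type u) [Group X] [Finite X]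
    [Group.IsPerfect X] (hX : DihTwo X) : IsPSLTwoOrA7 (X ⧸ Cfsg.oddCore X) :=
  perfect_quotient hX (gwBelow_of_min h _)

/-- the minimal configuration from the two Sylow orders -/
theorem Min.isPSLTwoOrA7_of (hG : Min G)
    (h4 : ¬ 8 ∣ Nat.card G → IsPSLTwoOrA7 G)
    (hR : ∀ t v w z c e : G, Mixed.Residual t v w z c e → False) : IsPSLTwoOrA7 G := by
  by_cases h8 : 8 ∣ Nat.card G
  · exact hG.isPSLTwoOrA7_of_eight' h8 hR
  · exact h4 h8

end CfsgLib.GW
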