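import Cfsg.Agent.Lib.GW.QGroupFour
import Cfsg.Agent.Lib.GW.XFacts
import Cfsg.Agent.Lib.GW.AltSeven
import Cfsg.Agent.Lib.Classical.SL2Sylow
import Cfsg.Agent.Lib.LocalStructure.NatSLTwoEmbedded.Setup

/-!
# Q-groups with trivial odd core have a normal `SL(2, q)` (S1216), given the dihedral theorem
-/

set_option autoImplicit false
set_option linter.style.haveILetI false
set_option linter.unusedSectionVars false

namespace CfsgLib.GW

open CfsgLib.Invol
open scoped MatrixGroups commutatorElement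

universe u

/-- the outer automorphisms induced on `PSL(2, q)` commute -/
theorem commutator_le_psl {X : Type u} [Group X] [Finite X] (M : Subgroup X) [M.Normal] {F : Type*} [Field F]
    [Fintype F] (e : M ≃* Matrix.ProjectiveSpecialLinearGroup (Fin 2) F) (h2 : (2 : F) ≠ 0)
    (hC : Subgroup.centralizer (M : Set X) = ⊥) : commutator X ≤ M := by
  obtain ⟨p, hp⟩ := CharP.exists F
  obtain ⟨f, hpp, hF⟩ := FiniteField.card F p
  haveI := Fact.mk hpp
  obtain ⟨θ⟩ := CfsgLib.AutPSL.exists_ringAut_equiv hF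
  haveI : IsCyclic (RingAut F) := isCyclic_of_surjective θ.symm θ.symm.surjective
  let g : X ⧸ M →* RingAut F := QuotientGroup.lift M (fieldOn M e) (le_diagPart M e)
  have hg : g.ker ≤ Subgroup.center (X ⧸ M) := by
    intro d hd
    obtain ⟨d, rfl⟩ := QuotientGroup.mk'_surjective M d
    have hd' : d ∈ diagPart M e := hd
    refine Subgroup.mem_center_iff.2 fun x => ?_
    obtain ⟨x, rfl⟩ := QuotientGroup.mk'_surjective M x
    rw [← map_mul, ← map_mul, eq_comm, ← mul_inv_eq_one, ← map_inv, ← map_mul, QuotientGroup.mk'_apply,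
      QuotientGroup.eq_one_iff]
    by_cases hdM : d ∈ M
    · rw [show d * x * (x * d)⁻¹ = d * (x * d⁻¹ * x⁻¹) by group]
      exact mul_mem hdM (‹M.Normal›.conj_mem _ (inv_mem hdM) x)
    · have hxd : x * d * x⁻¹ ∈ diagPart M e := (diagPart_normal M e).conj_mem d hd' x
      have hxdM : x * d * x⁻¹ ∉ M := fun h => hdM (by
        have := ‹M.Normal›.conj_mem _ h x⁻¹
        simpa [mul_assoc] using this)
      have h1 := mul_mem_of_not_mem M e hC h2 hd' (inv_mem hxd) hdM (fun h => hxdM (inv_mem_iff.1 h))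
      rwa [show d * (x * d * x⁻¹)⁻¹ = d * x * (x * d)⁻¹ by group] at h1
  refine Subgroup.commutator_le.2 fun a _ b _ => ?_
  rw [← QuotientGroup.eq_one_iff, ← QuotientGroup.mk'_apply, map_commutatorElement,
    commutatorElement_eq_one_iff_mul_comm]
  exact commutative_of_cyclic_center_quotient g hg _ _

theorem card_sylow_quotient {Y : Type*} [Group Y] [Finite Y] (Z : Subgroup Y) [Z.Normal] {k : ℕ}
    (hZ : Nat.card Z = 2 ^ k) (S : Sylow 2 Y) (T : Sylow 2 (Y ⧸ Z)) :
    Nat.card (S : Subgroup Y) = 2 ^ k * Nat.card (T : Subgroup (Y ⧸ Z)) := by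
  haveI : Fact (Nat.Prime 2) := ⟨Nat.prime_two⟩
  rw [Sylow.card_eq_multiplicity, Sylow.card_eq_multiplicity, Subgroup.card_eq_card_quotient_mul_card_subgroup Z, hZ,
    Nat.factorization_mul Nat.card_pos.ne' (by positivity), Finsupp.add_apply,
    Nat.Prime.factorization_pow Nat.prime_two, Finsupp.single_eq_same, pow_add, mul_comm]

theorem three_lt_of_card {F : Type*} [Field F] [Fintype F] (hodd : Odd (Fintype.card F))
    (h : 24 < Nat.card (SL(2, F))) : 3 < Fintype.card F := by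
  by_contra hle
  obtain ⟨j, hj⟩ := hodd
  rw [CfsgLib.Classical.card_sl2] at h
  have h1 : Fintype.card F ≤ 3 := by omega
  interval_cases hc : Fintype.card F <;> omega

theorem sl2_card_ge {F : Type*} [Field F] [Fintype F] (hodd : Odd (Fintype.card F)) :
    24 ≤ Nat.card (SL(2, F)) := by
  obtain ⟨j, hj⟩ := hodd
  have h1 := Fintype.one_lt_card (α := F)
  have h3 : 3 ≤ Fintype.card F := by omega
  rw [CfsgLib.Classical.card_sl2]
  calc 24 = 3 * ((3 - 1) * (3 + 1)) := rfl
    _ ≤ _ := Nat.mul_le_mul h3 (Nat.mul_le_mul (by omega) (by omega))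

variable {H : Type u} [Group H] [Finite H] (Z : Subgroup H) [Z.Normal] (M : Subgroup (H ⧸ Z)) [M.Normal]

/-- the socle lies in the image of a subgroup of 2-power index -/
theorem socle_le (K : Subgroup H) [K.Normal] {a : ℕ} (hKi : K.index = 2 ^ a) [IsSimpleGroup M]
    (hna : ¬ IsMulCommutative M) (hC : Subgroup.centralizer (M : Set (H ⧸ Z)) = ⊥) :
    M ≤ K.map (QuotientGroup.mk' Z) := by
  haveI : Fact (Nat.Prime 2) := ⟨Nat.prime_two⟩
  set π := QuotientGroup.mk' Z
  set Kb := K.map π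
  haveI : Kb.Normal := ‹K.Normal›.map π (QuotientGroup.mk'_surjective Z)
  rcases (inferInstance : (Kb.subgroupOf M).Normal).eq_bot_or_eq_top with h | h
  · exfalso
    have hdis : Disjoint Kb M := Subgroup.subgroupOf_eq_bot.1 h
    have hK : Kb = ⊥ := le_bot_iff.1 (hC ▸ fun x hx => Subgroup.mem_centralizer_iff.2 fun v hv =>
      (Subgroup.commute_of_normal_of_disjoint Kb M inferInstance inferInstance hdis x v hx hv).eq.symm)
    obtain ⟨b, -, hb⟩ := (Nat.dvd_prime_pow Nat.prime_two).1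
      (hKi ▸ K.index_map_dvd (QuotientGroup.mk'_surjective Z))
    rw [show (K.map π).index = Nat.card (H ⧸ Z) by rw [show K.map π = ⊥ from hK, Subgroup.index_bot]] at hb
    haveI : Nontrivial M := IsSimpleGroup.toNontrivial
    have hnc := ((IsPGroup.of_card hb).to_subgroup M).center_nontrivial
    refine hna ⟨⟨fun x y => ?_⟩⟩
    rcases (inferInstance : (Subgroup.center M).Normal).eq_bot_or_eq_top with h' | h'
    · exact absurd h' ((Subgroup.nontrivial_iff_ne_bot _).1 hnc)
    · exact (Subgroup.mem_center_iff.1 (h'.symm ▸ Subgroup.mem_top y) x)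
  · exact Subgroup.subgroupOf_eq_top.1 h

/-- the kernel meets the subgroup in two elements and the preimage of the socle is perfect -/
theorem socle_cover (K : Subgroup H) [K.Normal] (hQ : QuatTwo K) [IsCyclic Z] {k : ℕ} (hZ : Nat.card Z = 2 ^ k)
    (hZc : Z ≤ Subgroup.center H) (hMK : M ≤ K.map (QuotientGroup.mk' Z)) (hdi : DihTwo M)
    [IsSimpleGroup M] (hna : ¬ IsMulCommutative M) :
    Nat.card (K ⊓ Z : Subgroup H) = 2 ∧
      (K ⊓ M.comap (QuotientGroup.mk' Z)).map (QuotientGroup.mk' Z) = M ∧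
      ⁅K ⊓ M.comap (QuotientGroup.mk' Z), K ⊓ M.comap (QuotientGroup.mk' Z)⁆ =
        K ⊓ M.comap (QuotientGroup.mk' Z) := by
  classical
  haveI : Fact (Nat.Prime 2) := ⟨Nat.prime_two⟩
  set π := QuotientGroup.mk' Z with hπ
  set L := K ⊓ M.comap π
  have hker : π.ker = Z := QuotientGroup.ker_mk' Z
  have hLmap : L.map π = M := by
    refine le_antisymm ((Subgroup.map_mono inf_le_right).trans (Subgroup.map_comap_le _ _)) fun v hv => ?_
    obtain ⟨x, hx, hxv⟩ := hMK hv
    exact ⟨x, ⟨hx, by show π x ∈ M; rw [hxv]; exact hv⟩, hxv⟩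
  -- a lift of the socle with trivial kernel is impossible
  have key : ∀ D : Subgroup H, D ≤ K → D.map π = M → D ⊓ Z ≠ ⊥ := by
    intro D hDK hDM hbot
    obtain ⟨P⟩ : Nonempty (Sylow 2 M) := inferInstance
    obtain ⟨n, hn, ⟨eP⟩⟩ := hdi P
    obtain ⟨-, a, b, -, -, ha, hb, hab, hc⟩ := hdi.noncyclic P.2
      (fun h => DihedralGroup.not_isCyclic (by omega) (eP.isCyclic.1 h))
    obtain ⟨x, hx, hxa⟩ := (hDM.symm ▸ a.2 : (a : H ⧸ Z) ∈ D.map π)
    obtain ⟨y, hy, hyb⟩ := (hDM.symm ▸ b.2 : (b : H ⧸ Z) ∈ D.map π)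
    have hinj : ∀ v ∈ D, π v = 1 → v = 1 := fun v hv hv1 => by
      have : v ∈ D ⊓ Z := ⟨hv, (QuotientGroup.eq_one_iff v).1 hv1⟩
      rwa [hbot, Subgroup.mem_bot] at this
    have hord : ∀ v ∈ D, orderOf (π v) = 2 → orderOf v = 2 := fun v hv hv2 => by
      refine orderOf_eq_prime ?_ fun e => by rw [e, map_one, orderOf_one] at hv2; omega
      exact hinj _ (pow_mem hv 2) (by rw [map_pow, ← hv2, pow_orderOf_eq_one])
    have hxy : x = y := quat_invol_unique hQ (hDK hx) (hDK hy)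
      (hord x hx (by rw [hxa, Subgroup.orderOf_coe, ha])) (hord y hy (by rw [hyb, Subgroup.orderOf_coe, hb]))
      (commutatorElement_eq_one_iff_commute.1 (hinj _ (by
        rw [commutatorElement_def]; exact mul_mem (mul_mem (mul_mem hx hy) (inv_mem hx)) (inv_mem hy)) (by
        rw [map_commutatorElement, hxa, hyb, commutatorElement_eq_one_iff_commute]
        exact congrArg Subtype.val hc.eq)))
    exact hab (Subtype.ext (hxa ▸ hyb ▸ congrArg π hxy))
  have hLK : L ≤ K := inf_le_left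
  have hKZ : K ⊓ Z = L ⊓ Z := le_antisymm (le_inf (le_inf inf_le_left fun x hx => by
      show π x ∈ M
      rw [hπ, QuotientGroup.mk'_apply, (QuotientGroup.eq_one_iff x).2 hx.2]
      exact one_mem M) inf_le_right) (inf_le_inf_right _ hLK)
  have htwo : Nat.card (K ⊓ Z : Subgroup H) = 2 := by
    have h1 := quat_inf_le_two hQ Z hZc hZ
    have h3 : Nat.card (K ⊓ Z : Subgroup H) ≠ 1 := fun h =>
      key L hLK hLmap (hKZ ▸ Subgroup.card_eq_one.1 h)
    have := Nat.card_pos (α := (K ⊓ Z : Subgroup H))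
    omega
  refine ⟨htwo, hLmap, ?_⟩
  set D := ⁅L, L⁆
  have hDL : D ≤ L := Subgroup.commutator_le_self L
  have hDmap : D.map π = M := by
    rw [Subgroup.map_commutator, hLmap]
    rw [← Subgroup.map_subtype_commutator M]
    rcases (inferInstance : (commutator M).Normal).eq_bot_or_eq_top with h | h
    · refine absurd (⟨⟨fun a b => commutatorElement_eq_one_iff_mul_comm.1 ?_⟩⟩ : IsMulCommutative M) hna
      exact Subgroup.mem_bot.1 (h ▸ Subgroup.commutator_mem_commutator (Subgroup.mem_top a) (Subgroup.mem_top b))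
    · rw [h, ← MonoidHom.range_eq_map, Subgroup.range_subtype]
  have hDZ : D ⊓ Z = K ⊓ Z := by
    refine Subgroup.eq_of_le_of_card_ge (inf_le_inf_right _ (hDL.trans hLK)) ?_
    rw [htwo]
    have h1 : Nat.card (D ⊓ Z : Subgroup H) ≠ 1 := fun h =>
      key D (hDL.trans hLK) hDmap (Subgroup.card_eq_one.1 h)
    have := Nat.card_pos (α := (D ⊓ Z : Subgroup H))
    omega
  refine Subgroup.eq_of_le_of_card_ge hDL ?_
  rw [← card_map_mul_inf_ker π L, ← card_map_mul_inf_ker π D, hLmap, hDmap, hker, hDZ, hKZ]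

theorem qgroup_psl [IsCyclic Z] {k : ℕ} (hZ : Nat.card Z = 2 ^ k) (hZc : Z ≤ Subgroup.center H)
    (K : Subgroup H) [K.Normal] {a : ℕ} (hKi : K.index = 2 ^ a) (hQ : QuatTwo K) (hX : DihTwo (H ⧸ Z))
    (hMK : M ≤ K.map (QuotientGroup.mk' Z)) [IsSimpleGroup M] (hna : ¬ IsMulCommutative M) (hdi : DihTwo M)
    (hC : Subgroup.centralizer (M : Set (H ⧸ Z)) = ⊥) {F : Type} [Field F] [Fintype F]
    (hodd : Odd (Fintype.card F)) (hq : 3 < Fintype.card F)
    (e : M ≃* Matrix.ProjectiveSpecialLinearGroup (Fin 2) F) :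
    ∃ L : Subgroup H, L.Normal ∧ L.map (QuotientGroup.mk' Z) = M ∧ ⁅L, L⁆ = L ∧
      Nonempty (L ≃* SL(2, F)) ∧ commutator H = L := by
  classical
  obtain ⟨htwo, hmap, hperf⟩ := socle_cover Z M K hQ hZ hZc hMK hdi hna
  set π := QuotientGroup.mk' Z with hπ
  set L := K ⊓ M.comap π
  have hπs : Function.Surjective π := QuotientGroup.mk'_surjective Z
  haveI hLn : L.Normal := Subgroup.normal_inf_normal K (M.comap π)
  refine ⟨L, hLn, hmap, hperf, ?_, ?_⟩
  · haveI : Group.IsPerfect L := Subgroup.isPerfect_iff.2 hperf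
    let f : L →* M := (π.comp L.subtype).codRestrict M fun x => x.2.2
    have hf : Function.Surjective f := fun m => by
      obtain ⟨x, hx, hxm⟩ := (hmap.symm ▸ m.2 : (m : H ⧸ Z) ∈ L.map π)
      exact ⟨⟨x, hx⟩, Subtype.ext hxm⟩
    have hk : (e.toMonoidHom.comp f).ker = Z.subgroupOf L := by
      ext x
      rw [MonoidHom.mem_ker, Subgroup.mem_subgroupOf, MonoidHom.comp_apply]
      show e (f x) = 1 ↔ _
      rw [MulEquiv.map_eq_one_iff, ← OneMemClass.coe_eq_one]
      exact QuotientGroup.eq_one_iff (x : H)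
    refine equiv_sl2_of_cover hodd hq (e.toMonoidHom.comp f) (e.surjective.comp hf) ?_ ?_
    · rw [hk]
      intro x hx
      exact Subgroup.mem_center_iff.2 fun y => Subtype.ext (Subgroup.mem_center_iff.1 (hZc hx) (y : H))
    · rw [hk, ← Subgroup.inf_subgroupOf_right, Nat.card_congr (Subgroup.subgroupOfEquivOfLe inf_le_right).toEquiv,
        inf_comm, show L ⊓ Z = K ⊓ Z from le_antisymm (inf_le_inf_right _ inf_le_left)
          (le_inf (le_inf inf_le_left fun x hx => by
            show π x ∈ M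
            rw [hπ, QuotientGroup.mk'_apply, (QuotientGroup.eq_one_iff x).2 hx.2]
            exact one_mem M) inf_le_right), htwo]
  · have h2 : (2 : F) ≠ 0 := CfsgLib.Classical.two_ne_zero_of_odd_card hodd
    refine le_antisymm ?_ (hperf.symm.le.trans (Subgroup.commutator_mono le_top le_top))
    refine le_inf ?_ ?_
    · haveI : (K.map π).Normal := ‹K.Normal›.map π hπs
      refine commutator_le_of_index_le_two π hπs ((QuotientGroup.ker_mk' Z).le.trans hZc) K ?_
      obtain ⟨b, -, hb⟩ := (Nat.dvd_prime_pow Nat.prime_two).1 (hKi ▸ K.index_map_dvd hπs)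
      have hd : (K.map π).index ∣ M.index := Subgroup.index_dvd_of_le hMK
      have hf := field_odd M e hX hC h2
      rw [hb]
      have hd2 : 2 ^ b ∣ 2 * (diagPart M e).index := by
        rcases index_cases M e hC h2 with h | h
        · exact (hb ▸ h ▸ hd : 2 ^ b ∣ (diagPart M e).index).mul_left 2
        · exact hb ▸ h ▸ hd
      exact Nat.le_of_dvd two_pos
        ((Nat.Coprime.pow_left b (Nat.prime_two.coprime_iff_not_dvd.2 hf)).dvd_of_dvd_mul_right hd2)
    · refine Subgroup.map_le_iff_le_comap.1 ?_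
      rw [commutator_def, Subgroup.map_commutator, Subgroup.map_top_of_surjective _ hπs, ← commutator_def]
      exact commutator_le_psl M e h2 hC

/-- **no A7** -/
theorem qgroup_no_alt (S : Sylow 2 H) (hS : Cfsg.IsQuasiDihedral (S : Subgroup H) ∨ Cfsg.IsWreathed (S : Subgroup H))
    (hZS : Z = centerG S) (hZc : Z ≤ Subgroup.center H)
    (K : Subgroup H) [K.Normal] (hQ : QuatTwo K) (hX : DihTwo (H ⧸ Z))
    (hMK : M ≤ K.map (QuotientGroup.mk' Z)) [IsSimpleGroup M] (hna : ¬ IsMulCommutative M) (hdi : DihTwo M)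
    (hC : Subgroup.centralizer (M : Set (H ⧸ Z)) = ⊥) (e : M ≃* alternatingGroup (Fin 7)) : False := by
  classical
  haveI : Fact (Nat.Prime 2) := ⟨Nat.prime_two⟩
  have hM : M = ⊤ := eq_top_of_alt7 hX M e hC
  have hA : Nat.card (H ⧸ Z) = 2520 := by
    rw [← Subgroup.card_top (G := H ⧸ Z), ← hM, Nat.card_congr e.toEquiv, nat_card_alternatingGroup, Nat.card_fin]
    decide
  have h8 : ∀ T : Sylow 2 (H ⧸ Z), Nat.card (T : Subgroup (H ⧸ Z)) = 8 := fun T => by
    rw [Sylow.card_eq_multiplicity, hA, show 2520 = 315 * 2 ^ 3 by norm_num,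
      Nat.factorization_mul (by norm_num) (by norm_num), Finsupp.add_apply,
      Nat.factorization_eq_zero_of_not_dvd (by norm_num), Nat.Prime.factorization_pow Nat.prime_two,
      Finsupp.single_eq_same]
    norm_num
  obtain ⟨T⟩ : Nonempty (Sylow 2 (H ⧸ Z)) := inferInstance
  obtain ⟨hcyc, k, hk⟩ : IsCyclic Z ∧ ∃ k, Nat.card Z = 2 ^ k := by
    rcases hS with h | h
    · obtain ⟨h1, h2, -⟩ := dihedral_quot_qd S h Z hZS
      exact ⟨h1, 1, h2⟩
    · obtain ⟨h1, h2, -⟩ := dihedral_quot_wr S h Z hZS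
      exact ⟨h1, h2⟩
  obtain ⟨htwo, -, -⟩ := socle_cover Z M K hQ hk hZc hMK hdi hna
  have hKc : Nat.card K = 5040 := by
    rw [← card_map_mul_inf_ker (QuotientGroup.mk' Z) K, QuotientGroup.ker_mk', htwo,
      show K.map (QuotientGroup.mk' Z) = ⊤ from top_le_iff.1 (hM ▸ hMK), Subgroup.card_top, hA]
  obtain ⟨P⟩ : Nonempty (Sylow 2 K) := inferInstance
  obtain ⟨m, -, ⟨eP⟩⟩ := hQ P
  have hP16 : Nat.card (P : Subgroup K) = 16 := by
    rw [Sylow.card_eq_multiplicity, hKc, show 5040 = 315 * 2 ^ 4 by norm_num,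
      Nat.factorization_mul (by norm_num) (by norm_num), Finsupp.add_apply,
      Nat.factorization_eq_zero_of_not_dvd (by norm_num), Nat.Prime.factorization_pow Nat.prime_two,
      Finsupp.single_eq_same]
    norm_num
  set P₀ := (P : Subgroup K).map K.subtype
  have hP₀ : Nat.card P₀ = 16 := by rw [Subgroup.card_map_of_injective K.subtype_injective, hP16]
  obtain ⟨S', hS'⟩ := (P.2.map K.subtype).exists_le_sylow
  obtain ⟨g, hg⟩ := MulAction.exists_smul_eq H S' S
  have hin : ∀ x ∈ P₀, g * x * g⁻¹ ∈ (S : Subgroup H) := fun x hx => by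
    rw [← hg, Sylow.coe_subgroup_smul]
    exact ⟨x, hS' hx, rfl⟩
  have hinK : ∀ x ∈ P₀, g * x * g⁻¹ ∈ K := fun x hx =>
    ‹K.Normal›.conj_mem x (Subgroup.map_subtype_le _ hx) g
  rcases hS with hS | hS
  · obtain ⟨-, hZ2, -⟩ := dihedral_quot_qd S hS Z hZS
    obtain ⟨kk, a, b, -, -, Q⟩ := exists_qdFrame hS
    have hS16 : Nat.card (S : Subgroup H) = 16 := by
      rw [card_sylow_quotient Z (k := 1) (by rw [hZ2, pow_one]) S T, h8]
      norm_num
    have hle : P₀.map (MulAut.conj g).toMonoidHom ≤ (S : Subgroup H) := by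
      rintro _ ⟨x, hx, rfl⟩; exact hin x hx
    have heq := Subgroup.eq_of_le_of_card_ge hle (by
      rw [hS16, Subgroup.card_map_of_injective (MulAut.conj g).injective, hP₀])
    have hSK : (S : Subgroup H) ≤ K := heq ▸ (by rintro _ ⟨x, hx, rfl⟩; exact hinK x hx)
    set u : (S : Subgroup H) := a ^ (0 : ℤ) * b
    set v : (S : Subgroup H) := a ^ (2 * (2 : ℤ) ^ (kk - 2))
    have huv : (u : H) = v := quat_invol_unique hQ (hSK u.2) (hSK v.2)
      (by rw [Subgroup.orderOf_coe]; exact Q.orderOf_ref_even (dvd_zero _))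
      (by rw [Subgroup.orderOf_coe]; exact Q.orderOf_center) (congrArg Subtype.val (Q.center_commute u))
    exact Q.ne_mul _ _ (Subtype.ext huv).symm
  · obtain ⟨-, -, j, hj, hT, hsq⟩ := dihedral_quot_wr S hS Z hZS
    obtain ⟨eT⟩ := hT T
    haveI : NeZero (2 ^ j) := ⟨by positivity⟩
    have hj2 : 2 ^ j = 4 := by
      have := h8 T
      rw [Nat.card_congr eT.toEquiv, DihedralGroup.nat_card] at this
      omega
    haveI : NeZero (2 ^ m) := ⟨by positivity⟩
    have hm : 2 ^ m = 4 := by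
      rw [Nat.card_congr eP.toEquiv, quaternion_card] at hP16
      omega
    set r : (P : Subgroup K) := eP.symm (QuaternionGroup.a 1)
    have hr : orderOf r = 8 := by rw [MulEquiv.orderOf_eq, QuaternionGroup.orderOf_a_one, hm]
    set x : H := g * ((r : K) : H) * g⁻¹
    have hx8 : orderOf x = 8 := by
      show orderOf (MulAut.conj g ((r : K) : H)) = 8
      rw [MulEquiv.orderOf_eq, Subgroup.orderOf_coe, Subgroup.orderOf_coe, hr]
    have hxS : x ∈ (S : Subgroup H) := hin _ ⟨r, r.2, rfl⟩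
    have hxK : x ∈ K := hinK _ ⟨r, r.2, rfl⟩
    rcases hsq x hxS with h | h
    · have := Subgroup.orderOf_dvd_natCard (K ⊓ Z) ⟨pow_mem hxK 2, h⟩
      rw [htwo, orderOf_pow' x (by norm_num), hx8] at this
      norm_num at this
    · rw [hj2] at h
      have := orderOf_dvd_of_pow_eq_one h
      rw [hx8] at this
      norm_num at this

/-- **the structure of a Q-group with trivial odd core**, given the dihedral theorem -/
theorem qgroup_structure (S : Sylow 2 H)
    (hS : Cfsg.IsQuasiDihedral (S : Subgroup H) ∨ Cfsg.IsWreathed (S : Subgroup H))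
    (hO : Cfsg.oddCore H = ⊥) (hSc : centerG S ≤ Subgroup.center H)
    (K : Subgroup H) [K.Normal] {a : ℕ} (hKi : K.index = 2 ^ a) (hK2 : ∀ N : Subgroup K, N.index ≠ 2)
    (hQ : QuatTwo K) (hgw : GWBelow.{u} (Nat.card H)) :
    ∃ L : Subgroup H, L.Normal ∧
      (∃ (F : Type) (_ : Field F) (_ : Fintype F), Odd (Fintype.card F) ∧ Nonempty (L ≃* SL(2, F))) ∧
      commutator H = L ∧
      ∀ L₁ : Subgroup H, L₁.Normal →
        (∃ (F : Type) (_ : Field F) (_ : Fintype F), Odd (Fintype.card F) ∧ Nonempty (L₁ ≃* SL(2, F))) →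
          L₁ = L := by
  classical
  haveI : Fact (Nat.Prime 2) := ⟨Nat.prime_two⟩
  obtain ⟨Z, hZ⟩ : ∃ Z, Z = centerG S := ⟨_, rfl⟩
  have hZc : Z ≤ Subgroup.center H := hZ ▸ hSc
  haveI hzn : Z.Normal := ⟨fun x hx g => by
    rw [Subgroup.mem_center_iff.1 (hZc hx) g, mul_inv_cancel_right]
    exact hx⟩
  obtain ⟨hcyc, ⟨k, hk⟩, j, hj, hT⟩ : IsCyclic Z ∧ (∃ k, Nat.card Z = 2 ^ k) ∧
      ∃ j, 2 ≤ j ∧ ∀ T : Sylow 2 (H ⧸ Z), Nonempty ((T : Subgroup (H ⧸ Z)) ≃* DihedralGroup (2 ^ j)) := by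
    rcases hS with h | h
    · obtain ⟨h1, h2, h3⟩ := dihedral_quot_qd S h Z hZ
      exact ⟨h1, ⟨1, h2⟩, h3⟩
    · obtain ⟨h1, h2, j, hj, h3, -⟩ := dihedral_quot_wr S h Z hZ
      exact ⟨h1, h2, j, hj, h3⟩
  have htwo : 2 ≤ 2 ^ j := (by norm_num : 2 ≤ 2 ^ 1).trans (Nat.pow_le_pow_right two_pos (by omega))
  have hX : DihTwo (H ⧸ Z) := fun T => ⟨_, htwo, hT T⟩
  have hOQ : Cfsg.oddCore (H ⧸ Z) = ⊥ := oddCore_quotient_cyclic_two hO Z hk
  have h8 : 8 ∣ Nat.card (H ⧸ Z) := by
    obtain ⟨T⟩ : Nonempty (Sylow 2 (H ⧸ Z)) := inferInstance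
    obtain ⟨eT⟩ := hT T
    haveI : NeZero (2 ^ j) := ⟨by positivity⟩
    refine Dvd.dvd.trans ?_ (Subgroup.card_subgroup_dvd_card (T : Subgroup (H ⧸ Z)))
    rw [Nat.card_congr eT.toEquiv, DihedralGroup.nat_card, show (8 : ℕ) = 2 * 4 from rfl]
    exact mul_dvd_mul_left 2 ((show 4 = 2 ^ 2 by norm_num) ▸ pow_dvd_pow 2 hj)
  have hnoidx : ∀ L₁ : Subgroup H, ∀ {F : Type} [Field F] [Fintype F], Odd (Fintype.card F) →
      (L₁ ≃* SL(2, F)) → L₁ ≤ K := fun L₁ F _ _ ho eL =>
    le_of_two_pow_index L₁ K hKi (equiv_no_index_two eL (sl2_no_index_two (CfsgLib.Classical.two_ne_zero_of_odd_card ho)))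
  rcases structure_core hX hOQ (hgw.mono (Nat.card_le_card_of_surjective _ (QuotientGroup.mk'_surjective Z))) with
    h2 | h4 | ⟨M, hMn, hMs, hna, hdi, hC, hM⟩
  · exfalso
    obtain ⟨i, hi⟩ := h2.exists_card_eq
    have hH : IsPGroup 2 H := IsPGroup.of_card (n := i + k) (by
      rw [Subgroup.card_eq_card_quotient_mul_card_subgroup Z, hi, hk, pow_add])
    obtain ⟨N, hN⟩ := exists_index_two_of_two_group (hH.to_subgroup K)
      ((show 2 ∣ 8 by norm_num).trans (quat_two_eight hQ))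
    exact hK2 N hN
  · obtain ⟨⟨e⟩, hcomm⟩ := qgroup_four Z hk hZc K hKi hK2 hQ hOQ h8 h4
    haveI : Fact (Nat.Prime 3) := ⟨Nat.prime_three⟩
    refine ⟨K, inferInstance, ⟨ZMod 3, inferInstance, inferInstance, by rw [ZMod.card]; decide, ⟨e⟩⟩, hcomm, ?_⟩
    rintro L₁ - ⟨F, iF, jF, ho, ⟨eL⟩⟩
    refine Subgroup.eq_of_le_of_card_ge (hnoidx L₁ ho eL) ?_
    rw [Nat.card_congr e.toEquiv, Nat.card_congr eL.toEquiv, CfsgLib.Char.card_SL23]
    exact sl2_card_ge ho
  · haveI := hMn
    haveI := hMs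
    have hMK := socle_le Z M K hKi hna hC
    rcases hM with ⟨F, iF, jF, ho, hq, ⟨e⟩⟩ | ⟨⟨e⟩⟩
    swap
    · exact (qgroup_no_alt Z M S hS hZ hZc K hQ hX hMK hna hdi hC e).elim
    obtain ⟨L, hLn, hmap, hperf, ⟨eS⟩, hcomm⟩ := qgroup_psl Z M hk hZc K hKi hQ hX hMK hna hdi hC ho hq e
    refine ⟨L, hLn, ⟨F, iF, jF, ho, ⟨eS⟩⟩, hcomm, ?_⟩
    rintro L₁ hL₁n ⟨F', iF', jF', ho', ⟨eL⟩⟩
    haveI := hL₁n
    set π := QuotientGroup.mk' Z with hπ
    haveI : (L₁.map π).Normal := hL₁n.map π (QuotientGroup.mk'_surjective Z)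
    have hne1 : ⁅L₁, L₁⁆ ≠ ⊥ := fun h0 => by
      rw [← Subgroup.map_subtype_commutator, Subgroup.map_eq_bot_iff_of_injective _ L₁.subtype_injective] at h0
      have h1 : commutator (SL(2, F')) = ⊥ := by
        rw [commutator_def, ← Subgroup.map_top_of_surjective eL.toMonoidHom eL.surjective, ← Subgroup.map_commutator,
          ← commutator_def, h0, Subgroup.map_bot]
      have h2 : ⁅CfsgLib.Lie.SL2Rel.Fam.upper (1 : F'), CfsgLib.Lie.SL2Rel.Fam.lower (1 : F')⁆ = 1 :=
        Subgroup.mem_bot.1 (h1 ▸ Subgroup.commutator_mem_commutator (Subgroup.mem_top _) (Subgroup.mem_top _))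
      rw [commutatorElement_eq_one_iff_mul_comm] at h2
      have h3 := congrArg (fun x : SL(2, F') => x.1 0 0) h2
      simp [Matrix.mul_apply, Fin.sum_univ_two, CfsgLib.Lie.SLUniv.coe_upper, CfsgLib.Lie.SLUniv.coe_lower] at h3
    -- the image contains the socle
    have hMle : M ≤ L₁.map π := by
      rcases (inferInstance : ((L₁.map π).subgroupOf M).Normal).eq_bot_or_eq_top with h | h
      · exfalso
        have hdis : Disjoint (L₁.map π) M := Subgroup.subgroupOf_eq_bot.1 h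
        have hbot : L₁.map π = ⊥ := le_bot_iff.1 (hC ▸ fun x hx => Subgroup.mem_centralizer_iff.2 fun v hv =>
          (Subgroup.commute_of_normal_of_disjoint _ M inferInstance inferInstance hdis x v hx hv).eq.symm)
        have hLZ : L₁ ≤ Z := fun x hx => (QuotientGroup.eq_one_iff x).1 (Subgroup.mem_bot.1
          (hbot ▸ Subgroup.mem_map_of_mem π hx))
        refine hne1 (Subgroup.commutator_eq_bot_iff_le_centralizer.2 fun x hx => ?_)
        exact Subgroup.mem_centralizer_iff.2 fun y _ => (Subgroup.mem_center_iff.1 (hZc (hLZ hx)) y)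
      · exact Subgroup.subgroupOf_eq_top.1 h
    have hLle : L ≤ ⁅L₁, L₁⁆ := by
      rw [← hperf]
      refine Subgroup.commutator_le.2 fun x hx y hy => ?_
      have hex : ∀ x ∈ L, ∃ l ∈ L₁, l⁻¹ * x ∈ Subgroup.center H := fun x hx => by
        obtain ⟨l, hl, hlx⟩ := hMle (hmap.le (Subgroup.mem_map_of_mem π hx))
        exact ⟨l, hl, hZc ((QuotientGroup.eq_one_iff _).1 (by
          rw [← QuotientGroup.mk'_apply, map_mul, map_inv, hlx, inv_mul_cancel]))⟩
      obtain ⟨l, hl, hlx⟩ := hex x hx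
      obtain ⟨l', hl', hly⟩ := hex y hy
      rw [show x = l * (l⁻¹ * x) by group, show y = l' * (l'⁻¹ * y) by group, comm_congr_center hlx hly]
      exact Subgroup.commutator_mem_commutator hl hl'
    have hL1L : ⁅L₁, L₁⁆ ≤ L := hcomm ▸ Subgroup.commutator_mono le_top le_top
    have h24 : 24 < Nat.card (SL(2, F')) := by
      rw [← Nat.card_congr eL.toEquiv]
      refine lt_of_lt_of_le ?_ (Nat.le_of_dvd Nat.card_pos
        (Subgroup.card_dvd_of_le (hLle.trans (Subgroup.commutator_le_self L₁))))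
      rw [Nat.card_congr eS.toEquiv, CfsgLib.Classical.card_sl2]
      calc 24 < 4 * ((4 - 1) * (4 + 1)) := by norm_num
        _ ≤ _ := Nat.mul_le_mul hq (Nat.mul_le_mul (by omega) (by omega))
    have hperf1 : ⁅L₁, L₁⁆ = L₁ := by
      rw [← Subgroup.map_subtype_commutator]
      have h1 : commutator L₁ = ⊤ := by
        refine Subgroup.map_injective (f := eL.toMonoidHom) eL.injective ?_
        rw [commutator_def, Subgroup.map_commutator, Subgroup.map_top_of_surjective _ eL.surjective, ← commutator_def,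
          CfsgLib.Lie.SLUniv.sl2_commutator (three_lt_of_card ho' h24)]
      rw [h1, ← MonoidHom.range_eq_map, Subgroup.range_subtype]
    exact le_antisymm (hperf1 ▸ hL1L) (hLle.trans (Subgroup.commutator_le_self L₁))

end CfsgLib.GW
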