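import Cfsg.Agent.Lib.GW.QGroupBase
import Cfsg.Agent.Lib.Char.TransLinear.SL23

/-!
# The solvable case: `SL(2, 3)`
-/

set_option autoImplicit false
set_option linter.style.haveILetI false
set_option linter.unusedSectionVars false

namespace CfsgLib.GW

open CfsgLib.Invol
open scoped MatrixGroups commutatorElement

universe u

theorem sl23_commutator_card : 8 ≤ Nat.card (commutator (SL(2, ZMod 3))) := by
  classical
  have h : (Finset.univ.image fun p : SL(2, ZMod 3) × SL(2, ZMod 3) => ⁅p.1, p.2⁆).card = 8 := by decide +kernel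
  calc 8 = Nat.card (Finset.univ.image fun p : SL(2, ZMod 3) × SL(2, ZMod 3) => ⁅p.1, p.2⁆) := by
        rw [Nat.card_eq_fintype_card, Fintype.card_coe, h]
    _ ≤ _ := Nat.card_le_card_of_injective (fun x => (⟨x.1, by
        obtain ⟨p, -, hp⟩ := Finset.mem_image.1 x.2
        rw [← hp]
        exact Subgroup.commutator_mem_commutator (Subgroup.mem_top _) (Subgroup.mem_top _)⟩ :
          commutator (SL(2, ZMod 3)))) fun x y hxy => Subtype.ext (congrArg Subtype.val hxy :)

/-- a group of type `S4` has a commutator of order three -/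
theorem four_commutator {Q : Type*} [Group Q] [Finite Q] (V : Subgroup Q) [V.Normal] (hV : IsKleinFour V)
    (hC : Subgroup.centralizer (V : Set Q) = V) (hcard : Nat.card Q = 24) : 3 ∣ Nat.card (commutator Q) := by
  classical
  haveI : Fact (Nat.Prime 2) := ⟨Nat.prime_two⟩
  haveI : Fact (Nat.Prime 3) := ⟨Nat.prime_three⟩
  by_contra h3
  have hVc : Nat.card V = 4 := hV.card_four
  have hd : Nat.card (commutator Q) ∣ 2 ^ 3 := by
    have h := (commutator Q).card_subgroup_dvd_card
    rw [hcard, show 24 = 3 * 2 ^ 3 by norm_num] at h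
    exact ((Nat.Prime.coprime_iff_not_dvd Nat.prime_three).2 h3).symm.dvd_of_dvd_mul_left h
  obtain ⟨j, -, hj⟩ := (Nat.dvd_prime_pow Nat.prime_two).1 hd
  obtain ⟨T, hT⟩ := (IsPGroup.of_card (n := j) hj : IsPGroup 2 (commutator Q)).exists_le_sylow
  haveI hTn : (T : Subgroup Q).Normal :=
    ⟨fun s hs g => by
      rw [show g * s * g⁻¹ = ⁅g, s⁆ * s by rw [commutatorElement_def]; group]
      exact mul_mem (hT (Subgroup.commutator_mem_commutator (Subgroup.mem_top _) (Subgroup.mem_top _))) hs⟩
  have hT8 : Nat.card (T : Subgroup Q) = 8 := by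
    rw [Sylow.card_eq_multiplicity, hcard, show 24 = 3 * 2 ^ 3 by norm_num,
      Nat.factorization_mul (by norm_num) (by norm_num), Finsupp.add_apply,
      Nat.factorization_eq_zero_of_not_dvd (by norm_num), Nat.Prime.factorization_pow Nat.prime_two,
      Finsupp.single_eq_same, zero_add]
    norm_num
  haveI : Subsingleton (Sylow 2 Q) := Sylow.unique_of_normal T inferInstance |>.instSubsingleton
  have hVT : V ≤ (T : Subgroup Q) := by
    obtain ⟨T', hT'⟩ := (IsPGroup.of_card (n := 2) (by rw [hVc]; norm_num) : IsPGroup 2 V).exists_le_sylow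
    rwa [Subsingleton.elim T' T] at hT'
  haveI : Nontrivial (T : Subgroup Q) := Finite.one_lt_card_iff_nontrivial.1 (by rw [hT8]; norm_num)
  haveI := T.2.center_nontrivial
  obtain ⟨z₀, hz₀⟩ := exists_ne (1 : Subgroup.center (T : Subgroup Q))
  set z : Q := ((z₀ : (T : Subgroup Q)) : Q)
  have hcz : ∀ s ∈ (T : Subgroup Q), s * z = z * s := fun s hs =>
    congrArg Subtype.val (Subgroup.mem_center_iff.1 z₀.2 ⟨s, hs⟩)
  have hcV : ∀ c : Q, (∀ s ∈ (T : Subgroup Q), s * c = c * s) → c ∈ V := fun c hc => by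
    rw [← hC]
    exact Subgroup.mem_centralizer_iff.2 fun v hv => hc v (hVT hv)
  have hzV := hcV z hcz
  have hz1 : z ≠ 1 := fun e => hz₀ (Subtype.ext (Subtype.ext e))
  -- not all of `V` is central in `T`
  obtain ⟨v, hv, s, hs, hsv⟩ : ∃ v ∈ V, ∃ s ∈ (T : Subgroup Q), s * v ≠ v * s := by
    by_contra! h
    have hle : (T : Subgroup Q) ≤ V := hC ▸ fun s hs => Subgroup.mem_centralizer_iff.2 fun v hv => (h v hv s hs).symm
    have := Subgroup.card_dvd_of_le hle
    rw [hT8, hVc] at this
    norm_num at this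
  have hv1 : v ≠ 1 := fun e => hsv (by rw [e, mul_one, one_mul])
  have hvz : v ≠ z := fun e => hsv (e ▸ hcz s hs)
  haveI := hV
  have hall : ∀ w ∈ V, w = 1 ∨ w = z ∨ w = v ∨ w = z * v := fun w hw => by
    have hz' : orderOf z = 2 := orderOf_eq_prime (by
      rw [sq]; exact congrArg Subtype.val (IsKleinFour.mul_self (⟨z, hzV⟩ : V))) hz1
    have hv' : orderOf v = 2 := orderOf_eq_prime (by
      rw [sq]; exact congrArg Subtype.val (IsKleinFour.mul_self (⟨v, hv⟩ : V))) hv1
    have hcom : Commute z v := (hcz v (hVT hv)).symm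
    have heq : Subgroup.closure ({z, v} : Set Q) = V := Subgroup.eq_of_le_of_card_ge (by
      rw [Subgroup.closure_le]; rintro w (rfl | rfl) <;> assumption) (by
      rw [hVc, (isKleinFour_closure_pair hz' hv' (Ne.symm hvz) hcom).card_four])
    exact mem_klein hz' hv' (Ne.symm hvz) hcom (heq.symm ▸ hw)
  obtain ⟨t, ht⟩ := exists_prime_orderOf_dvd_card' (G := Q) 3 (by rw [hcard]; norm_num)
  have ht3 : t * t * t = 1 := by
    have := pow_orderOf_eq_one t
    rwa [ht, pow_succ, sq] at this
  have htz : t * z * t⁻¹ = z := by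
    have hm : t * z * t⁻¹ ∈ V := ‹V.Normal›.conj_mem z hzV t
    have hcc : ∀ s ∈ (T : Subgroup Q), s * (t * z * t⁻¹) = t * z * t⁻¹ * s := fun s hs => by
      have h1 := hcz _ (hTn.conj_mem s hs t⁻¹)
      rw [inv_inv] at h1
      calc s * (t * z * t⁻¹) = t * ((t⁻¹ * s * t) * z) * t⁻¹ := by group
        _ = t * (z * (t⁻¹ * s * t)) * t⁻¹ := by rw [h1]
        _ = t * z * t⁻¹ * s := by group
    rcases hall _ hm with e | e | e | e
    · exact absurd (conj_eq_one_iff.1 e) hz1
    · exact e
    · exact absurd (e ▸ hcc s hs) hsv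
    · exfalso
      have h1 := hcc s hs
      rw [e, ← mul_assoc, hcz s hs, mul_assoc, mul_assoc] at h1
      exact hsv (mul_left_cancel h1)
  have htv : t * v * t⁻¹ = v := by
    rcases hall _ (‹V.Normal›.conj_mem v hv t) with e | e | e | e
    · exact absurd (conj_eq_one_iff.1 e) hv1
    · exact absurd (mul_left_cancel (mul_right_cancel (e.trans htz.symm))) hvz
    · exact e
    · exfalso
      have hzz : z * z = 1 := congrArg Subtype.val (IsKleinFour.mul_self (⟨z, hzV⟩ : V))
      have h2 : t * t * v * (t * t)⁻¹ = v := by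
        calc t * t * v * (t * t)⁻¹ = t * (t * v * t⁻¹) * t⁻¹ := by group
          _ = t * (z * v) * t⁻¹ := by rw [e]
          _ = (t * z * t⁻¹) * (t * v * t⁻¹) := by group
          _ = v := by rw [htz, e, ← mul_assoc, hzz, one_mul]
      have h3 : v = z * v := by
        calc v = t * t * t * v * (t * t * t)⁻¹ := by rw [ht3]; group
          _ = t * (t * t * v * (t * t)⁻¹) * t⁻¹ := by group
          _ = z * v := by rw [h2, e]
      exact hz1 (by simpa using h3.symm)
  have htV : t ∈ V := by
    rw [← hC]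
    refine Subgroup.mem_centralizer_iff.2 fun w hw => ?_
    have hz' := mul_inv_eq_iff_eq_mul.1 htz
    have hv' := mul_inv_eq_iff_eq_mul.1 htv
    rcases hall w hw with rfl | rfl | rfl | rfl
    · simp
    · exact hz'.symm
    · exact hv'.symm
    · rw [mul_assoc, ← hv', ← mul_assoc, ← hz', mul_assoc]
  have := Subgroup.orderOf_dvd_natCard V htV
  rw [ht, hVc] at this
  norm_num at this

variable {H : Type u} [Group H] [Finite H]

/-- **the solvable case** -/
theorem qgroup_four (Z : Subgroup H) [Z.Normal] [IsCyclic Z] {k : ℕ} (hZ : Nat.card Z = 2 ^ k)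
    (hZc : Z ≤ Subgroup.center H) (K : Subgroup H) [K.Normal] {a : ℕ} (hKi : K.index = 2 ^ a)
    (hK2 : ∀ M : Subgroup K, M.index ≠ 2) (hQ : QuatTwo K) (hO : Cfsg.oddCore (H ⧸ Z) = ⊥)
    (h8 : 8 ∣ Nat.card (H ⧸ Z)) (hfour : IsFourType (H ⧸ Z)) :
    Nonempty (K ≃* SL(2, ZMod 3)) ∧ commutator H = K := by
  classical
  haveI : Fact (Nat.Prime 2) := ⟨Nat.prime_two⟩
  haveI : Fact (Nat.Prime 3) := ⟨Nat.prime_three⟩
  obtain ⟨V, hVn, hV, hC, hcard⟩ := hfour
  haveI := hVn
  have h24 : Nat.card (H ⧸ Z) = 24 := hcard.resolve_left fun h => by rw [h] at h8; norm_num at h8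
  set π := QuotientGroup.mk' Z with hπ
  have hπs : Function.Surjective π := QuotientGroup.mk'_surjective Z
  set Kb := K.map π with hKb
  haveI : Kb.Normal := ‹K.Normal›.map π hπs
  have hKb2 : ∀ M : Subgroup Kb, M.index ≠ 2 := map_no_index_two π K hK2
  -- the image has index two
  obtain ⟨b, -, hb⟩ := (Nat.dvd_prime_pow Nat.prime_two).1 (hKi ▸ K.index_map_dvd hπs)
  have hbc : Nat.card Kb * 2 ^ b = 24 := by rw [← hb, Subgroup.card_mul_index, h24]
  have hb1 : b = 1 := by
    rcases Nat.lt_or_ge b 4 with hlt | hge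
    swap
    · have hd : 2 ^ b ∣ 24 := ⟨_, (mul_comm _ _).trans hbc |>.symm⟩
      have : (16 : ℕ) ∣ 24 := (show 16 ∣ 2 ^ b from (show (16 : ℕ) = 2 ^ 4 by norm_num) ▸ pow_dvd_pow 2 hge).trans hd
      norm_num at this
    interval_cases b
    · exfalso
      have htop : Kb = ⊤ := Subgroup.eq_top_of_card_eq _ (by rw [h24]; omega)
      obtain ⟨M, hM⟩ := exists_index_two_of_index_six V (by
        have := V.card_mul_index; rw [hV.card_four, h24] at this; omega)
      exact hKb2 (M.subgroupOf Kb) (by rw [← Subgroup.relIndex, htop, Subgroup.relIndex_top_right, hM])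
    · rfl
    · exfalso
      obtain ⟨M, hM⟩ := exists_index_two_of_card_six (K := Kb) (by omega)
      exact hKb2 M hM
    · exfalso
      have h := eq_bot_of_odd hO (N := Kb) (by omega)
      rw [h, Subgroup.card_bot] at hbc
      omega
  subst hb1
  have hKb12 : Nat.card Kb = 12 := by omega
  -- the four group lies in the image
  have hVK : V ≤ Kb := by
    have h1 := (V.subgroupOf Kb).card_mul_index
    rw [hKb12] at h1
    have h2 : (V.subgroupOf Kb).index ∣ V.index := Subgroup.relIndex_dvd_index_of_normal V Kb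
    rw [show V.index = 6 by have := V.card_mul_index; rw [hV.card_four, h24] at this; omega] at h2
    have h4 : Nat.card (V.subgroupOf Kb) ≤ 4 := by
      refine (Nat.card_le_card_of_injective (fun x : V.subgroupOf Kb =>
        (⟨((x : Kb) : H ⧸ Z), Subgroup.mem_subgroupOf.1 x.2⟩ : V)) fun x y hxy =>
        Subtype.ext (Subtype.ext (congrArg Subtype.val hxy :))).trans_eq hV.card_four
    have h6 : (V.subgroupOf Kb).index ≠ 6 := fun h => by
      obtain ⟨M, hM⟩ := exists_index_two_of_index_six (V.subgroupOf Kb) h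
      exact hKb2 M hM
    have h7 : (V.subgroupOf Kb).index = 3 := by
      have := Nat.le_of_dvd (by norm_num) h2
      interval_cases hi : (V.subgroupOf Kb).index <;> omega
    have h8' : Nat.card (V.subgroupOf Kb) = 4 := by rw [h7] at h1; omega
    rw [← Subgroup.inf_subgroupOf_right, Nat.card_congr (Subgroup.subgroupOfEquivOfLe inf_le_right).toEquiv] at h8'
    exact inf_eq_left.1 (Subgroup.eq_of_le_of_card_ge inf_le_left (by rw [h8', hV.card_four]))
  have hKZ : Nat.card (K ⊓ Z : Subgroup H) ≤ 2 := quat_inf_le_two hQ Z hZc hZ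
  have hker : π.ker = Z := QuotientGroup.ker_mk' Z
  have hKcard := card_map_mul_inf_ker π K
  rw [← hKb, hKb12, hker] at hKcard
  have h8K := quat_two_eight hQ
  have hD : Nat.card (K ⊓ Z : Subgroup H) = 2 := by
    have := Nat.card_pos (α := (K ⊓ Z : Subgroup H))
    omega
  have hK24 : Nat.card K = 24 := by omega
  -- the normal quaternion group
  set U := K ⊓ V.comap π with hU
  have hUmap : U.map π = V := by
    refine le_antisymm ((Subgroup.map_mono inf_le_right).trans (Subgroup.map_comap_le _ _)) fun v hv => ?_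
    obtain ⟨x, hx, hxv⟩ := hVK hv
    exact ⟨x, ⟨hx, by show π x ∈ V; rw [hxv]; exact hv⟩, hxv⟩
  have hU8 : Nat.card U = 8 := by
    have h := card_map_mul_inf_ker π U
    rw [hUmap, hker, hV.card_four, show U ⊓ Z = K ⊓ Z from le_antisymm (inf_le_inf_right _ inf_le_left)
      (le_inf (le_inf inf_le_left (fun x hx => by
        show π x ∈ V
        rw [hπ, QuotientGroup.mk'_apply, (QuotientGroup.eq_one_iff x).2 hx.2]
        exact one_mem V)) inf_le_right), hD] at h
    omega
  set U' := U.subgroupOf K with hU'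
  haveI : U'.Normal := Subgroup.Normal.subgroupOf inferInstance K
  have hU'8 : Nat.card U' = 8 := by
    rw [hU', Nat.card_congr (Subgroup.subgroupOfEquivOfLe inf_le_left).toEquiv, hU8]
  obtain ⟨P, hP⟩ := (IsPGroup.of_card (n := 3) (by rw [hU'8]; norm_num) : IsPGroup 2 U').exists_le_sylow
  have hPU : (P : Subgroup K) = U' := (Subgroup.eq_of_le_of_card_ge hP (by
    rw [hU'8, Sylow.card_eq_multiplicity, hK24, show 24 = 3 * 2 ^ 3 by norm_num,
      Nat.factorization_mul (by norm_num) (by norm_num), Finsupp.add_apply,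
      Nat.factorization_eq_zero_of_not_dvd (by norm_num), Nat.Prime.factorization_pow Nat.prime_two,
      Finsupp.single_eq_same]
    norm_num)).symm
  haveI : Subsingleton (Sylow 2 K) := Sylow.unique_of_normal P (hPU ▸ inferInstance) |>.instSubsingleton
  obtain ⟨m, hm, ⟨eP⟩⟩ := hQ P
  have htwo : 2 ≤ 2 ^ m := (by norm_num : 2 ≤ 2 ^ 1).trans (Nat.pow_le_pow_right two_pos hm)
  have huniq : ∀ x y : K, orderOf x = 2 → orderOf y = 2 → x = y := by
    intro x y hx hy
    have hin : ∀ x : K, orderOf x = 2 → x ∈ (P : Subgroup K) := fun x hx => by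
      obtain ⟨R, hR⟩ := (IsPGroup.of_card (n := 1) (by rw [Nat.card_zpowers, hx]; norm_num) :
        IsPGroup 2 (Subgroup.zpowers x)).exists_le_sylow
      rw [Subsingleton.elim R P] at hR
      exact hR (Subgroup.mem_zpowers x)
    exact congrArg Subtype.val (eP.injective (quaternion_involution_eq
      (x := eP ⟨x, hin x hx⟩) (y := eP ⟨y, hin y hy⟩)
      (by rw [MulEquiv.orderOf_eq, Subgroup.orderOf_mk, hx]) (by rw [MulEquiv.orderOf_eq, Subgroup.orderOf_mk, hy])))
  have hnab : ∃ x ∈ U', ∃ y ∈ U', x * y ≠ y * x := by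
    obtain ⟨g, w, hgw⟩ := quaternion_not_comm htwo
    have hin : ∀ q, ((eP.symm q : (P : Subgroup K)) : K) ∈ U' := fun q => hPU.le (eP.symm q).2
    refine ⟨_, hin g, _, hin w, fun h => hgw ?_⟩
    exact eP.symm.injective (by rw [map_mul, map_mul]; exact Subtype.ext h)
  obtain ⟨t, ht⟩ := exists_prime_orderOf_dvd_card' (G := K) 3 (by rw [hK24]; norm_num)
  have htU : ∃ x ∈ U', t * x ≠ x * t := by
    by_contra! h
    have htV : π (t : H) ∈ V := by
      rw [← hC]
      refine Subgroup.mem_centralizer_iff.2 fun v hv => ?_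
      obtain ⟨x, hx, rfl⟩ := (hUmap.symm ▸ hv : v ∈ U.map π)
      have hxt : (t : H) * x = x * (t : H) := congrArg Subtype.val
        (h ⟨x, hx.1⟩ (Subgroup.mem_subgroupOf.2 hx))
      rw [← map_mul, ← map_mul, hxt]
    have htU' : t ∈ U' := Subgroup.mem_subgroupOf.2 ⟨t.2, htV⟩
    have := Subgroup.orderOf_dvd_natCard U' htU'
    rw [ht, hU'8] at this
    norm_num at this
  obtain ⟨e⟩ := CfsgLib.Char.mulEquiv_SL23_of_order_24 hK24 huniq U' hU'8 hnab ht htU
  refine ⟨⟨e⟩, ?_⟩
  have hle : commutator H ≤ K :=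
    commutator_le_of_index_le_two π hπs (hker.le.trans hZc) K (by rw [← hKb, hb]; norm_num)
  refine Subgroup.eq_of_le_of_card_ge hle (le_of_eq_of_le hK24 ?_)
  have hK' : 8 ≤ Nat.card (commutator K) := by
    refine sl23_commutator_card.trans_eq ?_
    rw [show commutator (SL(2, ZMod 3)) = (commutator K).map e.toMonoidHom by
      rw [commutator_def, commutator_def, Subgroup.map_commutator, Subgroup.map_top_of_surjective _ e.surjective],
      Subgroup.card_map_of_injective e.injective]
  have hdK' : Nat.card (commutator K) ∣ Nat.card (commutator H) := by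
    rw [← Subgroup.card_map_of_injective K.subtype_injective (K := commutator K)]
    refine Subgroup.card_dvd_of_le ?_
    rw [commutator_def, Subgroup.map_commutator, commutator_def]
    exact Subgroup.commutator_mono le_top le_top
  have h3H : 3 ∣ Nat.card (commutator H) := by
    refine (four_commutator V hV hC h24).trans ?_
    rw [show commutator (H ⧸ Z) = (commutator H).map π by
      rw [commutator_def, commutator_def, Subgroup.map_commutator, Subgroup.map_top_of_surjective _ hπs]]
    exact Subgroup.card_map_dvd _ _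
  have hne : Nat.card (commutator K) ≠ 12 := fun h => by
    have h1 := (commutator K).card_mul_index
    rw [h, hK24] at h1
    exact hK2 (commutator K) (by omega)
  have hdd : Nat.card (commutator K) ∣ 24 := hK24 ▸ (commutator K).card_subgroup_dvd_card
  have hpos := Nat.card_pos (α := commutator H)
  have h8' : 8 ∣ Nat.card (commutator K) := by
    have h1 := Nat.le_of_dvd (by norm_num) hdd
    interval_cases hc : Nat.card (commutator K) <;> omega
  exact Nat.le_of_dvd hpos (Nat.Coprime.mul_dvd_of_dvd_of_dvd (m := 8) (n := 3) (by norm_num)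
    (h8'.trans hdK') h3H)

end CfsgLib.GW
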