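import Cfsg.Agent.Lib.GW.DoubleCover
import Cfsg.Agent.Lib.GW.RankOne
import Cfsg.Agent.Lib.Classical.PslBin.Exceptional
import Cfsg.Agent.S0205

/-!
# Quaternion Sylow 2-subgroups with cyclic intersections (S3307), given the dihedral theorem
-/

set_option autoImplicit false
set_option linter.style.haveILetI false
set_option linter.unusedSectionVars false

namespace CfsgLib.GW

open CfsgLib.Invol

universe u

/-- the central involution of a dihedral Sylow 2-subgroup of order at least eight is fixed by its normaliser -/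
theorem dihedral_center_fixed {Q : Type*} [Group Q] {T : Subgroup Q} {k : ℕ} (hk : 3 ≤ k) (h2k : 2 ∣ k)
    (e : T ≃* DihedralGroup k) {g : Q} (hg : ∀ x ∈ T, g * x * g⁻¹ ∈ T) {z : Q} (hz : z ∈ T) (hzo : orderOf z = 2)
    (hzc : ∀ x ∈ T, Commute x z) : Commute g z := by
  haveI : NeZero k := ⟨by omega⟩
  have huniq : ∀ w : T, orderOf w = 2 → (∀ x, Commute x w) → ∃ i : ZMod k, e w = .r i ∧ i + i = 0 ∧ i ≠ 0 := by
    intro w hw hwc
    have hw' : orderOf (e w) = 2 := by rw [MulEquiv.orderOf_eq, hw]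
    rcases hew : e w with i | i
    · refine ⟨i, rfl, ?_, fun h => ?_⟩
      · have h1 := invol_mul_self hw'
        rw [hew, DihedralGroup.r_mul_r, DihedralGroup.one_def, DihedralGroup.r.injEq] at h1
        exact h1
      · rw [hew, h, DihedralGroup.r_zero, orderOf_one] at hw'
        omega
    · exfalso
      have h1 := ((hwc (e.symm (.r 1))).map e.toMonoidHom).eq
      change e (e.symm (.r 1)) * e w = e w * e (e.symm (.r 1)) at h1
      rw [e.apply_symm_apply, hew, DihedralGroup.r_mul_sr, DihedralGroup.sr_mul_r, DihedralGroup.sr.injEq] at h1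
      have h2 : ((2 : ℕ) : ZMod k) = 0 := by push_cast; linear_combination -h1
      rw [ZMod.natCast_eq_zero_iff] at h2
      have := Nat.le_of_dvd two_pos h2
      omega
  have hgT : ∀ x ∈ T, ∃ y ∈ T, g * y * g⁻¹ = x := by
    intro x hx
    let φ : T → T := fun y => ⟨g * y * g⁻¹, hg y y.2⟩
    haveI : Finite T := Finite.of_equiv _ e.symm.toEquiv
    have hφ : Function.Injective φ := fun a b h => Subtype.ext
      ((MulAut.conj g).injective (congrArg Subtype.val h))
    obtain ⟨y, hy⟩ := Finite.surjective_of_injective hφ ⟨x, hx⟩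
    exact ⟨y, y.2, congrArg Subtype.val hy⟩
  obtain ⟨i, hi, hi1, hi0⟩ := huniq ⟨z, hz⟩ (by rw [Subgroup.orderOf_mk, hzo])
    fun x => Subtype.ext (hzc x x.2).eq
  have hz' : orderOf (g * z * g⁻¹) = 2 := by
    rw [show g * z * g⁻¹ = MulAut.conj g z from rfl, MulEquiv.orderOf_eq, hzo]
  obtain ⟨j, hj, hj1, hj0⟩ := huniq ⟨g * z * g⁻¹, hg z hz⟩ (by rw [Subgroup.orderOf_mk, hz']) fun x => by
    obtain ⟨y, hy, hyx⟩ := hgT x x.2
    refine Subtype.ext ?_
    show (x : Q) * (g * z * g⁻¹) = g * z * g⁻¹ * x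
    rw [← hyx, show g * y * g⁻¹ * (g * z * g⁻¹) = g * (y * z) * g⁻¹ by group, (hzc y hy).eq]
    group
  have h := congrArg Subtype.val (e.injective (hi.trans ((congrArg DihedralGroup.r
    (add_self_eq_zero_unique hi1 hj1 hi0 hj0)).trans hj.symm)))
  change z = g * z * g⁻¹ at h
  exact mul_inv_eq_iff_eq_mul.1 h.symm

/-- rotations move along injections -/
theorem rotation_map {A B : Type*} [Group A] [Group B] (f : A →* B) (hf : Function.Injective f)
    (h : ∃ g x : A, x * x = 1 ∧ x ≠ 1 ∧ g * x * g⁻¹ ≠ x ∧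
      g * (g * x * g⁻¹) * g⁻¹ = x * (g * x * g⁻¹) ∧ x * (g * x * g⁻¹) = g * x * g⁻¹ * x) :
    ∃ g x : B, x * x = 1 ∧ x ≠ 1 ∧ g * x * g⁻¹ ≠ x ∧
      g * (g * x * g⁻¹) * g⁻¹ = x * (g * x * g⁻¹) ∧ x * (g * x * g⁻¹) = g * x * g⁻¹ * x := by
  obtain ⟨g, x, h1, h2, h3, h4, h5⟩ := h
  refine ⟨f g, f x, ?_⟩
  simp only [← map_inv, ← map_mul, ne_eq, hf.eq_iff, map_eq_one_iff f hf]
  exact ⟨h1, h2, h3, h4, h5⟩

/-- a rotated four group in `A7` -/
theorem alt_seven_rotation : ∃ g x : alternatingGroup (Fin 7), x * x = 1 ∧ x ≠ 1 ∧ g * x * g⁻¹ ≠ x ∧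
    g * (g * x * g⁻¹) * g⁻¹ = x * (g * x * g⁻¹) ∧ x * (g * x * g⁻¹) = g * x * g⁻¹ * x := by
  refine ⟨⟨Equiv.swap 0 1 * Equiv.swap 1 2, ?_⟩, ⟨Equiv.swap 0 1 * Equiv.swap 2 3, ?_⟩, ?_⟩
  · rw [Equiv.Perm.mem_alternatingGroup, map_mul, Equiv.Perm.sign_swap (by decide), Equiv.Perm.sign_swap (by decide)]
    rfl
  · rw [Equiv.Perm.mem_alternatingGroup, map_mul, Equiv.Perm.sign_swap (by decide), Equiv.Perm.sign_swap (by decide)]
    rfl
  · decide +kernel

/-- a rotated four group in `PSL(2, q)`, odd `q` -/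
theorem psl_rotation {F : Type*} [Field F] [Fintype F] (ho : Odd (Fintype.card F)) :
    ∃ g x : Matrix.ProjectiveSpecialLinearGroup (Fin 2) F, x * x = 1 ∧ x ≠ 1 ∧ g * x * g⁻¹ ≠ x ∧
      g * (g * x * g⁻¹) * g⁻¹ = x * (g * x * g⁻¹) ∧ x * (g * x * g⁻¹) = g * x * g⁻¹ * x := by
  obtain ⟨H, ⟨e⟩⟩ := CfsgLib.Perm.Dickson.exists_a4_odd (F := F) (by rwa [Nat.card_eq_fintype_card])
  exact rotation_map (H.subtype.comp e.symm.toMonoidHom) (H.subtype_injective.comp e.symm.injective)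
    (by decide +kernel)

theorem solvable_of_ker {A B : Type*} [Group A] [Group B] (f : A →* B) (hB : Group.IsSolvable B)
    (hk : Group.IsSolvable f.ker) : Group.IsSolvable A := by
  haveI := hB
  haveI := hk
  exact solvable_of_ker_le_range f.ker.subtype f (by rw [Subgroup.range_subtype])

/-- **S3307**, given the dihedral theorem -/
theorem quat_cyclic_inter {G : Type u} [Group G] [Finite G] (hns : ¬ Group.IsSolvable G)
    (hQ : ∀ S : Sylow 2 G, ∃ n : ℕ, Nonempty (↥(S : Subgroup G) ≃* QuaternionGroup (2 ^ (n + 1))))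
    (hC : ∀ S T : Sylow 2 G, S ≠ T → IsCyclic ↥((S : Subgroup G) ⊓ (T : Subgroup G)))
    (hgw : GWBelow.{u} (Nat.card G)) :
    (∀ S : Sylow 2 G, Nonempty (↥(S : Subgroup G) ≃* QuaternionGroup 2)) ∧
    ∃ (G₁ : Subgroup G) (_ : G₁.Normal) (_ : ((Cfsg.oddCore G).subgroupOf G₁).Normal),
      Odd G₁.index ∧ Cfsg.oddCore G ≤ G₁ ∧
      ∃ (F : Type) (_ : Field F) (_ : Fintype F), (Fintype.card F % 8 = 3 ∨ Fintype.card F % 8 = 5) ∧ 3 < Fintype.card F ∧
        Nonempty (↥G₁ ⧸ (Cfsg.oddCore G).subgroupOf G₁ ≃* Matrix.SpecialLinearGroup (Fin 2) F) := by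
  classical
  haveI : Fact (Nat.Prime 2) := ⟨Nat.prime_two⟩
  obtain ⟨S⟩ : Nonempty (Sylow 2 G) := inferInstance
  obtain ⟨n, ⟨eS⟩⟩ := hQ S
  have hk : 2 ≤ 2 ^ (n + 1) := by
    rw [pow_succ']; exact Nat.le_mul_of_pos_right 2 (by positivity)
  haveI : NeZero (2 ^ (n + 1)) := ⟨by omega⟩
  set O := Cfsg.oddCore G with hO
  haveI : O.Normal := by rw [hO]; infer_instance
  have hOodd : ¬ 2 ∣ Nat.card O := CfsgLib.Coprime.pPrimeCore_not_dvd Nat.prime_two
  obtain ⟨S₁, ⟨e₁⟩⟩ := exists_sylow_quotient_equiv O ((Nat.prime_two.coprime_iff_not_dvd.2 hOodd).symm) S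
  -- the involution
  set z' : (S₁ : Subgroup (G ⧸ O)) := (e₁.symm.trans eS).symm (.a ((2 ^ (n + 1) : ℕ) : ZMod (2 * 2 ^ (n + 1))))
  have huniq : ∀ x : (S₁ : Subgroup (G ⧸ O)), orderOf x = 2 → x = z' := fun x hx => by
    rcases quaternion_sq_one (q := (e₁.symm.trans eS) x) (by rw [← map_mul, invol_mul_self hx, map_one]) with h | h
    · exact absurd ((e₁.symm.trans eS).injective (h.trans (map_one _).symm)) (invol_ne_one hx)
    · exact (e₁.symm.trans eS).injective (h.trans ((e₁.symm.trans eS).apply_symm_apply _).symm)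
  obtain ⟨w, hw⟩ := exists_prime_orderOf_dvd_card' (G := (S₁ : Subgroup (G ⧸ O))) 2 (by
    rw [Nat.card_congr (e₁.symm.trans eS).toEquiv, Nat.card_eq_fintype_card, QuaternionGroup.card]; exact Dvd.intro _ (by ring : 2 * (2 * 2 ^ (n + 1)) = _))
  have hz'o : orderOf z' = 2 := huniq w hw ▸ hw
  set zb : G ⧸ O := (z' : G ⧸ O)
  have hzbo : orderOf zb = 2 := by rw [Subgroup.orderOf_coe, hz'o]
  have hOY : Cfsg.pPrimeCore 2 (G ⧸ O) = ⊥ := CfsgLib.Coprime.pPrimeCore_quotient_eq_bot Nat.prime_two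
  have hzbc : zb ∈ Subgroup.center (G ⧸ O) := eq_of_zcentral_bot (zcentral_of_unique_invol S₁ hzbo fun x hx hxo =>
    congrArg Subtype.val (huniq ⟨x, hx⟩ (by rw [Subgroup.orderOf_mk, hxo]))) hOY
  -- the only involution
  have hinv : ∀ a : G ⧸ O, orderOf a = 2 → a = zb := by
    intro a ha
    obtain ⟨P, hP⟩ := (IsPGroup.of_card (n := 1) (by rw [Nat.card_zpowers, ha, pow_one]) :
      IsPGroup 2 (Subgroup.zpowers a)).exists_le_sylow
    obtain ⟨g, hg⟩ := MulAction.exists_smul_eq (G ⧸ O) P S₁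
    have hmem : g * a * g⁻¹ ∈ (S₁ : Subgroup (G ⧸ O)) := by
      rw [← hg, Sylow.coe_subgroup_smul]
      exact ⟨a, hP (Subgroup.mem_zpowers a), rfl⟩
    have h : g * a * g⁻¹ = zb := congrArg Subtype.val (huniq ⟨_, hmem⟩ (by
      rw [Subgroup.orderOf_mk, show g * a * g⁻¹ = MulAut.conj g a from rfl, MulEquiv.orderOf_eq, ha]))
    calc a = g⁻¹ * (g * a * g⁻¹) * g := by group
      _ = zb := by rw [h, Subgroup.mem_center_iff.1 hzbc g⁻¹, inv_mul_cancel_right]
  set Z := Subgroup.zpowers zb with hZ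
  have hZc : Z ≤ Subgroup.center (G ⧸ O) := Subgroup.zpowers_le.2 hzbc
  haveI hzn : Z.Normal := ⟨fun a ha g => by
    rw [Subgroup.mem_center_iff.1 (hZc ha) g, mul_inv_cancel_right]
    exact ha⟩
  have hZ2 : Nat.card Z = 2 := by rw [hZ, Nat.card_zpowers, hzbo]
  set f := QuotientGroup.mk' Z
  have hf : Function.Surjective f := QuotientGroup.mk'_surjective Z
  obtain ⟨T₀, ⟨eT⟩⟩ := CfsgLib.Fusion.SmallTwo.sylow_image_dihedral f hf
    (by rw [QuotientGroup.ker_mk', hZ2]) S₁ (e₁.symm.trans eS)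
  have hD : DihTwo ((G ⧸ O) ⧸ Z) := dihTwo_of_sylow T₀ hk eT
  have hDO : Cfsg.oddCore ((G ⧸ O) ⧸ Z) = ⊥ := oddCore_quotient_central hOY Z hZ2
  let π : G →* (G ⧸ O) ⧸ Z := f.comp (QuotientGroup.mk' O)
  have hπ : Function.Surjective π := hf.comp (QuotientGroup.mk'_surjective O)
  have hcard : Nat.card ((G ⧸ O) ⧸ Z) ≤ Nat.card G := Nat.card_le_card_of_surjective π hπ
  -- the quotient is not solvable
  have hnsQ : ¬ Group.IsSolvable ((G ⧸ O) ⧸ Z) := fun h => hns (by
    refine solvable_of_ker (QuotientGroup.mk' O) (solvable_of_ker f h ?_) ?_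
    · rw [QuotientGroup.ker_mk']
      haveI : IsCyclic Z := by rw [hZ]; infer_instance
      infer_instance
    · rw [QuotientGroup.ker_mk']
      exact Cfsg.Agent.S0205.result (Nat.not_even_iff_odd.1 fun he => hOodd he.two_dvd))
  rcases structure_core hD hDO (hgw.mono hcard) with h | ⟨V, hVn, hV, -, hV24⟩ | ⟨M, hMn, hMs, hMc, -, -, hM⟩
  · haveI := h.isNilpotent
    exact absurd (by infer_instance) hnsQ
  · haveI := hVn
    refine absurd (solvable_of_ker (QuotientGroup.mk' V) ?_ ?_) hnsQ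
    · have h1 := V.card_mul_index
      rw [hV.card_four] at h1
      haveI : IsZGroup (((G ⧸ O) ⧸ Z) ⧸ V) := IsZGroup.of_squarefree (by
        rw [← Subgroup.index_eq_card]
        rcases hV24 with hc | hc <;> rw [hc] at h1
        · rw [show V.index = 3 by omega]; exact Nat.prime_three.squarefree
        · rw [show V.index = 6 by omega, show (6 : ℕ) = 2 * 3 from rfl, Nat.squarefree_mul (by norm_num)]
          exact ⟨Nat.prime_two.squarefree, Nat.prime_three.squarefree⟩)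
      infer_instance
    · rw [QuotientGroup.ker_mk']
      exact Group.isSolvable_of_comm fun a b => by
        haveI := hV
        exact mul_comm_of_exponent_two IsKleinFour.exponent_two a b
  haveI := hMn
  -- a rotated four group inside `M`
  obtain ⟨g, x, hxx, hx1, hgx, hgg, hxy⟩ : ∃ g x : (G ⧸ O) ⧸ Z, x * x = 1 ∧ x ≠ 1 ∧ g * x * g⁻¹ ≠ x ∧
      g * (g * x * g⁻¹) * g⁻¹ = x * (g * x * g⁻¹) ∧ x * (g * x * g⁻¹) = g * x * g⁻¹ * x := by
    rcases hM with ⟨F, iF, jF, ho, -, ⟨e⟩⟩ | ⟨⟨e⟩⟩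
    · exact rotation_map (M.subtype.comp e.symm.toMonoidHom) (M.subtype_injective.comp e.symm.injective) (psl_rotation ho)
    · exact rotation_map (M.subtype.comp e.symm.toMonoidHom) (M.subtype_injective.comp e.symm.injective) alt_seven_rotation
  set y := g * x * g⁻¹
  have hxo : orderOf x = 2 := invol_iff.2 ⟨hxx, hx1⟩
  have hyo : orderOf y = 2 := by rw [show y = MulAut.conj g x from rfl, MulEquiv.orderOf_eq, hxo]
  set V := Subgroup.closure ({x, y} : Set ((G ⧸ O) ⧸ Z))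
  have hV : IsKleinFour V := isKleinFour_closure_pair hxo hyo (Ne.symm hgx) hxy
  have hVp : IsPGroup 2 V := IsPGroup.of_card (n := 2) (by rw [hV.card_four]; norm_num)
  -- intersections of Sylow subgroups are cyclic
  have hinter : ∀ T₁ T₂ : Sylow 2 ((G ⧸ O) ⧸ Z), T₁ ≠ T₂ → ∀ W : Subgroup ((G ⧸ O) ⧸ Z),
      W ≤ (T₁ : Subgroup ((G ⧸ O) ⧸ Z)) → W ≤ (T₂ : Subgroup ((G ⧸ O) ⧸ Z)) → IsCyclic W := by
    intro T₁ T₂ hne W h1 h2
    obtain ⟨R⟩ : Nonempty (Sylow 2 (W.comap π)) := inferInstance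
    have hR : IsPGroup 2 ((R : Subgroup (W.comap π)).map (W.comap π).subtype) := R.2.map _
    -- the image of `R` is `W`
    have hRW : ((R : Subgroup (W.comap π)).map (W.comap π).subtype).map π = W := by
      let πW : W.comap π →* W := π.subgroupComap W
      have hπW : Function.Surjective πW := fun w => by
        obtain ⟨a, ha⟩ := hπ w
        exact ⟨⟨a, show π a ∈ W from ha ▸ w.2⟩, Subtype.ext ha⟩
      have htop : (R.mapSurjective hπW : Subgroup W) = ⊤ := by
        obtain ⟨k, hk⟩ := (T₁.2.to_le h1).exists_card_eq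
        refine Subgroup.eq_top_of_card_eq _ ?_
        rw [Sylow.card_eq_multiplicity, hk, Nat.Prime.factorization_pow Nat.prime_two, Finsupp.single_eq_same]
      refine le_antisymm ?_ fun w hw => ?_
      · rintro _ ⟨_, ⟨a, -, rfl⟩, rfl⟩
        exact a.2
      · have : (⟨w, hw⟩ : W) ∈ (R : Subgroup (W.comap π)).map πW := by
          rw [← Sylow.coe_mapSurjective hπW, htop]; exact Subgroup.mem_top _
        obtain ⟨a, ha, hae⟩ := this
        exact ⟨a, ⟨a, ha, rfl⟩, congrArg Subtype.val hae⟩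
    have hpick : ∀ T : Sylow 2 ((G ⧸ O) ⧸ Z), W ≤ (T : Subgroup ((G ⧸ O) ⧸ Z)) →
        ∃ P : Sylow 2 G, (R : Subgroup (W.comap π)).map (W.comap π).subtype ≤ (P : Subgroup G) ∧
          (P : Subgroup G).map π = (T : Subgroup ((G ⧸ O) ⧸ Z)) := by
      intro T hT
      have hRT : (R : Subgroup (W.comap π)).map (W.comap π).subtype ≤ (T : Subgroup ((G ⧸ O) ⧸ Z)).comap π := by
        rintro _ ⟨a, -, rfl⟩
        exact hT a.2
      obtain ⟨P₀, hP₀⟩ := (hR.of_equiv (Subgroup.subgroupOfEquivOfLe hRT).symm).exists_le_sylow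
      obtain ⟨P, hP⟩ := (P₀.2.map ((T : Subgroup ((G ⧸ O) ⧸ Z)).comap π).subtype).exists_le_sylow
      refine ⟨P, le_trans ?_ hP, ?_⟩
      · intro a ha
        exact ⟨⟨a, hRT ha⟩, hP₀ ha, rfl⟩
      · -- `P` has image of order `|T|` inside `T`
        have hle : ((P₀ : Subgroup _).map ((T : Subgroup ((G ⧸ O) ⧸ Z)).comap π).subtype).map π = (T : Subgroup ((G ⧸ O) ⧸ Z)) := by
          let πT : (T : Subgroup ((G ⧸ O) ⧸ Z)).comap π →* (T : Subgroup ((G ⧸ O) ⧸ Z)) := π.subgroupComap _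
          have hπT : Function.Surjective πT := fun w => by
            obtain ⟨a, ha⟩ := hπ w
            exact ⟨⟨a, show π a ∈ (T : Subgroup ((G ⧸ O) ⧸ Z)) from ha ▸ w.2⟩, Subtype.ext ha⟩
          have htop : (P₀.mapSurjective hπT : Subgroup (T : Subgroup ((G ⧸ O) ⧸ Z))) = ⊤ := by
            obtain ⟨k, hk⟩ := T.2.exists_card_eq
            refine Subgroup.eq_top_of_card_eq _ ?_
            rw [Sylow.card_eq_multiplicity, hk, Nat.Prime.factorization_pow Nat.prime_two, Finsupp.single_eq_same]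
          refine le_antisymm ?_ fun w hw => ?_
          · rintro _ ⟨_, ⟨a, -, rfl⟩, rfl⟩
            exact a.2
          · have : (⟨w, hw⟩ : (T : Subgroup ((G ⧸ O) ⧸ Z))) ∈ (P₀ : Subgroup _).map πT := by
              rw [← Sylow.coe_mapSurjective hπT, htop]; exact Subgroup.mem_top _
            obtain ⟨a, ha, hae⟩ := this
            exact ⟨a, ⟨a, ha, rfl⟩, congrArg Subtype.val hae⟩
        exact T.3 (P.2.map π) (hle ▸ Subgroup.map_mono hP)
    obtain ⟨P₁, hR1, hP1⟩ := hpick T₁ h1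
    obtain ⟨P₂, hR2, hP2⟩ := hpick T₂ h2
    have hP : P₁ ≠ P₂ := fun h => hne (Sylow.ext (by rw [← hP1, ← hP2, h]))
    haveI := hC P₁ P₂ hP
    haveI : IsCyclic ((R : Subgroup (W.comap π)).map (W.comap π).subtype) :=
      isCyclic_of_injective _ (Subgroup.inclusion_injective (le_inf hR1 hR2))
    rw [← hRW]
    exact isCyclic_of_surjective _ (π.subgroupMap_surjective _)
  -- the Sylow subgroups of the quotient have order four
  have hn0 : n = 0 := by
    by_contra hn
    have hk3 : 4 ≤ 2 ^ (n + 1) := by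
      calc 4 = 2 ^ 2 := by norm_num
        _ ≤ 2 ^ (n + 1) := Nat.pow_le_pow_right two_pos (by omega)
    obtain ⟨T, hT⟩ := hVp.exists_le_sylow
    have eT' : (T : Subgroup ((G ⧸ O) ⧸ Z)) ≃* DihedralGroup (2 ^ (n + 1)) := (Sylow.equiv T T₀).trans eT
    have hi : orderOf (DihedralGroup.r ((2 ^ n : ℕ) : ZMod (2 ^ (n + 1)))) = 2 := by
      refine invol_iff.2 ⟨?_, fun h => ?_⟩
      · rw [DihedralGroup.r_mul_r, ← Nat.cast_add, ← two_mul, ← pow_succ', ZMod.natCast_self, DihedralGroup.r_zero]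
      · rw [DihedralGroup.one_def, DihedralGroup.r.injEq, ZMod.natCast_eq_zero_iff] at h
        have := Nat.le_of_dvd (by positivity) h
        rw [pow_succ'] at this
        have := Nat.two_pow_pos n
        omega
    set zT : (T : Subgroup ((G ⧸ O) ⧸ Z)) := eT'.symm (DihedralGroup.r ((2 ^ n : ℕ) : ZMod (2 ^ (n + 1))))
    have hzTo : orderOf ((zT : (T : Subgroup ((G ⧸ O) ⧸ Z))) : (G ⧸ O) ⧸ Z) = 2 := by
      rw [Subgroup.orderOf_coe, MulEquiv.orderOf_eq, hi]
    have hzTc : ∀ a ∈ (T : Subgroup ((G ⧸ O) ⧸ Z)), Commute a (zT : (G ⧸ O) ⧸ Z) := fun a ha => by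
      have : Commute (eT' ⟨a, ha⟩) (DihedralGroup.r ((2 ^ n : ℕ) : ZMod (2 ^ (n + 1)))) := by
        have h2 : ((2 ^ n : ℕ) : ZMod (2 ^ (n + 1))) + ((2 ^ n : ℕ) : ZMod (2 ^ (n + 1))) = 0 := by
          rw [← Nat.cast_add, ← two_mul, ← pow_succ', ZMod.natCast_self]
        rcases eT' ⟨a, ha⟩ with i | i
        · show _ * _ = _ * _
          rw [DihedralGroup.r_mul_r, DihedralGroup.r_mul_r]
          exact congrArg _ (add_comm _ _)
        · show _ * _ = _ * _
          rw [DihedralGroup.sr_mul_r, DihedralGroup.r_mul_sr]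
          congr 1
          linear_combination h2
      have := this.map eT'.symm.toMonoidHom
      simp only [MulEquiv.coe_toMonoidHom, MulEquiv.symm_apply_apply] at this
      exact congrArg Subtype.val this.eq
    have hxT := hT (Subgroup.subset_closure (Set.mem_insert x {y}))
    have hyT := hT (Subgroup.subset_closure (Set.mem_insert_of_mem x (Set.mem_singleton y)))
    -- `g` does not normalise `T`
    have hgT : ∃ a ∈ (T : Subgroup ((G ⧸ O) ⧸ Z)), g * a * g⁻¹ ∉ (T : Subgroup ((G ⧸ O) ⧸ Z)) := by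
      by_contra! hg
      have hcom := dihedral_center_fixed (by omega) (dvd_pow_self 2 (by omega)) eT' hg zT.2 hzTo hzTc
      rcases hD.four hxo hyo (Ne.symm hgx) hxy (hzTc x hxT).symm (hzTc y hyT).symm ⟨1, by rw [hzTo, pow_one]⟩ with
        h | h | h | h
      · exact invol_ne_one hzTo h
      · exact hgx (mul_inv_eq_iff_eq_mul.2 (show g * x = x * g from h ▸ hcom.eq))
      · have h1 : g * y * g⁻¹ = y := by rw [show g * y = y * g from h ▸ hcom.eq, mul_inv_cancel_right]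
        rw [hgg] at h1
        exact invol_ne_one hxo (mul_eq_right.1 h1)
      · have h1 : g * (x * y) * g⁻¹ = x * y := by rw [show g * (x * y) = x * y * g from h ▸ hcom.eq, mul_inv_cancel_right]
        rw [show g * (x * y) * g⁻¹ = (g * x * g⁻¹) * (g * y * g⁻¹) by group, hgg] at h1
        change y * (x * y) = x * y at h1
        exact invol_ne_one hyo (mul_eq_right.1 h1)
    obtain ⟨a, ha, hga⟩ := hgT
    have hne : T ≠ MulAut.conj g • T := fun h => hga (by rw [h]; exact ⟨a, ha, rfl⟩)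
    have hVg : V ≤ (MulAut.conj g • T : Sylow 2 _) := by
      refine (Subgroup.closure_le _).2 ?_
      have hy2 : y ∈ ((MulAut.conj g • T : Sylow 2 _) : Subgroup ((G ⧸ O) ⧸ Z)) := ⟨x, hxT, rfl⟩
      have hxy2 : x * y ∈ ((MulAut.conj g • T : Sylow 2 _) : Subgroup ((G ⧸ O) ⧸ Z)) := ⟨y, hyT, hgg⟩
      rintro v (rfl | rfl)
      · have := mul_mem hxy2 hy2
        rwa [mul_assoc, invol_mul_self hyo, mul_one] at this
      · exact hy2
    haveI := hinter T (MulAut.conj g • T) hne V hT hVg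
    haveI := hV
    exact IsKleinFour.not_isCyclic (G := V) inferInstance
  subst hn0
  refine ⟨fun P => ⟨(Sylow.equiv P S).trans eS⟩, ?_⟩
  have hT4 : ∀ T : Sylow 2 ((G ⧸ O) ⧸ Z), Nat.card (T : Subgroup ((G ⧸ O) ⧸ Z)) = 4 := fun T => by
    rw [Nat.card_congr ((Sylow.equiv T T₀).trans eT).toEquiv, DihedralGroup.nat_card]; norm_num
  have hMidx : Odd M.index := by
    obtain ⟨T, hT⟩ := hVp.exists_le_sylow
    have hVT : V = (T : Subgroup ((G ⧸ O) ⧸ Z)) := Subgroup.eq_of_le_of_card_ge hT (by rw [hT4, hV.card_four])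
    have hx' : x ∈ M ∧ y ∈ M := by
      have hgM : ∀ a ∈ M, g * a * g⁻¹ ∈ M := fun a ha => hMn.conj_mem a ha g
      -- elements of order two outside `M` would double the Sylow order
      by_contra hcon
      have hxM : x ∉ M := fun h => hcon ⟨h, hgM x h⟩
      have hyM : y ∉ M := fun h => hxM (by
        have := hMn.conj_mem y h g⁻¹
        rwa [show g⁻¹ * (g * x * g⁻¹) * g⁻¹⁻¹ = x by group] at this)
      have hxyM : x * y ∉ M := fun h => hyM (by
        have := hMn.conj_mem _ h g⁻¹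
        rwa [show g⁻¹ * (x * y) * g⁻¹⁻¹ = y by rw [← hgg]; group] at this)
      obtain ⟨a, b, hab⟩ : ∃ a b : M, a * b ≠ b * a := by
        by_contra! hh
        exact hMc ⟨⟨hh⟩⟩
      obtain ⟨U⟩ : Nonempty (Sylow 2 M) := inferInstance
      have hd : 2 ∣ Nat.card M := by
        rcases hM with ⟨F, iF, jF, ho, -, ⟨e⟩⟩ | ⟨⟨e⟩⟩
        · obtain ⟨g', x', h1, h2, -⟩ := psl_rotation ho
          rw [Nat.card_congr e.toEquiv]
          exact (dvd_of_eq (invol_iff.2 ⟨h1, h2⟩ : orderOf x' = 2).symm).trans (orderOf_dvd_natCard x')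
        · obtain ⟨g', x', h1, h2, -⟩ := alt_seven_rotation
          rw [Nat.card_congr e.toEquiv]
          exact (dvd_of_eq (invol_iff.2 ⟨h1, h2⟩ : orderOf x' = 2).symm).trans (orderOf_dvd_natCard x')
      obtain ⟨⟨w, hwM⟩, hwo⟩ := exists_prime_orderOf_dvd_card' 2 hd
      rw [Subgroup.orderOf_mk] at hwo
      obtain ⟨T', hT'⟩ := (IsPGroup.of_card (n := 1) (by rw [Nat.card_zpowers, hwo, pow_one]) :
        IsPGroup 2 (Subgroup.zpowers w)).exists_le_sylow
      obtain ⟨c, hc⟩ := MulAction.exists_smul_eq ((G ⧸ O) ⧸ Z) T' T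
      have hw' : c * w * c⁻¹ ∈ V := by
        rw [hVT, ← hc, Sylow.coe_subgroup_smul]
        exact ⟨w, hT' (Subgroup.mem_zpowers w), rfl⟩
      rcases mem_klein hxo hyo (Ne.symm hgx) hxy hw' with h | h | h | h
      · exact invol_ne_one hwo ((MulAut.conj c).injective (h.trans (map_one _).symm))
      · exact hxM (h ▸ hMn.conj_mem w hwM c)
      · exact hyM (h ▸ hMn.conj_mem w hwM c)
      · exact hxyM (h ▸ hMn.conj_mem w hwM c)
    have hTM : (T : Subgroup ((G ⧸ O) ⧸ Z)) ≤ M := by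
      rw [← hVT]
      exact (Subgroup.closure_le _).2 (by rintro v (rfl | rfl); exacts [hx'.1, hx'.2])
    exact Nat.not_even_iff_odd.1 fun he => T.not_dvd_index (he.two_dvd.trans (Subgroup.index_dvd_of_le hTM))
  refine ⟨M.comap π, inferInstance, inferInstance, ?_, ?_, ?_⟩
  · rw [Subgroup.index_comap_of_surjective M hπ]; exact hMidx
  · intro a ha
    show π a ∈ M
    rw [show π a = f (QuotientGroup.mk' O a) from rfl, show QuotientGroup.mk' O a = 1 from
      (QuotientGroup.eq_one_iff a).2 ha, map_one]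
    exact one_mem M
  rcases hM with ⟨F, iF, jF, ho, hq3, ⟨eM⟩⟩ | ⟨⟨eM⟩⟩
  swap
  · exfalso
    have h1 : Nat.card M = 2520 := by
      rw [Nat.card_congr eM.toEquiv]
      have := two_mul_card_alternatingGroup (α := Fin 7)
      rw [Fintype.card_perm, Fintype.card_fin, ← Nat.card_eq_fintype_card] at this
      norm_num [Nat.factorial] at this ⊢
      omega
    obtain ⟨U⟩ : Nonempty (Sylow 2 M) := inferInstance
    obtain ⟨T, hT⟩ := (U.2.map M.subtype).exists_le_sylow
    have h8 : 8 ∣ Nat.card ((U : Subgroup M).map M.subtype) := by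
      rw [Subgroup.card_map_of_injective M.subtype_injective]
      exact U.pow_dvd_card_of_pow_dvd_card (n := 3) (by rw [h1]; norm_num)
    have := (Nat.le_of_dvd Nat.card_pos h8).trans (Nat.le_of_dvd Nat.card_pos (Subgroup.card_dvd_of_le hT))
    rw [hT4] at this
    omega
  refine ⟨F, iF, jF, ?_, hq3, ?_⟩
  · have h8 : ¬ 8 ∣ Nat.card M := fun h => by
      obtain ⟨U⟩ : Nonempty (Sylow 2 M) := inferInstance
      obtain ⟨T, hT⟩ := (U.2.map M.subtype).exists_le_sylow
      have h8 : 8 ∣ Nat.card ((U : Subgroup M).map M.subtype) := by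
        rw [Subgroup.card_map_of_injective M.subtype_injective]
        exact U.pow_dvd_card_of_pow_dvd_card (n := 3) h
      have := (Nat.le_of_dvd Nat.card_pos h8).trans (Nat.le_of_dvd Nat.card_pos (Subgroup.card_dvd_of_le hT))
      rw [hT4] at this
      omega
    rw [Nat.card_congr eM.toEquiv] at h8
    have hc := CfsgLib.Classical.PslBin.card_psl_two (F := F) (CfsgLib.Perm.Dickson.two_ne_zero_of_odd (by
      rwa [Nat.card_eq_fintype_card]))
    rw [Nat.card_eq_fintype_card (α := F), ← CfsgLib.Perm.Dickson.card_S2P] at hc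
    generalize Nat.card (Matrix.ProjectiveSpecialLinearGroup (Fin 2) F) = P at h8 hc
    generalize Fintype.card F = q at ho hq3 hc
    by_contra hcon
    obtain ⟨i, hi⟩ | ⟨i, hi⟩ : 8 ∣ q - 1 ∨ 8 ∣ q + 1 := by obtain ⟨j, hj⟩ := ho; omega
    · obtain ⟨l, hl⟩ : 2 ∣ q + 1 := by obtain ⟨j, hj⟩ := ho; omega
      rw [hi, hl] at hc
      exact h8 ⟨q * (i * l), Nat.eq_of_mul_eq_mul_left two_pos (hc.trans (by ring))⟩
    · obtain ⟨l, hl⟩ : 2 ∣ q - 1 := by obtain ⟨j, hj⟩ := ho; omega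
      rw [hi, hl] at hc
      exact h8 ⟨q * (i * l), Nat.eq_of_mul_eq_mul_left two_pos (hc.trans (by ring))⟩
  -- the double cover
  set L := M.comap f
  let fL : L →* M := f.subgroupComap M
  have hfL : Function.Surjective fL := fun w => by
    obtain ⟨a, ha⟩ := hf w
    exact ⟨⟨a, show f a ∈ M from ha ▸ w.2⟩, Subtype.ext ha⟩
  have hMperf : commutator M = ⊤ := (IsSimpleGroup.eq_bot_or_eq_top_of_normal _ inferInstance).resolve_left fun h => hMc
    ⟨⟨fun a b => commutatorElement_eq_one_iff_mul_comm.1 (Subgroup.mem_bot.1 (h ▸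
      Subgroup.commutator_mem_commutator (Subgroup.mem_top a) (Subgroup.mem_top b)))⟩⟩
  have hzL : zb ∈ L := by
    show f zb ∈ M
    rw [show f zb = 1 from (QuotientGroup.eq_one_iff _).2 (Subgroup.mem_zpowers zb)]
    exact one_mem M
  have hkerL : ∀ a : L, fL a = 1 → a = 1 ∨ a = ⟨zb, hzL⟩ := by
    intro a ha
    have h1 : (a : G ⧸ O) ∈ Z := (QuotientGroup.eq_one_iff _).1 (congrArg Subtype.val ha)
    by_cases h2 : a = 1
    · exact Or.inl h2
    refine Or.inr (Subtype.ext (hinv _ ?_))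
    have h3 : orderOf (a : G ⧸ O) ∣ 2 := hZ2 ▸ Subgroup.orderOf_dvd_natCard Z h1
    exact ((Nat.dvd_prime Nat.prime_two).1 h3).resolve_left fun h => h2 (Subtype.ext (orderOf_eq_one_iff.1 h))
  have hLperf : Group.IsPerfect L := ⟨by
    have hmap : (commutator L).map fL = ⊤ := by
      rw [commutator_def, Subgroup.map_commutator, ← MonoidHom.range_eq_map, MonoidHom.range_eq_top.2 hfL,
        ← commutator_def, hMperf]
    have hz : (⟨zb, hzL⟩ : L) ∈ commutator L := by
      have hd : 2 ∣ Nat.card (commutator L) := by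
        have h2M : 2 ∣ Nat.card M := by
          rw [Nat.card_congr eM.toEquiv]
          obtain ⟨g', x', h1, h2, -⟩ := psl_rotation ho
          exact (dvd_of_eq (invol_iff.2 ⟨h1, h2⟩ : orderOf x' = 2).symm).trans (orderOf_dvd_natCard x')
        rw [← Nat.card_congr Subgroup.topEquiv.toEquiv, ← hmap] at h2M
        exact h2M.trans (Subgroup.card_map_dvd _ _)
      obtain ⟨⟨c, hc⟩, hco⟩ := exists_prime_orderOf_dvd_card' 2 hd
      rw [Subgroup.orderOf_mk, ← Subgroup.orderOf_coe] at hco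
      rwa [show c = ⟨zb, hzL⟩ from Subtype.ext (hinv _ hco)] at hc
    refine eq_top_iff.2 fun a _ => ?_
    obtain ⟨c, hc, hca⟩ : fL a ∈ (commutator L).map fL := hmap ▸ Subgroup.mem_top _
    rcases hkerL (c⁻¹ * a) (by rw [map_mul, map_inv, hca, inv_mul_cancel]) with h | h
    · rw [inv_mul_eq_one.1 h] at hc; exact hc
    · rw [show a = c * ⟨zb, hzL⟩ by rw [← h, mul_inv_cancel_left]]
      exact mul_mem hc hz⟩
  let gL : L →* Matrix.ProjectiveSpecialLinearGroup (Fin 2) F := eM.toMonoidHom.comp fL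
  have hgk : ∀ a, a ∈ gL.ker ↔ fL a = 1 := fun a => by
    show eM (fL a) = 1 ↔ fL a = 1
    exact MulEquiv.map_eq_one_iff eM
  obtain ⟨eL⟩ := equiv_sl2_of_cover ho hq3 gL (eM.surjective.comp hfL) (fun a ha => by
    rcases hkerL a ((hgk a).1 ha) with h | h
    · rw [h]; exact one_mem _
    · rw [h]
      exact Subgroup.mem_center_iff.2 fun b => Subtype.ext (Subgroup.mem_center_iff.1 hzbc b)) (by
    rw [Nat.card_eq_two_iff' (⟨1, one_mem _⟩ : gL.ker)]
    refine ⟨⟨⟨zb, hzL⟩, (hgk _).2 (Subtype.ext ((QuotientGroup.eq_one_iff _).2 (Subgroup.mem_zpowers zb)))⟩,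
      fun h => invol_ne_one hzbo (congrArg (fun v : gL.ker => ((v : L) : G ⧸ O)) h), ?_⟩
    rintro ⟨a, ha⟩ hne
    rcases hkerL a ((hgk a).1 ha) with h | h
    · exact absurd (Subtype.ext h) hne
    · exact Subtype.ext h)
  let q : M.comap π →* L := (QuotientGroup.mk' O).subgroupComap L
  have hq : Function.Surjective q := fun w => by
    obtain ⟨a, ha⟩ := QuotientGroup.mk'_surjective O (w : G ⧸ O)
    exact ⟨⟨a, show QuotientGroup.mk' O a ∈ L from ha ▸ w.2⟩, Subtype.ext ha⟩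
  have hqk : q.ker = O.subgroupOf (M.comap π) := by
    ext a
    rw [MonoidHom.mem_ker, Subgroup.mem_subgroupOf, ← QuotientGroup.eq_one_iff]
    exact Subtype.ext_iff
  exact ⟨((QuotientGroup.quotientMulEquivOfEq hqk.symm).trans (QuotientGroup.quotientKerEquivOfSurjective q hq)).trans eL⟩

end CfsgLib.GW
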