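import Cfsg.Agent.Lib.Invol.DihedralSylow
import Cfsg.Agent.Lib.PGroup.DihedralSubgroups

/-!
# The 2-subgroups of a group with dihedral Sylow 2-subgroups
-/

set_option autoImplicit false
set_option linter.style.haveILetI false

namespace CfsgLib.GW

open DihedralGroup CfsgLib.Invol

universe u

variable {X : Type u} [Group X] [Finite X]

/-- Sylow 2-subgroups are dihedral of order at least four. -/
def DihTwo (X : Type u) [Group X] [Finite X] : Prop :=
  ∀ S : Sylow 2 X, ∃ n, 2 ≤ n ∧ Nonempty ((S : Subgroup X) ≃* DihedralGroup n)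

theorem dihTwo_of_sylow (S : Sylow 2 X) {n : ℕ} (hn : 2 ≤ n) (e : (S : Subgroup X) ≃* DihedralGroup n) :
    DihTwo X := fun T => ⟨n, hn, ⟨(Sylow.equiv T S).trans e⟩⟩

/-- A 2-subgroup embeds in a dihedral group. -/
theorem DihTwo.embed (h : DihTwo X) {H : Subgroup X} (hH : IsPGroup 2 H) :
    ∃ n, 2 ≤ n ∧ ∃ φ : H →* DihedralGroup n, Function.Injective φ := by
  obtain ⟨S, hS⟩ := hH.exists_le_sylow
  obtain ⟨n, hn, ⟨e⟩⟩ := h S
  exact ⟨n, hn, e.toMonoidHom.comp (Subgroup.inclusion hS),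
    e.injective.comp (Subgroup.inclusion_injective hS)⟩

/-- The centraliser of a four group has no further 2-elements. -/
theorem DihTwo.four (h : DihTwo X) {a b c : X} (ha : orderOf a = 2) (hb : orderOf b = 2) (hab : a ≠ b)
    (hc : Commute a b) (hca : Commute c a) (hcb : Commute c b) (hc2 : ∃ k, orderOf c = 2 ^ k) :
    c = 1 ∨ c = a ∨ c = b ∨ c = a * b := by
  haveI : Fact (Nat.Prime 2) := ⟨Nat.prime_two⟩
  set V := Subgroup.closure ({a, b} : Set X) with hV
  have hVp : IsPGroup 2 V := IsPGroup.of_card (n := 2) (by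
    rw [(isKleinFour_closure_pair ha hb hab hc).card_four]; norm_num)
  obtain ⟨k, hk⟩ := hc2
  have hcp : IsPGroup 2 (Subgroup.zpowers c) := IsPGroup.of_card (n := k) (by rw [Nat.card_zpowers, hk])
  have hle : Subgroup.zpowers c ≤ Subgroup.normalizer (V : Set X) := by
    refine Subgroup.zpowers_le.2 ?_
    have hcom : ∀ v ∈ V, c * v = v * c := fun v hv => by
      rcases mem_klein ha hb hab hc hv with rfl | rfl | rfl | rfl
      · simp
      · exact hca.eq
      · exact hcb.eq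
      · exact (hca.mul_right hcb).eq
    refine Subgroup.mem_normalizer_iff.2 fun v => ⟨fun hv => ?_, fun hv => ?_⟩
    · rwa [hcom v hv, mul_inv_cancel_right]
    · have h1 := hcom _ hv
      have h2 : c * v * c⁻¹ * c = c * v := by group
      rw [h2] at h1
      rwa [mul_left_cancel h1] at hv
  obtain ⟨n, hn, φ, hφ⟩ := h.embed (hcp.to_sup_of_normal_right' hVp hle)
  haveI : NeZero n := ⟨by omega⟩
  have haU : a ∈ Subgroup.zpowers c ⊔ V := Subgroup.mem_sup_right (Subgroup.subset_closure (by simp))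
  have hbU : b ∈ Subgroup.zpowers c ⊔ V := Subgroup.mem_sup_right (Subgroup.subset_closure (by simp))
  have hcU : c ∈ Subgroup.zpowers c ⊔ V := Subgroup.mem_sup_left (Subgroup.mem_zpowers c)
  rcases mem_four_of_commute hφ (a := ⟨a, haU⟩) (b := ⟨b, hbU⟩) (by rw [Subgroup.orderOf_mk, ha])
      (by rw [Subgroup.orderOf_mk, hb]) (fun e => hab (congrArg Subtype.val e)) (Subtype.ext hc.eq)
      (x := ⟨c, hcU⟩) (Subtype.ext hca.eq) (Subtype.ext hcb.eq) with e | e | e | e
  · exact Or.inl (congrArg Subtype.val e)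
  · exact Or.inr (Or.inl (congrArg Subtype.val e))
  · exact Or.inr (Or.inr (Or.inl (congrArg Subtype.val e)))
  · exact Or.inr (Or.inr (Or.inr (congrArg Subtype.val e)))

/-- A noncyclic 2-group inside a dihedral group is dihedral and contains a four group. -/
theorem dihedral_of_embed {H : Type*} [Group H] [Finite H] (hH : IsPGroup 2 H) {n : ℕ} [NeZero n]
    (φ : H →* DihedralGroup n) (hφ : Function.Injective φ) (hc : ¬ IsCyclic H) :
    (∃ m, 2 ≤ m ∧ Nonempty (H ≃* DihedralGroup m)) ∧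
      ∃ a b : H, orderOf a = 2 ∧ orderOf b = 2 ∧ a ≠ b ∧ Commute a b := by
  haveI : Fact (Nat.Prime 2) := ⟨Nat.prime_two⟩
  set K := (Subgroup.zpowers (r (1 : ZMod n))).comap φ with hK
  have hr : ∀ i : ZMod n, r i ∈ Subgroup.zpowers (r (1 : ZMod n)) :=
    fun i => ⟨(i.val : ℤ), by simp [zpow_natCast]⟩
  have hsr : ∀ i : ZMod n, sr i ∉ Subgroup.zpowers (r (1 : ZMod n)) := fun i hi => by
    obtain ⟨z, hz⟩ := Subgroup.mem_zpowers_iff.1 hi
    rw [r_one_zpow] at hz
    simp at hz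
  haveI hcyc : IsCyclic K := isCyclic_of_injective (φ.subgroupComap _)
    (fun a b h => Subtype.ext (hφ (congrArg Subtype.val h)))
  obtain ⟨g, hg⟩ := IsCyclic.exists_generator (α := K)
  have hrange : ¬ IsCyclic φ.range := fun hh => hc ((MonoidHom.ofInjective hφ).isCyclic.2 hh)
  obtain ⟨i, a, ⟨x, hx⟩, ⟨w, hw⟩, ha⟩ := CfsgLib.PGroup.exists_sr_r_of_not_isCyclic φ.range hrange
  have hg1 : (g : H) ≠ 1 := fun h1 => by
    obtain ⟨z, hz⟩ := Subgroup.mem_zpowers_iff.1 (hg ⟨w, show φ w ∈ _ by rw [hw]; exact hr a⟩)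
    have h2 := congrArg (fun u : K => φ (u : H)) hz
    simp only [SubgroupClass.coe_zpow, h1, one_zpow, map_one, hw, one_def, r.injEq] at h2
    exact ha h2.symm
  obtain ⟨t, ht⟩ : ∃ t, φ (g : H) = r t := by
    rcases e : φ (g : H) with t | t
    · exact ⟨t, rfl⟩
    · exact absurd (e ▸ g.2 : sr t ∈ Subgroup.zpowers (r (1 : ZMod n))) (hsr t)
  have hinv : ∀ u : H, (∃ j, φ u = sr j) → orderOf u = 2 := fun u ⟨j, hj⟩ => by
    rw [← orderOf_injective φ hφ, hj, orderOf_sr]
  have hxo := hinv x ⟨i, hx⟩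
  have hyo : orderOf (x * g) = 2 := hinv _ ⟨i + t, by rw [map_mul, hx, ht, sr_mul_r]⟩
  have hxg : x * (x * (g : H)) = g := by rw [← mul_assoc, invol_mul_self hxo, one_mul]
  have htop : Subgroup.closure ({x, x * g} : Set H) = ⊤ := by
    refine (Subgroup.eq_top_iff' _).2 fun u => ?_
    have hgm : (g : H) ∈ Subgroup.closure ({x, x * g} : Set H) := by
      have h3 : x * (x * (g : H)) ∈ Subgroup.closure ({x, x * g} : Set H) :=
        mul_mem (Subgroup.subset_closure (by simp)) (Subgroup.subset_closure (by simp))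
      rwa [hxg] at h3
    have hKm : ∀ k ∈ K, k ∈ Subgroup.closure ({x, x * g} : Set H) := fun k hk => by
      obtain ⟨z, hz⟩ := Subgroup.mem_zpowers_iff.1 (hg ⟨k, hk⟩)
      rw [show k = (g : H) ^ z from (congrArg Subtype.val hz).symm]
      exact zpow_mem hgm z
    rcases e : φ u with j | j
    · exact hKm u (show φ u ∈ _ from e ▸ hr j)
    · have h1 := hKm (x * u) (show φ (x * u) ∈ _ by rw [map_mul, hx, e, sr_mul_sr]; exact hr _)
      rw [show u = x * (x * u) by rw [← mul_assoc, invol_mul_self hxo, one_mul]]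
      exact mul_mem (Subgroup.subset_closure (by simp)) h1
  have hord : orderOf (x * (x * (g : H))) = orderOf (g : H) := by rw [hxg]
  have h2 : 2 ≤ orderOf (g : H) := by
    have h0 := orderOf_pos (g : H)
    have h1 : orderOf (g : H) ≠ 1 := fun h1 => hg1 (orderOf_eq_one_iff.1 h1)
    omega
  refine ⟨⟨_, hord.symm ▸ h2, ⟨(Subgroup.topEquiv.symm.trans (MulEquiv.subgroupCongr htop.symm)).trans
    (dihedralEquiv hxo hyo)⟩⟩, ?_⟩
  obtain ⟨k, hk⟩ := hH.exists_card_eq
  obtain ⟨j, -, hj⟩ := (Nat.dvd_prime_pow Nat.prime_two).1 (hk ▸ orderOf_dvd_natCard (g : H))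
  obtain ⟨j', rfl⟩ : ∃ j', j = j' + 1 := ⟨j - 1, by rcases j with _ | j <;> simp_all⟩
  set z := (g : H) ^ (2 ^ j') with hz
  have hzo : orderOf z = 2 := by
    rw [hz, orderOf_pow' _ (Nat.two_pow_pos j').ne', hj, pow_succ, Nat.gcd_mul_right_left,
      Nat.mul_div_cancel_left _ (Nat.two_pow_pos j')]
  refine ⟨z, x, hzo, hxo, fun e => ?_, hφ ?_⟩
  · refine hsr i ?_
    rw [← hx, ← e, hz, map_pow, ht]
    exact pow_mem (hr t) _
  · obtain ⟨s, hs⟩ : ∃ s, φ z = r s := by
      rcases e : φ z with s | s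
      · exact ⟨s, rfl⟩
      · exfalso
        refine hsr s ?_
        rw [← e, hz, map_pow, ht]
        exact pow_mem (hr t) _
    have hss : s + s = 0 := by
      have h1 := congrArg φ (invol_mul_self hzo)
      rw [map_mul, map_one, hs, r_mul_r, one_def, r.injEq] at h1
      exact h1
    rw [map_mul, map_mul, hs, hx, r_mul_sr, sr_mul_r, sr.injEq, sub_eq_add_neg, neg_eq_of_add_eq_zero_left hss]

/-- A noncyclic 2-subgroup. -/
theorem DihTwo.noncyclic (h : DihTwo X) {H : Subgroup X} (hH : IsPGroup 2 H) (hc : ¬ IsCyclic H) :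
    (∃ m, 2 ≤ m ∧ Nonempty (H ≃* DihedralGroup m)) ∧
      ∃ a b : X, a ∈ H ∧ b ∈ H ∧ orderOf a = 2 ∧ orderOf b = 2 ∧ a ≠ b ∧ Commute a b := by
  obtain ⟨n, hn, φ, hφ⟩ := h.embed hH
  haveI : NeZero n := ⟨by omega⟩
  obtain ⟨h1, a, b, ha, hb, hab, hcm⟩ := dihedral_of_embed hH φ hφ hc
  exact ⟨h1, a, b, a.2, b.2, by rwa [Subgroup.orderOf_coe], by rwa [Subgroup.orderOf_coe],
    fun e => hab (Subtype.ext e), congrArg Subtype.val hcm.eq⟩

end CfsgLib.GW
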